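import Mathlib

/-! Helper library (helper16): bases adapted to a filtration. -/

set_option autoImplicit false

namespace Groth.Agent.Lib.helper16.Wr

open Module

theorem sum_ite_lt (n₀ d : ℕ) :
    ∑ n ∈ Finset.range d, (if n < n₀ then 1 else 0) = min n₀ d := by
  induction d with
  | zero => simp
  | succ d ih =>
    rw [Finset.sum_range_succ, ih]
    split_ifs with h
    · omega
    · omega

/-- a basis of `W` adapted to a filtration `F` with one-dimensional jumps -/
theorem exists_adapted_basis {k M : Type*} [Field k] [AddCommGroup M] [Module k M]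
    (F : ℕ → Submodule k M) (hF : Antitone F) (d : ℕ) :
    ∀ (s : ℕ) (W : Submodule k M), FiniteDimensional k W → finrank k W = s → W ≤ F 0 →
      W ⊓ F (d + 1) = ⊥ →
      (∀ n, finrank k ↥(W ⊓ F n) ≤ finrank k ↥(W ⊓ F (n + 1)) + 1) →
      ∃ (b : Fin s → M) (m : Fin s → ℕ), LinearIndependent k b ∧
        Submodule.span k (Set.range b) = W ∧
        (∀ j, b j ∈ F (m j)) ∧ (∀ j, b j ∉ F (m j + 1)) ∧ StrictMono m ∧ (∀ j, m j ≤ d) ∧
        ∑ j, m j = ∑ n ∈ Finset.range d, finrank k ↥(W ⊓ F (n + 1)) := by
  intro s
  induction s with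
  | zero =>
    intro W hfd hs hW0 hWd hstep
    have hW : W = ⊥ := Submodule.finrank_eq_zero.mp hs
    refine ⟨Fin.elim0, Fin.elim0, linearIndependent_empty_type, ?_, fun j => j.elim0,
      fun j => j.elim0, fun j => j.elim0, fun j => j.elim0, ?_⟩
    · rw [hW]
      simp
    · rw [Finset.univ_eq_empty, Finset.sum_empty]
      symm
      apply Finset.sum_eq_zero
      intro n _
      rw [hW, bot_inf_eq, finrank_bot]
  | succ s ih =>
    intro W hfd hs hW0 hWd hstep
    classical
    have hWne : W ≠ ⊥ := by
      intro h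
      rw [h, finrank_bot] at hs
      omega
    have hex : ∃ n, W ⊓ F (n + 1) ≠ W := ⟨d, by rw [hWd]; exact Ne.symm hWne⟩
    set n₀ := Nat.find hex with hn₀
    have hn₀P : W ⊓ F (n₀ + 1) ≠ W := Nat.find_spec hex
    have hn₀min : ∀ n < n₀, W ≤ F (n + 1) := by
      intro n hn
      have := Nat.find_min hex hn
      rw [not_not] at this
      exact inf_eq_left.mp this
    have hn₀d : n₀ ≤ d := Nat.find_min' hex (by rw [hWd]; exact Ne.symm hWne)
    have hWn₀ : W ≤ F n₀ := by
      rcases Nat.eq_zero_or_pos n₀ with h0 | hpos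
      · rw [h0]; exact hW0
      · have := hn₀min (n₀ - 1) (by omega)
        rwa [Nat.sub_add_cancel hpos] at this
    set W' : Submodule k M := W ⊓ F (n₀ + 1) with hW'
    have hW'lt : W' < W := lt_of_le_of_ne inf_le_left hn₀P
    have hfd' : FiniteDimensional k W' := Submodule.finiteDimensional_of_le inf_le_left
    have hs' : finrank k W' = s := by
      have h1 := Submodule.finrank_lt_finrank_of_lt hW'lt
      have h2 : finrank k ↥W ≤ finrank k ↥W' + 1 := by
        have := hstep n₀
        rwa [inf_eq_left.mpr hWn₀] at this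
      omega
    obtain ⟨b₀, hb₀W, hb₀W'⟩ := SetLike.exists_of_lt hW'lt
    have hb₀F : b₀ ∈ F n₀ := hWn₀ hb₀W
    have hb₀F' : b₀ ∉ F (n₀ + 1) := fun h => hb₀W' ⟨hb₀W, h⟩
    have hW'F : W' ≤ F (n₀ + 1) := inf_le_right
    have hinf_small : ∀ n, n ≤ n₀ → W' ⊓ F (n + 1) = W' := by
      intro n hn
      exact inf_eq_left.mpr (le_trans hW'F (hF (by omega)))
    have hinf_big : ∀ n, n₀ + 1 ≤ n → W' ⊓ F n = W ⊓ F n := by
      intro n hn
      rw [hW', inf_assoc, inf_eq_right.mpr (hF hn)]
    obtain ⟨b', m', hli, hspan, hmem, hnmem, hmono, hle, hsum⟩ := ih W' hfd' hs'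
      (le_trans inf_le_left hW0)
      (by rw [eq_bot_iff, ← hWd]; exact inf_le_inf_right _ inf_le_left)
      (by
        intro n
        rcases le_or_gt n n₀ with hn | hn
        · rw [hinf_small n hn]
          exact le_trans (Submodule.finrank_mono inf_le_left) (Nat.le_succ _)
        · rw [hinf_big n hn, hinf_big (n + 1) (by omega)]
          exact hstep n)
    have hm'gt : ∀ j, n₀ < m' j := by
      intro j
      by_contra hcon
      have h1 : b' j ∈ W' := by
        rw [← hspan]
        exact Submodule.subset_span ⟨j, rfl⟩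
      exact hnmem j (hF (by omega : m' j + 1 ≤ n₀ + 1) (hW'F h1))
    refine ⟨Fin.cons b₀ b', Fin.cons n₀ m', ?_, ?_, ?_, ?_, ?_, ?_, ?_⟩
    · apply LinearIndependent.finCons hli
      rw [hspan]
      exact hb₀W'
    · have hle' : Submodule.span k (Set.range (Fin.cons b₀ b' : Fin (s + 1) → M)) ≤ W := by
        rw [Submodule.span_le]
        rintro x ⟨j, rfl⟩
        refine Fin.cases ?_ (fun j' => ?_) j
        · simpa using hb₀W
        · simp only [Fin.cons_succ]
          have : b' j' ∈ W' := by
            rw [← hspan]; exact Submodule.subset_span ⟨j', rfl⟩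
          exact hW'lt.le this
      apply Submodule.eq_of_le_of_finrank_eq hle'
      have hli2 : LinearIndependent k (Fin.cons b₀ b' : Fin (s + 1) → M) := by
        apply LinearIndependent.finCons hli
        rw [hspan]
        exact hb₀W'
      rw [finrank_span_eq_card hli2, hs, Fintype.card_fin]
    · intro j
      refine Fin.cases ?_ (fun j' => ?_) j
      · simpa using hb₀F
      · simpa using hmem j'
    · intro j
      refine Fin.cases ?_ (fun j' => ?_) j
      · simpa using hb₀F'
      · simpa using hnmem j'
    · intro i j hij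
      revert hij
      refine Fin.cases ?_ (fun i' => ?_) i <;> refine Fin.cases ?_ (fun j' => ?_) j
      · intro h; exact absurd h (lt_irrefl _)
      · intro _; simpa using hm'gt j'
      · intro h; exact absurd h (Fin.not_lt_zero _)
      · intro h
        simp only [Fin.cons_succ]
        exact hmono (Fin.succ_lt_succ_iff.mp h)
    · intro j
      refine Fin.cases ?_ (fun j' => ?_) j
      · simpa using hn₀d
      · simpa using hle j'
    · rw [Fin.sum_univ_succ]
      simp only [Fin.cons_zero, Fin.cons_succ]
      rw [hsum]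
      have hterm : ∀ n, finrank k ↥(W ⊓ F (n + 1)) =
          finrank k ↥(W' ⊓ F (n + 1)) + (if n < n₀ then 1 else 0) := by
        intro n
        split_ifs with hn
        · rw [hinf_small n hn.le, hs', inf_eq_left.mpr (hn₀min n hn), hs]
        · rw [hinf_big (n + 1) (by omega), add_zero]
      rw [Finset.sum_congr rfl (fun n _ => hterm n), Finset.sum_add_distrib, sum_ite_lt,
        min_eq_left hn₀d]
      ring

end Groth.Agent.Lib.helper16.Wr
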