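import Groth.Agent.Lib.helper16.FAdeleH1d

set_option autoImplicit false

namespace Groth.Agent.Lib.helper16.FASG

open FunFld WithZero Polynomial Module
open Groth.Agent.Lib.helper16 Groth.Agent.Lib.helper16.FF Groth.Agent.Lib.helper16.FX
  Groth.Agent.Lib.helper16.FR Groth.Agent.Lib.helper16.FA Groth.Agent.Lib.helper16.FHD
  Groth.Agent.Lib.helper16.FAA Groth.Agent.Lib.helper16.FAPF Groth.Agent.Lib.helper16.FH
  Groth.Agent.Lib.helper16.FAH
open scoped IntermediateField

universe u v w

section ratfunc

variable {k : Type u} [Field k]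

/-- the place of an irreducible polynomial is unique -/
theorem eq_of_alg_lt_one {p p' : Place k (RatFunc k)} {π : k[X]} (hirr : Irreducible π)
    (h1 : p.1 (algebraMap k[X] (RatFunc k) π) < 1)
    (h1' : p'.1 (algebraMap k[X] (RatFunc k) π) < 1) : p = p' := by
  have hv : ∀ g : k[X], g ≠ 0 →
      p.1 (algebraMap k[X] (RatFunc k) g) = p'.1 (algebraMap k[X] (RatFunc k) g) := by
    intro g hg
    rw [val_eq_exp_neg_ord p (alg_ne_zero hg), val_eq_exp_neg_ord p' (alg_ne_zero hg),
      ord_alg_eq p hirr h1 hg, ord_alg_eq p' hirr h1' hg, ord_alg_irreducible p hirr h1,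
      ord_alg_irreducible p' hirr h1']
  apply Subtype.ext
  ext r
  rw [← RatFunc.num_div_denom r, map_div₀, map_div₀]
  by_cases hr : r.num = 0
  · rw [hr, map_zero, map_zero, map_zero, zero_div, zero_div]
  · rw [hv _ hr, hv _ (RatFunc.denom_ne_zero r)]

theorem exists_place_of_irreducible {π : k[X]} (hirr : Irreducible π) :
    ∃ p : Place k (RatFunc k), p.1 (algebraMap k[X] (RatFunc k) π) < 1 := by
  have hK := isFunctionField_ratFunc (k := k)
  apply exists_place_lt_one hK
  rintro ⟨c, hc⟩
  have h1 : π = C c := by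
    apply RatFunc.algebraMap_injective k
    rw [← hc, RatFunc.algebraMap_C, RatFunc.algebraMap_eq_C]
  by_cases hc0 : c = 0
  · rw [hc0, map_zero] at h1
    exact hirr.ne_zero h1
  · apply hirr.not_isUnit
    rw [h1]
    exact isUnit_C.mpr (isUnit_iff_ne_zero.mpr hc0)

/-- a rational function integral at all finite places is a polynomial -/
theorem exists_poly_of_integral {r : RatFunc k}
    (h : ∀ p : Place k (RatFunc k), p.1 RatFunc.X ≤ 1 → p.1 r ≤ 1) :
    ∃ g : k[X], r = algebraMap k[X] (RatFunc k) g := by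
  by_cases hu : IsUnit r.denom
  · obtain ⟨c, hc0, hc⟩ : ∃ c : k, c ≠ 0 ∧ r.denom = C c := by
      obtain ⟨c, hc, hcd⟩ := Polynomial.isUnit_iff.mp hu
      exact ⟨c, hc.ne_zero, hcd.symm⟩
    refine ⟨C c⁻¹ * r.num, ?_⟩
    conv_lhs => rw [← RatFunc.num_div_denom r]
    rw [hc, map_mul, div_eq_iff (alg_ne_zero (by rw [Ne, C_eq_zero]; exact hc0))]
    have h1 : algebraMap k[X] (RatFunc k) (C c⁻¹) * algebraMap k[X] (RatFunc k) (C c) = 1 := by
      rw [← map_mul, ← C_mul, inv_mul_cancel₀ hc0, C_1, map_one]
    rw [mul_right_comm, h1, one_mul]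
  · exfalso
    obtain ⟨π, hπ, hπd⟩ := WfDvdMonoid.exists_irreducible_factor hu (RatFunc.denom_ne_zero r)
    obtain ⟨p, hp⟩ := exists_place_of_irreducible hπ
    have hX := val_X_le_one_of_alg_lt_one p hπ.ne_zero hp
    have hd1 : p.1 (algebraMap k[X] (RatFunc k) r.denom) < 1 := by
      obtain ⟨c, hc⟩ := hπd
      rw [hc, map_mul, map_mul]
      exact lt_of_le_of_lt (mul_le_of_le_one_right' (val_alg_le_one p hX c)) hp
    have hn1 : p.1 (algebraMap k[X] (RatFunc k) r.num) = 1 := by
      apply val_alg_eq_one_of_not_dvd p hπ hp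
      intro hπn
      exact hπ.not_isUnit ((RatFunc.isCoprime_num_denom r).isUnit_of_dvd' hπn hπd)
    have h2 := h p hX
    rw [← RatFunc.num_div_denom r, map_div₀, hn1] at h2
    have hd0 : p.1 (algebraMap k[X] (RatFunc k) r.denom) ≠ 0 := by
      rw [Ne, map_eq_zero]
      exact alg_ne_zero (RatFunc.denom_ne_zero r)
    rw [div_le_iff₀ (zero_lt_iff.mpr hd0), one_mul] at h2
    exact absurd hd1 (not_lt.mpr h2)

/-- the degree of a finite place is the degree of its irreducible polynomial -/
theorem deg_place_eq_natDegree {p : Place k (RatFunc k)} {π : k[X]} (hirr : Irreducible π)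
    (hp : p.1 (algebraMap k[X] (RatFunc k) π) < 1) : p.deg = π.natDegree := by
  classical
  have hK := isFunctionField_ratFunc (k := k)
  have hXnc : (RatFunc.X : RatFunc k) ∉ Set.range (algebraMap k (RatFunc k)) := by
    rintro ⟨c, hc⟩
    exact RatFunc.transcendental_X (K := k) (by rw [← hc]; exact isAlgebraic_algebraMap _)
  obtain ⟨pinf, hpinf⟩ := exists_place_one_lt hK hXnc
  have hinf : pinf.ord (RatFunc.X : RatFunc k) < 0 :=
    (one_lt_val_iff pinf RatFunc.X_ne_zero).mp hpinf
  have hX := val_X_le_one_of_alg_lt_one p hirr.ne_zero hp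
  have hne : p ≠ pinf := by
    rintro rfl
    exact absurd hX (not_le.mpr hpinf)
  have hdiv : FunFld.div k (algebraMap k[X] (RatFunc k) π) =
      Finsupp.single p 1 + Finsupp.single pinf (-(π.natDegree : ℤ)) := by
    ext P
    rw [div_apply hK, Finsupp.add_apply, Finsupp.single_apply, Finsupp.single_apply]
    by_cases hP : P = p
    · subst hP
      rw [if_pos rfl, if_neg (Ne.symm hne), add_zero]
      exact ord_alg_irreducible P hirr hp
    · rw [if_neg (Ne.symm hP), zero_add]
      by_cases hPinf : P = pinf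
      · subst hPinf
        rw [if_pos rfl, ord_alg_of_pole P hinf hirr.ne_zero, ord_X_of_pole P hinf]
        ring
      · rw [if_neg (Ne.symm hPinf)]
        have hPX : P.1 RatFunc.X ≤ 1 := by
          by_contra hlt
          rw [not_le] at hlt
          exact hPinf (eq_of_pole P pinf ((one_lt_val_iff P RatFunc.X_ne_zero).mp hlt) hinf)
        have h1 : P.1 (algebraMap k[X] (RatFunc k) π) = 1 := by
          apply le_antisymm (val_alg_le_one P hPX π)
          by_contra hlt
          rw [not_le] at hlt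
          exact hP (eq_of_alg_lt_one hirr hlt hp)
        unfold Place.ord
        rw [h1, log_one, neg_zero]
  have hdeg := deg_div_eq_zero hK (algebraMap k[X] (RatFunc k) π)
  rw [hdiv, deg_add, deg_single, deg_single, deg_of_pole pinf hinf] at hdeg
  have : (p.deg : ℤ) = π.natDegree := by push_cast at hdeg; omega
  exact_mod_cast this

end ratfunc

end Groth.Agent.Lib.helper16.FASG
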