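import Groth.Agent.Lib.helper16.FASG1

set_option autoImplicit false

namespace Groth.Agent.Lib.helper16.FASG

open FunFld WithZero Polynomial Module
open Groth.Agent.Lib.helper16 Groth.Agent.Lib.helper16.FF Groth.Agent.Lib.helper16.FX
  Groth.Agent.Lib.helper16.FR Groth.Agent.Lib.helper16.FA Groth.Agent.Lib.helper16.FHD
  Groth.Agent.Lib.helper16.FAA Groth.Agent.Lib.helper16.FAPF Groth.Agent.Lib.helper16.FH
  Groth.Agent.Lib.helper16.FAH
open scoped IntermediateField

universe u v w

section data

variable {k : Type u} [Field k] (f : RatFunc k)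

open Classical in
/-- the finite poles of `f` -/
noncomputable def Sfin : Finset (Place k (RatFunc k)) :=
  (FunFld.div k f).support.filter (fun p => p.ord f < 0 ∧ p.1 RatFunc.X ≤ 1)

theorem mem_Sfin {p : Place k (RatFunc k)} :
    p ∈ Sfin f ↔ p.ord f < 0 ∧ p.1 RatFunc.X ≤ 1 := by
  classical
  have hK := isFunctionField_ratFunc (k := k)
  unfold Sfin
  rw [Finset.mem_filter, Finsupp.mem_support_iff, div_apply hK]
  constructor
  · exact fun h => h.2
  · intro h
    exact ⟨by omega, h⟩

open Classical in
/-- an irreducible polynomial of a finite place -/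
noncomputable def pi (p : Place k (RatFunc k)) : k[X] :=
  if h : p.1 RatFunc.X ≤ 1 then Classical.choose (exists_irreducible_of_finite p h) else 1

theorem pi_spec {p : Place k (RatFunc k)} (h : p.1 RatFunc.X ≤ 1) :
    Irreducible (pi p) ∧ p.1 (algebraMap k[X] (RatFunc k) (pi p)) < 1 := by
  unfold pi
  rw [dif_pos h]
  exact Classical.choose_spec (exists_irreducible_of_finite p h)

/-- half the pole order, rounded up -/
noncomputable def mm (p : Place k (RatFunc k)) : ℕ := ((1 - p.ord f) / 2).toNat

theorem mm_cast {p : Place k (RatFunc k)} (h : p.ord f < 0) :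
    (mm f p : ℤ) = (1 - p.ord f) / 2 := by
  unfold mm
  rw [Int.toNat_of_nonneg]
  omega

/-- the denominator -/
noncomputable def qq : k[X] := ∏ p ∈ Sfin f, pi p ^ mm f p

theorem qq_ne_zero : qq f ≠ 0 := by
  unfold qq
  rw [Finset.prod_ne_zero_iff]
  intro p hp
  exact pow_ne_zero _ (pi_spec ((mem_Sfin f).mp hp).2).1.ne_zero

theorem val_pi_of_ne {p p' : Place k (RatFunc k)} (hX : p.1 RatFunc.X ≤ 1)
    (hX' : p'.1 RatFunc.X ≤ 1) (hne : p' ≠ p) :
    p.1 (algebraMap k[X] (RatFunc k) (pi p')) = 1 := by
  apply le_antisymm (val_alg_le_one p hX _)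
  by_contra hlt
  rw [not_le] at hlt
  exact hne (eq_of_alg_lt_one (pi_spec hX').1 (pi_spec hX').2 hlt)

theorem ord_qq_of_mem {p : Place k (RatFunc k)} (hp : p ∈ Sfin f) :
    p.ord (algebraMap k[X] (RatFunc k) (qq f)) = mm f p := by
  have hX := ((mem_Sfin f).mp hp).2
  unfold Place.ord qq
  rw [map_prod, map_prod, Finset.prod_eq_single p]
  · rw [map_pow, map_pow, val_eq_exp_neg_ord p (alg_ne_zero (pi_spec hX).1.ne_zero),
      ord_alg_irreducible p (pi_spec hX).1 (pi_spec hX).2, ← exp_nsmul, log_exp]
    simp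
  · intro p' hp' hne
    rw [map_pow, map_pow, val_pi_of_ne hX ((mem_Sfin f).mp hp').2 hne, one_pow]
  · intro h
    exact absurd hp h

theorem ord_qq_of_not_mem {p : Place k (RatFunc k)} (hX : p.1 RatFunc.X ≤ 1)
    (hp : p ∉ Sfin f) : p.ord (algebraMap k[X] (RatFunc k) (qq f)) = 0 := by
  unfold Place.ord qq
  rw [map_prod, map_prod, Finset.prod_eq_one]
  · rw [log_one, neg_zero]
  · intro p' hp'
    have hne : p' ≠ p := by
      rintro rfl
      exact hp hp'
    rw [map_pow, map_pow, val_pi_of_ne hX ((mem_Sfin f).mp hp').2 hne, one_pow]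

theorem natDegree_qq : ((qq f).natDegree : ℤ) = ∑ p ∈ Sfin f, (mm f p : ℤ) * p.deg := by
  unfold qq
  rw [natDegree_prod _ _ (fun p hp => pow_ne_zero _ (pi_spec ((mem_Sfin f).mp hp).2).1.ne_zero)]
  push_cast
  apply Finset.sum_congr rfl
  intro p hp
  have hX := ((mem_Sfin f).mp hp).2
  rw [natDegree_pow, deg_place_eq_natDegree (pi_spec hX).1 (pi_spec hX).2]
  push_cast
  ring

/-- the contribution of infinity -/
noncomputable def minf (pinf : Place k (RatFunc k)) : ℕ :=
  if pinf.ord f < 0 then mm f pinf else 0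

open Classical in
theorem sum_formula (pinf : Place k (RatFunc k)) (hinf : pinf.ord (RatFunc.X : RatFunc k) < 0) :
    ∑ P ∈ (FunFld.div k f).support with FunFld.div k f P < 0,
      (1 - FunFld.div k f P) / 2 * (P.deg : ℤ) = (qq f).natDegree + minf f pinf := by
  have hK := isFunctionField_ratFunc (k := k)
  rw [← Finset.sum_filter_add_sum_filter_not _ (fun P : Place k (RatFunc k) => P.1 RatFunc.X ≤ 1)]
  congr 1
  · rw [natDegree_qq]
    have hset : ((FunFld.div k f).support.filter (fun P => FunFld.div k f P < 0)).filter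
        (fun P : Place k (RatFunc k) => P.1 RatFunc.X ≤ 1) = Sfin f := by
      ext P
      rw [Finset.mem_filter, Finset.mem_filter, mem_Sfin, Finsupp.mem_support_iff, div_apply hK]
      constructor
      · exact fun h => ⟨h.1.2, h.2⟩
      · exact fun h => ⟨⟨by omega, h.1⟩, h.2⟩
    rw [hset]
    apply Finset.sum_congr rfl
    intro P hP
    rw [div_apply hK, mm_cast f ((mem_Sfin f).mp hP).1]
  · have hmem : ∀ P : Place k (RatFunc k),
        P ∈ ((FunFld.div k f).support.filter (fun P => FunFld.div k f P < 0)).filter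
          (fun P : Place k (RatFunc k) => ¬ P.1 RatFunc.X ≤ 1) ↔ P = pinf ∧ pinf.ord f < 0 := by
      intro P
      rw [Finset.mem_filter, Finset.mem_filter, Finsupp.mem_support_iff, div_apply hK]
      constructor
      · rintro ⟨⟨-, h2⟩, h3⟩
        rw [not_le] at h3
        have : P = pinf := eq_of_pole P pinf ((one_lt_val_iff P RatFunc.X_ne_zero).mp h3) hinf
        subst this
        exact ⟨rfl, h2⟩
      · rintro ⟨rfl, h2⟩
        refine ⟨⟨by omega, h2⟩, ?_⟩
        rw [not_le]
        exact (one_lt_val_iff P RatFunc.X_ne_zero).mpr hinf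
    unfold minf
    by_cases hpole : pinf.ord f < 0
    · rw [if_pos hpole]
      have hset : ((FunFld.div k f).support.filter (fun P => FunFld.div k f P < 0)).filter
          (fun P : Place k (RatFunc k) => ¬ P.1 RatFunc.X ≤ 1) = {pinf} := by
        ext P
        rw [hmem, Finset.mem_singleton]
        exact ⟨fun h => h.1, fun h => ⟨h, hpole⟩⟩
      rw [hset, Finset.sum_singleton, div_apply hK, deg_of_pole pinf hinf, mm_cast f hpole]
      simp
    · rw [if_neg hpole]
      have hset : ((FunFld.div k f).support.filter (fun P => FunFld.div k f P < 0)).filter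
          (fun P : Place k (RatFunc k) => ¬ P.1 RatFunc.X ≤ 1) = ∅ := by
        ext P
        rw [hmem]
        simp [hpole]
      rw [hset, Finset.sum_empty]
      simp

end data

end Groth.Agent.Lib.helper16.FASG
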