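import Groth.Agent.Lib.helper16.FASG2

set_option autoImplicit false

namespace Groth.Agent.Lib.helper16.FASG

open FunFld WithZero Polynomial Module
open Groth.Agent.Lib.helper16 Groth.Agent.Lib.helper16.FF Groth.Agent.Lib.helper16.FX
  Groth.Agent.Lib.helper16.FR Groth.Agent.Lib.helper16.FA Groth.Agent.Lib.helper16.FHD
  Groth.Agent.Lib.helper16.FAA Groth.Agent.Lib.helper16.FAPF Groth.Agent.Lib.helper16.FH
  Groth.Agent.Lib.helper16.FAH
open scoped IntermediateField

universe u v w

section sep

variable {k : Type u} {K : Type v} [Field k] [CharP k 2] [Field K] [Algebra k K]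
  [Algebra (RatFunc k) K] [IsScalarTower k (RatFunc k) K]
  (hdeg : finrank (RatFunc k) K = 2) {y : K} (hy : y ∉ Set.range (algebraMap (RatFunc k) K))
  {f : RatFunc k} (heq : y ^ 2 + y = algebraMap (RatFunc k) K f)

omit [Algebra k K] [IsScalarTower k (RatFunc k) K] in
include hdeg hy heq in
theorem isSeparable_of_artinSchreier : Algebra.IsSeparable (RatFunc k) K := by
  have hfin : FiniteDimensional (RatFunc k) K := Module.finite_of_finrank_pos (by omega)
  haveI : CharP (RatFunc k) 2 :=
    charP_of_injective_algebraMap (algebraMap k (RatFunc k)).injective 2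
  have hmin := minpoly_eq hdeg hy heq
  have hsep : IsSeparable (RatFunc k) y := by
    unfold IsSeparable
    rw [hmin, separable_def]
    have hder : derivative (X ^ 2 + X - C f : (RatFunc k)[X]) = 1 := by
      rw [derivative_sub, derivative_add, derivative_X_pow, derivative_X, derivative_C, sub_zero]
      have h2 : ((2 : ℕ) : RatFunc k) = 0 := CharP.cast_eq_zero (RatFunc k) 2
      rw [h2, map_zero, zero_mul, zero_add]
    rw [hder]
    exact isCoprime_one_right
  have htop : (RatFunc k)⟮y⟯ = ⊤ := (FQ.exists_quadratic hdeg y hy).1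
  have h1 : Algebra.IsSeparable (RatFunc k) (RatFunc k)⟮y⟯ :=
    (IntermediateField.isSeparable_adjoin_simple_iff_isSeparable (RatFunc k) K).mpr hsep
  rw [htop] at h1
  exact Algebra.IsSeparable.of_algHom (RatFunc k) _
    (IntermediateField.topEquiv (F := RatFunc k) (E := K)).symm.toAlgHom

end sep

section places

variable {k : Type u} {K : Type v} [Field k] [CharP k 2] [Field K] [Algebra k K]
  [Algebra (RatFunc k) K] [IsScalarTower k (RatFunc k) K]
  (hK : IsFunctionField k K)
  (hdeg : finrank (RatFunc k) K = 2) {y : K} (hy : y ∉ Set.range (algebraMap (RatFunc k) K))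
  {f : RatFunc k} (heq : y ^ 2 + y = algebraMap (RatFunc k) K f)
  (hodd : ∀ p : Place k (RatFunc k), p.ord f < 0 → Odd (p.ord f))

omit [CharP k 2] in
include hdeg heq hodd in
theorem over_pole {p : Place k (RatFunc k)} (hp : p.ord f < 0) {P : Place k K} {e : ℕ}
    (he : IsOverWith P p e) : e = 2 ∧ P.ord y = p.ord f := by
  have hfin : FiniteDimensional (RatFunc k) K := Module.finite_of_finrank_pos (by omega)
  obtain ⟨h3, -⟩ := (unique_over_of_odd_pole hdeg heq p hp (hodd p hp)).2 P ⟨e, he⟩
  have he2 : e = 2 := (isOverWith_unique he h3).2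
  subst he2
  refine ⟨rfl, ?_⟩
  have := two_mul_ord_y heq he (by norm_num) hp
  push_cast at this
  omega

include hdeg hy heq in
theorem over_nonpole {p : Place k (RatFunc k)} (hp : 0 ≤ p.ord f) {P : Place k K} {e : ℕ}
    (he : IsOverWith P p e) : e = 1 ∧ P.1 y ≤ 1 := by
  have hfin : FiniteDimensional (RatFunc k) K := Module.finite_of_finrank_pos (by omega)
  have hf : p.1 f ≤ 1 := by
    by_cases hf0 : f = 0
    · rw [hf0, map_zero]; exact zero_le
    · exact (val_le_one_iff p hf0).mpr hp
  refine ⟨?_, val_y_le_one heq he hf⟩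
  have := unramified_of_no_pole hdeg hy heq p hp ⟨e, he⟩
  rwa [ramIdx_eq he] at this

include hK hdeg hy heq hodd in
/-- the explicit elements of `L(n (x)_∞)` -/
theorem qy_mem_L' (pinf : Place k (RatFunc k)) (hinf : pinf.ord (RatFunc.X : RatFunc k) < 0)
    {b₀ : k[X]} {n : ℕ}
    (hb : b₀ = 0 ∨ (qq f).natDegree + b₀.natDegree + minf f pinf ≤ n) :
    polyK K (qq f * b₀) * y ∈ L (n • poleDiv k (xK k K)) := by
  have hfin : FiniteDimensional (RatFunc k) K := Module.finite_of_finrank_pos (by omega)
  have hKr := isFunctionField_ratFunc (k := k)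
  by_cases hb0 : b₀ = 0
  · rw [hb0, mul_zero]
    unfold polyK
    rw [map_zero, map_zero, zero_mul]
    exact Submodule.zero_mem _
  have hbdeg := hb.resolve_left hb0
  have hy0 : y ≠ 0 := by
    rintro rfl
    exact hy ⟨0, map_zero _⟩
  have hqb0 : qq f * b₀ ≠ 0 := mul_ne_zero (qq_ne_zero f) hb0
  have hz0 : polyK K (qq f * b₀) ≠ 0 := by
    unfold polyK
    rw [Ne, map_eq_zero]
    exact alg_ne_zero hqb0
  intro P
  rw [Finsupp.smul_apply, poleDiv_apply hK, val_le_exp_iff P (mul_ne_zero hz0 hy0),
    ord_mul P hz0 hy0]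
  obtain ⟨p, e, he⟩ := exists_isOverWith (K' := K) hKr.1 P
  have hepos := isOverWith_pos he
  by_cases hx : P.1 (xK k K) ≤ 1
  · have hxo : 0 ≤ P.ord (xK k K) := (val_le_one_iff P xK_ne_zero).mp hx
    rw [max_eq_right (by omega), smul_zero, neg_zero]
    have hX : p.1 RatFunc.X ≤ 1 := by
      by_contra hlt
      rw [not_le] at hlt
      have : 1 < P.1 (xK k K) := by
        unfold xK
        rw [he]
        exact one_lt_pow₀ hlt (by omega)
      exact absurd hx (not_le.mpr this)
    have hzord : P.ord (polyK K (qq f * b₀)) =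
        e * (p.ord (algebraMap k[X] (RatFunc k) (qq f)) +
          p.ord (algebraMap k[X] (RatFunc k) b₀)) := by
      unfold polyK
      rw [isOverWith_ord he, map_mul, ord_mul p (alg_ne_zero (qq_ne_zero f)) (alg_ne_zero hb0)]
    have hb₀nn : 0 ≤ p.ord (algebraMap k[X] (RatFunc k) b₀) :=
      (val_le_one_iff p (alg_ne_zero hb0)).mp (val_alg_le_one p hX _)
    have hqnn : 0 ≤ p.ord (algebraMap k[X] (RatFunc k) (qq f)) :=
      (val_le_one_iff p (alg_ne_zero (qq_ne_zero f))).mp (val_alg_le_one p hX _)
    by_cases hpole : p.ord f < 0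
    · obtain ⟨he2, hyo⟩ := over_pole hdeg heq hodd hpole he
      have hmem : p ∈ Sfin f := (mem_Sfin f).mpr ⟨hpole, hX⟩
      rw [hzord, hyo, ord_qq_of_mem f hmem, mm_cast f hpole, he2]
      obtain ⟨m, hm⟩ := hodd p hpole
      rw [hm]
      push_cast
      have h5 : (1 - (2 * m + 1)) / 2 = -m := by omega
      rw [h5]
      nlinarith
    · rw [not_lt] at hpole
      obtain ⟨-, hy1⟩ := over_nonpole hdeg hy heq hpole he
      have hyo : 0 ≤ P.ord y := (val_le_one_iff P hy0).mp hy1
      rw [hzord]
      have : (0 : ℤ) ≤ e * (p.ord (algebraMap k[X] (RatFunc k) (qq f)) +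
          p.ord (algebraMap k[X] (RatFunc k) b₀)) := mul_nonneg (by positivity) (by omega)
      omega
  · rw [not_le] at hx
    have hpinf : p.ord (RatFunc.X : RatFunc k) < 0 := by
      rw [← one_lt_val_iff p RatFunc.X_ne_zero]
      by_contra hle
      rw [not_lt] at hle
      unfold xK at hx
      rw [he] at hx
      exact absurd hx (not_lt.mpr (pow_le_one' hle e))
    have hpp : p = pinf := eq_of_pole p pinf hpinf hinf
    subst hpp
    have hxo : P.ord (xK k K) = -(e : ℤ) := by
      unfold xK
      rw [isOverWith_ord he, ord_X_of_pole p hinf]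
      ring
    have hzord : P.ord (polyK K (qq f * b₀)) = -((e : ℤ) * (qq f * b₀).natDegree) := by
      unfold polyK
      rw [isOverWith_ord he, ord_alg_of_pole p hinf hqb0, ord_X_of_pole p hinf]
      ring
    rw [hxo, hzord, natDegree_mul (qq_ne_zero f) hb0, neg_neg,
      max_eq_left (by positivity), nsmul_eq_mul]
    unfold minf at hbdeg
    by_cases hpole : p.ord f < 0
    · obtain ⟨he2, hyo⟩ := over_pole hdeg heq hodd hpole he
      rw [if_pos hpole] at hbdeg
      have h6 : ((qq f).natDegree : ℤ) + b₀.natDegree + mm f p ≤ n := by exact_mod_cast hbdeg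
      rw [mm_cast f hpole] at h6
      rw [hyo, he2]
      obtain ⟨m, hm⟩ := hodd p hpole
      rw [hm] at h6 ⊢
      have h5 : (1 - (2 * m + 1)) / 2 = -m := by omega
      rw [h5] at h6
      push_cast
      omega
    · rw [if_neg hpole, add_zero] at hbdeg
      rw [not_lt] at hpole
      obtain ⟨he1, hy1⟩ := over_nonpole hdeg hy heq hpole he
      have hyo : 0 ≤ P.ord y := (val_le_one_iff P hy0).mp hy1
      have h6 : ((qq f).natDegree : ℤ) + b₀.natDegree ≤ n := by exact_mod_cast hbdeg
      rw [he1]
      push_cast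
      omega

end places

end Groth.Agent.Lib.helper16.FASG
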