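import Groth.Agent.Lib.helper16.FASG3

set_option autoImplicit false

namespace Groth.Agent.Lib.helper16.FASG

open FunFld WithZero Polynomial Module
open Groth.Agent.Lib.helper16 Groth.Agent.Lib.helper16.FF Groth.Agent.Lib.helper16.FX
  Groth.Agent.Lib.helper16.FR Groth.Agent.Lib.helper16.FA Groth.Agent.Lib.helper16.FHD
  Groth.Agent.Lib.helper16.FAA Groth.Agent.Lib.helper16.FAPF Groth.Agent.Lib.helper16.FH
  Groth.Agent.Lib.helper16.FAH
open scoped IntermediateField

universe u v w

section decomp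

variable {k : Type u} {K : Type v} [Field k] [CharP k 2] [Field K] [Algebra k K]
  [Algebra (RatFunc k) K] [IsScalarTower k (RatFunc k) K]
  (hK : IsFunctionField k K)
  (hdeg : finrank (RatFunc k) K = 2) {y : K} (hy : y ∉ Set.range (algebraMap (RatFunc k) K))
  {f : RatFunc k} (heq : y ^ 2 + y = algebraMap (RatFunc k) K f)
  (hodd : ∀ p : Place k (RatFunc k), p.ord f < 0 → Odd (p.ord f))

include hK hdeg hy heq hodd in
/-- the finite part of the analysis: both components are polynomial -/
theorem finite_analysis {n : ℕ} {a b : RatFunc k}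
    (hz : algebraMap (RatFunc k) K a + algebraMap (RatFunc k) K b * y ∈
      L (n • poleDiv k (xK k K))) :
    ∃ a₀ b₀ : k[X], a = algebraMap k[X] (RatFunc k) a₀ ∧
      b = algebraMap k[X] (RatFunc k) (qq f * b₀) := by
  have hfin : FiniteDimensional (RatFunc k) K := Module.finite_of_finrank_pos (by omega)
  have hKr := isFunctionField_ratFunc (k := k)
  haveI := isSeparable_of_artinSchreier hdeg hy heq
  -- integrality above finite places
  have hPint : ∀ (p : Place k (RatFunc k)), p.1 RatFunc.X ≤ 1 → ∀ P : Place k K, IsOver P p →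
      P.1 (algebraMap (RatFunc k) K a + algebraMap (RatFunc k) K b * y) ≤ 1 := by
    intro p hX P hP
    obtain ⟨e, he⟩ := hP
    have h1 := hz P
    rw [Finsupp.smul_apply, poleDiv_apply hK] at h1
    have hx : P.1 (xK k K) ≤ 1 := by
      unfold xK
      rw [he]
      exact pow_le_one' hX e
    have hxo : 0 ≤ P.ord (xK k K) := (val_le_one_iff P xK_ne_zero).mp hx
    rwa [max_eq_right (by omega), smul_zero, exp_zero] at h1
  have hloc : ∀ (p : Place k (RatFunc k)), p.1 RatFunc.X ≤ 1 →
      p.1 a ≤ 1 ∧ p.1 (b / algebraMap k[X] (RatFunc k) (qq f)) ≤ 1 := by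
    intro p hX
    by_cases hpole : p.ord f < 0
    · obtain ⟨P, e, he⟩ := FCE.exists_isOver_above (K' := K) hKr p
      obtain ⟨he2, hyo⟩ := over_pole hdeg heq hodd hpole he
      subst he2
      have hmem : p ∈ Sfin f := (mem_Sfin f).mpr ⟨hpole, hX⟩
      obtain ⟨dβ, hdβ⟩ : ∃ dβ : ℕ, (dβ : ℤ) = -p.ord f :=
        ⟨(-p.ord f).toNat, Int.toNat_of_nonneg (by omega)⟩
      have hdodd : Odd dβ := by
        rw [← Int.odd_coe_nat, hdβ]
        exact (hodd p hpole).neg
      have hyo' : P.ord y = -(dβ : ℤ) := by rw [hyo, hdβ]; ring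
      obtain ⟨h1, h2⟩ := ram_analysis hdeg he hdodd hyo' (hPint p hX P ⟨2, he⟩)
      refine ⟨h1, ?_⟩
      rcases h2 with h2 | h2
      · rw [h2, zero_div, map_zero]; exact zero_le
      · by_cases hb0 : b = 0
        · rw [hb0, zero_div, map_zero]; exact zero_le
        · rw [val_le_one_iff p (div_ne_zero hb0 (alg_ne_zero (qq_ne_zero f))), div_eq_mul_inv,
            ord_mul p hb0 (inv_ne_zero (alg_ne_zero (qq_ne_zero f))), ord_inv,
            ord_qq_of_mem f hmem, mm_cast f hpole]
          obtain ⟨m, hm⟩ := hodd p hpole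
          omega
    · rw [not_lt] at hpole
      have hf : p.1 f ≤ 1 := by
        by_cases hf0 : f = 0
        · rw [hf0, map_zero]; exact zero_le
        · exact (val_le_one_iff p hf0).mpr hpole
      obtain ⟨h1, h2⟩ := unram_analysis hdeg hy heq hf (hPint p hX)
      refine ⟨h1, ?_⟩
      have hnm : p ∉ Sfin f := by
        rw [mem_Sfin]
        intro h
        omega
      have h3 : p.1 (algebraMap k[X] (RatFunc k) (qq f)) = 1 := by
        rw [val_eq_exp_neg_ord p (alg_ne_zero (qq_ne_zero f)), ord_qq_of_not_mem f hX hnm, neg_zero,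
          exp_zero]
      rw [map_div₀, h3, div_one]
      exact h2
  obtain ⟨a₀, ha₀⟩ := exists_poly_of_integral (fun p hX => (hloc p hX).1)
  obtain ⟨b₀, hb₀⟩ := exists_poly_of_integral (fun p hX => (hloc p hX).2)
  refine ⟨a₀, b₀, ha₀, ?_⟩
  rw [map_mul, ← hb₀, mul_div_cancel₀ _ (alg_ne_zero (qq_ne_zero f))]

end decomp

end Groth.Agent.Lib.helper16.FASG
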