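import Groth.Agent.Lib.helper16.FASG4

set_option autoImplicit false

namespace Groth.Agent.Lib.helper16.FASG

open FunFld WithZero Polynomial Module
open Groth.Agent.Lib.helper16 Groth.Agent.Lib.helper16.FF Groth.Agent.Lib.helper16.FX
  Groth.Agent.Lib.helper16.FR Groth.Agent.Lib.helper16.FA Groth.Agent.Lib.helper16.FHD
  Groth.Agent.Lib.helper16.FAA Groth.Agent.Lib.helper16.FAPF Groth.Agent.Lib.helper16.FH
  Groth.Agent.Lib.helper16.FAH
open scoped IntermediateField

universe u v w

section infinite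

variable {k : Type u} {K : Type v} [Field k] [CharP k 2] [Field K] [Algebra k K]
  [Algebra (RatFunc k) K] [IsScalarTower k (RatFunc k) K]
  (hK : IsFunctionField k K)
  (hdeg : finrank (RatFunc k) K = 2) {y : K} (hy : y ∉ Set.range (algebraMap (RatFunc k) K))
  {f : RatFunc k} (heq : y ^ 2 + y = algebraMap (RatFunc k) K f)
  (hodd : ∀ p : Place k (RatFunc k), p.ord f < 0 → Odd (p.ord f))

include hK hdeg hy heq hodd in
/-- the infinite part of the analysis: degree bounds -/
theorem infinite_analysis (pinf : Place k (RatFunc k))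
    (hinf : pinf.ord (RatFunc.X : RatFunc k) < 0) {n : ℕ} {a₀ b₀ : k[X]}
    (hz : polyK K a₀ + polyK K (qq f * b₀) * y ∈ L (n • poleDiv k (xK k K))) :
    a₀ ∈ degreeLT k (n + 1) ∧
      (b₀ = 0 ∨ (qq f).natDegree + b₀.natDegree + minf f pinf ≤ n) := by
  have hfin : FiniteDimensional (RatFunc k) K := Module.finite_of_finrank_pos (by omega)
  have hKr := isFunctionField_ratFunc (k := k)
  haveI := isSeparable_of_artinSchreier hdeg hy heq
  set Xi : RatFunc k := (RatFunc.X : RatFunc k)⁻¹ ^ n with hXi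
  have hXi0 : Xi ≠ 0 := pow_ne_zero _ (inv_ne_zero RatFunc.X_ne_zero)
  have hXio : pinf.ord Xi = n := by
    rw [hXi, ord_pow, ord_inv, ord_X_of_pole pinf hinf]
    ring
  -- the rescaled element is integral above infinity
  have hPint : ∀ P : Place k K, IsOver P pinf →
      P.1 (algebraMap (RatFunc k) K (algebraMap k[X] (RatFunc k) a₀ * Xi) +
        algebraMap (RatFunc k) K (algebraMap k[X] (RatFunc k) (qq f * b₀) * Xi) * y) ≤ 1 := by
    intro P hP
    obtain ⟨e, he⟩ := hP
    have h1 := hz P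
    rw [Finsupp.smul_apply, poleDiv_apply hK] at h1
    have hxo : P.ord (xK k K) = -(e : ℤ) := by
      unfold xK
      rw [isOverWith_ord he, ord_X_of_pole pinf hinf]
      ring
    rw [hxo, neg_neg, max_eq_left (by positivity), nsmul_eq_mul] at h1
    have h2 : algebraMap (RatFunc k) K (algebraMap k[X] (RatFunc k) a₀ * Xi) +
        algebraMap (RatFunc k) K (algebraMap k[X] (RatFunc k) (qq f * b₀) * Xi) * y =
        (polyK K a₀ + polyK K (qq f * b₀) * y) * algebraMap (RatFunc k) K Xi := by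
      unfold polyK
      rw [map_mul, map_mul]
      ring
    have h3 : P.1 (algebraMap (RatFunc k) K Xi) = exp (-((n : ℤ) * e)) := by
      have hXi0' : algebraMap (RatFunc k) K Xi ≠ 0 := by rwa [Ne, map_eq_zero]
      rw [val_eq_exp_neg_ord P hXi0', isOverWith_ord he, hXio]
      congr 1
      ring
    rw [h2, map_mul, h3]
    calc P.1 (polyK K a₀ + polyK K (qq f * b₀) * y) * exp (-((n : ℤ) * e))
        ≤ exp ((n : ℤ) * e) * exp (-((n : ℤ) * e)) := mul_le_mul_left h1 _
      _ = 1 := by rw [← exp_add, add_neg_cancel, exp_zero]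
  have hdeg_of : ∀ g : k[X], g ≠ 0 → pinf.1 (algebraMap k[X] (RatFunc k) g * Xi) ≤ 1 →
      g.natDegree ≤ n := by
    intro g hg h
    rw [val_le_one_iff pinf (mul_ne_zero (alg_ne_zero hg) hXi0),
      ord_mul pinf (alg_ne_zero hg) hXi0, hXio, ord_alg_of_pole pinf hinf hg,
      ord_X_of_pole pinf hinf] at h
    have : (g.natDegree : ℤ) ≤ n := by omega
    exact_mod_cast this
  have hmemLT : ∀ g : k[X], (g ≠ 0 → g.natDegree ≤ n) → g ∈ degreeLT k (n + 1) := by
    intro g hg
    rw [mem_degreeLT]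
    by_cases hg0 : g = 0
    · rw [hg0, degree_zero]; exact WithBot.bot_lt_coe _
    · refine lt_of_le_of_lt degree_le_natDegree ?_
      have := hg hg0
      exact_mod_cast Nat.lt_succ_of_le this
  unfold minf
  by_cases hpole : pinf.ord f < 0
  · rw [if_pos hpole]
    obtain ⟨P, e, he⟩ := FCE.exists_isOver_above (K' := K) hKr pinf
    obtain ⟨he2, hyo⟩ := over_pole hdeg heq hodd hpole he
    subst he2
    obtain ⟨dβ, hdβ⟩ : ∃ dβ : ℕ, (dβ : ℤ) = -pinf.ord f :=
      ⟨(-pinf.ord f).toNat, Int.toNat_of_nonneg (by omega)⟩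
    have hdodd : Odd dβ := by
      rw [← Int.odd_coe_nat, hdβ]
      exact (hodd pinf hpole).neg
    have hyo' : P.ord y = -(dβ : ℤ) := by rw [hyo, hdβ]; ring
    obtain ⟨h1, h2⟩ := ram_analysis hdeg he hdodd hyo' (hPint P ⟨2, he⟩)
    refine ⟨hmemLT a₀ (fun hg => hdeg_of a₀ hg h1), ?_⟩
    by_cases hb0 : b₀ = 0
    · exact Or.inl hb0
    right
    have hqb0 : qq f * b₀ ≠ 0 := mul_ne_zero (qq_ne_zero f) hb0
    rcases h2 with h2 | h2
    · exact absurd h2 (mul_ne_zero (alg_ne_zero hqb0) hXi0)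
    · rw [ord_mul pinf (alg_ne_zero hqb0) hXi0, hXio, ord_alg_of_pole pinf hinf hqb0,
        ord_X_of_pole pinf hinf, natDegree_mul (qq_ne_zero f) hb0] at h2
      have h3 : (mm f pinf : ℤ) = (1 - pinf.ord f) / 2 := mm_cast f hpole
      obtain ⟨m, hm⟩ := hdodd
      push_cast at h2
      have : ((qq f).natDegree : ℤ) + b₀.natDegree + mm f pinf ≤ n := by
        rw [h3]
        omega
      exact_mod_cast this
  · rw [if_neg hpole, add_zero]
    rw [not_lt] at hpole
    have hf : pinf.1 f ≤ 1 := by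
      by_cases hf0 : f = 0
      · rw [hf0, map_zero]; exact zero_le
      · exact (val_le_one_iff pinf hf0).mpr hpole
    obtain ⟨h1, h2⟩ := unram_analysis hdeg hy heq hf hPint
    refine ⟨hmemLT a₀ (fun hg => hdeg_of a₀ hg h1), ?_⟩
    by_cases hb0 : b₀ = 0
    · exact Or.inl hb0
    right
    have hqb0 : qq f * b₀ ≠ 0 := mul_ne_zero (qq_ne_zero f) hb0
    have := hdeg_of _ hqb0 h2
    rwa [natDegree_mul (qq_ne_zero f) hb0] at this

end infinite

end Groth.Agent.Lib.helper16.FASG
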