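import Groth.Agent.Lib.helper16.FASG5

set_option autoImplicit false

namespace Groth.Agent.Lib.helper16.FASG

open FunFld WithZero Polynomial Module
open Groth.Agent.Lib.helper16 Groth.Agent.Lib.helper16.FF Groth.Agent.Lib.helper16.FX
  Groth.Agent.Lib.helper16.FR Groth.Agent.Lib.helper16.FA Groth.Agent.Lib.helper16.FHD
  Groth.Agent.Lib.helper16.FAA Groth.Agent.Lib.helper16.FAPF Groth.Agent.Lib.helper16.FH
  Groth.Agent.Lib.helper16.FAH
open scoped IntermediateField

universe u v w

section final

variable {k : Type u} {K : Type v} [Field k] [CharP k 2] [Field K] [Algebra k K]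
  [Algebra (RatFunc k) K] [IsScalarTower k (RatFunc k) K]
  (hK : IsFunctionField k K)
  (hdeg : finrank (RatFunc k) K = 2) {y : K} (hy : y ∉ Set.range (algebraMap (RatFunc k) K))
  {f : RatFunc k} (heq : y ^ 2 + y = algebraMap (RatFunc k) K f)
  (hodd : ∀ p : Place k (RatFunc k), p.ord f < 0 → Odd (p.ord f))

include hK hdeg hy heq hodd in
theorem genus_eq' (pinf : Place k (RatFunc k)) (hinf : pinf.ord (RatFunc.X : RatFunc k) < 0) :
    (genus k K : ℤ) = (qq f).natDegree + minf f pinf - 1 := by
  classical
  set N := (qq f).natDegree + minf f pinf with hN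
  set n : ℕ := N + genus k K + 1 with hn
  have hfd := finiteDimensional_L hK (n • poleDiv k (xK k K))
  let Ψ : (degreeLT k (n + 1) × degreeLT k (n - N + 1)) →ₗ[k] K :=
    ((Polynomial.aeval (xK k K)).toLinearMap.comp (degreeLT k (n + 1)).subtype).coprod
      ((LinearMap.mulRight k (polyK K (qq f) * y)).comp
        ((Polynomial.aeval (xK k K)).toLinearMap.comp (degreeLT k (n - N + 1)).subtype))
  have hΨ : ∀ p, Ψ p = polyK K (p.1 : k[X]) + polyK K (qq f * (p.2 : k[X])) * y := by
    intro p
    have : Ψ p = aeval (xK k K) (p.1 : k[X]) +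
        aeval (xK k K) (p.2 : k[X]) * (polyK K (qq f) * y) := rfl
    rw [this, polyK_eq_aeval, polyK_eq_aeval, polyK_eq_aeval, map_mul]
    ring
  have hΨinj : Function.Injective Ψ := by
    rw [← LinearMap.ker_eq_bot, LinearMap.ker_eq_bot']
    intro p hp
    rw [hΨ] at hp
    unfold polyK at hp
    obtain ⟨h1, h3⟩ := decomp_eq_zero hy hp
    have h1' : (p.1 : k[X]) = 0 := by
      apply IsFractionRing.injective k[X] (RatFunc k)
      rw [h1, map_zero]
    have h3' : (p.2 : k[X]) = 0 := by
      have : qq f * (p.2 : k[X]) = 0 := by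
        apply IsFractionRing.injective k[X] (RatFunc k)
        rw [h3, map_zero]
      rcases mul_eq_zero.mp this with h | h
      · exact absurd h (qq_ne_zero f)
      · exact h
    exact Prod.ext (Subtype.ext h1') (Subtype.ext h3')
  have hrange : LinearMap.range Ψ = L (n • poleDiv k (xK k K)) := by
    apply le_antisymm
    · rintro _ ⟨p, rfl⟩
      rw [hΨ]
      refine Submodule.add_mem _ (polyK_mem_L hK p.1.2)
        (qy_mem_L' hK hdeg hy heq hodd pinf hinf ?_)
      by_cases hb0 : (p.2 : k[X]) = 0
      · exact Or.inl hb0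
      right
      have := p.2.2
      rw [mem_degreeLT, degree_eq_natDegree hb0] at this
      have h3 : (p.2 : k[X]).natDegree < n - N + 1 := by exact_mod_cast this
      omega
    · intro z hz
      obtain ⟨a, b, hab⟩ := exists_decomp hdeg hy z
      rw [hab] at hz
      obtain ⟨a₀, b₀, ha₀, hb₀⟩ := finite_analysis hK hdeg hy heq hodd hz
      have hz' : polyK K a₀ + polyK K (qq f * b₀) * y ∈ L (n • poleDiv k (xK k K)) := by
        unfold polyK
        rw [← ha₀, ← hb₀]
        exact hz
      obtain ⟨h1, h2⟩ := infinite_analysis hK hdeg hy heq hodd pinf hinf hz'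
      have hb' : b₀ ∈ degreeLT k (n - N + 1) := by
        rw [mem_degreeLT]
        rcases h2 with rfl | h2
        · rw [degree_zero]; exact WithBot.bot_lt_coe _
        refine lt_of_le_of_lt degree_le_natDegree ?_
        have : b₀.natDegree < n - N + 1 := by omega
        exact_mod_cast this
      refine ⟨(⟨a₀, h1⟩, ⟨b₀, hb'⟩), ?_⟩
      rw [hΨ, hab, ha₀, hb₀]
      rfl
  have h1 : ell (n • poleDiv k (xK k K)) = (n + 1) + (n - N + 1) := by
    unfold ell
    rw [← hrange, LinearMap.finrank_range_of_inj hΨinj, Module.finrank_prod,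
      FHG.finrank_degreeLT, FHG.finrank_degreeLT]
  have hdegp : (poleDiv k (xK k K)).deg = 2 := by
    rw [deg_poleDiv_eq hK xK_not_mem_range, finrank_adjoin, hdeg]
    rfl
  have hdegD : (n • poleDiv k (xK k K)).deg = 2 * n := by
    rw [← Nat.cast_smul_eq_nsmul ℤ, deg_zsmul, hdegp]
    ring
  have h2 := ell_eq_of_deg_ge hK (D := n • poleDiv k (xK k K)) (by rw [hdegD, hn]; push_cast; omega)
  rw [hdegD, h1] at h2
  have h4 : N ≤ n := by omega
  push_cast [h4] at h2
  omega

end final

end Groth.Agent.Lib.helper16.FASG
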