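import Groth.Agent.Lib.helper16.FArtSchDiff

set_option autoImplicit false

namespace Groth.Agent.Lib.helper16.FASR

open FunFld WithZero Polynomial Module LocRes
open Groth.Agent.Lib.helper16 Groth.Agent.Lib.helper16.FF Groth.Agent.Lib.helper16.FX
  Groth.Agent.Lib.helper16.FR Groth.Agent.Lib.helper16.FA Groth.Agent.Lib.helper16.FHD
  Groth.Agent.Lib.helper16.FRW
open scoped IntermediateField LaurentSeries

universe u v w

section ratfunc

variable {k : Type u} [Field k]

theorem D_X_ne_zero : KaehlerDifferential.D k (RatFunc k) RatFunc.X ≠ 0 := by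
  have := (FS.ratFuncBasis k).ne_zero ()
  rwa [FS.ratFuncBasis_apply] at this

theorem kaehler_alg (g : k[X]) :
    KaehlerDifferential.D k (RatFunc k) (algebraMap k[X] (RatFunc k) g) =
      algebraMap k[X] (RatFunc k) (derivative g) •
        KaehlerDifferential.D k (RatFunc k) RatFunc.X := by
  rw [alg_eq_aeval, alg_eq_aeval, Derivation.map_aeval]

theorem eq_of_smul_D_X {a b : RatFunc k}
    (h : a • KaehlerDifferential.D k (RatFunc k) RatFunc.X =
      b • KaehlerDifferential.D k (RatFunc k) RatFunc.X) : a = b := by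
  have h5 : (a - b) • KaehlerDifferential.D k (RatFunc k) RatFunc.X = 0 := by
    rw [sub_smul, h, sub_self]
  rcases smul_eq_zero.mp h5 with h6 | h6
  · exact sub_eq_zero.mp h6
  · exact absurd h6 D_X_ne_zero

/-- the derivative of a function integral at a finite place is integral there -/
theorem val_deriv_le_one (p : Place k (RatFunc k)) (hX : p.1 RatFunc.X ≤ 1) {r h : RatFunc k}
    (hr : p.1 r ≤ 1)
    (hh : KaehlerDifferential.D k (RatFunc k) r =
      h • KaehlerDifferential.D k (RatFunc k) RatFunc.X) : p.1 h ≤ 1 := by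
  have hb0 : r.denom ≠ 0 := RatFunc.denom_ne_zero r
  have hrel : r * algebraMap k[X] (RatFunc k) r.denom = algebraMap k[X] (RatFunc k) r.num := by
    have h3 := RatFunc.num_div_denom r
    rw [div_eq_iff (alg_ne_zero hb0)] at h3
    exact h3.symm
  have hb1 : p.1 (algebraMap k[X] (RatFunc k) r.denom) = 1 := by
    by_contra hne
    have hlt : p.1 (algebraMap k[X] (RatFunc k) r.denom) < 1 :=
      lt_of_le_of_ne (val_alg_le_one p hX _) hne
    obtain ⟨π, hπ, hπb, hπ1⟩ := exists_irreducible_of_alg_lt_one p hb0 hlt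
    have ha1 : p.1 (algebraMap k[X] (RatFunc k) r.num) < 1 := by
      rw [← hrel, map_mul]
      exact lt_of_le_of_lt (mul_le_of_le_one_left' hr) hlt
    have hπa : π ∣ r.num := by
      by_contra hnd
      rw [val_alg_eq_one_of_not_dvd p hπ hπ1 hnd] at ha1
      exact lt_irrefl _ ha1
    exact hπ.not_isUnit ((RatFunc.isCoprime_num_denom r).isUnit_of_dvd' hπa hπb)
  have h1 := congrArg (KaehlerDifferential.D k (RatFunc k)) hrel
  rw [Derivation.leibniz, kaehler_alg, kaehler_alg, hh, smul_smul, smul_smul, ← add_smul] at h1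
  have h2 := eq_of_smul_D_X h1
  have h3 : algebraMap k[X] (RatFunc k) r.denom * h =
      algebraMap k[X] (RatFunc k) (derivative r.num) +
        -(r * algebraMap k[X] (RatFunc k) (derivative r.denom)) := by
    rw [← h2]; ring
  have h4 : p.1 (algebraMap k[X] (RatFunc k) r.denom * h) ≤ 1 := by
    rw [h3]
    refine le_trans (p.1.map_add _ _) (max_le (val_alg_le_one p hX _) ?_)
    rw [Valuation.map_neg, map_mul]
    exact mul_le_one' hr (val_alg_le_one p hX _)
  rwa [map_mul, hb1, one_mul] at h4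

/-- the derivative of an irreducible polynomial over a perfect field is a unit at its place -/
theorem val_deriv_irreducible [PerfectField k] (p : Place k (RatFunc k)) {π : k[X]}
    (hπ : Irreducible π) (hπ1 : p.1 (algebraMap k[X] (RatFunc k) π) < 1) :
    p.1 (algebraMap k[X] (RatFunc k) (derivative π)) = 1 := by
  apply val_alg_eq_one_of_not_dvd p hπ hπ1
  intro hdvd
  have hsep : π.Separable := PerfectField.separable_of_irreducible hπ
  exact hπ.not_isUnit (hsep.isUnit_of_dvd' dvd_rfl hdvd)

/-- the derivative lowers a pole order prime to the characteristic by one -/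
theorem ord_deriv_of_pole [PerfectField k] (p : Place k (RatFunc k)) (hX : p.1 RatFunc.X ≤ 1)
    {f h : RatFunc k} (hpole : p.ord f < 0) (hn : ((p.ord f : ℤ) : k) ≠ 0)
    (hh : KaehlerDifferential.D k (RatFunc k) f =
      h • KaehlerDifferential.D k (RatFunc k) RatFunc.X) : p.ord h = p.ord f - 1 := by
  have hf0 : f ≠ 0 := by
    rintro rfl
    rw [ord_zero] at hpole
    exact lt_irrefl _ hpole
  obtain ⟨π, hπ, hπ1⟩ := exists_irreducible_of_finite p hX
  set πr : RatFunc k := algebraMap k[X] (RatFunc k) π with hπr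
  have hπr0 : πr ≠ 0 := alg_ne_zero hπ.ne_zero
  have hπo : p.ord πr = 1 := ord_alg_irreducible p hπ hπ1
  obtain ⟨m, hm⟩ : ∃ m : ℕ, (m : ℤ) = -p.ord f := ⟨(-p.ord f).toNat, Int.toNat_of_nonneg (by omega)⟩
  have hm1 : 1 ≤ m := by omega
  have hmk : (m : k) ≠ 0 := by
    intro h0
    apply hn
    have : p.ord f = -(m : ℤ) := by omega
    rw [this]
    push_cast
    rw [h0, neg_zero]
  set u : RatFunc k := f * πr ^ m with hu
  have hu0 : u ≠ 0 := mul_ne_zero hf0 (pow_ne_zero _ hπr0)
  have huo : p.ord u = 0 := by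
    rw [hu, ord_mul p hf0 (pow_ne_zero _ hπr0), ord_pow, hπo]
    omega
  have hu1 : p.1 u ≤ 1 := (val_le_one_iff p hu0).mpr (le_of_eq huo.symm)
  obtain ⟨u', hu'⟩ := FASD.exists_kaehler_ratFunc (k := k) D_X_ne_zero u
  have hu'1 := val_deriv_le_one p hX hu1 hu'
  have hD : KaehlerDifferential.D k (RatFunc k) u =
      (πr ^ m * h + f * ((m : RatFunc k) * πr ^ (m - 1) *
        algebraMap k[X] (RatFunc k) (derivative π))) •
        KaehlerDifferential.D k (RatFunc k) RatFunc.X := by
    rw [hu, Derivation.leibniz, hh, Derivation.leibniz_pow, hπr, kaehler_alg, add_smul,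
      smul_smul, add_comm, ← Nat.cast_smul_eq_nsmul (RatFunc k), smul_smul, smul_smul, smul_smul]
    congr 2
    ring
  rw [hu'] at hD
  have hrel := eq_of_smul_D_X hD
  set T : RatFunc k := f * ((m : RatFunc k) * πr ^ (m - 1) *
        algebraMap k[X] (RatFunc k) (derivative π)) with hT
  have hmr : (m : RatFunc k) = algebraMap k (RatFunc k) (m : k) := by rw [map_natCast]
  have hmr0 : (m : RatFunc k) ≠ 0 := by
    rw [hmr, Ne, map_eq_zero]
    exact hmk
  have hmo : p.ord (m : RatFunc k) = 0 := by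
    unfold Place.ord
    rw [hmr, val_algebraMap p hmk, log_one, neg_zero]
  have hπ'1 := val_deriv_irreducible p hπ hπ1
  have hπ'0 : algebraMap k[X] (RatFunc k) (derivative π) ≠ 0 := by
    intro h0
    rw [h0, map_zero] at hπ'1
    exact zero_ne_one hπ'1
  have hπ'o : p.ord (algebraMap k[X] (RatFunc k) (derivative π)) = 0 := by
    unfold Place.ord
    rw [hπ'1, log_one, neg_zero]
  have hT0 : T ≠ 0 :=
    mul_ne_zero hf0 (mul_ne_zero (mul_ne_zero hmr0 (pow_ne_zero _ hπr0)) hπ'0)
  have hTo : p.ord T = -1 := by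
    rw [hT, ord_mul p hf0 (mul_ne_zero (mul_ne_zero hmr0 (pow_ne_zero _ hπr0)) hπ'0),
      ord_mul p (mul_ne_zero hmr0 (pow_ne_zero _ hπr0)) hπ'0,
      ord_mul p hmr0 (pow_ne_zero _ hπr0), ord_pow, hπo, hmo, hπ'o]
    push_cast [hm1]
    omega
  have hB : πr ^ m * h = -T + u' := by rw [hrel]; ring
  have hlt : p.1 u' < p.1 (-T) := by
    rw [Valuation.map_neg, val_eq_exp_neg_ord p hT0, hTo]
    refine lt_of_le_of_lt hu'1 ?_
    rw [← exp_zero, exp_lt_exp]
    omega
  have hBv : p.1 (πr ^ m * h) = p.1 T := by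
    rw [hB, Valuation.map_add_eq_of_lt_left _ hlt, Valuation.map_neg]
  have hh0 : h ≠ 0 := by
    rintro rfl
    rw [mul_zero, map_zero] at hBv
    exact hT0 ((map_eq_zero _).mp hBv.symm)
  have hBo : p.ord (πr ^ m * h) = -1 := by
    unfold Place.ord
    rw [hBv]
    exact hTo
  rw [ord_mul p (pow_ne_zero _ hπr0) hh0, ord_pow, hπo] at hBo
  omega

end ratfunc

end Groth.Agent.Lib.helper16.FASR
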