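import Groth.Agent.Lib.helper16.FFDeg

/-! Helper library (helper16): Riemann's inequality and the genus. -/

set_option autoImplicit false

namespace Groth.Agent.Lib.helper16.FF

open FunFld WithZero Polynomial
open scoped IntermediateField

variable {k K : Type*} [Field k] [Field K] [Algebra k K]

theorem mul_mem_L_iff (hK : IsFunctionField k K) (D : Divisor k K) {x : K} (hx : x ≠ 0) (y : K) :
    x * y ∈ L D ↔ y ∈ L (D + FunFld.div k x) := by
  constructor
  · intro h P
    have h1 := h P
    rw [map_mul, val_eq_exp_neg_ord P hx] at h1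
    rw [Finsupp.add_apply, div_apply hK, exp_add]
    have h2 : P.1 y = exp (P.ord x) * (exp (-P.ord x) * P.1 y) := by
      rw [← mul_assoc, ← exp_add]; simp
    rw [h2, mul_comm (exp (D P))]
    gcongr
  · intro h P
    have h1 := h P
    rw [Finsupp.add_apply, div_apply hK, exp_add] at h1
    rw [map_mul, val_eq_exp_neg_ord P hx]
    have h2 : exp (D P) = exp (-P.ord x) * (exp (D P) * exp (P.ord x)) := by
      rw [mul_comm (exp (D P)), ← mul_assoc, ← exp_add]; simp
    rw [h2]
    gcongr

theorem nonneg_add_div_iff (hK : IsFunctionField k K) (D : Divisor k K) {z : K} (hz : z ≠ 0) :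
    z ∈ L D ↔ 0 ≤ D + FunFld.div k z := by
  constructor
  · intro h P
    have h1 := h P
    rw [val_eq_exp_neg_ord P hz, exp_le_exp] at h1
    rw [Finsupp.add_apply, div_apply hK]
    simp only [Finsupp.coe_zero, Pi.zero_apply]
    omega
  · intro h P
    have h1 := h P
    rw [Finsupp.add_apply, div_apply hK] at h1
    simp only [Finsupp.coe_zero, Pi.zero_apply] at h1
    rw [val_eq_exp_neg_ord P hz, exp_le_exp]
    omega

theorem ell_add_div_le (hK : IsFunctionField k K) (D : Divisor k K) {x : K} (hx : x ≠ 0) :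
    ell (D + FunFld.div k x) ≤ ell D := by
  have := finiteDimensional_L hK D
  let f : L (D + FunFld.div k x) →ₗ[k] L D :=
    { toFun := fun y => ⟨x * y, (mul_mem_L_iff hK D hx y).mpr y.2⟩
      map_add' := fun y z => Subtype.ext (by
        change x * ((y + z : L _) : K) = x * y + x * z
        rw [Submodule.coe_add, mul_add])
      map_smul' := fun c y => Subtype.ext (by
        change x * ((c • y : L _) : K) = c • (x * (y : K))
        rw [Submodule.coe_smul, mul_smul_comm]) }
  have hf : Function.Injective f := by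
    intro y z h
    have h1 : x * (y : K) = x * (z : K) := congrArg Subtype.val h
    exact Subtype.ext (mul_left_cancel₀ hx h1)
  exact LinearMap.finrank_le_finrank_of_injective hf

theorem ell_add_div (hK : IsFunctionField k K) (D : Divisor k K) {x : K} (hx : x ≠ 0) :
    ell (D + FunFld.div k x) = ell D := by
  apply le_antisymm (ell_add_div_le hK D hx)
  have := ell_add_div_le hK (D + FunFld.div k x) (inv_ne_zero hx)
  rwa [div_inv hK, add_neg_cancel_right] at this

/-- `δ(D) = deg D + 1 - ℓ(D)` -/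
noncomputable def delta (D : Divisor k K) : ℤ := D.deg + 1 - (ell D : ℤ)

theorem delta_mono (hK : IsFunctionField k K) {D₁ D₂ : Divisor k K} (h : D₁ ≤ D₂) :
    delta D₁ ≤ delta D₂ := by
  have := ell_sub_ell_le hK h
  unfold delta
  omega

theorem delta_add_div (hK : IsFunctionField k K) (D : Divisor k K) {x : K} (hx : x ≠ 0) :
    delta (D + FunFld.div k x) = delta D := by
  unfold delta
  rw [ell_add_div hK D hx, deg_add, deg_div_eq_zero hK, add_zero]

theorem delta_zero (hK : IsFunctionField k K) : delta (0 : Divisor k K) = 0 := by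
  unfold delta
  rw [ell_zero hK, deg_zero]
  simp

theorem exists_ne_zero_mem_L (hK : IsFunctionField k K) {D : Divisor k K} (h : 0 < ell D) :
    ∃ z : K, z ≠ 0 ∧ z ∈ L D := by
  have := finiteDimensional_L hK D
  obtain ⟨z, hz⟩ := Module.finrank_pos_iff_exists_ne_zero.mp h
  exact ⟨z, fun h0 => hz (Subtype.ext h0), z.2⟩

theorem exists_not_mem_range (hK : IsFunctionField k K) :
    ∃ x : K, x ∉ Set.range (algebraMap k K) := by
  obtain ⟨⟨x, hx, -⟩, -⟩ := hK
  refine ⟨x, ?_⟩
  rintro ⟨c, rfl⟩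
  exact hx (isAlgebraic_algebraMap c)

theorem delta_bounded (hK : IsFunctionField k K) : ∃ γ : ℤ, ∀ D : Divisor k K, delta D ≤ γ := by
  obtain ⟨x, hx⟩ := exists_not_mem_range hK
  obtain ⟨Cd, hCd0, hkey⟩ := exists_divisor_ell_ge hK hx
  have htr := transcendental_of_not_mem_range hK hx
  have hfd := finiteDimensional_of_transcendental hK htr
  set n := Module.finrank k⟮x⟯ K with hn
  set B := poleDiv k x with hB
  have hn1 : 1 ≤ n := Module.finrank_pos
  have hBdeg : B.deg = n := deg_poleDiv_eq hK hx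
  refine ⟨Cd.deg + 1 - n, ?_⟩
  have hlB : ∀ l : ℕ, delta (l • B + Cd) ≤ Cd.deg + 1 - n := by
    intro l
    have h1 := hkey l
    have h3 : (((l + 1) * n : ℕ) : ℤ) ≤ (ell (l • B + Cd) : ℤ) := Int.ofNat_le.mpr h1
    unfold delta
    rw [deg_add, deg_nsmul, hBdeg]
    push_cast at h3
    linarith
  intro D
  set D₁ := D ⊔ 0 with hD₁
  have hD₁0 : 0 ≤ D₁.deg := deg_nonneg le_sup_right
  refine le_trans (delta_mono hK (le_sup_left : D ≤ D₁)) ?_
  set l := D₁.deg.toNat with hl
  have hl' : (l : ℤ) = D₁.deg := Int.toNat_of_nonneg hD₁0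
  have h1 := hkey l
  have h2 := ell_sub_ell_le hK (D₁ := l • B + Cd - D₁) (D₂ := l • B + Cd)
    (sub_le_self _ le_sup_right)
  rw [deg_sub] at h2
  have h3 : (((l + 1) * n : ℕ) : ℤ) ≤ (ell (l • B + Cd) : ℤ) := Int.ofNat_le.mpr h1
  push_cast at h3
  have h4 : (0 : ℤ) < ell (l • B + Cd - D₁) := by
    have : (l + 1 : ℤ) * n ≥ (l + 1 : ℤ) := by nlinarith
    linarith
  obtain ⟨z, hz0, hz⟩ := exists_ne_zero_mem_L hK (by exact_mod_cast h4)
  have h5 := (nonneg_add_div_iff hK _ hz0).mp hz
  have h6 : D₁ ≤ l • B + Cd + FunFld.div k z := by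
    have : l • B + Cd - D₁ + FunFld.div k z = (l • B + Cd + FunFld.div k z) - D₁ := by abel
    rw [this] at h5
    exact sub_nonneg.mp h5
  refine le_trans (delta_mono hK h6) ?_
  rw [delta_add_div hK _ hz0]
  exact hlB l

theorem genus_bddAbove (hK : IsFunctionField k K) :
    BddAbove (Set.range fun D : Divisor k K => (D.deg + 1 - (ell D : ℤ)).toNat) := by
  obtain ⟨γ, hγ⟩ := delta_bounded hK
  refine ⟨γ.toNat, ?_⟩
  rintro _ ⟨D, rfl⟩
  exact Int.toNat_le_toNat (hγ D)

theorem delta_le_genus (hK : IsFunctionField k K) (D : Divisor k K) :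
    delta D ≤ genus k K := by
  have h1 : (delta D).toNat ≤ genus k K := le_csSup (genus_bddAbove hK) ⟨D, rfl⟩
  have h2 := Int.self_le_toNat (delta D)
  have h3 : ((delta D).toNat : ℤ) ≤ genus k K := Int.ofNat_le.mpr h1
  omega

theorem exists_delta_eq_genus (hK : IsFunctionField k K) :
    ∃ D₀ : Divisor k K, delta D₀ = genus k K := by
  have hne : (Set.range fun D : Divisor k K => (D.deg + 1 - (ell D : ℤ)).toNat).Nonempty :=
    ⟨_, ⟨0, rfl⟩⟩
  obtain ⟨D₁, hD₁⟩ := Nat.sSup_mem hne (genus_bddAbove hK)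
  have hD₁' : (delta D₁).toNat = genus k K := hD₁
  by_cases h : 0 ≤ delta D₁
  · refine ⟨D₁, ?_⟩
    rw [← hD₁', Int.toNat_of_nonneg h]
  · refine ⟨0, ?_⟩
    rw [delta_zero hK, ← hD₁']
    push Not at h
    rw [Int.toNat_of_nonpos h.le]
    rfl

theorem riemann (hK : IsFunctionField k K) :
    ∃ N : ℤ, ∀ D : Divisor k K, N ≤ D.deg → delta D = genus k K := by
  obtain ⟨D₀, hD₀⟩ := exists_delta_eq_genus hK
  refine ⟨D₀.deg + genus k K, ?_⟩
  intro D hD
  apply le_antisymm (delta_le_genus hK D)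
  have h1 := delta_le_genus hK (D - D₀)
  unfold delta at h1
  rw [deg_sub] at h1
  have h2 : (0 : ℤ) < ell (D - D₀) := by linarith
  obtain ⟨z, hz0, hz⟩ := exists_ne_zero_mem_L hK (by exact_mod_cast h2)
  have h5 := (nonneg_add_div_iff hK _ hz0).mp hz
  have h6 : D₀ ≤ D + FunFld.div k z := by
    have : D - D₀ + FunFld.div k z = (D + FunFld.div k z) - D₀ := by abel
    rw [this] at h5
    exact sub_nonneg.mp h5
  rw [← hD₀, ← delta_add_div hK D hz0]
  exact delta_mono hK h6

end Groth.Agent.Lib.helper16.FF
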