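import Groth.Agent.Lib.helper16.FX3
import Groth.Agent.Lib.helper16.FFRiemann
import Groth.Prelude.Def_W4bk4goldsch23Ext

/-! Helper library (helper16): places in a finite extension `K'/K` of a function field. -/

set_option autoImplicit false

namespace Groth.Agent.Lib.helper16.FX

open FunFld WithZero Polynomial Module Groth.Agent.Lib.helper16.FF
open scoped IntermediateField

variable {k K K' : Type*} [Field k] [Field K] [Field K'] [Algebra k K] [Algebra K K']
  [Algebra k K'] [IsScalarTower k K K']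

/-- `k(x₀) ≃ k(x₀')` for the image `x₀'` of `x₀` in `K'` -/
noncomputable def adjoinEquiv (x₀ : K) : k⟮x₀⟯ ≃ₐ[k] k⟮algebraMap K K' x₀⟯ :=
  (IntermediateField.equivMap k⟮x₀⟯ (IsScalarTower.toAlgHom k K K')).trans
    (IntermediateField.equivOfEq (by
      rw [IntermediateField.adjoin_map, Set.image_singleton]
      rfl))

theorem adjoinEquiv_apply_coe (x₀ : K) (a : k⟮x₀⟯) :
    ((adjoinEquiv (K' := K') x₀ a : k⟮algebraMap K K' x₀⟯) : K') = algebraMap K K' (a : K) := rfl

theorem finrank_adjoin_algebraMap (x₀ : K) :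
    finrank k⟮algebraMap K K' x₀⟯ K' = finrank k⟮x₀⟯ K * finrank K K' := by
  rw [Module.finrank_mul_finrank]
  symm
  exact Algebra.finrank_eq_of_equiv_equiv (adjoinEquiv (K' := K') x₀).toRingEquiv
    (RingEquiv.refl K') (by ext a; rfl)

variable (K') in
theorem isFF1_of_finite [FiniteDimensional K K'] (hK : IsFF1 k K) : IsFF1 k K' := by
  obtain ⟨x₀, hx₀, hfd⟩ := hK
  refine ⟨algebraMap K K' x₀,
    (transcendental_algebraMap_iff (algebraMap K K').injective).mpr hx₀, ?_⟩
  apply Module.finite_of_finrank_pos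
  rw [finrank_adjoin_algebraMap]
  exact Nat.mul_pos Module.finrank_pos Module.finrank_pos

/-- the ramification index in `IsOverWith` is positive -/
theorem isOverWith_pos [Algebra.IsAlgebraic K K'] {Q : Place k K'} {P : Place k K} {e : ℕ}
    (h : IsOverWith Q P e) : 1 ≤ e := by
  by_contra he
  have he0 : e = 0 := by omega
  subst he0
  have hk : ∀ c : K, algebraMap K K' c ∈ Q.1.valuationSubring := by
    intro c
    show Q.1 (algebraMap K K' c) ≤ 1
    rw [h c, pow_zero]
  obtain ⟨z, hz⟩ := exists_val_eq_exp Q 1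
  have h1 : z ∈ Q.1.valuationSubring :=
    mem_of_isAlgebraic (k := K) Q.1.valuationSubring hk (Algebra.IsAlgebraic.isAlgebraic z)
  have h2 : Q.1 z ≤ 1 := h1
  rw [hz, ← exp_zero, exp_le_exp] at h2
  omega

theorem isOverWith_ord {Q : Place k K'} {P : Place k K} {e : ℕ} (h : IsOverWith Q P e) (x : K) :
    Q.ord (algebraMap K K' x) = e * P.ord x := by
  by_cases hx : x = 0
  · subst hx
    rw [map_zero, ord_zero, ord_zero, mul_zero]
  · have hx' : algebraMap K K' x ≠ 0 := by
      rwa [Ne, map_eq_zero]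
    have h1 := h x
    rw [val_eq_exp_neg_ord Q hx', val_eq_exp_neg_ord P hx, ← exp_nsmul, exp_inj] at h1
    simp only [nsmul_eq_mul] at h1
    linarith

/-- the place below determines the ramification index and conversely -/
theorem isOverWith_unique [Algebra.IsAlgebraic K K'] {Q : Place k K'} {P P' : Place k K}
    {e e' : ℕ} (h : IsOverWith Q P e) (h' : IsOverWith Q P' e') : P = P' ∧ e = e' := by
  have he := isOverWith_pos h
  have he' := isOverWith_pos h'
  have hPP : P = P' := by
    apply eq_of_valuationRing_le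
    intro y hy
    by_cases hy0 : y = 0
    · rw [hy0, map_zero]; exact zero_le
    have h1 := isOverWith_ord h y
    have h2 := isOverWith_ord h' y
    rw [val_le_one_iff P hy0] at hy
    rw [val_le_one_iff P' hy0]
    have h3 : (0 : ℤ) ≤ (e : ℤ) * P.ord y := mul_nonneg (Nat.cast_nonneg e) hy
    have h4 : (0 : ℤ) ≤ (e' : ℤ) * P'.ord y := by rw [← h2, h1]; exact h3
    by_contra hneg
    rw [not_le] at hneg
    have h5 : (1 : ℤ) ≤ e' := by exact_mod_cast he'
    nlinarith
  refine ⟨hPP, ?_⟩
  subst hPP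
  obtain ⟨t, ht⟩ := exists_uniformizer P
  have ht0 : t ≠ 0 := by
    rintro rfl
    rw [map_zero] at ht
    exact exp_ne_zero ht.symm
  have h1 := isOverWith_ord h t
  have h2 := isOverWith_ord h' t
  have h3 : P.ord t = 1 := by
    rw [val_eq_exp_neg_ord P ht0, exp_inj] at ht
    omega
  rw [h3, mul_one] at h1 h2
  have : (e : ℤ) = e' := by rw [← h1, h2]
  exact_mod_cast this

theorem ramIdx_eq [Algebra.IsAlgebraic K K'] {Q : Place k K'} {P : Place k K} {e : ℕ}
    (h : IsOverWith Q P e) : ramIdx Q P = e := by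
  classical
  have hO : IsOver Q P := ⟨e, h⟩
  unfold ramIdx
  rw [dif_pos hO]
  exact (isOverWith_unique (Nat.find_spec hO) h).2

theorem isOverWith_ramIdx [Algebra.IsAlgebraic K K'] {Q : Place k K'} {P : Place k K}
    (h : IsOver Q P) : IsOverWith Q P (ramIdx Q P) := by
  obtain ⟨e, he⟩ := h
  rw [ramIdx_eq he]
  exact he

/-- every place of `K'` lies over a unique place of `K` -/
theorem exists_isOverWith [Algebra.IsAlgebraic K K'] (hK : IsFF1 k K) (Q : Place k K') :
    ∃ (P : Place k K) (e : ℕ), IsOverWith Q P e := by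
  set w : Valuation K ℤᵐ⁰ := Q.1.comap (algebraMap K K') with hw
  have hwapp : ∀ x, w x = Q.1 (algebraMap K K' x) := fun x => rfl
  have hk : ∀ c : k, algebraMap k K c ∈ w.valuationSubring := by
    intro c
    show Q.1 (algebraMap K K' (algebraMap k K c)) ≤ 1
    rw [← IsScalarTower.algebraMap_apply]
    exact val_algebraMap_le Q c
  have hO : w.valuationSubring ≠ ⊤ := by
    intro htop
    have hk' : ∀ c : K, algebraMap K K' c ∈ Q.1.valuationSubring := by
      intro c
      have : c ∈ w.valuationSubring := by rw [htop]; trivial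
      exact this
    obtain ⟨z, hz⟩ := exists_val_eq_exp Q 1
    have h1 : z ∈ Q.1.valuationSubring :=
      mem_of_isAlgebraic (k := K) Q.1.valuationSubring hk' (Algebra.IsAlgebraic.isAlgebraic z)
    have h2 : Q.1 z ≤ 1 := h1
    rw [hz, ← exp_zero, exp_le_exp] at h2
    omega
  obtain ⟨P, hP⟩ := exists_place_of_valuationSubring hK w.valuationSubring hk hO
  have hiff : ∀ x : K, P.1 x ≤ 1 ↔ w x ≤ 1 := by
    intro x
    have : x ∈ P.O ↔ x ∈ w.valuationSubring := by rw [hP]
    exact this
  have hunit : ∀ u : K, P.1 u = 1 → w u = 1 := by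
    intro u hu
    have hu0 : u ≠ 0 := by
      rintro rfl
      rw [map_zero] at hu
      exact zero_ne_one hu
    apply le_antisymm ((hiff u).mp hu.le)
    have h1 : w u⁻¹ ≤ 1 := (hiff u⁻¹).mp (by rw [map_inv₀, hu, inv_one])
    rw [map_inv₀] at h1
    by_contra hlt
    rw [not_le] at hlt
    have hwu0 : w u ≠ 0 := (Valuation.ne_zero_iff _).mpr hu0
    exact absurd h1 (not_le.mpr ((one_lt_inv₀ (zero_lt_iff.mpr hwu0)).mpr hlt))
  obtain ⟨t, ht⟩ := exists_uniformizer P
  have ht0 : t ≠ 0 := by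
    rintro rfl
    rw [map_zero] at ht
    exact exp_ne_zero ht.symm
  have ht'0 : algebraMap K K' t ≠ 0 := by rwa [Ne, map_eq_zero]
  have hwt : w t < 1 := by
    have h1 : ¬ P.1 t⁻¹ ≤ 1 := by
      rw [map_inv₀, ht, ← exp_neg, ← exp_zero, exp_le_exp]
      omega
    rw [hiff, map_inv₀, not_le] at h1
    have hwt0 : w t ≠ 0 := (Valuation.ne_zero_iff _).mpr ht0
    exact (one_lt_inv₀ (zero_lt_iff.mpr hwt0)).mp h1
  have hordt : 0 < Q.ord (algebraMap K K' t) := (val_lt_one_iff Q ht'0).mp hwt
  refine ⟨P, (Q.ord (algebraMap K K' t)).toNat, ?_⟩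
  intro x
  by_cases hx : x = 0
  · subst hx
    rw [map_zero, map_zero, map_zero, zero_pow]
    have := Int.toNat_of_nonneg hordt.le
    omega
  set n := P.ord x with hn
  have hu : P.1 (x * (t ^ n)⁻¹) = 1 := by
    rw [map_mul, map_inv₀, map_zpow₀, ht, val_eq_exp_neg_ord P hx, ← exp_zsmul, ← exp_neg,
      ← exp_add, ← exp_zero]
    congr 1
    simp only [smul_eq_mul]
    ring
  have h1 := hunit _ hu
  rw [hwapp, map_mul, map_inv₀, map_zpow₀, map_mul, map_inv₀, map_zpow₀] at h1
  have h2 : Q.1 (algebraMap K K' x) = Q.1 (algebraMap K K' t) ^ n := by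
    have h3 : Q.1 (algebraMap K K' t) ^ n ≠ 0 := zpow_ne_zero _ (val_ne_zero Q ht'0)
    field_simp at h1
    exact h1
  rw [h2, val_eq_exp_neg_ord Q ht'0, val_eq_exp_neg_ord P hx, ← exp_zsmul, ← exp_nsmul, exp_inj]
  simp only [smul_eq_mul, nsmul_eq_mul]
  rw [Int.toNat_of_nonneg hordt.le]
  ring

/-- a function with its only zero at `P` -/
theorem exists_single_zero (hK : IsFunctionField k K) (P : Place k K) :
    ∃ x : K, x ≠ 0 ∧ x ∉ Set.range (algebraMap k K) ∧ P.1 x < 1 ∧
      ∀ Q : Place k K, Q.1 x < 1 → Q = P := by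
  classical
  set g := genus k K with hg
  set D : Divisor k K := Finsupp.single P ((g : ℤ) + 1) with hD
  have hfdP := FF.finiteDimensional_residueField hK P
  have hPdeg : 1 ≤ P.deg := Module.finrank_pos
  have hdegD : (g : ℤ) + 1 ≤ D.deg := by
    rw [hD, deg_single]
    have : (1 : ℤ) ≤ P.deg := by exact_mod_cast hPdeg
    nlinarith
  have hex : ∃ y : K, y ∈ L D ∧ y ∉ Set.range (algebraMap k K) := by
    by_contra hcon
    push Not at hcon
    have hle : L D ≤ L (0 : Divisor k K) := by
      intro x hx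
      rw [L_zero_eq_one hK, Submodule.mem_one]
      exact hcon x hx
    have hfd := FF.finiteDimensional_L hK (0 : Divisor k K)
    have := Submodule.finrank_mono hle
    have h0 := ell_zero hK (k := k) (K := K)
    have h1 := delta_le_genus hK D
    unfold delta at h1
    unfold ell at h0 h1
    omega
  obtain ⟨y, hyL, hync⟩ := hex
  have hy0 : y ≠ 0 := by
    rintro rfl
    exact hync ⟨0, map_zero _⟩
  obtain ⟨P₀, hP₀⟩ := FF.exists_place_one_lt hK hync
  have hother : ∀ Q : Place k K, Q ≠ P → Q.1 y ≤ 1 := by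
    intro Q hQ
    have := hyL Q
    rwa [hD, Finsupp.single_eq_of_ne hQ, exp_zero] at this
  have hP₀P : P₀ = P := by
    by_contra hne'
    exact absurd (hother P₀ hne') (not_le.mpr hP₀)
  rw [hP₀P] at hP₀
  refine ⟨y⁻¹, inv_ne_zero hy0, inv_not_mem_range hync, ?_, ?_⟩
  · rw [map_inv₀]
    exact inv_lt_one_of_one_lt₀ hP₀
  · intro Q hQ
    by_contra hne
    have h1 := hother Q hne
    rw [map_inv₀] at hQ
    have h2 : 1 < Q.1 y := (inv_lt_one₀ (zero_lt_iff.mpr (val_ne_zero Q hy0))).mp hQ
    exact absurd h1 (not_le.mpr h2)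

/-- **Fundamental equality**: `∑_{Q | P} e(Q|P) deg Q = [K' : K] deg P` -/
theorem sum_ramIdx_mul_deg [FiniteDimensional K K'] (hK : IsFunctionField k K) (P : Place k K) :
    {Q : Place k K' | IsOver Q P}.Finite ∧
    ∀ Qs : Finset (Place k K'), (∀ Q, Q ∈ Qs ↔ IsOver Q P) →
      ∑ Q ∈ Qs, ramIdx Q P * Q.deg = finrank K K' * P.deg := by
  classical
  have hK1 : IsFF1 k K := hK.1
  have hK' : IsFF1 k K' := isFF1_of_finite K' hK1
  obtain ⟨x, hx0, hxnc, hPx, hxP⟩ := exists_single_zero hK P
  have hxtr : Transcendental k x := transcendental_of_not_mem_range hK hxnc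
  have hx'tr : Transcendental k (algebraMap K K' x) :=
    (transcendental_algebraMap_iff (algebraMap K K').injective).mpr hxtr
  have hx'0 : algebraMap K K' x ≠ 0 := by rwa [Ne, map_eq_zero]
  have hset : ∀ Q : Place k K', IsOver Q P ↔ Q.1 (algebraMap K K' x) < 1 := by
    intro Q
    constructor
    · rintro ⟨e, he⟩
      rw [he x]
      exact pow_lt_one₀ zero_le hPx (by have := isOverWith_pos he; omega)
    · intro hQ
      obtain ⟨P', e, he⟩ := exists_isOverWith hK1 Q
      rw [he x] at hQ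
      have h1 : P'.1 x < 1 := by
        by_contra hge
        rw [not_lt] at hge
        exact absurd hQ (not_lt.mpr (one_le_pow₀ hge))
      rw [hxP P' h1] at he
      exact ⟨e, he⟩
  have hfin : {Q : Place k K' | IsOver Q P}.Finite := by
    have := zeros_finite hK' hx'tr
    refine this.subset ?_
    intro Q hQ
    exact (hset Q).mp hQ
  refine ⟨hfin, ?_⟩
  intro Qs hQs
  -- degrees
  have hm : 0 < P.ord x := (val_lt_one_iff P hx0).mp hPx
  have hz : FF.zeroDiv k x = Finsupp.single P (P.ord x) := by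
    ext Q
    rw [FF.zeroDiv_apply hK]
    by_cases hQ : Q = P
    · subst hQ
      rw [Finsupp.single_eq_same, max_eq_left hm.le]
    · rw [Finsupp.single_eq_of_ne hQ]
      have h1 : ¬ Q.1 x < 1 := fun h => hQ (hxP Q h)
      rw [val_lt_one_iff Q hx0] at h1
      exact max_eq_right (by omega)
  have hd1 := FF.deg_zeroDiv_eq hK hxnc
  rw [hz, deg_single] at hd1
  have hd2 := deg_zeroDiv_eq hK' hx'tr
  rw [finrank_adjoin_algebraMap] at hd2
  have hsupp : (FF.zeroDiv k (algebraMap K K' x)).support = Qs := by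
    ext Q
    rw [Finsupp.mem_support_iff, zeroDiv_apply hK', hQs, hset, val_lt_one_iff Q hx'0]
    constructor
    · intro h
      by_contra hle
      exact h (max_eq_right (by omega))
    · intro h
      rw [max_eq_left h.le]
      exact h.ne'
  have hd3 : (FF.zeroDiv k (algebraMap K K' x)).deg =
      ∑ Q ∈ Qs, ((ramIdx Q P : ℤ) * P.ord x) * (Q.deg : ℤ) := by
    unfold Divisor.deg Finsupp.sum
    rw [hsupp]
    apply Finset.sum_congr rfl
    intro Q hQ
    have hover := isOverWith_ramIdx ((hQs Q).mp hQ)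
    have hpos : 0 < Q.ord (algebraMap K K' x) :=
      (val_lt_one_iff Q hx'0).mp ((hset Q).mp ((hQs Q).mp hQ))
    rw [zeroDiv_apply hK', max_eq_left hpos.le, isOverWith_ord hover]
  rw [hd3] at hd2
  have key : (P.ord x) * ((∑ Q ∈ Qs, ramIdx Q P * Q.deg : ℕ) : ℤ) =
      (P.ord x) * ((finrank K K' * P.deg : ℕ) : ℤ) := by
    push_cast
    rw [Finset.mul_sum]
    have e1 : ∑ Q ∈ Qs, P.ord x * ((ramIdx Q P : ℤ) * (Q.deg : ℤ)) =
        ∑ Q ∈ Qs, ((ramIdx Q P : ℤ) * P.ord x) * (Q.deg : ℤ) :=
      Finset.sum_congr rfl fun Q _ => by ring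
    rw [e1, hd2]
    push_cast
    rw [← hd1]
    ring
  have := mul_left_cancel₀ hm.ne' key
  exact_mod_cast this

end Groth.Agent.Lib.helper16.FX
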