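import Groth.Agent.Lib.helper16.FGeom2
import Groth.Agent.Lib.helper16.FXExt

set_option autoImplicit false
set_option linter.style.haveILetI false

/-! Helper library (helper16): constant field extensions of function fields. -/
universe u v
open FunFld TensorProduct

namespace Groth.Agent.Lib.helper16.FCE

section
variable (k k' : Type u) (K K' : Type v) [Field k] [Field k'] [Field K] [Field K']
    [Algebra k k'] [Algebra k K] [Algebra K K'] [Algebra k' K'] [Algebra k K']
    [IsScalarTower k k' K'] [IsScalarTower k K K']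

/-- the `k'`-algebra equivalence `k' ⊗[k] K ≃ K'`. -/
noncomputable def baseEquiv
    (h : Function.Bijective (Algebra.TensorProduct.productMap
      (IsScalarTower.toAlgHom k k' K') (IsScalarTower.toAlgHom k K K'))) :
    k' ⊗[k] K ≃ₐ[k'] K' :=
  AlgEquiv.ofBijective
    (Algebra.TensorProduct.productLeftAlgHom (Algebra.ofId k' K') (IsScalarTower.toAlgHom k K K'))
    h

theorem baseEquiv_tmul
    (h : Function.Bijective (Algebra.TensorProduct.productMap
      (IsScalarTower.toAlgHom k k' K') (IsScalarTower.toAlgHom k K K'))) (a : k') (b : K) :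
    baseEquiv k k' K K' h (a ⊗ₜ b) = algebraMap k' K' a * algebraMap K K' b := rfl

theorem isGeometric_base
    (h : Function.Bijective (Algebra.TensorProduct.productMap
      (IsScalarTower.toAlgHom k k' K') (IsScalarTower.toAlgHom k K K')))
    [FiniteDimensional k k'] (hg : IsGeometric k K) : IsGeometric k' K' := by
  intro k'' _ _ hfd
  letI : Algebra k k'' := ((algebraMap k' k'').comp (algebraMap k k')).toAlgebra
  haveI : IsScalarTower k k' k'' := IsScalarTower.of_algebraMap_eq fun _ => rfl
  haveI : FiniteDimensional k k'' := Module.Finite.trans k' k''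
  have h1 : IsField (k'' ⊗[k] K) := hg k'' inferInstance
  have e1 : k'' ⊗[k'] K' ≃ₐ[k'] k'' ⊗[k'] (k' ⊗[k] K) :=
    Algebra.TensorProduct.congr AlgEquiv.refl (baseEquiv k k' K K' h).symm
  have e2 : k'' ⊗[k'] (k' ⊗[k] K) ≃ₐ[k'] k'' ⊗[k] K :=
    Algebra.TensorProduct.cancelBaseChange k k' k' k'' K
  exact MulEquiv.isField h1 (e1.trans e2).toMulEquiv

end

end Groth.Agent.Lib.helper16.FCE

namespace Groth.Agent.Lib.helper16.FCE
open Polynomial

/-- In a geometric extension, the base field is algebraically closed. -/
theorem mem_range_of_isAlgebraic {k : Type u} {K : Type v} [Field k] [Field K] [Algebra k K]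
    (hg : IsGeometric k K) (z : K) (hz : IsAlgebraic k z) : z ∈ Set.range (algebraMap k K) := by
  have hint : IsIntegral k z := hz.isIntegral
  obtain ⟨f, hf⟩ : ∃ f, f = minpoly k z := ⟨_, rfl⟩
  have hirr : Irreducible f := hf ▸ minpoly.irreducible hint
  haveI : Fact (Irreducible f) := ⟨hirr⟩
  have hf0 : f ≠ 0 := hirr.ne_zero
  have hfd : FiniteDimensional k (AdjoinRoot f) := (AdjoinRoot.powerBasis hf0).finite
  have hT : IsField (AdjoinRoot f ⊗[k] K) := hg (AdjoinRoot f) hfd
  have hT' : IsField (K ⊗[k] AdjoinRoot f) :=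
    MulEquiv.isField hT (Algebra.TensorProduct.comm k K (AdjoinRoot f)).toMulEquiv
  have hroot : aeval z f = 0 := hf ▸ minpoly.aeval k z
  let ψ : K ⊗[k] AdjoinRoot f →ₐ[K] K :=
    Algebra.TensorProduct.productLeftAlgHom (AlgHom.id K K) (AdjoinRoot.liftAlgHom f (Algebra.ofId k K) z hroot)
  have hψ : Function.Injective ψ := by
    rw [injective_iff_map_eq_zero]
    intro x hx
    by_contra hx0
    obtain ⟨y, hy⟩ := hT'.mul_inv_cancel hx0
    have := congrArg ψ hy
    rw [map_mul, hx, zero_mul, map_one] at this
    exact zero_ne_one this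
  have h1 : Module.finrank K (K ⊗[k] AdjoinRoot f) ≤ Module.finrank K K :=
    LinearMap.finrank_le_finrank_of_injective (f := ψ.toLinearMap) hψ
  rw [Module.finrank_baseChange, Module.finrank_self, (AdjoinRoot.powerBasis hf0).finrank,
    AdjoinRoot.powerBasis_dim] at h1
  have h2 : 0 < f.natDegree := hirr.natDegree_pos
  have h3 : (minpoly k z).natDegree = 1 := by rw [← hf]; omega
  exact minpoly.natDegree_eq_one_iff.mp h3

end Groth.Agent.Lib.helper16.FCE

namespace Groth.Agent.Lib.helper16.FCE
open Polynomial Groth.Agent.Lib.helper16.FX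
open scoped IntermediateField

section
variable (k k' : Type u) (K K' : Type v) [Field k] [Field k'] [Field K] [Field K']
    [Algebra k k'] [Algebra k K] [Algebra K K'] [Algebra k' K'] [Algebra k K']
    [IsScalarTower k k' K'] [IsScalarTower k K K']

theorem finite_of_surjective [FiniteDimensional k k']
    (h : Function.Surjective (Algebra.TensorProduct.productMap
      (IsScalarTower.toAlgHom k k' K') (IsScalarTower.toAlgHom k K K'))) :
    Module.Finite K K' := by
  let φ : K ⊗[k] k' →ₐ[K] K' :=
    Algebra.TensorProduct.productLeftAlgHom (Algebra.ofId K K') (IsScalarTower.toAlgHom k k' K')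
  have hφ : Function.Surjective φ := by
    intro y
    obtain ⟨t, rfl⟩ := h y
    refine ⟨Algebra.TensorProduct.comm k k' K t, ?_⟩
    induction t using TensorProduct.induction_on with
    | zero => simp
    | tmul a b =>
      simp only [Algebra.TensorProduct.comm_tmul, Algebra.TensorProduct.productMap_apply_tmul]
      show algebraMap K K' b * algebraMap k' K' a = algebraMap k' K' a * algebraMap K K' b
      exact mul_comm _ _
    | add x y hx hy => rw [map_add, map_add, map_add, hx, hy]
  exact Module.Finite.of_surjective φ.toLinearMap hφ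

theorem finiteDimensional_adjoin_of_le [Algebra.IsAlgebraic k k'] (x : K')
    (hfd : FiniteDimensional k⟮x⟯ K') : FiniteDimensional k'⟮x⟯ K' := by
  have hle : k⟮x⟯ ≤ (k'⟮x⟯).restrictScalars k := by
    rw [IntermediateField.adjoin_le_iff]
    intro y hy
    rw [Set.mem_singleton_iff.mp hy]
    exact IntermediateField.mem_adjoin_simple_self k' x
  letI : Algebra k⟮x⟯ k'⟮x⟯ := (IntermediateField.inclusion hle).toRingHom.toAlgebra
  haveI : IsScalarTower k⟮x⟯ k'⟮x⟯ K' := IsScalarTower.of_algebraMap_eq fun _ => rfl
  exact Module.Finite.of_restrictScalars_finite k⟮x⟯ k'⟮x⟯ K'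

theorem isFF1_base [FiniteDimensional k k']
    (h : Function.Surjective (Algebra.TensorProduct.productMap
      (IsScalarTower.toAlgHom k k' K') (IsScalarTower.toAlgHom k K K')))
    (hK : IsFF1 k K) : IsFF1 k' K' := by
  haveI : Module.Finite K K' := finite_of_surjective k k' K K' h
  obtain ⟨x, hx, hfd⟩ := isFF1_of_finite (K' := K') hK
  refine ⟨x, ?_, finiteDimensional_adjoin_of_le k k' K' x hfd⟩
  intro halg
  exact hx (halg.restrictScalars k)

end
end Groth.Agent.Lib.helper16.FCE
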