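import Groth.Agent.Lib.helper16.FFRes
import Mathlib.RingTheory.Valuation.Integral
import Mathlib.FieldTheory.FinTrdeg
import Mathlib.FieldTheory.IntermediateField.Adjoin.Algebra
import Mathlib.RingTheory.AlgebraicIndependent.TranscendenceBasis

/-! Helper library (helper16): function fields of one variable whose constant field need not be
algebraically closed in them: residue fields, finiteness of zeros and poles. -/

set_option autoImplicit false

namespace Groth.Agent.Lib.helper16.FX

open FunFld WithZero Polynomial Groth.Agent.Lib.helper16.FF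
open scoped IntermediateField IntermediateField.algebraAdjoinAdjoin

variable {k K : Type*} [Field k] [Field K] [Algebra k K]

/-- `K/k` is finitely generated of transcendence degree one (constants not assumed algebraically
closed in `K`) -/
def IsFF1 (k K : Type*) [Field k] [Field K] [Algebra k K] : Prop :=
  ∃ x : K, Transcendental k x ∧ FiniteDimensional k⟮x⟯ K

theorem isFF1_of_isFunctionField (hK : IsFunctionField k K) : IsFF1 k K := hK.1

theorem finiteDimensional_of_transcendental (hK : IsFF1 k K) {x : K}
    (hx : Transcendental k x) : FiniteDimensional k⟮x⟯ K := by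
  obtain ⟨x₀, hx₀, hfin⟩ := hK
  have halg0 : Algebra.IsAlgebraic k⟮x₀⟯ K := inferInstance
  have halg1 : Algebra.IsAlgebraic (Algebra.adjoin k {x₀}) k⟮x₀⟯ :=
    IsLocalization.isAlgebraic _ (nonZeroDivisors (Algebra.adjoin k {x₀}))
  have halg2 : Algebra.IsAlgebraic (Algebra.adjoin k {x₀}) K :=
    Algebra.IsAlgebraic.trans (Algebra.adjoin k {x₀}) k⟮x₀⟯ K
  have htr : Algebra.trdeg k K ≤ 1 := by
    have := Algebra.IsAlgebraic.trdeg_le_cardinalMk k ({x₀} : Set K)
    simpa using this
  have hind : AlgebraicIndependent k (fun _ : Unit => x) :=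
    algebraicIndependent_unique_type_iff.mpr hx
  have hbasis : IsTranscendenceBasis k (fun _ : Unit => x) :=
    hind.isTranscendenceBasis_of_lift_trdeg_le_of_finite (by simpa using htr)
  have halg : Algebra.IsAlgebraic k⟮x⟯ K := by
    have := hbasis.isAlgebraic_field
    rwa [Set.range_const] at this
  have h1 : Algebra.EssFiniteType k k⟮x₀⟯ :=
    IntermediateField.essFiniteType_iff.mpr ⟨{x₀}, by simp⟩
  have h2 : Algebra.EssFiniteType k⟮x₀⟯ K := inferInstance
  have h3 : Algebra.EssFiniteType k K := Algebra.EssFiniteType.comp k k⟮x₀⟯ K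
  have h4 : Algebra.EssFiniteType k⟮x⟯ K := Algebra.EssFiniteType.of_comp k k⟮x⟯ K
  exact Algebra.finite_of_essFiniteType_of_isAlgebraic

/-- a place is trivial on the elements algebraic over `k` -/
theorem val_le_one_of_isAlgebraic (P : Place k K) {x : K} (hx : IsAlgebraic k x) : P.1 x ≤ 1 := by
  have hint : IsIntegral k x := hx.isIntegral
  have : IsScalarTower k P.O K := IsScalarTower.of_algebraMap_eq (fun _ => rfl)
  have hint' : IsIntegral P.O x := hint.tower_top
  exact (Valuation.valuationSubring.integers P.1).mem_of_integral hint'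

theorem val_eq_one_of_isAlgebraic (P : Place k K) {x : K} (hx : IsAlgebraic k x) (hx0 : x ≠ 0) :
    P.1 x = 1 := by
  apply le_antisymm (val_le_one_of_isAlgebraic P hx)
  have h1 := val_le_one_of_isAlgebraic P hx.inv
  rw [map_inv₀] at h1
  by_contra hlt
  rw [not_le] at hlt
  have h2 : 1 < (P.1 x)⁻¹ := (one_lt_inv₀ (zero_lt_iff.mpr (val_ne_zero P hx0))).mpr hlt
  exact absurd h1 (not_le.mpr h2)

theorem transcendental_of_val_ne_one (P : Place k K) {x : K} (hx0 : x ≠ 0) (hx : P.1 x ≠ 1) :
    Transcendental k x := fun h => hx (val_eq_one_of_isAlgebraic P h hx0)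

theorem transcendental_of_val_lt_one (P : Place k K) {x : K} (hx0 : x ≠ 0) (hx : P.1 x < 1) :
    Transcendental k x := transcendental_of_val_ne_one P hx0 hx.ne

theorem ord_eq_zero_of_isAlgebraic (P : Place k K) {x : K} (hx : IsAlgebraic k x) :
    P.ord x = 0 := by
  by_cases hx0 : x = 0
  · subst hx0; exact ord_zero P
  · unfold Place.ord
    rw [val_eq_one_of_isAlgebraic P hx hx0]
    simp

/-- a family in `O_P` whose residues are `k`-independent has at most `[K : k(x)] / ord_P x` elements -/
theorem card_mul_le_of_linearIndependent_residue (hK : IsFF1 k K) (P : Place k K)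
    {x : K} (hx0 : x ≠ 0) (e : ℕ) (he : P.1 x = exp (-(e : ℤ))) (he1 : 1 ≤ e)
    {A : Type*} [Fintype A] (s : A → P.O)
    (hs : LinearIndependent k (fun a => IsLocalRing.residue P.O (s a))) :
    have := finiteDimensional_of_transcendental hK
      (transcendental_of_val_lt_one P hx0 (by rw [he, ← exp_zero, exp_lt_exp]; omega))
    Fintype.card A * e ≤ Module.finrank k⟮x⟯ K := by
  classical
  have := finiteDimensional_of_transcendental hK
      (transcendental_of_val_lt_one P hx0 (by rw [he, ← exp_zero, exp_lt_exp]; omega))
  have := fundamental_inequality (ι := Unit) (A := A) (fun _ => P)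
    (fun _ _ _ => rfl) x (fun _ => e) (fun _ => he) (fun _ => ()) (fun a => (s a : K))
    (fun a => (s a).2) ?_
  · simpa using this
  · intro i c hc a _
    have h1 : (∑ a, if (fun _ : A => ()) a = i then c a • (s a : K) else 0) =
        ((∑ a, c a • s a : P.O) : K) := by
      rw [coe_sum_O]
      apply Finset.sum_congr rfl
      intro a _
      rw [if_pos rfl, coe_smul_O]
    rw [h1, ← residue_eq_zero_iff, map_sum] at hc
    simp only [residue_smul] at hc
    exact Fintype.linearIndependent_iff.mp hs c hc a

theorem finiteDimensional_residueField (hK : IsFF1 k K) (P : Place k K) :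
    FiniteDimensional k (IsLocalRing.ResidueField P.O) := by
  classical
  obtain ⟨π, hπ⟩ := exists_uniformizer P
  have hπ0 : π ≠ 0 := by
    rintro rfl
    rw [map_zero] at hπ
    exact exp_ne_zero hπ.symm
  have hπlt : P.1 π < 1 := by rw [hπ, ← exp_zero, exp_lt_exp]; omega
  have := finiteDimensional_of_transcendental hK (transcendental_of_val_lt_one P hπ0 hπlt)
  rw [FiniteDimensional, ← Module.rank_lt_aleph0_iff]
  refine lt_of_le_of_lt (rank_le (n := Module.finrank k⟮π⟯ K) ?_) Cardinal.natCast_lt_aleph0
  intro S hS
  have hsurj := IsLocalRing.residue_surjective (R := P.O)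
  choose lift hlift using hsurj
  have := card_mul_le_of_linearIndependent_residue hK P hπ0 1 (by simpa using hπ) le_rfl
    (fun a : S => lift a.1) (by simpa only [hlift] using hS)
  simpa using this

/-- finitely many zeros, with the bound by the degree -/
theorem card_zeros_le (hK : IsFF1 k K) {x : K}
    (hx : Transcendental k x) (S : Finset (Place k K))
    (hS : ∀ P ∈ S, P.1 x < 1) :
    haveI := finiteDimensional_of_transcendental hK hx
    S.card ≤ Module.finrank k⟮x⟯ K := by
  classical
  have := finiteDimensional_of_transcendental hK hx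
  have hx0 : x ≠ 0 := by
    rintro rfl
    exact hx (isAlgebraic_zero)
  have hord : ∀ i : S, 0 < (i : Place k K).ord x := fun i =>
    (val_lt_one_iff _ hx0).mp (hS i.1 i.2)
  have := fundamental_inequality (ι := S) (A := S) (fun i => (i : Place k K))
    Subtype.val_injective x (fun i => ((i : Place k K).ord x).toNat) (fun i => by
      rw [val_eq_exp_neg_ord _ hx0]
      congr 2
      have := hord i
      omega) id (fun _ => 1) (fun a => by simp) ?_
  · refine le_trans ?_ this
    have h1 : S.card = ∑ _a : S, 1 := by simp
    rw [h1]
    apply Finset.sum_le_sum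
    intro i _
    have := hord i
    simp only [id_eq]
    omega
  · intro i c hc a hai
    simp only [id_eq] at hc hai
    subst hai
    rw [Finset.sum_eq_single a] at hc
    · rw [if_pos rfl] at hc
      by_contra hne
      rw [val_smul _ hne, map_one] at hc
      exact lt_irrefl _ hc
    · intro b _ hb
      rw [if_neg hb]
    · intro h; exact absurd (Finset.mem_univ _) h

theorem zeros_finite (hK : IsFF1 k K) {x : K}
    (hx : Transcendental k x) : {P : Place k K | P.1 x < 1}.Finite := by
  classical
  by_contra hinf
  have hinf' : {P : Place k K | P.1 x < 1}.Infinite := hinf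
  have := finiteDimensional_of_transcendental hK hx
  obtain ⟨t, ht, hcard⟩ := hinf'.exists_subset_card_eq (Module.finrank k⟮x⟯ K + 1)
  have := card_zeros_le hK hx t (fun P hP => ht hP)
  omega

theorem transcendental_inv {x : K} (hx : Transcendental k x) : Transcendental k x⁻¹ := by
  intro h
  apply hx
  have := h.inv
  rwa [inv_inv] at this

theorem poles_finite (hK : IsFF1 k K) {x : K}
    (hx : Transcendental k x) : {P : Place k K | 1 < P.1 x}.Finite := by
  have := zeros_finite hK (transcendental_inv hx)
  refine this.subset ?_
  intro P hP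
  simp only [Set.mem_ofPred_eq, map_inv₀] at hP ⊢
  exact inv_lt_one_of_one_lt₀ hP

theorem finite_support_ord (hK : IsFF1 k K) (x : K) :
    (Function.support fun P : Place k K => P.ord x).Finite := by
  by_cases hx : IsAlgebraic k x
  · have : (Function.support fun P : Place k K => P.ord x) = ∅ := by
      ext P
      simp [ord_eq_zero_of_isAlgebraic P hx]
    rw [this]
    exact Set.finite_empty
  · refine ((zeros_finite hK hx).union (poles_finite hK hx)).subset ?_
    intro P hP
    simp only [Function.mem_support, ne_eq] at hP
    have hx0 : x ≠ 0 := by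
      rintro rfl
      exact hx isAlgebraic_zero
    rcases lt_trichotomy (P.ord x) 0 with h | h | h
    · right; exact (one_lt_val_iff P hx0).mpr h
    · exact absurd h hP
    · left; exact (val_lt_one_iff P hx0).mpr h

theorem div_apply (hK : IsFF1 k K) (x : K) (P : Place k K) :
    FunFld.div k x P = P.ord x := by
  unfold FunFld.div
  rw [dif_pos (finite_support_ord hK x)]
  rfl

end Groth.Agent.Lib.helper16.FX
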