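import Groth.Agent.Lib.helper16.FGeom2
import Groth.Agent.Lib.helper16.FX1
import Mathlib

set_option autoImplicit false

/-! Helper library (helper16): separating variables and differentials of geometric function
fields. -/

namespace Groth.Agent.Lib.helper16.FS

open FunFld Polynomial Module
open scoped TensorProduct IntermediateField

universe u v

theorem pow_indep_aux {k K k' : Type*} [Field k] [Field K] [Field k'] [Algebra k K]
    [Algebra k k'] (p : ℕ) [hp : Fact p.Prime] [CharP k p] (hT : IsField (k' ⊗[k] K))
    {ι : Type*} [Fintype ι] (v : ι → K) (hv : LinearIndependent k v) (g : ι → k) (r' : ι → k')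
    (hr' : ∀ i, r' i ^ p = algebraMap k k' (g i)) (hg0 : ∑ i, g i • v i ^ p = 0) :
    ∀ i, g i = 0 := by
  classical
  have hdom : IsDomain (k' ⊗[k] K) := hT.isDomain
  have hnt : Nontrivial (k' ⊗[k] K) := hT.nontrivial
  have hchar : CharP (k' ⊗[k] K) p :=
    charP_of_injective_ringHom (algebraMap k (k' ⊗[k] K)).injective p
  have hzp : (∑ i, r' i ⊗ₜ[k] v i) ^ p = 0 := by
    rw [sum_pow_char p]
    have h2 : ∀ i : ι, (r' i ⊗ₜ[k] v i) ^ p = (1 : k') ⊗ₜ[k] (g i • v i ^ p) := by
      intro i
      rw [Algebra.TensorProduct.tmul_pow, hr', Algebra.algebraMap_eq_smul_one,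
        TensorProduct.smul_tmul]
    rw [Finset.sum_congr rfl (fun i _ => h2 i), ← TensorProduct.tmul_sum, hg0,
      TensorProduct.tmul_zero]
  have hz : (∑ i, r' i ⊗ₜ[k] v i) = 0 := by
    by_contra hz
    exact pow_ne_zero p hz hzp
  have hli := Module.Flat.linearIndependent_one_tmul (S := k') hv
  rw [Fintype.linearIndependent_iff] at hli
  have h3 : ∑ i, r' i • ((1 : k') ⊗ₜ[k] v i) = 0 := by
    rw [← hz]
    apply Finset.sum_congr rfl
    intro i _
    rw [TensorProduct.smul_tmul', smul_eq_mul, mul_one]
  intro i
  have h4 := hli r' h3 i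
  have h5 : algebraMap k k' (g i) = 0 := by rw [← hr', h4, zero_pow hp.out.ne_zero]
  exact (map_eq_zero_iff _ (algebraMap k k').injective).mp h5

/-- Mac Lane's condition from geometricity: `p`-th powers of `k`-independent elements stay
`k`-independent -/
theorem linearIndepOn_pow_of_isGeometric {k : Type u} {K : Type v} [Field k] [Field K]
    [Algebra k K] (p : ℕ) [hp : Fact p.Prime] [CharP k p] (hg : IsGeometric k K) (s : Finset K)
    (hs : LinearIndepOn k _root_.id (s : Set K)) : LinearIndepOn k (· ^ p) (s : Set K) := by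
  classical
  unfold LinearIndepOn at hs ⊢
  rw [Fintype.linearIndependent_iff]
  intro g hg0
  -- `p`-th roots of the coefficients
  have hroot : ∀ i : ↥(s : Set K), ∃ r : AlgebraicClosure k,
      r ^ p = algebraMap k (AlgebraicClosure k) (g i) :=
    fun i => IsAlgClosed.exists_pow_nat_eq _ hp.out.pos
  choose r hr using hroot
  obtain ⟨k', hk'⟩ : ∃ k' : IntermediateField k (AlgebraicClosure k),
      k' = IntermediateField.adjoin k (Set.range r) := ⟨_, rfl⟩
  have hfin : FiniteDimensional k k' := by
    rw [hk']
    exact IntermediateField.finiteDimensional_adjoin fun x _ => (Algebra.IsIntegral.isIntegral x)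
  have hT := hg k' hfin
  have hmem : ∀ i, r i ∈ k' := fun i => by
    rw [hk']
    exact IntermediateField.subset_adjoin _ _ ⟨i, rfl⟩
  exact pow_indep_aux p hT (fun i : ↥(s : Set K) => (i : K)) hs g (fun i => ⟨r i, hmem i⟩)
    (fun i => Subtype.ext (hr i)) hg0

/-- a geometric function field of one variable has a separating variable -/
theorem exists_separating {k : Type u} {K : Type v} [Field k] [Field K] [Algebra k K]
    (hK : IsFunctionField k K) (hg : IsGeometric k K) :
    ∃ x : K, Transcendental k x ∧ Algebra.IsSeparable k⟮x⟯ K := by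
  classical
  obtain ⟨⟨x, hx, hfd⟩, -⟩ := hK
  obtain _ | ⟨p, hp, hpk⟩ := CharP.exists' k
  · -- characteristic zero
    refine ⟨x, hx, ?_⟩
    have : CharZero k⟮x⟯ := charZero_of_injective_algebraMap (algebraMap k k⟮x⟯).injective
    exact Algebra.IsAlgebraic.isSeparable_of_perfectField
  · have : ExpChar k p := .prime hp.out
    have hess1 : Algebra.EssFiniteType k k⟮x⟯ :=
      IntermediateField.essFiniteType_iff.mpr (IntermediateField.fg_adjoin_of_finite (Set.finite_singleton x))
    have hess2 : Algebra.EssFiniteType k⟮x⟯ K := inferInstance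
    have hess : Algebra.EssFiniteType k K := Algebra.EssFiniteType.comp k k⟮x⟯ K
    obtain ⟨s, hs, hsep⟩ :=
      exists_isTranscendenceBasis_and_isSeparable_of_linearIndepOn_pow_of_essFiniteType p hp.out
        (fun s hs => linearIndepOn_pow_of_isGeometric p hg s hs)
    have hxb : IsTranscendenceBasis k (fun _ : Unit => x) := by
      rw [isTranscendenceBasis_iff_algebraicIndependent_isAlgebraic]
      refine ⟨algebraicIndependent_unique_type_iff.mpr hx, ?_⟩
      have h1 : Set.range (fun _ : Unit => x) = {x} := by
        ext y; simp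
      rw [h1]
      have : Algebra.IsAlgebraic k⟮x⟯ K := Algebra.IsAlgebraic.of_finite _ _
      exact IntermediateField.isAlgebraic_adjoin_iff_top.mp this
    have hcard := hs.lift_cardinalMk_eq hxb
    have hc1 : s.card = 1 := by
      simpa using hcard
    obtain ⟨a, rfl⟩ := Finset.card_eq_one.mp hc1
    refine ⟨a, ?_, ?_⟩
    · exact hs.1.transcendental ⟨a, Finset.mem_singleton_self a⟩
    · rwa [Finset.coe_singleton] at hsep

end Groth.Agent.Lib.helper16.FS
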