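import Groth.Agent.Lib.helper16.FPlaneKer
import Groth.Agent.Lib.helper16.FSep
import Groth.Agent.Lib.helper16.FConstExt
import Mathlib.LinearAlgebra.TensorProduct.Basis
import Mathlib.RingTheory.MvPolynomial.Tower

/-! Helper library (helper16): geometric function fields and absolutely irreducible plane
models (S11008). -/

set_option autoImplicit false
set_option linter.style.haveILetI false

universe u v

namespace Groth.Agent.Lib.helper16.FAbI

open FunFld TensorProduct MvPolynomial
open Groth.Agent.Lib.helper16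
open scoped IntermediateField

section decomp

variable {k k' : Type*} [Field k] [Field k'] [Algebra k k'] {σ : Type*}

/-- polynomials over `k'` decompose along a basis of `k'/k` -/
theorem exists_decomp {ι : Type*} [Fintype ι] (b : Module.Basis ι k k')
    (A : MvPolynomial σ k') :
    ∃ Aj : ι → MvPolynomial σ k, A = ∑ j, C (b j) * MvPolynomial.map (algebraMap k k') (Aj j) := by
  classical
  induction A using MvPolynomial.induction_on with
  | C a =>
    refine ⟨fun j => C (b.repr a j), ?_⟩
    simp only [map_C]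
    simp only [← C_mul, ← map_sum]
    congr 1
    conv_lhs => rw [← b.sum_repr a]
    apply Finset.sum_congr rfl
    intro j _
    rw [Algebra.smul_def, mul_comm]
  | add p q hp hq =>
    obtain ⟨P, hP⟩ := hp
    obtain ⟨Q, hQ⟩ := hq
    refine ⟨fun j => P j + Q j, ?_⟩
    simp only [map_add, mul_add, Finset.sum_add_distrib]
    rw [← hP, ← hQ]
  | mul_X p i hp =>
    obtain ⟨P, hP⟩ := hp
    refine ⟨fun j => P j * X i, ?_⟩
    simp only [map_mul, map_X, ← mul_assoc]
    rw [← Finset.sum_mul, ← hP]

end decomp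

section theta

variable {k k' K : Type*} [Field k] [Field k'] [Algebra k k'] [Field K] [Algebra k K]

/-- evaluation at `(1 ⊗ x, 1 ⊗ y)` -/
noncomputable def Theta (k k' : Type*) {K : Type*} [Field k] [Field k'] [Algebra k k'] [Field K]
    [Algebra k K] (x y : K) :
    MvPolynomial (Fin 2) k' →ₐ[k'] k' ⊗[k] K :=
  aeval ![(1 : k') ⊗ₜ[k] x, (1 : k') ⊗ₜ[k] y]

theorem Theta_map (x y : K) (P : MvPolynomial (Fin 2) k) :
    Theta k k' x y (MvPolynomial.map (algebraMap k k') P) = (1 : k') ⊗ₜ[k] (aeval ![x, y] P) := by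
  unfold Theta
  rw [aeval_map_algebraMap]
  have h1 := comp_aeval_apply (f := ![x, y])
    (Algebra.TensorProduct.includeRight : K →ₐ[k] k' ⊗[k] K) P
  rw [Algebra.TensorProduct.includeRight_apply] at h1
  rw [h1]
  congr 2
  funext i
  fin_cases i <;> rfl

theorem Theta_C_mul_map (x y : K) (c : k') (P : MvPolynomial (Fin 2) k) :
    Theta k k' x y (C c * MvPolynomial.map (algebraMap k k') P) = c ⊗ₜ[k] (aeval ![x, y] P) := by
  rw [map_mul, Theta_map]
  unfold Theta
  rw [aeval_C, Algebra.TensorProduct.algebraMap_apply, Algebra.TensorProduct.tmul_mul_tmul,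
    mul_one, one_mul]
  rfl

/-- the kernel of `Theta` is generated by `f` when `f` generates the relations over `k` -/
theorem dvd_of_Theta_eq_zero [FiniteDimensional k k'] (x y : K) {f : MvPolynomial (Fin 2) k}
    (hf : ∀ P : MvPolynomial (Fin 2) k, aeval ![x, y] P = 0 → f ∣ P)
    {A : MvPolynomial (Fin 2) k'} (hA : Theta k k' x y A = 0) :
    MvPolynomial.map (algebraMap k k') f ∣ A := by
  classical
  let b := Module.finBasis k k'
  obtain ⟨Aj, hAj⟩ := exists_decomp b A
  rw [hAj, map_sum] at hA
  simp only [Theta_C_mul_map] at hA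
  have h1 : (Finsupp.equivFunOnFinite.symm fun j => aeval ![x, y] (Aj j)) = 0 := by
    apply TensorProduct.sum_tmul_basis_left_eq_zero b
    rw [Finsupp.sum_fintype _ _ (fun i => tmul_zero _ _)]
    exact hA
  rw [hAj]
  apply Finset.dvd_sum
  intro j _
  have h2 : aeval ![x, y] (Aj j) = 0 := by
    have := DFunLike.congr_fun h1 j
    simpa using this
  exact Dvd.dvd.mul_left (map_dvd (MvPolynomial.map (algebraMap k k')) (hf _ h2)) _

end theta

section forward

variable {k : Type u} {K : Type v} [Field k] [Field K] [Algebra k K]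

/-- the generator of the relations of a geometric function field stays irreducible -/
theorem irreducible_map (hg : IsGeometric k K) (x y : K) {f : MvPolynomial (Fin 2) k}
    (hf0 : f ≠ 0) (hfxy : aeval ![x, y] f = 0)
    (hf : ∀ P : MvPolynomial (Fin 2) k, aeval ![x, y] P = 0 → f ∣ P)
    (k' : Type u) [Field k'] [Algebra k k'] (hfd : FiniteDimensional k k') :
    Irreducible (MvPolynomial.map (algebraMap k k') f) := by
  have hfield := hg k' hfd
  haveI := hfield.isDomain
  have hmap0 : MvPolynomial.map (algebraMap k k') f ≠ 0 :=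
    (map_ne_zero_iff _ (map_injective _ (algebraMap k k').injective)).mpr hf0
  have hΘf : Theta k k' x y (MvPolynomial.map (algebraMap k k') f) = 0 := by
    rw [Theta_map, hfxy, tmul_zero]
  rw [irreducible_iff]
  refine ⟨?_, ?_⟩
  · intro hu
    have := hu.map (Theta k k' x y)
    rw [hΘf] at this
    exact not_isUnit_zero this
  · intro A B hAB
    have h1 : Theta k k' x y A * Theta k k' x y B = 0 := by rw [← map_mul, ← hAB, hΘf]
    rcases mul_eq_zero.mp h1 with h | h
    · right
      obtain ⟨C', hC'⟩ := dvd_of_Theta_eq_zero x y hf h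
      have h2 : MvPolynomial.map (algebraMap k k') f * 1 =
          MvPolynomial.map (algebraMap k k') f * (C' * B) := by
        rw [mul_one, ← mul_assoc, ← hC', hAB]
      have h3 := mul_left_cancel₀ hmap0 h2
      exact IsUnit.of_mul_eq_one C' (by rw [mul_comm]; exact h3.symm)
    · left
      obtain ⟨C', hC'⟩ := dvd_of_Theta_eq_zero x y hf h
      have h2 : MvPolynomial.map (algebraMap k k') f * 1 =
          MvPolynomial.map (algebraMap k k') f * (C' * A) := by
        rw [mul_one, ← mul_assoc, ← hC', mul_comm, hAB]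
      have h3 := mul_left_cancel₀ hmap0 h2
      exact IsUnit.of_mul_eq_one C' (by rw [mul_comm]; exact h3.symm)

/-- **S11008**, forward direction -/
theorem forward (hK : IsFunctionField k K) (hg : IsGeometric k K) :
    ∃ (x y : K) (f : MvPolynomial (Fin 2) k),
      IntermediateField.adjoin k ({x, y} : Set K) = ⊤ ∧
      (∀ (k' : Type u) [Field k'] [Algebra k k'], FiniteDimensional k k' →
        Irreducible (MvPolynomial.map (algebraMap k k') f)) ∧
      RingHom.ker (MvPolynomial.aeval ![x, y] : MvPolynomial (Fin 2) k →ₐ[k] K) =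
        Ideal.span {f} := by
  obtain ⟨x, hx, hsep⟩ := FS.exists_separating hK hg
  haveI hfd : FiniteDimensional k⟮x⟯ K := FX.finiteDimensional_of_transcendental hK.1 hx
  obtain ⟨y, hy⟩ := Field.exists_primitive_element k⟮x⟯ K
  have hxy : IntermediateField.adjoin k ({x, y} : Set K) = ⊤ := by
    have h1 := IntermediateField.adjoin_adjoin_left k ({x} : Set K) ({y} : Set K)
    rw [hy, IntermediateField.restrictScalars_top, Set.singleton_union] at h1
    exact h1.symm
  obtain ⟨f, hfirr, hfxy⟩ := FPK.exists_irreducible_mem_ker hK x y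
  have hdvd : ∀ P : MvPolynomial (Fin 2) k, aeval ![x, y] P = 0 → f ∣ P :=
    fun P hP => FPK.dvd_of_aeval_eq_zero hK x y hxy hfirr hfxy hP
  refine ⟨x, y, f, hxy, ?_, ?_⟩
  · intro k' _ _ hfd'
    exact irreducible_map hg x y hfirr.ne_zero hfxy hdvd k' hfd'
  · ext P
    rw [RingHom.mem_ker, Ideal.mem_span_singleton]
    refine ⟨hdvd P, ?_⟩
    rintro ⟨G, rfl⟩
    rw [map_mul, hfxy, zero_mul]

end forward

section backward

variable {k : Type u} {K : Type v} [Field k] [Field K] [Algebra k K]

/-- every element of `k' ⊗ K` becomes polynomial after multiplication by a denominator -/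
theorem exists_denominator (x y : K)
    (hxy : IntermediateField.adjoin k ({x, y} : Set K) = ⊤)
    (k' : Type*) [Field k'] [Algebra k k'] (s : k' ⊗[k] K) :
    ∃ D : MvPolynomial (Fin 2) k, aeval ![x, y] D ≠ 0 ∧ ∃ A : MvPolynomial (Fin 2) k',
      Theta k k' x y (MvPolynomial.map (algebraMap k k') D) * s = Theta k k' x y A := by
  classical
  have hrange : Algebra.adjoin k ({x, y} : Set K) =
      (aeval ![x, y] : MvPolynomial (Fin 2) k →ₐ[k] K).range := by
    rw [aeval_range]
    congr 1
    ext z
    simp only [Matrix.range_cons, Matrix.range_empty, Set.union_empty, Set.mem_union,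
      Set.mem_singleton_iff, Set.mem_insert_iff]
  induction s using TensorProduct.induction_on with
  | zero => exact ⟨1, by rw [map_one]; exact one_ne_zero, 0, by rw [mul_zero, map_zero]⟩
  | tmul c u =>
    have hu : u ∈ IntermediateField.adjoin k ({x, y} : Set K) := by
      rw [hxy]; exact IntermediateField.mem_top
    obtain ⟨r, hr, s', hs', hus⟩ := IntermediateField.mem_adjoin_iff_div.mp hu
    rw [hrange] at hr hs'
    obtain ⟨R, rfl⟩ := hr
    obtain ⟨S', rfl⟩ := hs'
    by_cases hs0 : aeval ![x, y] S' = 0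
    · refine ⟨1, by rw [map_one]; exact one_ne_zero, 0, ?_⟩
      have hu0 : u = 0 := by
        rw [hus]
        show (aeval ![x, y] R : K) / (aeval ![x, y] S' : K) = 0
        rw [hs0, div_zero]
      rw [hu0, tmul_zero, mul_zero, map_zero]
    · refine ⟨S', hs0, C c * MvPolynomial.map (algebraMap k k') R, ?_⟩
      rw [Theta_map, Theta_C_mul_map, Algebra.TensorProduct.tmul_mul_tmul, one_mul]
      congr 1
      rw [hus]
      show (aeval ![x, y] S' : K) * ((aeval ![x, y] R : K) / (aeval ![x, y] S' : K)) = _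
      rw [mul_div_cancel₀ _ hs0]
  | add s₁ s₂ h₁ h₂ =>
    obtain ⟨D₁, hD₁, A₁, hA₁⟩ := h₁
    obtain ⟨D₂, hD₂, A₂, hA₂⟩ := h₂
    refine ⟨D₁ * D₂, by rw [map_mul]; exact mul_ne_zero hD₁ hD₂,
      MvPolynomial.map (algebraMap k k') D₂ * A₁ + MvPolynomial.map (algebraMap k k') D₁ * A₂, ?_⟩
    rw [map_mul, map_mul, map_add, map_mul, map_mul, ← hA₁, ← hA₂]
    ring

/-- `k' ⊗ K` has no zero divisors when the generator of the relations stays irreducible -/
theorem eq_zero_or_eq_zero_of_mul (x y : K)
    (hxy : IntermediateField.adjoin k ({x, y} : Set K) = ⊤) {f : MvPolynomial (Fin 2) k}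
    (hker : ∀ P : MvPolynomial (Fin 2) k, aeval ![x, y] P = 0 ↔ f ∣ P)
    (k' : Type*) [Field k'] [Algebra k k'] [FiniteDimensional k k']
    (hirr : Irreducible (MvPolynomial.map (algebraMap k k') f))
    {s t : k' ⊗[k] K} (hst : s * t = 0) : s = 0 ∨ t = 0 := by
  have hΘf : Theta k k' x y (MvPolynomial.map (algebraMap k k') f) = 0 := by
    rw [Theta_map, (hker f).mpr dvd_rfl, tmul_zero]
  have hcancel : ∀ (D : MvPolynomial (Fin 2) k), aeval ![x, y] D ≠ 0 → ∀ s : k' ⊗[k] K,
      Theta k k' x y (MvPolynomial.map (algebraMap k k') D) * s = 0 → s = 0 := by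
    intro D hD s hs
    rw [Theta_map] at hs
    have h1 : ((1 : k') ⊗ₜ[k] (aeval ![x, y] D : K)⁻¹) * ((1 : k') ⊗ₜ[k] (aeval ![x, y] D : K)) =
        1 := by
      rw [Algebra.TensorProduct.tmul_mul_tmul, one_mul, inv_mul_cancel₀ hD]
      rfl
    calc s = 1 * s := (one_mul s).symm
      _ = _ := by rw [← h1, mul_assoc, hs, mul_zero]
  obtain ⟨D₁, hD₁, A₁, hA₁⟩ := exists_denominator x y hxy k' s
  obtain ⟨D₂, hD₂, A₂, hA₂⟩ := exists_denominator x y hxy k' t
  have h1 : Theta k k' x y (A₁ * A₂) = 0 := by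
    rw [map_mul, ← hA₁, ← hA₂]
    calc _ = Theta k k' x y (MvPolynomial.map (algebraMap k k') D₁) *
        Theta k k' x y (MvPolynomial.map (algebraMap k k') D₂) * (s * t) := by ring
      _ = 0 := by rw [hst, mul_zero]
  have h2 := dvd_of_Theta_eq_zero x y (fun P hP => (hker P).mp hP) h1
  have hprime : Prime (MvPolynomial.map (algebraMap k k') f) := hirr.prime
  rcases hprime.dvd_or_dvd h2 with h | h
  · left
    apply hcancel D₁ hD₁
    rw [hA₁]
    obtain ⟨G, rfl⟩ := h
    rw [map_mul, hΘf, zero_mul]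
  · right
    apply hcancel D₂ hD₂
    rw [hA₂]
    obtain ⟨G, rfl⟩ := h
    rw [map_mul, hΘf, zero_mul]

/-- the field is geometric when the generator of the relations is absolutely irreducible -/
theorem isGeometric_of (x y : K)
    (hxy : IntermediateField.adjoin k ({x, y} : Set K) = ⊤) {f : MvPolynomial (Fin 2) k}
    (hker : ∀ P : MvPolynomial (Fin 2) k, aeval ![x, y] P = 0 ↔ f ∣ P)
    (habs : ∀ (k' : Type u) [Field k'] [Algebra k k'], FiniteDimensional k k' →
      Irreducible (MvPolynomial.map (algebraMap k k') f)) : IsGeometric k K := by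
  intro k' _ _ hfd
  have hirr := habs k' hfd
  let e := Algebra.TensorProduct.comm k k' K
  haveI : NoZeroDivisors (K ⊗[k] k') := ⟨fun {a b} hab => by
    have h1 : e.symm a * e.symm b = 0 := by rw [← map_mul, hab, map_zero]
    rcases eq_zero_or_eq_zero_of_mul x y hxy hker k' hirr h1 with h | h
    · left; exact (map_eq_zero_iff e.symm e.symm.injective).mp h
    · right; exact (map_eq_zero_iff e.symm e.symm.injective).mp h⟩
  haveI : IsDomain (K ⊗[k] k') := NoZeroDivisors.to_isDomain _
  have hF : IsField (K ⊗[k] k') :=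
    isField_of_isIntegral_of_isField' (R := K) (Field.toIsField K)
  exact MulEquiv.isField hF e.toMulEquiv

/-- the two generators are not both constants -/
theorem not_both_const (x y : K) {f : MvPolynomial (Fin 2) k} (hf : Irreducible f)
    (hker : ∀ P : MvPolynomial (Fin 2) k, aeval ![x, y] P = 0 ↔ f ∣ P) (c₀ c₁ : k)
    (hx : x = algebraMap k K c₀) (hy : y = algebraMap k K c₁) : False := by
  have h0 : aeval ![x, y] (X 0 - C c₀ : MvPolynomial (Fin 2) k) = 0 := by
    rw [map_sub, aeval_X, aeval_C]
    show x - algebraMap k K c₀ = 0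
    rw [hx, sub_self]
  have h1 : aeval ![x, y] (X 1 - C c₁ : MvPolynomial (Fin 2) k) = 0 := by
    rw [map_sub, aeval_X, aeval_C]
    show y - algebraMap k K c₁ = 0
    rw [hy, sub_self]
  obtain ⟨g₀, hg₀⟩ := (hker _).mp h0
  obtain ⟨g₁, hg₁⟩ := (hker _).mp h1
  have hf0 : f ≠ 0 := hf.ne_zero
  have hL0 : (X 0 - C c₀ : MvPolynomial (Fin 2) k) ≠ 0 := by
    intro h
    have := congrArg (eval ![c₀ + 1, c₁]) h
    simp at this
  have hL1 : (X 1 - C c₁ : MvPolynomial (Fin 2) k) ≠ 0 := by
    intro h
    have := congrArg (eval ![c₀, c₁ + 1]) h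
    simp at this
  have hg₀0 : g₀ ≠ 0 := by
    rintro rfl
    rw [mul_zero] at hg₀
    exact hL0 hg₀
  have hg₁0 : g₁ ≠ 0 := by
    rintro rfl
    rw [mul_zero] at hg₁
    exact hL1 hg₁
  have hdf : 1 ≤ f.totalDegree := by
    by_contra hlt
    have h0 : f.totalDegree = 0 := by omega
    rw [totalDegree_eq_zero_iff_eq_C] at h0
    have hc0 : f.coeff 0 ≠ 0 := by
      intro hc
      rw [hc, C_0] at h0
      exact hf0 h0
    apply hf.not_isUnit
    rw [h0]
    exact (IsUnit.mk0 _ hc0).map C
  have hd0 : (X 0 - C c₀ : MvPolynomial (Fin 2) k).totalDegree ≤ 1 := by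
    refine le_trans (totalDegree_sub_C_le _ _) ?_
    rw [totalDegree_X]
  have hd1 : (X 1 - C c₁ : MvPolynomial (Fin 2) k).totalDegree ≤ 1 := by
    refine le_trans (totalDegree_sub_C_le _ _) ?_
    rw [totalDegree_X]
  rw [hg₀, totalDegree_mul_of_isDomain hf0 hg₀0] at hd0
  rw [hg₁, totalDegree_mul_of_isDomain hf0 hg₁0] at hd1
  have e0 : g₀.totalDegree = 0 := by omega
  have e1 : g₁.totalDegree = 0 := by omega
  rw [totalDegree_eq_zero_iff_eq_C] at e0 e1
  have hcomb : C (g₁.coeff 0) * (X 0 - C c₀ : MvPolynomial (Fin 2) k) =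
      C (g₀.coeff 0) * (X 1 - C c₁) := by
    rw [hg₀, hg₁]
    conv_lhs => rw [e0]
    conv_rhs => rw [e1]
    ring
  have h2 := congrArg (eval ![c₀ + 1, c₁]) hcomb
  simp at h2
  apply hg₁0
  rw [e1, h2, C_0]

/-- the field is a function field of one variable -/
theorem isFunctionField_of (x y : K)
    (hxy : IntermediateField.adjoin k ({x, y} : Set K) = ⊤) {f : MvPolynomial (Fin 2) k}
    (hf : Irreducible f)
    (hker : ∀ P : MvPolynomial (Fin 2) k, aeval ![x, y] P = 0 ↔ f ∣ P)
    (hg : IsGeometric k K) : IsFunctionField k K := by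
  classical
  have hcl : ∀ z : K, IsAlgebraic k z → z ∈ Set.range (algebraMap k K) :=
    fun z hz => FCE.mem_range_of_isAlgebraic hg z hz
  refine ⟨?_, hcl⟩
  have hex : ∃ t : k, y - algebraMap k K t * x ∉ Set.range (algebraMap k K) := by
    by_contra hcon
    push Not at hcon
    obtain ⟨c₀, hc₀⟩ := hcon 0
    obtain ⟨c₁, hc₁⟩ := hcon 1
    rw [map_zero, zero_mul, sub_zero] at hc₀
    rw [map_one, one_mul] at hc₁
    have hxr : x = algebraMap k K (c₀ - c₁) := by
      rw [map_sub, hc₀, hc₁]; ring
    exact not_both_const x y hf hker _ _ hxr hc₀.symm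
  obtain ⟨t, hy'nc⟩ := hex
  set y' := y - algebraMap k K t * x with hy'
  have htr : Transcendental k y' := fun h => hy'nc (hcl _ h)
  refine ⟨y', htr, ?_⟩
  have hgen : (k⟮y'⟯)⟮x⟯ = ⊤ := by
    rw [eq_top_iff]
    intro z _
    have hz : z ∈ IntermediateField.adjoin k ({x, y} : Set K) := by
      rw [hxy]; exact IntermediateField.mem_top
    have hle : IntermediateField.adjoin k ({x, y} : Set K) ≤
        ((k⟮y'⟯)⟮x⟯).restrictScalars k := by
      rw [IntermediateField.adjoin_le_iff]
      intro w hw
      rw [Set.mem_insert_iff, Set.mem_singleton_iff] at hw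
      have hxm : x ∈ (k⟮y'⟯)⟮x⟯ := IntermediateField.mem_adjoin_simple_self _ x
      have hym : y' ∈ (k⟮y'⟯)⟮x⟯ := by
        have := IntermediateField.algebraMap_mem ((k⟮y'⟯)⟮x⟯)
          (IntermediateField.AdjoinSimple.gen k y')
        rwa [IntermediateField.AdjoinSimple.algebraMap_gen] at this
      rcases hw with rfl | rfl
      · exact hxm
      · have e : w = y' + algebraMap k K t * x := by rw [hy']; ring
        change w ∈ (k⟮y'⟯)⟮x⟯
        rw [e]
        refine add_mem hym (mul_mem ?_ hxm)
        have := IntermediateField.algebraMap_mem ((k⟮y'⟯)⟮x⟯) (algebraMap k k⟮y'⟯ t)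
        rwa [← IsScalarTower.algebraMap_apply] at this
    exact hle hz
  -- `x` is algebraic over `k(y')`
  have hfxy : aeval ![x, y] f = 0 := (hker f).mpr dvd_rfl
  have hroot : Polynomial.eval₂ (Polynomial.aeval y' : Polynomial k →ₐ[k] K).toRingHom x
      (FPD.Phi t f) = 0 := by
    have h1 := congrArg (fun φ => φ f) (FPD.Theta_comp_Phi x y t)
    simp only [AlgHom.comp_apply] at h1
    rw [hfxy, FPD.Theta_eq_eval₂] at h1
    exact h1
  have hF0 : FPD.Phi t f ≠ 0 := (FPD.irreducible_Phi t hf).ne_zero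
  set E := k⟮y'⟯ with hE
  let ρ := RatFunc.algEquivOfTranscendental y' htr
  set G := ((FPD.Phi t f).map (algebraMap (Polynomial k) (RatFunc k))).map
    (ρ : RatFunc k →+* E) with hG
  have hG0 : G ≠ 0 := by
    rw [hG, Ne, Polynomial.map_eq_zero_iff (RingHom.injective _),
      Polynomial.map_eq_zero_iff (IsFractionRing.injective (Polynomial k) (RatFunc k))]
    exact hF0
  have hcomp : ((algebraMap E K).comp (ρ : RatFunc k →+* E)).comp
      (algebraMap (Polynomial k) (RatFunc k)) =
      (Polynomial.aeval y' : Polynomial k →ₐ[k] K).toRingHom := by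
    apply RingHom.ext
    intro g
    change algebraMap E K (ρ (algebraMap (Polynomial k) (RatFunc k) g)) = Polynomial.aeval y' g
    rw [RatFunc.algEquivOfTranscendental_algebraMap, ← Polynomial.aeval_algebraMap_apply,
      IntermediateField.AdjoinSimple.algebraMap_gen]
  have hGroot : Polynomial.aeval x G = 0 := by
    rw [Polynomial.aeval_def, hG, Polynomial.eval₂_map, Polynomial.eval₂_map, hcomp]
    exact hroot
  have hint : IsIntegral E x := isAlgebraic_iff_isIntegral.mp ⟨G, hG0, hGroot⟩
  haveI hfd1 : FiniteDimensional E E⟮x⟯ := IntermediateField.adjoin.finiteDimensional hint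
  rw [hgen] at hfd1
  exact Module.Finite.equiv (IntermediateField.topEquiv (F := E) (E := K)).toLinearEquiv

/-- **S11008** -/
theorem main :
    (IsFunctionField k K ∧ IsGeometric k K) ↔
      ∃ (x y : K) (f : MvPolynomial (Fin 2) k),
        IntermediateField.adjoin k ({x, y} : Set K) = ⊤ ∧
        (∀ (k' : Type u) [Field k'] [Algebra k k'], FiniteDimensional k k' →
          Irreducible (MvPolynomial.map (algebraMap k k') f)) ∧
        RingHom.ker (MvPolynomial.aeval ![x, y] : MvPolynomial (Fin 2) k →ₐ[k] K) =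
          Ideal.span {f} := by
  constructor
  · rintro ⟨hK, hg⟩
    exact forward hK hg
  · rintro ⟨x, y, f, hxy, habs, hkerI⟩
    have hker : ∀ P : MvPolynomial (Fin 2) k, aeval ![x, y] P = 0 ↔ f ∣ P := by
      intro P
      rw [← RingHom.mem_ker, hkerI, Ideal.mem_span_singleton]
    have hf : Irreducible f := by
      have h1 := habs k inferInstance
      rwa [Algebra.algebraMap_self, MvPolynomial.map_id] at h1
    have hg := isGeometric_of x y hxy hker habs
    exact ⟨isFunctionField_of x y hxy hf hker hg, hg⟩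

end backward

end Groth.Agent.Lib.helper16.FAbI
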