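import Groth.Agent.Lib.helper16.FPTrace

/-! Helper library (helper16): abstract residues (after Tate). -/

set_option autoImplicit false

namespace Groth.Agent.Lib.helper16.FPT

open Module

variable {k : Type*} [Field k] {V : Type*} [AddCommGroup V] [Module k V]

/-- the operators mapping `V` into `A` and `A` into `0`, up to finite-dimensional spaces -/
def InF (A : Submodule k V) (θ : V →ₗ[k] V) : Prop :=
  ∃ W₁ W₂ : Submodule k V, FiniteDimensional k W₁ ∧ FiniteDimensional k W₂ ∧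
    LinearMap.range θ ≤ A ⊔ W₁ ∧ A.map θ ≤ W₂

/-- `f` maps `A` into `A` up to a finite-dimensional space -/
def NearStab (A : Submodule k V) (f : V →ₗ[k] V) : Prop :=
  ∃ W : Submodule k V, FiniteDimensional k W ∧ A.map f ≤ A ⊔ W

/-- `π` is a projection onto `A` up to finite-dimensional spaces -/
def AlmostProj (A : Submodule k V) (π : V →ₗ[k] V) : Prop :=
  ∃ W₁ W₂ : Submodule k V, FiniteDimensional k W₁ ∧ FiniteDimensional k W₂ ∧
    LinearMap.range π ≤ A ⊔ W₁ ∧ A.map (LinearMap.id - π) ≤ W₂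

variable {A : Submodule k V}

theorem NearStab.of_le {f : V →ₗ[k] V} (h : A.map f ≤ A) : NearStab A f :=
  ⟨⊥, inferInstance, h.trans le_sup_left⟩

theorem NearStab.id : NearStab A (LinearMap.id : V →ₗ[k] V) :=
  NearStab.of_le (by rw [Submodule.map_id])

theorem NearStab.comp {f g : V →ₗ[k] V} (hf : NearStab A f) (hg : NearStab A g) :
    NearStab A (f ∘ₗ g) := by
  obtain ⟨Wf, hWf, hf⟩ := hf
  obtain ⟨Wg, hWg, hg⟩ := hg
  refine ⟨Wf ⊔ Wg.map f, inferInstance, ?_⟩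
  rw [Submodule.map_comp]
  calc (A.map g).map f ≤ (A ⊔ Wg).map f := Submodule.map_mono hg
    _ = A.map f ⊔ Wg.map f := Submodule.map_sup _ _ _
    _ ≤ (A ⊔ Wf) ⊔ Wg.map f := sup_le_sup_right hf _
    _ = A ⊔ (Wf ⊔ Wg.map f) := sup_assoc _ _ _

theorem NearStab.add {f g : V →ₗ[k] V} (hf : NearStab A f) (hg : NearStab A g) :
    NearStab A (f + g) := by
  obtain ⟨Wf, hWf, hf⟩ := hf
  obtain ⟨Wg, hWg, hg⟩ := hg
  refine ⟨Wf ⊔ Wg, inferInstance, ?_⟩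
  rintro _ ⟨a, ha, rfl⟩
  rw [LinearMap.add_apply]
  have h1 : f a ∈ A ⊔ (Wf ⊔ Wg) :=
    (sup_le_sup_left le_sup_left A) (hf ⟨a, ha, rfl⟩)
  have h2 : g a ∈ A ⊔ (Wf ⊔ Wg) :=
    (sup_le_sup_left le_sup_right A) (hg ⟨a, ha, rfl⟩)
  exact Submodule.add_mem _ h1 h2

theorem NearStab.smul {f : V →ₗ[k] V} (hf : NearStab A f) (c : k) : NearStab A (c • f) := by
  obtain ⟨Wf, hWf, hf⟩ := hf
  refine ⟨Wf, hWf, ?_⟩
  rintro _ ⟨a, ha, rfl⟩
  rw [LinearMap.smul_apply]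
  exact Submodule.smul_mem _ _ (hf ⟨a, ha, rfl⟩)

theorem InF.zero : InF A (0 : V →ₗ[k] V) :=
  ⟨⊥, ⊥, inferInstance, inferInstance, by simp, by simp⟩

theorem InF.add {θ₁ θ₂ : V →ₗ[k] V} (h₁ : InF A θ₁) (h₂ : InF A θ₂) : InF A (θ₁ + θ₂) := by
  obtain ⟨W₁, W₂, hW₁, hW₂, hr, ha⟩ := h₁
  obtain ⟨W₁', W₂', hW₁', hW₂', hr', ha'⟩ := h₂
  refine ⟨W₁ ⊔ W₁', W₂ ⊔ W₂', inferInstance, inferInstance, ?_, ?_⟩
  · rintro _ ⟨x, rfl⟩
    rw [LinearMap.add_apply]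
    have h1 : θ₁ x ∈ A ⊔ (W₁ ⊔ W₁') := (sup_le_sup_left le_sup_left A) (hr ⟨x, rfl⟩)
    have h2 : θ₂ x ∈ A ⊔ (W₁ ⊔ W₁') := (sup_le_sup_left le_sup_right A) (hr' ⟨x, rfl⟩)
    exact Submodule.add_mem _ h1 h2
  · rintro _ ⟨a, ha₀, rfl⟩
    rw [LinearMap.add_apply]
    exact Submodule.add_mem _ (Submodule.mem_sup_left (ha ⟨a, ha₀, rfl⟩))
      (Submodule.mem_sup_right (ha' ⟨a, ha₀, rfl⟩))

theorem InF.smul {θ : V →ₗ[k] V} (h : InF A θ) (c : k) : InF A (c • θ) := by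
  obtain ⟨W₁, W₂, hW₁, hW₂, hr, ha⟩ := h
  refine ⟨W₁, W₂, hW₁, hW₂, ?_, ?_⟩
  · rintro _ ⟨x, rfl⟩
    rw [LinearMap.smul_apply]
    exact Submodule.smul_mem _ _ (hr ⟨x, rfl⟩)
  · rintro _ ⟨a, ha₀, rfl⟩
    rw [LinearMap.smul_apply]
    exact Submodule.smul_mem _ _ (ha ⟨a, ha₀, rfl⟩)

theorem InF.neg {θ : V →ₗ[k] V} (h : InF A θ) : InF A (-θ) := by
  have := h.smul (-1)
  rwa [neg_one_smul] at this

theorem InF.sub {θ₁ θ₂ : V →ₗ[k] V} (h₁ : InF A θ₁) (h₂ : InF A θ₂) : InF A (θ₁ - θ₂) := by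
  rw [sub_eq_add_neg]
  exact h₁.add h₂.neg

theorem InF.of_finiteDimensional_range {θ : V →ₗ[k] V}
    (h : FiniteDimensional k (LinearMap.range θ)) : InF A θ :=
  ⟨LinearMap.range θ, LinearMap.range θ, h, h, le_sup_right, by
    rintro _ ⟨a, -, rfl⟩
    exact ⟨a, rfl⟩⟩

theorem InF.comp_left {θ : V →ₗ[k] V} (h : InF A θ) {g : V →ₗ[k] V} (hg : NearStab A g) :
    InF A (g ∘ₗ θ) := by
  obtain ⟨W₁, W₂, hW₁, hW₂, hr, ha⟩ := h
  obtain ⟨Wg, hWg, hg⟩ := hg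
  refine ⟨Wg ⊔ W₁.map g, W₂.map g, inferInstance, inferInstance, ?_, ?_⟩
  · rw [LinearMap.range_comp]
    calc (LinearMap.range θ).map g ≤ (A ⊔ W₁).map g := Submodule.map_mono hr
      _ = A.map g ⊔ W₁.map g := Submodule.map_sup _ _ _
      _ ≤ (A ⊔ Wg) ⊔ W₁.map g := sup_le_sup_right hg _
      _ = A ⊔ (Wg ⊔ W₁.map g) := sup_assoc _ _ _
  · rw [Submodule.map_comp]
    exact Submodule.map_mono ha

theorem InF.comp_right {θ : V →ₗ[k] V} (h : InF A θ) {f : V →ₗ[k] V} (hf : NearStab A f) :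
    InF A (θ ∘ₗ f) := by
  obtain ⟨W₁, W₂, hW₁, hW₂, hr, ha⟩ := h
  obtain ⟨Wf, hWf, hf⟩ := hf
  refine ⟨W₁, W₂ ⊔ Wf.map θ, hW₁, inferInstance, ?_, ?_⟩
  · exact (LinearMap.range_comp_le_range f θ).trans hr
  · rw [Submodule.map_comp]
    calc (A.map f).map θ ≤ (A ⊔ Wf).map θ := Submodule.map_mono hf
      _ = A.map θ ⊔ Wf.map θ := Submodule.map_sup _ _ _
      _ ≤ W₂ ⊔ Wf.map θ := sup_le_sup_right ha _

/-- a product of two operators of the class has finite rank -/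
theorem InF.finiteDimensional_range_comp {θ₁ θ₂ : V →ₗ[k] V} (h₁ : InF A θ₁) (h₂ : InF A θ₂) :
    FiniteDimensional k (LinearMap.range (θ₂ ∘ₗ θ₁)) := by
  obtain ⟨W₁, W₂, hW₁, hW₂, hr, ha⟩ := h₁
  obtain ⟨W₁', W₂', hW₁', hW₂', hr', ha'⟩ := h₂
  have hle : LinearMap.range (θ₂ ∘ₗ θ₁) ≤ W₂' ⊔ W₁.map θ₂ := by
    rw [LinearMap.range_comp]
    calc (LinearMap.range θ₁).map θ₂ ≤ (A ⊔ W₁).map θ₂ := Submodule.map_mono hr
      _ = A.map θ₂ ⊔ W₁.map θ₂ := Submodule.map_sup _ _ _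
      _ ≤ W₂' ⊔ W₁.map θ₂ := sup_le_sup_right ha' _
  exact Submodule.finiteDimensional_of_le hle

/-- a common core of two operators of the class -/
def core₂ (θ₁ θ₂ : V →ₗ[k] V) : Submodule k V :=
  LinearMap.range (θ₁ ∘ₗ θ₁) ⊔ LinearMap.range (θ₁ ∘ₗ θ₂) ⊔ LinearMap.range (θ₂ ∘ₗ θ₁) ⊔
    LinearMap.range (θ₂ ∘ₗ θ₂)

theorem finiteDimensional_core₂ {θ₁ θ₂ : V →ₗ[k] V} (h₁ : InF A θ₁) (h₂ : InF A θ₂) :
    FiniteDimensional k (core₂ θ₁ θ₂) := by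
  haveI := h₁.finiteDimensional_range_comp h₁
  haveI := h₂.finiteDimensional_range_comp h₁
  haveI := h₁.finiteDimensional_range_comp h₂
  haveI := h₂.finiteDimensional_range_comp h₂
  unfold core₂
  infer_instance

theorem core₂_stable_left (θ₁ θ₂ : V →ₗ[k] V) : ∀ x ∈ core₂ θ₁ θ₂, θ₁ x ∈ core₂ θ₁ θ₂ := by
  intro x hx
  unfold core₂ at hx ⊢
  obtain ⟨x₁, hx₁, x₂, hx₂, rfl⟩ := Submodule.mem_sup.mp hx
  obtain ⟨x₃, hx₃, x₄, hx₄, rfl⟩ := Submodule.mem_sup.mp hx₁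
  obtain ⟨x₅, hx₅, x₆, hx₆, rfl⟩ := Submodule.mem_sup.mp hx₃
  obtain ⟨y₅, rfl⟩ := hx₅
  obtain ⟨y₆, rfl⟩ := hx₆
  obtain ⟨y₄, rfl⟩ := hx₄
  obtain ⟨y₂, rfl⟩ := hx₂
  simp only [map_add, LinearMap.comp_apply]
  refine Submodule.add_mem _ (Submodule.add_mem _ (Submodule.add_mem _ ?_ ?_) ?_) ?_
  · exact Submodule.mem_sup_left (Submodule.mem_sup_left (Submodule.mem_sup_left ⟨θ₁ y₅, rfl⟩))
  · exact Submodule.mem_sup_left (Submodule.mem_sup_left (Submodule.mem_sup_left ⟨θ₂ y₆, rfl⟩))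
  · exact Submodule.mem_sup_left (Submodule.mem_sup_left (Submodule.mem_sup_right ⟨θ₁ y₄, rfl⟩))
  · exact Submodule.mem_sup_left (Submodule.mem_sup_left (Submodule.mem_sup_right ⟨θ₂ y₂, rfl⟩))

theorem core₂_symm (θ₁ θ₂ : V →ₗ[k] V) : core₂ θ₁ θ₂ = core₂ θ₂ θ₁ := by
  unfold core₂
  ac_rfl

theorem core₂_stable_right (θ₁ θ₂ : V →ₗ[k] V) : ∀ x ∈ core₂ θ₁ θ₂, θ₂ x ∈ core₂ θ₁ θ₂ := by
  intro x hx
  rw [core₂_symm] at hx ⊢
  exact core₂_stable_left θ₂ θ₁ x hx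

theorem isCore_core₂_left {θ₁ θ₂ : V →ₗ[k] V} (h₁ : InF A θ₁) (h₂ : InF A θ₂) :
    IsCore θ₁ (core₂ θ₁ θ₂) := by
  refine ⟨finiteDimensional_core₂ h₁ h₂, core₂_stable_left θ₁ θ₂, 2, ?_⟩
  rintro _ ⟨x, rfl⟩
  rw [pow_two, Module.End.mul_apply]
  exact Submodule.mem_sup_left (Submodule.mem_sup_left (Submodule.mem_sup_left ⟨x, rfl⟩))

theorem isCore_core₂_right {θ₁ θ₂ : V →ₗ[k] V} (h₁ : InF A θ₁) (h₂ : InF A θ₂) :
    IsCore θ₂ (core₂ θ₁ θ₂) := by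
  rw [core₂_symm]
  exact isCore_core₂_left h₂ h₁

theorem isCore_core₂_add {θ₁ θ₂ : V →ₗ[k] V} (h₁ : InF A θ₁) (h₂ : InF A θ₂) :
    IsCore (θ₁ + θ₂) (core₂ θ₁ θ₂) := by
  refine ⟨finiteDimensional_core₂ h₁ h₂, fun x hx => ?_, 2, ?_⟩
  · rw [LinearMap.add_apply]
    exact Submodule.add_mem _ (core₂_stable_left θ₁ θ₂ x hx) (core₂_stable_right θ₁ θ₂ x hx)
  · rintro _ ⟨x, rfl⟩
    rw [pow_two, Module.End.mul_apply]
    simp only [LinearMap.add_apply, map_add]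
    unfold core₂
    refine Submodule.add_mem _ (Submodule.add_mem _ ?_ ?_) (Submodule.add_mem _ ?_ ?_)
    · exact Submodule.mem_sup_left (Submodule.mem_sup_left (Submodule.mem_sup_left ⟨x, rfl⟩))
    · exact Submodule.mem_sup_left (Submodule.mem_sup_right ⟨x, rfl⟩)
    · exact Submodule.mem_sup_left (Submodule.mem_sup_left (Submodule.mem_sup_right ⟨x, rfl⟩))
    · exact Submodule.mem_sup_right ⟨x, rfl⟩

theorem InF.isCore {θ : V →ₗ[k] V} (h : InF A θ) : IsCore θ (core₂ θ θ) :=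
  isCore_core₂_left h h

theorem fpTr_add {θ₁ θ₂ : V →ₗ[k] V} (h₁ : InF A θ₁) (h₂ : InF A θ₂) :
    fpTr (θ₁ + θ₂) = fpTr θ₁ + fpTr θ₂ :=
  fpTr_add_of_core (isCore_core₂_left h₁ h₂) (isCore_core₂_right h₁ h₂) (isCore_core₂_add h₁ h₂)

theorem fpTr_smul {θ : V →ₗ[k] V} (h : InF A θ) (c : k) : fpTr (c • θ) = c * fpTr θ := by
  apply fpTr_smul_of_core h.isCore
  obtain ⟨hfd, hst, n, hn⟩ := h.isCore
  refine ⟨hfd, fun x hx => ?_, n, ?_⟩
  · rw [LinearMap.smul_apply]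
    exact Submodule.smul_mem _ _ (hst x hx)
  · rintro _ ⟨x, rfl⟩
    rw [smul_pow, LinearMap.smul_apply]
    exact Submodule.smul_mem _ _ (hn ⟨x, rfl⟩)

theorem fpTr_neg {θ : V →ₗ[k] V} (h : InF A θ) : fpTr (-θ) = -fpTr θ := by
  have := fpTr_smul h (-1)
  rwa [neg_one_smul, neg_one_mul] at this

theorem fpTr_sub {θ₁ θ₂ : V →ₗ[k] V} (h₁ : InF A θ₁) (h₂ : InF A θ₂) :
    fpTr (θ₁ - θ₂) = fpTr θ₁ - fpTr θ₂ := by
  rw [sub_eq_add_neg, fpTr_add h₁ h₂.neg, fpTr_neg h₂, sub_eq_add_neg]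

theorem fpTr_sum {ι : Type*} (s : Finset ι) {θ : ι → V →ₗ[k] V} (h : ∀ i ∈ s, InF A (θ i)) :
    InF A (∑ i ∈ s, θ i) ∧ fpTr (∑ i ∈ s, θ i) = ∑ i ∈ s, fpTr (θ i) := by
  classical
  induction s using Finset.induction_on with
  | empty =>
    refine ⟨by simpa using InF.zero, ?_⟩
    simp only [Finset.sum_empty]
    exact fpTr_eq_zero_of_pow (n := 1) (by simp)
  | insert a s ha ih =>
    have h1 := ih (fun i hi => h i (Finset.mem_insert_of_mem hi))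
    have h2 := h a (Finset.mem_insert_self a s)
    rw [Finset.sum_insert ha, Finset.sum_insert ha]
    exact ⟨h2.add h1.1, by rw [fpTr_add h2 h1.1, h1.2]⟩

theorem fpTr_comm_of_inF (α β : V →ₗ[k] V) (h : InF A (β ∘ₗ α)) :
    fpTr (α ∘ₗ β) = fpTr (β ∘ₗ α) :=
  fpTr_comm α β h.isCore

section residue

/-- the commutator `[π, g]` -/
def comm (π g : V →ₗ[k] V) : V →ₗ[k] V := π ∘ₗ g - g ∘ₗ π

/-- the abstract residue of `f dg` with respect to the (almost) projection `π` -/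
noncomputable def absRes (π f g : V →ₗ[k] V) : k := fpTr (comm π g ∘ₗ f)

theorem comm_apply (π g : V →ₗ[k] V) (x : V) : comm π g x = π (g x) - g (π x) := rfl

theorem AlmostProj.sub_inF {π π' : V →ₗ[k] V} (h : AlmostProj A π) (h' : AlmostProj A π') :
    InF A (π - π') := by
  obtain ⟨W₁, W₂, hW₁, hW₂, hr, ha⟩ := h
  obtain ⟨W₁', W₂', hW₁', hW₂', hr', ha'⟩ := h'
  refine ⟨W₁ ⊔ W₁', W₂ ⊔ W₂', inferInstance, inferInstance, ?_, ?_⟩
  · rintro _ ⟨x, rfl⟩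
    rw [LinearMap.sub_apply]
    have h1 : π x ∈ A ⊔ (W₁ ⊔ W₁') := (sup_le_sup_left le_sup_left A) (hr ⟨x, rfl⟩)
    have h2 : π' x ∈ A ⊔ (W₁ ⊔ W₁') := (sup_le_sup_left le_sup_right A) (hr' ⟨x, rfl⟩)
    exact Submodule.sub_mem _ h1 h2
  · rintro _ ⟨a, ha₀, rfl⟩
    have h1 : (LinearMap.id - π : V →ₗ[k] V) a ∈ W₂ := ha ⟨a, ha₀, rfl⟩
    have h2 : (LinearMap.id - π' : V →ₗ[k] V) a ∈ W₂' := ha' ⟨a, ha₀, rfl⟩
    have : (π - π') a = (LinearMap.id - π' : V →ₗ[k] V) a - (LinearMap.id - π : V →ₗ[k] V) a := by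
      simp only [LinearMap.sub_apply, LinearMap.id_apply]
      abel
    rw [this]
    exact Submodule.sub_mem _ (Submodule.mem_sup_right h2) (Submodule.mem_sup_left h1)

theorem AlmostProj.comm_inF {π g : V →ₗ[k] V} (h : AlmostProj A π) (hg : NearStab A g) :
    InF A (comm π g) := by
  obtain ⟨W₁, W₂, hW₁, hW₂, hr, ha⟩ := h
  obtain ⟨Wg, hWg, hg⟩ := hg
  refine ⟨W₁ ⊔ (Wg ⊔ W₁.map g), (W₂ ⊔ Wg.map (LinearMap.id - π)) ⊔ W₂.map g, inferInstance,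
    inferInstance, ?_, ?_⟩
  · rintro _ ⟨x, rfl⟩
    rw [comm_apply]
    apply Submodule.sub_mem
    · exact (sup_le_sup_left le_sup_left A) (hr ⟨g x, rfl⟩)
    · have h1 : π x ∈ A ⊔ W₁ := hr ⟨x, rfl⟩
      obtain ⟨a, ha₀, w, hw, hx⟩ := Submodule.mem_sup.mp h1
      rw [← hx, map_add]
      apply Submodule.add_mem
      · have h2 : g a ∈ A ⊔ Wg := hg ⟨a, ha₀, rfl⟩
        exact (sup_le_sup_left (le_sup_left.trans le_sup_right) A) h2
      · exact Submodule.mem_sup_right (Submodule.mem_sup_right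
          (Submodule.mem_sup_right ⟨w, hw, rfl⟩))
  · rintro _ ⟨a, ha₀, rfl⟩
    have h1 : comm π g a = g ((LinearMap.id - π : V →ₗ[k] V) a) -
        (LinearMap.id - π : V →ₗ[k] V) (g a) := by
      simp only [comm_apply, LinearMap.sub_apply, LinearMap.id_apply, map_sub]
      abel
    rw [h1]
    apply Submodule.sub_mem
    · exact Submodule.mem_sup_right ⟨_, ha ⟨a, ha₀, rfl⟩, rfl⟩
    · apply Submodule.mem_sup_left
      have h2 : g a ∈ A ⊔ Wg := hg ⟨a, ha₀, rfl⟩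
      obtain ⟨a', ha', w, hw, hx⟩ := Submodule.mem_sup.mp h2
      rw [← hx, map_add]
      exact Submodule.add_mem _ (Submodule.mem_sup_left (ha ⟨a', ha', rfl⟩))
        (Submodule.mem_sup_right ⟨w, hw, rfl⟩)

theorem AlmostProj.theta_inF {π f g : V →ₗ[k] V} (h : AlmostProj A π) (hf : NearStab A f)
    (hg : NearStab A g) : InF A (comm π g ∘ₗ f) :=
  (h.comm_inF hg).comp_right hf

/-- the residue does not depend on the almost projection -/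
theorem absRes_eq_of_almostProj {π π' f g : V →ₗ[k] V} (h : AlmostProj A π)
    (h' : AlmostProj A π') (hf : NearStab A f) (hg : NearStab A g)
    (hfg : f ∘ₗ g = g ∘ₗ f) : absRes π f g = absRes π' f g := by
  have hδ := h.sub_inF h'
  set δ := π - π' with hδdef
  have h1 : comm π g ∘ₗ f = comm π' g ∘ₗ f + (δ ∘ₗ (g ∘ₗ f) - g ∘ₗ (δ ∘ₗ f)) := by
    apply LinearMap.ext
    intro x
    simp only [comm_apply, LinearMap.comp_apply, LinearMap.add_apply, LinearMap.sub_apply, hδdef,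
      map_sub]
    abel
  have hI1 : InF A (δ ∘ₗ (g ∘ₗ f)) := hδ.comp_right (hg.comp hf)
  have hI2 : InF A (g ∘ₗ (δ ∘ₗ f)) := (hδ.comp_right hf).comp_left hg
  have hI3 : InF A ((δ ∘ₗ f) ∘ₗ g) := (hδ.comp_right hf).comp_right hg
  unfold absRes
  rw [h1, fpTr_add (h'.theta_inF hf hg) (hI1.sub hI2), fpTr_sub hI1 hI2,
    fpTr_comm_of_inF g (δ ∘ₗ f) hI3]
  have h2 : (δ ∘ₗ f) ∘ₗ g = δ ∘ₗ (g ∘ₗ f) := by
    rw [LinearMap.comp_assoc, hfg]
  rw [h2, sub_self, add_zero]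

theorem absRes_add_left {π f₁ f₂ g : V →ₗ[k] V} (h : AlmostProj A π) (hf₁ : NearStab A f₁)
    (hf₂ : NearStab A f₂) (hg : NearStab A g) :
    absRes π (f₁ + f₂) g = absRes π f₁ g + absRes π f₂ g := by
  unfold absRes
  rw [LinearMap.comp_add, fpTr_add (h.theta_inF hf₁ hg) (h.theta_inF hf₂ hg)]

theorem absRes_smul_left {π f g : V →ₗ[k] V} (h : AlmostProj A π) (hf : NearStab A f)
    (hg : NearStab A g) (c : k) : absRes π (c • f) g = c * absRes π f g := by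
  unfold absRes
  rw [LinearMap.comp_smul, fpTr_smul (h.theta_inF hf hg)]

theorem absRes_add_right {π f g₁ g₂ : V →ₗ[k] V} (h : AlmostProj A π) (hf : NearStab A f)
    (hg₁ : NearStab A g₁) (hg₂ : NearStab A g₂) :
    absRes π f (g₁ + g₂) = absRes π f g₁ + absRes π f g₂ := by
  unfold absRes
  have : comm π (g₁ + g₂) = comm π g₁ + comm π g₂ := by
    unfold comm
    rw [LinearMap.comp_add, LinearMap.add_comp]
    abel
  rw [this, LinearMap.add_comp, fpTr_add (h.theta_inF hf hg₁) (h.theta_inF hf hg₂)]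

theorem absRes_smul_right {π f g : V →ₗ[k] V} (h : AlmostProj A π) (hf : NearStab A f)
    (hg : NearStab A g) (c : k) : absRes π f (c • g) = c * absRes π f g := by
  unfold absRes
  have : comm π (c • g) = c • comm π g := by
    unfold comm
    rw [LinearMap.comp_smul, LinearMap.smul_comp, smul_sub]
  rw [this, LinearMap.smul_comp, fpTr_smul (h.theta_inF hf hg)]

/-- Leibniz rule -/
theorem absRes_mul_right {π f g h : V →ₗ[k] V} (hπ : AlmostProj A π) (hf : NearStab A f)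
    (hg : NearStab A g) (hh : NearStab A h) (hfh : f ∘ₗ h = h ∘ₗ f) :
    absRes π f (g ∘ₗ h) = absRes π (f ∘ₗ g) h + absRes π (f ∘ₗ h) g := by
  unfold absRes
  have h1 : comm π (g ∘ₗ h) ∘ₗ f = comm π g ∘ₗ (f ∘ₗ h) + g ∘ₗ (comm π h ∘ₗ f) := by
    rw [hfh]
    apply LinearMap.ext
    intro x
    simp only [comm_apply, LinearMap.comp_apply, LinearMap.add_apply, map_sub]
    abel
  have hI1 : InF A (comm π g ∘ₗ (f ∘ₗ h)) := hπ.theta_inF (hf.comp hh) hg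
  have hI2 : InF A (g ∘ₗ (comm π h ∘ₗ f)) := (hπ.theta_inF hf hh).comp_left hg
  have hI3 : InF A ((comm π h ∘ₗ f) ∘ₗ g) := (hπ.theta_inF hf hh).comp_right hg
  rw [h1, fpTr_add hI1 hI2, fpTr_comm_of_inF g (comm π h ∘ₗ f) hI3, LinearMap.comp_assoc,
    add_comm]

/-- the residue vanishes when `f` and `g` preserve `A` and `π` is a projection onto `A` -/
theorem absRes_eq_zero_of_stable {π f g : V →ₗ[k] V} (hπ1 : ∀ x, π x ∈ A)
    (hπ2 : ∀ a ∈ A, π a = a) (hf : ∀ a ∈ A, f a ∈ A) (hg : ∀ a ∈ A, g a ∈ A) :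
    absRes π f g = 0 := by
  unfold absRes
  apply fpTr_eq_zero_of_pow (n := 2)
  apply LinearMap.ext
  intro x
  rw [pow_two, Module.End.mul_apply, LinearMap.zero_apply]
  have hkill : ∀ a ∈ A, (comm π g ∘ₗ f) a = 0 := by
    intro a ha
    rw [LinearMap.comp_apply, comm_apply, hπ2 _ (hf a ha), hπ2 _ (hg _ (hf a ha)), sub_self]
  apply hkill
  rw [LinearMap.comp_apply, comm_apply]
  exact Submodule.sub_mem _ (hπ1 _) (hg _ (hπ1 _))

/-- a true projection onto `A` is an almost projection -/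
theorem AlmostProj.of_proj {π : V →ₗ[k] V} (hπ1 : ∀ x, π x ∈ A) (hπ2 : ∀ a ∈ A, π a = a) :
    AlmostProj A π := by
  refine ⟨⊥, ⊥, inferInstance, inferInstance, ?_, ?_⟩
  · rintro _ ⟨x, rfl⟩
    exact Submodule.mem_sup_left (hπ1 x)
  · rintro _ ⟨a, ha, rfl⟩
    rw [LinearMap.sub_apply, LinearMap.id_apply, hπ2 a ha, sub_self]
    exact Submodule.zero_mem _

end residue

end Groth.Agent.Lib.helper16.FPT
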