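import Groth.Agent.Lib.helper16.FAbsRes

/-! Helper library (helper16): the abstract residue theorem (after Tate). -/

set_option autoImplicit false

namespace Groth.Agent.Lib.helper16.FPT

open Module

variable {k : Type*} [Field k] {V : Type*} [AddCommGroup V] [Module k V]

/-- a complement of `X` relative to `Y` -/
theorem exists_rel_compl (X Y : Submodule k V) :
    ∃ Z : Submodule k V, Z ≤ Y ∧ X ⊓ Z = ⊥ ∧ X ⊔ Z = X ⊔ Y ∧ Y ≤ (X ⊓ Y) ⊔ Z := by
  obtain ⟨E, hE⟩ := Submodule.exists_isCompl (X ⊓ Y)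
  refine ⟨E ⊓ Y, inf_le_right, ?_, ?_, ?_⟩
  · have : X ⊓ (E ⊓ Y) = (X ⊓ Y) ⊓ E := by
      rw [inf_comm E Y, inf_assoc]
    rw [this]
    exact hE.inf_eq_bot
  · have hmod : (X ⊓ Y) ⊔ (E ⊓ Y) = Y := by
      rw [← sup_inf_assoc_of_le E (inf_le_right : X ⊓ Y ≤ Y), hE.sup_eq_top, top_inf_eq]
    apply le_antisymm
    · exact sup_le le_sup_left (inf_le_right.trans le_sup_right)
    · apply sup_le le_sup_left
      calc Y = (X ⊓ Y) ⊔ (E ⊓ Y) := hmod.symm
        _ ≤ X ⊔ (E ⊓ Y) := sup_le_sup_right inf_le_left _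
  · have hmod : (X ⊓ Y) ⊔ (E ⊓ Y) = Y := by
      rw [← sup_inf_assoc_of_le E (inf_le_right : X ⊓ Y ≤ Y), hE.sup_eq_top, top_inf_eq]
    exact hmod.ge

/-- **Tate's abstract residue theorem.** -/
theorem absRes_eq_zero_of_lattice {A B : Submodule k V} {π f g : V →ₗ[k] V}
    (hAB : FiniteDimensional k ↥(A ⊓ B)) (C₀ : Submodule k V) (hC₀ : FiniteDimensional k C₀)
    (htop : A ⊔ B ⊔ C₀ = ⊤)
    (hπ : AlmostProj A π) (hf : NearStab A f) (hg : NearStab A g) (hfg : f ∘ₗ g = g ∘ₗ f)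
    (hfB : ∀ b ∈ B, f b ∈ B) (hgB : ∀ b ∈ B, g b ∈ B) : absRes π f g = 0 := by
  obtain ⟨D, hDB, hAD, hADsup, hBle⟩ := exists_rel_compl A B
  obtain ⟨C, hCC₀, hC1, hC2, -⟩ := exists_rel_compl (A ⊔ D) C₀
  haveI : FiniteDimensional k C := Submodule.finiteDimensional_of_le hCC₀
  have hcompl : IsCompl A (D ⊔ C) := by
    constructor
    · apply Disjoint.disjoint_sup_right_of_disjoint_sup_left
      · exact disjoint_iff.mpr hAD
      · exact disjoint_iff.mpr hC1
    · rw [codisjoint_iff, ← sup_assoc, hC2, hADsup, htop]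
  set π' : V →ₗ[k] V := A.projection (D ⊔ C) hcompl with hπ'
  have hπ'1 : ∀ x, π' x ∈ A := fun x => Submodule.projection_apply_mem hcompl x
  have hπ'2 : ∀ a ∈ A, π' a = a := fun a ha => Submodule.projection_apply_of_mem_left hcompl ha
  have hπ'3 : ∀ y ∈ D ⊔ C, π' y = 0 := fun y hy =>
    Submodule.projection_apply_of_mem_right hcompl hy
  have hπ'A : AlmostProj A π' := AlmostProj.of_proj hπ'1 hπ'2
  set π'' : V →ₗ[k] V := LinearMap.id - π' with hπ''
  have hπ''B : AlmostProj B π'' := by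
    refine ⟨C, A ⊓ B, inferInstance, hAB, ?_, ?_⟩
    · rintro _ ⟨x, rfl⟩
      have h1 : x - π' x ∈ D ⊔ C := Submodule.sub_projection_mem hcompl x
      have h2 : D ⊔ C ≤ B ⊔ C := sup_le_sup_right hDB C
      exact h2 h1
    · rintro _ ⟨b, hb, rfl⟩
      have h1 : (LinearMap.id - π'' : V →ₗ[k] V) b = π' b := by
        rw [hπ'']
        simp
      rw [h1]
      obtain ⟨a₀, ha₀, d₀, hd₀, rfl⟩ := Submodule.mem_sup.mp (hBle hb)
      rw [map_add, hπ'2 a₀ ha₀.1, hπ'3 d₀ (Submodule.mem_sup_left hd₀), add_zero]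
      exact ha₀
  have hfB' : NearStab B f := NearStab.of_le (by rintro _ ⟨b, hb, rfl⟩; exact hfB b hb)
  have hgB' : NearStab B g := NearStab.of_le (by rintro _ ⟨b, hb, rfl⟩; exact hgB b hb)
  -- a true projection onto `B`
  obtain ⟨B', hB'⟩ := Submodule.exists_isCompl B
  set πB : V →ₗ[k] V := B.projection B' hB' with hπB
  have hπB1 : ∀ x, πB x ∈ B := fun x => Submodule.projection_apply_mem hB' x
  have hπB2 : ∀ b ∈ B, πB b = b := fun b hb => Submodule.projection_apply_of_mem_left hB' hb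
  have h1 : absRes π f g = absRes π' f g := absRes_eq_of_almostProj hπ hπ'A hf hg hfg
  have h2 : comm π' g = - comm π'' g := by
    apply LinearMap.ext
    intro x
    rw [LinearMap.neg_apply, comm_apply, comm_apply, hπ'']
    simp
  have h3 : absRes π' f g = - absRes π'' f g := by
    unfold absRes
    rw [h2, LinearMap.neg_comp, fpTr_neg (hπ''B.theta_inF hfB' hgB')]
  have h4 : absRes π'' f g = absRes πB f g :=
    absRes_eq_of_almostProj hπ''B (AlmostProj.of_proj hπB1 hπB2) hfB' hgB' hfg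
  have h5 : absRes πB f g = 0 := absRes_eq_zero_of_stable hπB1 hπB2 hfB hgB
  rw [h1, h3, h4, h5, neg_zero]

end Groth.Agent.Lib.helper16.FPT
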