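import Mathlib.LinearAlgebra.Isomorphisms
import Mathlib.LinearAlgebra.Dimension.RankNullity
import Mathlib.LinearAlgebra.FiniteDimensional.Lemmas
import Mathlib.LinearAlgebra.Dimension.Constructions
import Mathlib.RingTheory.Finiteness.Finsupp

/-! Helper library (helper16): relative dimension of nested subspaces (generic linear algebra). -/

set_option autoImplicit false

namespace Groth.Agent.Lib.helper16.RelDim

open Module

variable {k : Type*} [Field k]

/-- a short exact sequence `X/N → Y → Z → 0`, `N = ker g`, gives the dimension of `Y` -/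
theorem finrank_of_exact {X Y Z : Type*} [AddCommGroup X] [Module k X] [AddCommGroup Y]
    [Module k Y] [AddCommGroup Z] [Module k Z] (g : X →ₗ[k] Y) (f : Y →ₗ[k] Z)
    (hf : Function.Surjective f) (hgf : LinearMap.range g = LinearMap.ker f)
    {N : Submodule k X} (hker : LinearMap.ker g = N)
    [FiniteDimensional k (X ⧸ N)] [FiniteDimensional k Z] :
    FiniteDimensional k Y ∧ finrank k Y = finrank k (X ⧸ N) + finrank k Z := by
  subst hker
  have e1 : (X ⧸ LinearMap.ker g) ≃ₗ[k] LinearMap.ker f :=
    g.quotKerEquivRange.trans (LinearEquiv.ofEq _ _ hgf)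
  have h1 : FiniteDimensional k (LinearMap.ker f) := LinearEquiv.finiteDimensional e1
  have e2 : (Y ⧸ LinearMap.ker f) ≃ₗ[k] Z := f.quotKerEquivOfSurjective hf
  have h2 : FiniteDimensional k (Y ⧸ LinearMap.ker f) := LinearEquiv.finiteDimensional e2.symm
  have h3 : FiniteDimensional k Y := Module.Finite.of_submodule_quotient (LinearMap.ker f)
  refine ⟨h3, ?_⟩
  have h4 := f.finrank_range_add_finrank_ker
  rw [LinearMap.range_eq_top.mpr hf, finrank_top] at h4
  rw [e1.finrank_eq, ← h4, add_comm]

/-- variant: `Y` finite-dimensional gives everything -/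
theorem finrank_of_exact' {X Y Z : Type*} [AddCommGroup X] [Module k X] [AddCommGroup Y]
    [Module k Y] [AddCommGroup Z] [Module k Z] (g : X →ₗ[k] Y) (f : Y →ₗ[k] Z)
    (hf : Function.Surjective f) (hgf : LinearMap.range g = LinearMap.ker f)
    {N : Submodule k X} (hker : LinearMap.ker g = N)
    [FiniteDimensional k Y] :
    FiniteDimensional k (X ⧸ N) ∧ FiniteDimensional k Z ∧
      finrank k Y = finrank k (X ⧸ N) + finrank k Z := by
  subst hker
  have e1 : (X ⧸ LinearMap.ker g) ≃ₗ[k] LinearMap.ker f :=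
    g.quotKerEquivRange.trans (LinearEquiv.ofEq _ _ hgf)
  have h1 : FiniteDimensional k (X ⧸ LinearMap.ker g) := LinearEquiv.finiteDimensional e1.symm
  have h2 : FiniteDimensional k Z := Module.Finite.of_surjective f hf
  exact ⟨h1, h2, (finrank_of_exact g f hf hgf rfl).2⟩

theorem finrank_quotient_of_surjective {X W : Type*} [AddCommGroup X] [Module k X]
    [AddCommGroup W] [Module k W] (φ : X →ₗ[k] W) (hφ : Function.Surjective φ)
    {N : Submodule k X} (hker : LinearMap.ker φ = N) [FiniteDimensional k W] :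
    FiniteDimensional k (X ⧸ N) ∧ finrank k (X ⧸ N) = finrank k W := by
  subst hker
  have e := φ.quotKerEquivOfSurjective hφ
  exact ⟨LinearEquiv.finiteDimensional e.symm, e.finrank_eq⟩

variable {V : Type*} [AddCommGroup V] [Module k V]

/-- the relative quotient `B / A` for subspaces `A`, `B` of `V` -/
abbrev Q (A B : Submodule k V) := B ⧸ A.comap B.subtype

theorem Q_self (A : Submodule k V) :
    FiniteDimensional k (Q A A) ∧ finrank k (Q A A) = 0 := by
  have h : A.comap A.subtype = ⊤ := by
    ext x
    simp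
  have hs : Subsingleton (Q A A) := by
    unfold Q
    rw [h]
    infer_instance
  exact ⟨inferInstance, finrank_zero_of_subsingleton⟩

/-- additivity of the relative dimension in towers -/
theorem Q_trans {A B C : Submodule k V} (hAB : A ≤ B) (hBC : B ≤ C)
    [FiniteDimensional k (Q A B)] [FiniteDimensional k (Q B C)] :
    FiniteDimensional k (Q A C) ∧ finrank k (Q A C) = finrank k (Q A B) + finrank k (Q B C) := by
  let g : B →ₗ[k] Q A C := (A.comap C.subtype).mkQ.comp (Submodule.inclusion hBC)
  let f : Q A C →ₗ[k] Q B C := Submodule.factor (fun x hx => hAB hx)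
  have hf : Function.Surjective f := by
    intro q
    obtain ⟨c, rfl⟩ := Submodule.mkQ_surjective _ q
    exact ⟨(A.comap C.subtype).mkQ c, Submodule.factor_mk _ c⟩
  have hgf : LinearMap.range g = LinearMap.ker f := by
    ext q
    constructor
    · rintro ⟨b, rfl⟩
      rw [LinearMap.mem_ker]
      change Submodule.factor _ ((A.comap C.subtype).mkQ (Submodule.inclusion hBC b)) = 0
      rw [Submodule.factor_mk, Submodule.mkQ_apply, Submodule.Quotient.mk_eq_zero]
      exact b.2
    · intro hq
      obtain ⟨c, rfl⟩ := Submodule.mkQ_surjective _ q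
      rw [LinearMap.mem_ker] at hq
      change Submodule.factor _ ((A.comap C.subtype).mkQ c) = 0 at hq
      rw [Submodule.factor_mk, Submodule.mkQ_apply, Submodule.Quotient.mk_eq_zero] at hq
      exact ⟨⟨c.1, hq⟩, rfl⟩
  have hker : LinearMap.ker g = A.comap B.subtype := by
    ext b
    rw [LinearMap.mem_ker]
    change (A.comap C.subtype).mkQ (Submodule.inclusion hBC b) = 0 ↔ _
    rw [Submodule.mkQ_apply, Submodule.Quotient.mk_eq_zero]
    rfl
  exact finrank_of_exact g f hf hgf hker

/-- second isomorphism theorem variant -/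
theorem Q_sup {A₁ A₂ W : Submodule k V} (h : A₁ ≤ A₂) [FiniteDimensional k (Q A₁ A₂)] :
    FiniteDimensional k (Q (A₁ ⊓ W) (A₂ ⊓ W)) ∧ FiniteDimensional k (Q (A₁ ⊔ W) (A₂ ⊔ W)) ∧
      finrank k (Q A₁ A₂) =
        finrank k (Q (A₁ ⊓ W) (A₂ ⊓ W)) + finrank k (Q (A₁ ⊔ W) (A₂ ⊔ W)) := by
  let g : ↥(A₂ ⊓ W) →ₗ[k] Q A₁ A₂ :=
    (A₁.comap A₂.subtype).mkQ.comp (Submodule.inclusion inf_le_left)
  let f : Q A₁ A₂ →ₗ[k] Q (A₁ ⊔ W) (A₂ ⊔ W) :=
    Submodule.mapQ _ _ (Submodule.inclusion (le_sup_left : A₂ ≤ A₂ ⊔ W)) (by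
      intro x hx
      exact Submodule.mem_sup_left hx)
  have hf : Function.Surjective f := by
    intro q
    obtain ⟨⟨c, hc⟩, rfl⟩ := Submodule.mkQ_surjective _ q
    obtain ⟨a, ha, w, hw, rfl⟩ := Submodule.mem_sup.mp hc
    refine ⟨(A₁.comap A₂.subtype).mkQ ⟨a, ha⟩, ?_⟩
    change Submodule.mapQ _ _ _ _ (Submodule.Quotient.mk _) = Submodule.Quotient.mk _
    rw [Submodule.mapQ_apply, Submodule.Quotient.eq]
    change (a - (a + w)) ∈ A₁ ⊔ W
    have : a - (a + w) = -w := by abel
    rw [this]
    exact Submodule.mem_sup_right (W.neg_mem hw)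
  have hgf : LinearMap.range g = LinearMap.ker f := by
    ext q
    constructor
    · rintro ⟨x, rfl⟩
      rw [LinearMap.mem_ker]
      change Submodule.mapQ _ _ _ _ (Submodule.Quotient.mk _) = 0
      rw [Submodule.mapQ_apply, Submodule.Quotient.mk_eq_zero]
      exact Submodule.mem_sup_right x.2.2
    · intro hq
      obtain ⟨⟨a, ha⟩, rfl⟩ := Submodule.mkQ_surjective _ q
      rw [LinearMap.mem_ker] at hq
      change Submodule.mapQ _ _ _ _ (Submodule.Quotient.mk _) = 0 at hq
      rw [Submodule.mapQ_apply, Submodule.Quotient.mk_eq_zero] at hq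
      obtain ⟨a₁, ha₁, w, hw, haw⟩ := Submodule.mem_sup.mp hq
      have haw' : a₁ + w = a := haw
      have hw2 : w ∈ A₂ := by
        have : w = a - a₁ := by rw [← haw']; abel
        rw [this]
        exact A₂.sub_mem ha (h ha₁)
      refine ⟨⟨w, hw2, hw⟩, ?_⟩
      change Submodule.Quotient.mk _ = Submodule.Quotient.mk _
      rw [Submodule.Quotient.eq]
      change w - a ∈ A₁
      have : w - a = -a₁ := by rw [← haw']; abel
      rw [this]
      exact A₁.neg_mem ha₁
  have hker : LinearMap.ker g = (A₁ ⊓ W).comap (A₂ ⊓ W).subtype := by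
    ext x
    rw [LinearMap.mem_ker]
    change Submodule.Quotient.mk _ = 0 ↔ _
    rw [Submodule.Quotient.mk_eq_zero]
    constructor
    · intro hx
      exact ⟨hx, x.2.2⟩
    · intro hx
      exact hx.1
  exact finrank_of_exact' g f hf hgf hker

/-- relative dimension of finite-dimensional nested subspaces -/
theorem Q_finrank_of_finiteDimensional {A B : Submodule k V} (h : A ≤ B)
    [FiniteDimensional k B] :
    finrank k (Q A B) + finrank k A = finrank k B := by
  have h1 := Submodule.finrank_quotient_add_finrank (A.comap B.subtype)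
  rw [(Submodule.comapSubtypeEquivOfLe h).finrank_eq] at h1
  exact h1

/-- if the relative dimension is zero the subspaces agree -/
theorem eq_of_Q_finrank_eq_zero {A B : Submodule k V} (h : A ≤ B)
    [FiniteDimensional k (Q A B)] (h0 : finrank k (Q A B) = 0) : A = B := by
  apply le_antisymm h
  intro b hb
  have hs : Subsingleton (Q A B) := Module.finrank_zero_iff.mp h0
  have : (A.comap B.subtype).mkQ ⟨b, hb⟩ = 0 := Subsingleton.elim _ _
  rw [Submodule.mkQ_apply, Submodule.Quotient.mk_eq_zero] at this
  exact this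

end Groth.Agent.Lib.helper16.RelDim
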