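import Groth.Agent.Lib.helper16.FFRiemann
import Groth.Agent.Lib.helper16.RelDim

/-! Helper library (helper16): repartitions (adeles): dimensions of `A(D₂)/A(D₁)` etc. -/

set_option autoImplicit false

namespace Groth.Agent.Lib.helper16.FF

open FunFld WithZero Polynomial Module
open Groth.Agent.Lib.helper16.RelDim

variable {k K : Type*} [Field k] [Field K] [Algebra k K]

theorem mem_AD_iff {D : Divisor k K} {a : Place k K → K} :
    a ∈ AD D ↔ ∀ P : Place k K, P.1 (a P) ≤ exp (D P) := Iff.rfl

theorem AD_mono {D₁ D₂ : Divisor k K} (h : D₁ ≤ D₂) : AD D₁ ≤ AD D₂ := by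
  intro a ha P
  refine le_trans (ha P) ?_
  rw [exp_le_exp]
  exact h P

/-- The one-step map `A(D + P) → κ(P)`, surjective with kernel `A(D)`. -/
theorem exists_AD_linearMap (D : Divisor k K) (P : Place k K) :
    ∃ φ : AD (D + Finsupp.single P 1) →ₗ[k] IsLocalRing.ResidueField P.O,
      Function.Surjective φ ∧
      LinearMap.ker φ = (AD D).comap (AD (D + Finsupp.single P 1)).subtype := by
  classical
  obtain ⟨t, ht⟩ := exists_val_eq_exp P ((D + Finsupp.single P 1 : Divisor k K) P)
  have ht0 : t ≠ 0 := by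
    rintro rfl
    rw [map_zero] at ht
    exact exp_ne_zero ht.symm
  have hmem : ∀ a : AD (D + Finsupp.single P 1), P.1 ((a : Place k K → K) P * t⁻¹) ≤ 1 := by
    intro a
    rw [map_mul, map_inv₀, ht]
    have := a.2 P
    rw [← div_eq_mul_inv]
    exact div_le_one_of_le₀ this zero_le
  let ψ : AD (D + Finsupp.single P 1) →ₗ[k] P.O :=
    { toFun := fun a => ⟨(a : Place k K → K) P * t⁻¹, hmem a⟩
      map_add' := fun a b => Subtype.ext (by
        change ((a + b : AD _) : Place k K → K) P * t⁻¹ =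
          (a : Place k K → K) P * t⁻¹ + (b : Place k K → K) P * t⁻¹
        rw [Submodule.coe_add, Pi.add_apply, add_mul])
      map_smul' := fun c a => Subtype.ext (by
        rw [RingHom.id_apply, coe_smul_O]
        change ((c • a : AD _) : Place k K → K) P * t⁻¹ = c • ((a : Place k K → K) P * t⁻¹)
        rw [Submodule.coe_smul, Pi.smul_apply, smul_mul_assoc]) }
  refine ⟨(residueₗ P).comp ψ, ?_, ?_⟩
  · intro b
    obtain ⟨y, rfl⟩ := residueₗ_surjective P b
    have hy : P.1 (y : K) ≤ 1 := y.2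
    have ha : (Pi.single P ((y : K) * t) : Place k K → K) ∈ AD (D + Finsupp.single P 1) := by
      intro Q
      by_cases hQ : Q = P
      · subst hQ
        rw [Pi.single_eq_same, map_mul, ht]
        calc Q.1 (y : K) * _ ≤ 1 * _ := by gcongr
          _ = _ := one_mul _
      · rw [Pi.single_eq_of_ne hQ, map_zero]
        exact zero_le
    refine ⟨⟨_, ha⟩, ?_⟩
    rw [LinearMap.comp_apply]
    congr 1
    apply Subtype.ext
    change (Pi.single P ((y : K) * t) : Place k K → K) P * t⁻¹ = (y : K)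
    rw [Pi.single_eq_same]
    field_simp
  · ext a
    rw [LinearMap.mem_ker, LinearMap.comp_apply, residueₗ_apply, residue_eq_zero_iff,
      Submodule.mem_comap, Submodule.subtype_apply]
    change P.1 ((a : Place k K → K) P * t⁻¹) < 1 ↔ _
    rw [map_mul, map_inv₀, ht, ← div_eq_mul_inv, div_lt_one₀ (zero_lt_iff.mpr exp_ne_zero)]
    constructor
    · intro h Q
      by_cases hQ : Q = P
      · subst hQ
        by_cases hx0 : (a : Place k K → K) Q = 0
        · rw [hx0, map_zero]; exact zero_le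
        · rw [val_lt_exp_iff Q hx0] at h
          rw [val_le_exp_iff Q hx0]
          simp only [Finsupp.add_apply, Finsupp.single_eq_same] at h
          omega
      · have := a.2 Q
        simp only [Finsupp.add_apply, Finsupp.single_apply, if_neg (Ne.symm hQ), add_zero] at this
        exact this
    · intro h
      refine lt_of_le_of_lt (h P) ?_
      rw [exp_lt_exp]
      simp

theorem AD_Q_single (hK : IsFunctionField k K) (D : Divisor k K) (P : Place k K) :
    FiniteDimensional k (Q (AD D) (AD (D + Finsupp.single P 1))) ∧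
      finrank k (Q (AD D) (AD (D + Finsupp.single P 1))) = P.deg := by
  obtain ⟨φ, hφ1, hφ2⟩ := exists_AD_linearMap D P
  have := finiteDimensional_residueField hK P
  exact finrank_quotient_of_surjective φ hφ1 hφ2

theorem AD_Q_multiset (hK : IsFunctionField k K) (D : Divisor k K)
    (m : Multiset (Place k K)) :
    FiniteDimensional k (Q (AD D) (AD (D + divOfMultiset m))) ∧
      (finrank k (Q (AD D) (AD (D + divOfMultiset m))) : ℤ) = (divOfMultiset m).deg := by
  induction m using Multiset.induction_on with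
  | empty =>
    rw [divOfMultiset_zero, add_zero, deg_zero]
    have := Q_self (AD D)
    exact ⟨this.1, by rw [this.2]; rfl⟩
  | cons P m ih =>
    obtain ⟨h1, h2⟩ := ih
    have heq : D + divOfMultiset (P ::ₘ m) = (D + divOfMultiset m) + Finsupp.single P 1 := by
      rw [divOfMultiset_cons]; abel
    rw [heq]
    obtain ⟨h3, h4⟩ := AD_Q_single hK (D + divOfMultiset m) P
    have hle1 : AD D ≤ AD (D + divOfMultiset m) := AD_mono (by
      have : 0 ≤ divOfMultiset m := by
        intro Q
        classical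
        rw [divOfMultiset_apply]
        simp
      exact le_add_of_nonneg_right this)
    have hle2 : AD (D + divOfMultiset m) ≤ AD (D + divOfMultiset m + Finsupp.single P 1) :=
      AD_mono (le_add_single _ P)
    obtain ⟨h5, h6⟩ := Q_trans hle1 hle2
    refine ⟨h5, ?_⟩
    rw [h6, divOfMultiset_cons, deg_add, deg_single]
    push_cast
    rw [h2, h4]
    ring

theorem AD_Q (hK : IsFunctionField k K) {D₁ D₂ : Divisor k K} (h : D₁ ≤ D₂) :
    FiniteDimensional k (Q (AD D₁) (AD D₂)) ∧
      (finrank k (Q (AD D₁) (AD D₂)) : ℤ) = D₂.deg - D₁.deg := by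
  obtain ⟨m, hm⟩ := exists_divOfMultiset_eq (sub_nonneg.mpr h)
  have := AD_Q_multiset hK D₁ m
  rw [hm, deg_sub] at this
  have heq : D₁ + (D₂ - D₁) = D₂ := by abel
  rwa [heq] at this

theorem nonempty_place (hK : IsFunctionField k K) : Nonempty (Place k K) := by
  obtain ⟨x, hx⟩ := exists_not_mem_range hK
  obtain ⟨P, -⟩ := exists_place_lt_one hK hx
  exact ⟨P⟩

theorem diag_apply (x : K) (P : Place k K) : diag k K x P = x := rfl

theorem diag_injective (hK : IsFunctionField k K) : Function.Injective (diag k K) := by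
  obtain ⟨P⟩ := nonempty_place hK
  intro x y h
  have := congrFun h P
  exact this

/-- `L(D) ≃ A(D) ∩ K` -/
theorem finrank_AD_inf_diag (hK : IsFunctionField k K) (D : Divisor k K) :
    FiniteDimensional k ↥(AD D ⊓ LinearMap.range (diag k K)) ∧
      finrank k ↥(AD D ⊓ LinearMap.range (diag k K)) = ell D := by
  have hfd := finiteDimensional_L hK D
  let f : L D →ₗ[k] ↥(AD D ⊓ LinearMap.range (diag k K)) :=
    LinearMap.codRestrict _ ((diag k K).comp (L D).subtype) (fun x => by
      refine ⟨?_, ⟨x.1, rfl⟩⟩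
      intro P
      exact x.2 P)
  have hinj : Function.Injective f := by
    intro x y h
    have h1 : diag k K x.1 = diag k K y.1 := congrArg Subtype.val h
    exact Subtype.ext (diag_injective hK h1)
  have hsurj : Function.Surjective f := by
    rintro ⟨a, ha1, ⟨x, rfl⟩⟩
    exact ⟨⟨x, fun P => ha1 P⟩, rfl⟩
  let e := LinearEquiv.ofBijective f ⟨hinj, hsurj⟩
  exact ⟨LinearEquiv.finiteDimensional e, e.finrank_eq.symm⟩

/-- `dim (A(D₂)+K)/(A(D₁)+K) = δ(D₂) - δ(D₁)` -/
theorem ADK_Q (hK : IsFunctionField k K) {D₁ D₂ : Divisor k K} (h : D₁ ≤ D₂) :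
    FiniteDimensional k (Q (AD D₁ ⊔ LinearMap.range (diag k K))
      (AD D₂ ⊔ LinearMap.range (diag k K))) ∧
    (finrank k (Q (AD D₁ ⊔ LinearMap.range (diag k K))
      (AD D₂ ⊔ LinearMap.range (diag k K))) : ℤ) = delta D₂ - delta D₁ := by
  obtain ⟨h1, h2⟩ := AD_Q hK h
  obtain ⟨h3, h4, h5⟩ := Q_sup (W := LinearMap.range (diag k K)) (AD_mono h)
  obtain ⟨h6, h7⟩ := finrank_AD_inf_diag hK D₂
  obtain ⟨_, h8⟩ := finrank_AD_inf_diag hK D₁
  have h9 := Q_finrank_of_finiteDimensional
    (inf_le_inf_right (LinearMap.range (diag k K)) (AD_mono h))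
  rw [h7, h8] at h9
  refine ⟨h4, ?_⟩
  unfold delta
  omega

theorem mem_adele_iff {a : Place k K → K} :
    a ∈ adele k K ↔ {P : Place k K | ¬ P.1 (a P) ≤ 1}.Finite := by
  change (∀ᶠ P : Place k K in Filter.cofinite, P.1 (a P) ≤ 1) ↔ _
  rw [Filter.eventually_cofinite]

theorem AD_le_adele (D : Divisor k K) : AD D ≤ adele k K := by
  intro a ha
  rw [mem_adele_iff]
  refine D.support.finite_toSet.subset ?_
  intro P hP
  by_contra hPD
  have hPD' : P ∉ D.support := hPD
  apply hP
  have := ha P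
  rw [Finsupp.notMem_support_iff.mp hPD', exp_zero] at this
  exact this

theorem diag_le_adele (hK : IsFunctionField k K) : LinearMap.range (diag k K) ≤ adele k K := by
  rintro _ ⟨x, rfl⟩
  rw [mem_adele_iff]
  refine (finite_support_ord hK x).subset ?_
  intro P hP
  have hP' : ¬ P.1 x ≤ 1 := hP
  have hx0 : x ≠ 0 := by
    rintro rfl
    apply hP'
    rw [map_zero]
    exact zero_le
  rw [val_le_one_iff P hx0] at hP'
  rw [Function.mem_support]
  omega

theorem ADK_le_adele (hK : IsFunctionField k K) (D : Divisor k K) :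
    AD D ⊔ LinearMap.range (diag k K) ≤ adele k K :=
  sup_le (AD_le_adele D) (diag_le_adele hK)

/-- every adele lies in some `A(D₁)` with `D₁ ≥ D₀` -/
theorem exists_AD_mem {a : Place k K → K} (ha : a ∈ adele k K) (D₀ : Divisor k K) :
    ∃ D₁ : Divisor k K, D₀ ≤ D₁ ∧ a ∈ AD D₁ := by
  classical
  rw [mem_adele_iff] at ha
  let E : Divisor k K := Finsupp.ofSupportFinite (fun P => max 0 (-P.ord (a P))) (by
    refine ha.subset ?_
    intro P hP
    rw [Function.mem_support] at hP
    intro hle
    apply hP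
    by_cases h0 : a P = 0
    · rw [h0, ord_zero]; simp
    · rw [val_le_one_iff P h0] at hle
      rw [max_eq_left (by omega)])
  have hE : ∀ P, E P = max 0 (-P.ord (a P)) := fun P => rfl
  refine ⟨D₀ ⊔ E, le_sup_left, ?_⟩
  intro P
  by_cases h0 : a P = 0
  · rw [h0, map_zero]; exact zero_le
  · rw [val_le_exp_iff P h0, Finsupp.sup_apply, hE]
    have h1 : max 0 (-P.ord (a P)) ≤ D₀ P ⊔ max 0 (-P.ord (a P)) := le_sup_right
    have h2 : -P.ord (a P) ≤ max 0 (-P.ord (a P)) := le_max_right _ _
    omega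

/-- `A(D₀) + K` is the whole adele space when `δ(D₀) = g` -/
theorem ADK_eq_adele (hK : IsFunctionField k K) {D₀ : Divisor k K}
    (hD₀ : delta D₀ = genus k K) :
    AD D₀ ⊔ LinearMap.range (diag k K) = adele k K := by
  apply le_antisymm (ADK_le_adele hK D₀)
  intro a ha
  obtain ⟨D₁, hle, ha1⟩ := exists_AD_mem ha D₀
  obtain ⟨h1, h2⟩ := ADK_Q hK hle
  have h3 : delta D₁ = genus k K :=
    le_antisymm (delta_le_genus hK D₁) (hD₀ ▸ delta_mono hK hle)
  have h4 : finrank k (Q (AD D₀ ⊔ LinearMap.range (diag k K))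
      (AD D₁ ⊔ LinearMap.range (diag k K))) = 0 := by
    rw [h3, hD₀, sub_self] at h2
    exact_mod_cast h2
  have h5 := eq_of_Q_finrank_eq_zero (sup_le_sup_right (AD_mono hle) _) h4
  rw [h5]
  exact Submodule.mem_sup_left ha1

/-- `dim 𝔸/(A(D)+K) = g - δ(D)` -/
theorem finrank_adele_quotient (hK : IsFunctionField k K) (D : Divisor k K) :
    FiniteDimensional k (↥(adele k K) ⧸ ADK D) ∧
      (finrank k (↥(adele k K) ⧸ ADK D) : ℤ) = (genus k K : ℤ) - delta D := by
  obtain ⟨D', hD'⟩ := exists_delta_eq_genus hK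
  have hle : D ≤ D ⊔ D' := le_sup_left
  have hD₀ : delta (D ⊔ D') = genus k K :=
    le_antisymm (delta_le_genus hK _) (hD' ▸ delta_mono hK le_sup_right)
  have h := ADK_Q hK hle
  rw [ADK_eq_adele hK hD₀, hD₀] at h
  exact h

/-- `dim W(D) = g - δ(D)` -/
theorem finrank_WD (hK : IsFunctionField k K) (D : Divisor k K) :
    FiniteDimensional k (WD D) ∧ (finrank k (WD D) : ℤ) = (genus k K : ℤ) - delta D := by
  obtain ⟨h1, h2⟩ := finrank_adele_quotient hK D
  let e : Module.Dual k (↥(adele k K) ⧸ ADK D) ≃ₗ[k] WD D :=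
    Submodule.dualQuotEquivDualAnnihilator (ADK D)
  refine ⟨LinearEquiv.finiteDimensional e, ?_⟩
  rw [← e.finrank_eq, Subspace.dual_finrank_eq, h2]

end Groth.Agent.Lib.helper16.FF


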