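import Groth.Agent.Lib.helper16.FFG2

/-! Helper library (helper16): automorphisms of a function field acting on places. -/

set_option autoImplicit false

namespace Groth.Agent.Lib.helper16.FF

open FunFld WithZero Module

variable {k K : Type*} [Field k] [Field K] [Algebra k K]

/-- transport of a place along an automorphism: `(comapPlace σ P)(z) = P(σ z)` -/
def comapPlace (σ : K ≃ₐ[k] K) (P : Place k K) : Place k K :=
  ⟨P.1.comap (σ : K →+* K), fun c => by
      show P.1 (σ (algebraMap k K c)) ≤ 1
      rw [σ.commutes]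
      exact P.2.1 c,
    fun a => by
      obtain ⟨z, hz⟩ := P.2.2 a
      refine ⟨σ.symm z, ?_⟩
      show P.1 (σ (σ.symm z)) = a
      rw [σ.apply_symm_apply]
      exact hz⟩

theorem comapPlace_val (σ : K ≃ₐ[k] K) (P : Place k K) (z : K) :
    (comapPlace σ P).1 z = P.1 (σ z) := rfl

theorem comapPlace_comapPlace_symm (σ : K ≃ₐ[k] K) (P : Place k K) :
    comapPlace σ (comapPlace σ.symm P) = P := by
  apply Subtype.ext
  ext z
  show P.1 (σ.symm (σ z)) = P.1 z
  rw [σ.symm_apply_apply]

theorem comapPlace_symm_comapPlace (σ : K ≃ₐ[k] K) (P : Place k K) :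
    comapPlace σ.symm (comapPlace σ P) = P := by
  apply Subtype.ext
  ext z
  show P.1 (σ (σ.symm z)) = P.1 z
  rw [σ.apply_symm_apply]

/-- a place is determined by its maximal ideal -/
theorem eq_of_maximalIdeal_le (P Q : Place k K) (h : ∀ y : K, P.1 y < 1 → Q.1 y < 1) : P = Q := by
  symm
  apply eq_of_valuationRing_le
  intro y hy
  by_contra hlt
  rw [not_le] at hlt
  have hy0 : y ≠ 0 := by
    rintro rfl
    rw [map_zero] at hlt
    exact absurd hlt (not_lt.mpr zero_le)
  have h1 : P.1 y⁻¹ < 1 := by
    rw [map_inv₀]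
    exact inv_lt_one_of_one_lt₀ hlt
  have h2 := h _ h1
  rw [map_inv₀] at h2
  have h3 := (inv_lt_one₀ (zero_lt_iff.mpr (val_ne_zero Q hy0))).mp h2
  exact absurd hy (not_le.mpr h3)

theorem comapPlace_eq_of_fixed (σ : K ≃ₐ[k] K) (P : Place k K)
    (h : ∀ x, P.1 x < 1 → P.1 (σ x) < 1) : comapPlace σ P = P :=
  (eq_of_maximalIdeal_le P (comapPlace σ P) h).symm

/-- an automorphism fixing every place is the identity -/
theorem eq_one_of_forall_fixed [IsAlgClosed k] (hK : IsFunctionField k K) (σ : K ≃ₐ[k] K)
    (h : ∀ P : Place k K, ∀ x, P.1 x < 1 → P.1 (σ x) < 1) : σ = 1 := by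
  by_contra hne
  obtain ⟨z, hz⟩ : ∃ z, σ z ≠ z := by
    by_contra hall
    push Not at hall
    exact hne (AlgEquiv.ext hall)
  have hznc : z ∉ Set.range (algebraMap k K) := by
    rintro ⟨c, rfl⟩
    exact hz (σ.commutes c)
  have hw0 : σ z - z ≠ 0 := sub_ne_zero.mpr hz
  have hex : ∀ c : k, ∃ P : Place k K, P.1 (z - algebraMap k K c) < 1 := fun c =>
    exists_place_lt_one hK (by
      rintro ⟨d, hd⟩
      apply hznc
      exact ⟨d + c, by rw [map_add, hd]; ring⟩)
  choose Pc hPc using hex
  have hinj : Function.Injective Pc := by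
    intro c c' hcc
    by_contra hne'
    have h1 := hPc c
    have h2 := hPc c'
    rw [← hcc] at h2
    have h3 : (Pc c).1 (algebraMap k K (c' - c)) < 1 := by
      have e : algebraMap k K (c' - c) = (z - algebraMap k K c) - (z - algebraMap k K c') := by
        rw [map_sub]; ring
      rw [e]
      exact lt_of_le_of_lt ((Pc c).1.map_sub _ _) (max_lt h1 h2)
    rw [val_algebraMap _ (sub_ne_zero.mpr (Ne.symm hne'))] at h3
    exact lt_irrefl _ h3
  have hwz : ∀ c, (Pc c).1 (σ z - z) < 1 := by
    intro c
    have h1 := hPc c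
    have h2 := h (Pc c) _ h1
    rw [map_sub, σ.commutes] at h2
    have e : σ z - z = (σ z - algebraMap k K c) - (z - algebraMap k K c) := by ring
    rw [e]
    exact lt_of_le_of_lt ((Pc c).1.map_sub _ _) (max_lt h2 h1)
  have hinf : {P : Place k K | P.1 (σ z - z) < 1}.Infinite :=
    Set.infinite_of_injective_forall_mem hinj hwz
  by_cases hwc : σ z - z ∈ Set.range (algebraMap k K)
  · obtain ⟨d, hd⟩ := hwc
    have hd0 : d ≠ 0 := by
      rintro rfl
      exact hw0 (by rw [← hd, map_zero])
    have := hwz 0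
    rw [← hd, val_algebraMap _ hd0] at this
    exact lt_irrefl _ this
  · exact hinf (zeros_finite hK hwc)

theorem deg_divOfMultiset [IsAlgClosed k] (hK : IsFunctionField k K)
    (m : Multiset (Place k K)) : (divOfMultiset m).deg = Multiset.card m := by
  induction m using Multiset.induction_on with
  | empty => rw [divOfMultiset_zero, deg_zero]; simp
  | cons Q m ih =>
    rw [divOfMultiset_cons, deg_add, ih, deg_single, deg_eq_one_of_isAlgClosed hK,
      Multiset.card_cons]
    push_cast
    ring

/-- an automorphism fixing more than `2g + 2` places is the identity -/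
theorem eq_one_of_many_fixed [IsAlgClosed k] (hK : IsFunctionField k K) (σ : K ≃ₐ[k] K)
    (h : ((2 * genus k K + 2 : ℕ) : ℕ∞) <
      Set.encard {P : Place k K | ∀ x : K, P.1 x < 1 → P.1 (σ x) < 1}) : σ = 1 := by
  classical
  by_contra hne
  set F := {P : Place k K | ∀ x : K, P.1 x < 1 → P.1 (σ x) < 1} with hF
  obtain ⟨P, hP⟩ : ∃ P : Place k K, P ∉ F := by
    by_contra hall
    push Not at hall
    exact hne (eq_one_of_forall_fixed hK σ hall)
  have hPσ : comapPlace σ P ≠ P := by
    intro heq
    apply hP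
    intro x hx
    have : (comapPlace σ P).1 x < 1 := by rw [heq]; exact hx
    exact this
  set P' := comapPlace σ.symm P with hP'
  have hPP' : P' ≠ P := by
    intro heq
    apply hPσ
    have h1 : comapPlace σ P' = P := comapPlace_comapPlace_symm σ P
    rw [heq] at h1
    exact h1
  -- `2g + 3` fixed places
  have hle : ((2 * genus k K + 2 : ℕ) : ℕ∞) + 1 ≤ F.encard := Order.add_one_le_of_lt h
  obtain ⟨T, hTF, hTcard⟩ := Set.exists_subset_encard_eq hle
  have hTcard' : T.encard = ((2 * genus k K + 3 : ℕ) : ℕ∞) := by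
    rw [hTcard]; push_cast; ring
  have hTfin : T.Finite := Set.finite_of_encard_eq_coe hTcard'
  have hcard : hTfin.toFinset.card = 2 * genus k K + 3 := by
    have := hTfin.encard_eq_coe_toFinset_card
    rw [hTcard'] at this
    exact_mod_cast this.symm
  -- a nonconstant function with a pole of order `≤ g + 1` at `P` only
  set g := genus k K with hg
  set D : Divisor k K := Finsupp.single P ((g : ℤ) + 1) with hD
  have hdegD : D.deg = g + 1 := by
    rw [hD, deg_single, deg_eq_one_of_isAlgClosed hK]; simp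
  have hex : ∃ x : K, x ∈ L D ∧ x ∉ Set.range (algebraMap k K) := by
    by_contra hcon
    push Not at hcon
    have hle : L D ≤ L (0 : Divisor k K) := by
      intro x hx
      rw [L_zero_eq_one hK, Submodule.mem_one]
      exact hcon x hx
    have hfd := finiteDimensional_L hK (0 : Divisor k K)
    have := Submodule.finrank_mono hle
    have h0 := ell_zero hK (k := k) (K := K)
    have h1 := delta_le_genus hK D
    unfold delta at h1
    rw [hdegD] at h1
    unfold ell at h0 h1
    omega
  obtain ⟨x, hxL, hxnc⟩ := hex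
  obtain ⟨P₀, hP₀⟩ := exists_place_one_lt hK hxnc
  have hP₀P : P₀ = P := by
    by_contra hne'
    have := hxL P₀
    rw [hD, Finsupp.single_eq_of_ne hne', exp_zero] at this
    exact absurd this (not_le.mpr hP₀)
  rw [hP₀P] at hP₀
  -- `σ x` has its only pole at `P'`
  set D' : Divisor k K := Finsupp.single P' ((g : ℤ) + 1) with hD'
  have hσx : σ x ∈ L D' := by
    intro Q
    have h1 := hxL (comapPlace σ Q)
    rw [comapPlace_val] at h1
    by_cases hQ : Q = P'
    · rw [hQ, hD', Finsupp.single_eq_same]
      rw [hQ, hP', comapPlace_comapPlace_symm, hD, Finsupp.single_eq_same] at h1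
      exact h1
    · have hQ' : comapPlace σ Q ≠ P := by
        intro heq
        apply hQ
        rw [hP', ← heq, comapPlace_symm_comapPlace]
      rw [hD, Finsupp.single_eq_of_ne hQ'] at h1
      rw [hD', Finsupp.single_eq_of_ne hQ]
      exact h1
  have hPσx : P.1 (σ x) ≤ 1 := by
    have := hσx P
    rwa [hD', Finsupp.single_eq_of_ne (Ne.symm hPP'), exp_zero] at this
  set y := σ x - x with hy
  have hy0 : y ≠ 0 := by
    intro h0
    have : σ x = x := sub_eq_zero.mp h0
    rw [this] at hPσx
    exact absurd hPσx (not_le.mpr hP₀)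
  have hyL : y ∈ L (D + D') := by
    refine Submodule.sub_mem _ (L_mono ?_ hσx) (L_mono ?_ hxL)
    · exact le_add_of_nonneg_left (by rw [hD]; exact Finsupp.single_nonneg.mpr (by positivity))
    · exact le_add_of_nonneg_right (by rw [hD']; exact Finsupp.single_nonneg.mpr (by positivity))
  -- `y` vanishes at every fixed place
  have hyF : ∀ Q ∈ F, Q.1 y < 1 := by
    intro Q hQ
    have hQP : Q ≠ P := by
      rintro rfl
      exact hP hQ
    have h1 := hxL Q
    rw [hD, Finsupp.single_eq_of_ne hQP, exp_zero] at h1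
    obtain ⟨c, hc⟩ := exists_sub_val_lt_one hK Q h1
    have h2 := hQ _ hc
    rw [map_sub, σ.commutes] at h2
    have e : y = (σ x - algebraMap k K c) - (x - algebraMap k K c) := by rw [hy]; ring
    rw [e]
    exact lt_of_le_of_lt (Q.1.map_sub _ _) (max_lt h2 hc)
  have hFP : ∀ Q ∈ F, Q ≠ P ∧ Q ≠ P' := by
    intro Q hQ
    refine ⟨?_, ?_⟩
    · rintro rfl
      exact hP hQ
    · rintro rfl
      apply hPP'
      have h1 := comapPlace_eq_of_fixed σ _ hQ
      rw [hP', comapPlace_comapPlace_symm] at h1
      exact h1.symm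
  set E : Divisor k K := divOfMultiset hTfin.toFinset.val with hE
  have hEapp : ∀ Q, E Q = if Q ∈ T then 1 else 0 := by
    intro Q
    rw [hE, divOfMultiset_apply]
    by_cases hQ : Q ∈ T
    · rw [if_pos hQ, Multiset.count_eq_one_of_mem hTfin.toFinset.nodup
        (hTfin.mem_toFinset.mpr hQ)]
      rfl
    · rw [if_neg hQ, Multiset.count_eq_zero_of_notMem (fun hmem => hQ (hTfin.mem_toFinset.mp hmem))]
      rfl
  have hyE : y ∈ L (D + D' - E) := by
    intro Q
    rw [Finsupp.sub_apply, hEapp]
    by_cases hQ : Q ∈ T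
    · rw [if_pos hQ]
      obtain ⟨h1, h2⟩ := hFP Q (hTF hQ)
      rw [Finsupp.add_apply, hD, hD', Finsupp.single_eq_of_ne h1, Finsupp.single_eq_of_ne h2]
      exact lt_one_iff_le_exp_neg_one.mp (hyF Q (hTF hQ))
    · rw [if_neg hQ, sub_zero]
      exact hyL Q
  have hdeg : (D + D' - E).deg < 0 := by
    rw [deg_sub, deg_add, hdegD, hD', deg_single, deg_eq_one_of_isAlgClosed hK, hE,
      deg_divOfMultiset hK]
    have : Multiset.card hTfin.toFinset.val = 2 * g + 3 := hcard
    rw [this]
    push_cast
    omega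
  rw [L_eq_bot_of_deg_neg hK _ hdeg, Submodule.mem_bot] at hyE
  exact hy0 hyE

end Groth.Agent.Lib.helper16.FF
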