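import Groth.Agent.Lib.helper16.FXConorm
import Groth.Agent.Lib.helper16.FFAut

/-! Helper library (helper16): the Galois group of a finite Galois extension `K'/K` of function
fields acting on the places of `K'`. -/

set_option autoImplicit false

namespace Groth.Agent.Lib.helper16.FX

open FunFld WithZero Polynomial Module Groth.Agent.Lib.helper16.FF
open scoped IntermediateField Pointwise

variable {k K K' : Type*} [Field k] [Field K] [Field K'] [Algebra k K] [Algebra K K']
  [Algebra k K'] [IsScalarTower k K K']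

/-- the place `z ↦ Q (σ z)` -/
def galPlace (σ : K' ≃ₐ[K] K') (Q : Place k K') : Place k K' :=
  comapPlace (σ.restrictScalars k) Q

theorem galPlace_val (σ : K' ≃ₐ[K] K') (Q : Place k K') (z : K') :
    (galPlace σ Q).1 z = Q.1 (σ z) := rfl

theorem galPlace_galPlace (σ τ : K' ≃ₐ[K] K') (Q : Place k K') :
    galPlace σ (galPlace τ Q) = galPlace (τ * σ) Q := by
  apply Subtype.ext
  ext z
  rfl

theorem galPlace_one (Q : Place k K') : galPlace (1 : K' ≃ₐ[K] K') Q = Q := by
  apply Subtype.ext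
  ext z
  rfl

theorem galPlace_isOverWith (σ : K' ≃ₐ[K] K') {Q : Place k K'} {P : Place k K} {e : ℕ}
    (h : IsOverWith Q P e) : IsOverWith (galPlace σ Q) P e := by
  intro x
  rw [galPlace_val, σ.commutes, h x]

theorem galPlace_val_comap (σ : K' ≃ₐ[K] K') (Q : Place k K') :
    (galPlace σ Q).1 = Q.1.comap (σ : K' →+* K') := by
  ext z
  rfl

/-- the Galois group acts transitively on the places with a given restriction -/
theorem exists_galPlace_eq [FiniteDimensional K K'] [IsGalois K K'] (Q₁ Q₂ : Place k K')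
    (h : ∀ x : K, Q₁.1 (algebraMap K K' x) = 1 ↔ Q₂.1 (algebraMap K K' x) = 1) :
    ∃ σ : K' ≃ₐ[K] K', galPlace σ Q₁ = Q₂ := by
  classical
  by_contra hcon
  push Not at hcon
  let S₁ : Finset (Place k K') := Finset.univ.image fun σ : K' ≃ₐ[K] K' => galPlace σ Q₁
  let S₂ : Finset (Place k K') := Finset.univ.image fun σ : K' ≃ₐ[K] K' => galPlace σ Q₂
  have hdisj : ∀ R, R ∈ S₁ → R ∉ S₂ := by
    intro R h1 h2
    obtain ⟨σ, -, rfl⟩ := Finset.mem_image.mp h1
    obtain ⟨τ, -, hτ⟩ := Finset.mem_image.mp h2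
    apply hcon (σ * τ⁻¹)
    have := congrArg (galPlace τ⁻¹) hτ
    rw [galPlace_galPlace, galPlace_galPlace, mul_inv_cancel, galPlace_one] at this
    exact this.symm
  obtain ⟨y, hy⟩ := weak_approximation (fun i : ↥(S₁ ∪ S₂) => (i : Place k K'))
    Subtype.val_injective (fun i => if (i : Place k K') ∈ S₁ then 1 else 0) 1
  have hlt : exp (-1 : ℤ) < (1 : ℤᵐ⁰) := by rw [← exp_zero, exp_lt_exp]; omega
  have h1 : ∀ σ : K' ≃ₐ[K] K', Q₁.1 (σ y) = 1 := by
    intro σ
    have hmem : galPlace σ Q₁ ∈ S₁ := Finset.mem_image.mpr ⟨σ, Finset.mem_univ _, rfl⟩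
    have := hy ⟨galPlace σ Q₁, Finset.mem_union_left _ hmem⟩
    simp only [if_pos hmem] at this
    rw [← galPlace_val]
    have hlt1 : (galPlace σ Q₁).1 (y - 1) < 1 := lt_of_le_of_lt this hlt
    have := Valuation.map_add_eq_of_lt_left (galPlace σ Q₁).1
      (x := 1) (y := y - 1) (by rw [map_one]; exact hlt1)
    rw [map_one, add_sub_cancel] at this
    exact this
  have h2 : ∀ σ : K' ≃ₐ[K] K', Q₂.1 (σ y) < 1 := by
    intro σ
    have hmem : galPlace σ Q₂ ∈ S₂ := Finset.mem_image.mpr ⟨σ, Finset.mem_univ _, rfl⟩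
    have hnmem : galPlace σ Q₂ ∉ S₁ := fun h' => hdisj _ h' hmem
    have := hy ⟨galPlace σ Q₂, Finset.mem_union_right _ hmem⟩
    simp only [if_neg hnmem, sub_zero] at this
    rw [← galPlace_val]
    exact lt_of_le_of_lt this hlt
  have hN := Algebra.norm_eq_prod_automorphisms K y
  have e1 : Q₁.1 (algebraMap K K' (Algebra.norm K y)) = 1 := by
    rw [hN, map_prod]
    exact Finset.prod_eq_one fun σ _ => h1 σ
  have e2 : Q₂.1 (algebraMap K K' (Algebra.norm K y)) < 1 := by
    rw [hN, map_prod, ← Finset.mul_prod_erase Finset.univ _ (Finset.mem_univ (1 : K' ≃ₐ[K] K'))]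
    calc _ ≤ Q₂.1 ((1 : K' ≃ₐ[K] K') y) * 1 := by
          gcongr
          exact Finset.prod_le_one' fun σ _ => (h2 σ).le
      _ = Q₂.1 ((1 : K' ≃ₐ[K] K') y) := mul_one _
      _ < 1 := h2 1
  rw [(h _).mp e1] at e2
  exact lt_irrefl _ e2

omit [Algebra K K'] [Algebra k K] [IsScalarTower k K K'] [Field K] in
theorem O_injective {Q Q' : Place k K'} (h : Q.O = Q'.O) : Q = Q' := by
  apply eq_of_valuationRing_le
  intro y hy
  have : y ∈ Q.O := (Valuation.mem_valuationSubring_iff _ _).mpr hy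
  rw [h] at this
  exact (Valuation.mem_valuationSubring_iff _ _).mp this

theorem smul_O_eq (σ : K' ≃ₐ[K] K') (Q : Place k K') : σ • Q.O = (galPlace σ⁻¹ Q).O := by
  ext x
  rw [ValuationSubring.mem_pointwise_smul_iff_inv_smul_mem, Valuation.mem_valuationSubring_iff,
    Valuation.mem_valuationSubring_iff]
  rfl

theorem mem_decompositionSubgroup_iff (σ : K' ≃ₐ[K] K') (Q : Place k K') :
    σ ∈ (Q.O).decompositionSubgroup K ↔ galPlace σ Q = Q := by
  rw [ValuationSubring.decompositionSubgroup, MulAction.mem_stabilizer_iff, smul_O_eq]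
  constructor
  · intro h
    have h1 := O_injective h
    have h2 := congrArg (galPlace σ) h1
    rw [galPlace_galPlace, inv_mul_cancel, galPlace_one] at h2
    exact h2.symm
  · intro h
    have h2 := congrArg (galPlace σ⁻¹) h
    rw [galPlace_galPlace, mul_inv_cancel, galPlace_one] at h2
    rw [← h2]

theorem val_algebraMap_eq_one_iff [Algebra.IsAlgebraic K K'] {Q Q' : Place k K'} {P : Place k K}
    (h : IsOver Q P) (h' : IsOver Q' P) (x : K) :
    Q.1 (algebraMap K K' x) = 1 ↔ Q'.1 (algebraMap K K' x) = 1 := by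
  obtain ⟨e, he⟩ := h
  obtain ⟨e', he'⟩ := h'
  have hpos := isOverWith_pos he
  have hpos' := isOverWith_pos he'
  rw [he x, he' x, pow_eq_one_iff, pow_eq_one_iff]
  constructor
  · rintro (h | h)
    · exact Or.inl h
    · omega
  · rintro (h | h)
    · exact Or.inl h
    · omega

/-- all places over `P` are conjugate -/
theorem exists_galPlace_eq_of_isOver [FiniteDimensional K K'] [IsGalois K K'] {Q Q' : Place k K'}
    {P : Place k K} (h : IsOver Q P) (h' : IsOver Q' P) :
    ∃ σ : K' ≃ₐ[K] K', galPlace σ Q = Q' :=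
  exists_galPlace_eq Q Q' (val_algebraMap_eq_one_iff h h')

/-- orbit-stabilizer: `r · |G_Q| = [K' : K]` -/
theorem card_isOver_mul_card_decomposition [FiniteDimensional K K'] [IsGalois K K']
    {Q : Place k K'} {P : Place k K} (h : IsOver Q P) :
    Nat.card {Q' : Place k K' // IsOver Q' P} * Nat.card ((Q.O).decompositionSubgroup K) =
      finrank K K' := by
  rw [← IsGalois.card_aut_eq_finrank K K']
  have key : Nat.card {Q' : Place k K' // IsOver Q' P} =
      Nat.card (MulAction.orbit (K' ≃ₐ[K] K') Q.O) := by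
    have hmem : ∀ Q' : {Q' : Place k K' // IsOver Q' P},
        Q'.1.O ∈ MulAction.orbit (K' ≃ₐ[K] K') Q.O := by
      rintro ⟨Q', hQ'⟩
      obtain ⟨σ, hσ⟩ := exists_galPlace_eq_of_isOver h hQ'
      refine ⟨σ⁻¹, ?_⟩
      show σ⁻¹ • Q.O = Q'.O
      rw [smul_O_eq, inv_inv, hσ]
    apply Nat.card_eq_of_bijective (fun Q' => ⟨Q'.1.O, hmem Q'⟩)
    constructor
    · intro Q₁ Q₂ h12
      exact Subtype.ext (O_injective (congrArg Subtype.val h12))
    · rintro ⟨A, σ, hσ⟩
      obtain ⟨e, he⟩ := h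
      refine ⟨⟨galPlace σ⁻¹ Q, e, galPlace_isOverWith _ he⟩, ?_⟩
      apply Subtype.ext
      show (galPlace σ⁻¹ Q).O = A
      rw [← smul_O_eq]
      exact hσ
  rw [key, ← Nat.card_prod]
  exact Nat.card_congr (MulAction.orbitProdStabilizerEquivGroup _ _)

section deg

variable {k K : Type*} [Field k] [Field K] [Algebra k K]

/-- `σ` maps the valuation ring of `comapPlace σ P` to that of `P` -/
def toO (σ : K ≃ₐ[k] K) (P : Place k K) (y : (comapPlace σ P).O) : P.O :=
  ⟨σ (y : K), (Valuation.mem_valuationSubring_iff _ _).mpr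
    ((Valuation.mem_valuationSubring_iff _ _).mp y.2)⟩

theorem coe_toO (σ : K ≃ₐ[k] K) (P : Place k K) (y : (comapPlace σ P).O) :
    ((toO σ P y : P.O) : K) = σ (y : K) := rfl

/-- the residue map of `P` composed with `σ`, on the valuation ring of `comapPlace σ P` -/
noncomputable def comapResidue (σ : K ≃ₐ[k] K) (P : Place k K) :
    (comapPlace σ P).O →ₗ[k] IsLocalRing.ResidueField P.O where
  toFun y := IsLocalRing.residue P.O (toO σ P y)
  map_add' y z := by
    have h : toO σ P (y + z) = toO σ P y + toO σ P z := Subtype.ext (map_add σ _ _)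
    rw [h, map_add]
  map_smul' c y := by
    have h : toO σ P (c • y) = c • toO σ P y :=
      Subtype.ext (by rw [coe_toO, coe_smul_O, coe_smul_O, map_smul, coe_toO])
    rw [h]
    exact residue_smul P c _

theorem comapResidue_surjective (σ : K ≃ₐ[k] K) (P : Place k K) :
    Function.Surjective (comapResidue σ P) := by
  intro r
  obtain ⟨z, rfl⟩ := IsLocalRing.residue_surjective r
  have hz : (comapPlace σ P).1 (σ.symm (z : K)) ≤ 1 := by
    rw [comapPlace_val, σ.apply_symm_apply]
    exact z.2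
  refine ⟨⟨σ.symm (z : K), hz⟩, ?_⟩
  show IsLocalRing.residue P.O (toO σ P _) = _
  congr 1
  apply Subtype.ext
  exact σ.apply_symm_apply _

theorem ker_comapResidue (σ : K ≃ₐ[k] K) (P : Place k K) :
    LinearMap.ker (comapResidue σ P) = LinearMap.ker (residueₗ (comapPlace σ P)) := by
  ext y
  rw [LinearMap.mem_ker, LinearMap.mem_ker, residueₗ_apply, residue_eq_zero_iff]
  show IsLocalRing.residue P.O (toO σ P y) = 0 ↔ _
  rw [residue_eq_zero_iff]
  rfl

theorem deg_comapPlace (σ : K ≃ₐ[k] K) (P : Place k K) : (comapPlace σ P).deg = P.deg := by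
  have h1 := (LinearMap.quotKerEquivOfSurjective _ (comapResidue_surjective σ P)).finrank_eq
  have h2 := (LinearMap.quotKerEquivOfSurjective _
    (residueₗ_surjective (comapPlace σ P))).finrank_eq
  rw [ker_comapResidue] at h1
  unfold Place.deg
  rw [← h1, ← h2]

end deg

theorem deg_galPlace (σ : K' ≃ₐ[K] K') (Q : Place k K') : (galPlace σ Q).deg = Q.deg :=
  deg_comapPlace _ Q

/-- all places over `P` have the same ramification index and degree -/
theorem isOverWith_and_deg_eq_of_isOver [FiniteDimensional K K'] [IsGalois K K']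
    {Q Q' : Place k K'} {P : Place k K} {e : ℕ} (he : IsOverWith Q P e) (h' : IsOver Q' P) :
    IsOverWith Q' P e ∧ Q'.deg = Q.deg := by
  obtain ⟨σ, rfl⟩ := exists_galPlace_eq_of_isOver ⟨e, he⟩ h'
  exact ⟨galPlace_isOverWith σ he, deg_galPlace σ Q⟩

/-- `|G_Q| · deg P = e · deg Q` -/
theorem card_decomposition_mul_deg [FiniteDimensional K K'] [IsGalois K K']
    (hK : IsFunctionField k K) {Q : Place k K'} {P : Place k K} {e : ℕ}
    (he : IsOverWith Q P e) :
    Nat.card ((Q.O).decompositionSubgroup K) * P.deg = e * Q.deg := by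
  classical
  obtain ⟨hfin, hsum⟩ := sum_ramIdx_mul_deg (K' := K') hK P
  have h1 := hsum hfin.toFinset (fun Q => hfin.mem_toFinset)
  have h2 : ∀ Q' ∈ hfin.toFinset, ramIdx Q' P * Q'.deg = e * Q.deg := by
    intro Q' hQ'
    obtain ⟨h3, h4⟩ := isOverWith_and_deg_eq_of_isOver he (hfin.mem_toFinset.mp hQ')
    rw [ramIdx_eq h3, h4]
  rw [Finset.sum_congr rfl h2, Finset.sum_const, smul_eq_mul] at h1
  have h5 := card_isOver_mul_card_decomposition (k := k) (Q := Q) (P := P) ⟨e, he⟩
  have h6 : Nat.card {Q' : Place k K' // IsOver Q' P} = hfin.toFinset.card := by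
    rw [← Set.ncard_eq_toFinset_card _ hfin]
    exact Nat.card_coe_set_eq _
  rw [h6] at h5
  have hpos : 0 < hfin.toFinset.card :=
    Finset.card_pos.mpr ⟨Q, hfin.mem_toFinset.mpr ⟨e, he⟩⟩
  rw [← h5, mul_assoc] at h1
  exact (Nat.eq_of_mul_eq_mul_left hpos h1).symm

end Groth.Agent.Lib.helper16.FX
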