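import Groth.Agent.Lib.helper16.FArtSchReg
import Groth.Agent.Lib.helper16.FFAdele
import Groth.Agent.Lib.helper16.FXGal

set_option autoImplicit false

namespace Groth.Agent.Lib.helper16.FAA

open FunFld WithZero Polynomial Module
open Groth.Agent.Lib.helper16 Groth.Agent.Lib.helper16.FF Groth.Agent.Lib.helper16.FX
  Groth.Agent.Lib.helper16.FR Groth.Agent.Lib.helper16.FA Groth.Agent.Lib.helper16.FHD
open scoped IntermediateField

universe u v w

section ratfunc

variable {k : Type u} [Field k]

theorem adele_ratFunc :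
    AD (0 : Divisor k (RatFunc k)) ⊔ LinearMap.range (diag k (RatFunc k)) =
      adele k (RatFunc k) := by
  have hK := isFunctionField_ratFunc (k := k)
  apply ADK_eq_adele hK
  have hg : genus k (RatFunc k) = 0 := genus_eq_zero_of_adjoin_eq_top hK RatFunc.adjoin_X
  unfold delta
  rw [hg, ell_zero hK, deg_zero]
  simp

/-- partial fractions: the principal part of `h` at `p` is realised by a function integral
elsewhere -/
theorem exists_approx_ratFunc (p : Place k (RatFunc k)) (h : RatFunc k) :
    ∃ g : RatFunc k, p.1 (h - g) ≤ 1 ∧ ∀ p' : Place k (RatFunc k), p' ≠ p → p'.1 g ≤ 1 := by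
  classical
  have ha : (Pi.single p h : Place k (RatFunc k) → RatFunc k) ∈ adele k (RatFunc k) := by
    rw [mem_adele_iff]
    refine (Set.finite_singleton p).subset ?_
    intro p' hp'
    rw [Set.mem_singleton_iff]
    by_contra hne
    apply hp'
    rw [Pi.single_eq_of_ne hne, map_zero]
    exact zero_le
  rw [← adele_ratFunc, Submodule.mem_sup] at ha
  obtain ⟨b, hb, _, ⟨g, rfl⟩, hbg⟩ := ha
  refine ⟨g, ?_, ?_⟩
  · have h1 := hb p
    have h2 := congrFun hbg p
    rw [Pi.add_apply, diag_apply, Pi.single_eq_same] at h2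
    have h3 : h - g = b p := by rw [← h2]; ring
    rw [h3]
    simpa using h1
  · intro p' hp'
    have h1 := hb p'
    have h2 := congrFun hbg p'
    rw [Pi.add_apply, diag_apply, Pi.single_eq_of_ne hp'] at h2
    have h3 : g = -b p' := by
      rw [eq_neg_iff_add_eq_zero, add_comm]; exact h2
    rw [h3, Valuation.map_neg]
    simpa using h1

end ratfunc

section ext

variable {k : Type u} {K : Type v} [Field k] [Field K] [Algebra k K] [Algebra (RatFunc k) K]
  [IsScalarTower k (RatFunc k) K]

/-- a repartition supported at the unique place over `p`, with a value from `k(x)`, is integral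
modulo principal repartitions -/
theorem single_alg_mem [FiniteDimensional (RatFunc k) K] [DecidableEq (Place k K)]
    {P : Place k K}
    {p : Place k (RatFunc k)} {e : ℕ}
    (he : IsOverWith P p e) (huniq : ∀ P' : Place k K, IsOver P' p → P' = P) (h : RatFunc k) :
    (Pi.single P (algebraMap (RatFunc k) K h) : Place k K → K) ∈
      AD (0 : Divisor k K) ⊔ LinearMap.range (diag k K) := by
  have hKr := isFunctionField_ratFunc (k := k)
  obtain ⟨g, hg1, hg2⟩ := exists_approx_ratFunc p h
  have hsplit : (Pi.single P (algebraMap (RatFunc k) K h) : Place k K → K) =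
      (Pi.single P (algebraMap (RatFunc k) K h) - diag k K (algebraMap (RatFunc k) K g)) +
        diag k K (algebraMap (RatFunc k) K g) := by
    rw [sub_add_cancel]
  rw [hsplit]
  refine Submodule.add_mem_sup ?_ ⟨_, rfl⟩
  intro P'
  rw [Finsupp.zero_apply, exp_zero, Pi.sub_apply, diag_apply]
  by_cases hP : P' = P
  · subst hP
    rw [Pi.single_eq_same, ← map_sub, he]
    exact pow_le_one' hg1 e
  · rw [Pi.single_eq_of_ne hP, zero_sub, Valuation.map_neg]
    obtain ⟨p', e', he'⟩ := exists_isOverWith (K' := K) hKr.1 P'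
    have hp' : p' ≠ p := by
      rintro rfl
      exact hP (huniq P' ⟨e', he'⟩)
    rw [he']
    exact pow_le_one' (hg2 p' hp') e'

end ext

section places

variable {k : Type u} {K : Type v} [Field k] [Field K] [Algebra k K] [Algebra (RatFunc k) K]
  [IsScalarTower k (RatFunc k) K]

omit [Algebra (RatFunc k) K] [IsScalarTower k (RatFunc k) K] in
theorem ord_zpow (P : Place k K) (x : K) (n : ℤ) : P.ord (x ^ n) = n * P.ord x := by
  unfold Place.ord
  rw [map_zpow₀, log_zpow]
  simp

theorem xa_eq (α : k) :
    algebraMap (RatFunc k) K RatFunc.X - algebraMap k K α =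
      algebraMap (RatFunc k) K (RatFunc.X - RatFunc.C α) := by
  rw [map_sub, IsScalarTower.algebraMap_apply k (RatFunc k) K α, RatFunc.algebraMap_eq_C]

theorem alg_X_sub_C (α : k) :
    algebraMap k[X] (RatFunc k) (X - C α) = RatFunc.X - RatFunc.C α := by
  rw [map_sub, RatFunc.algebraMap_X, RatFunc.algebraMap_C]

variable (hdeg : finrank (RatFunc k) K = 2) {y : K} {f : RatFunc k}
  (heq : y ^ 2 + y = algebraMap (RatFunc k) K f)

include hdeg heq in
/-- the place over `x = α`, a pole of `f` of odd order -/
theorem place_over {α : k} {dα : ℕ} (hdα : Odd dα)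
    (hpole : ∀ p : Place k (RatFunc k), p.1 ((RatFunc.X : RatFunc k) - RatFunc.C α) < 1 →
      p.ord f = -(dα : ℤ))
    {P : Place k K} (hP : P.1 (algebraMap (RatFunc k) K RatFunc.X - algebraMap k K α) < 1) :
    ∃ p : Place k (RatFunc k), IsOverWith P p 2 ∧
      (∀ P' : Place k K, IsOver P' p → P' = P) ∧ P.ord y = -(dα : ℤ) ∧
      P.ord (algebraMap (RatFunc k) K RatFunc.X - algebraMap k K α) = 2 := by
  have hfin : FiniteDimensional (RatFunc k) K := Module.finite_of_finrank_pos (by omega)
  have hKr := isFunctionField_ratFunc (k := k)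
  obtain ⟨p, e, he⟩ := exists_isOverWith (K' := K) hKr.1 P
  have hepos := isOverWith_pos he
  rw [xa_eq, he] at hP
  have hp : p.1 ((RatFunc.X : RatFunc k) - RatFunc.C α) < 1 := by
    by_contra hge
    rw [not_lt] at hge
    exact absurd hP (not_lt.mpr (one_le_pow₀ hge))
  have hf := hpole p hp
  have hd1 : 1 ≤ dα := hdα.pos
  have hpole' : p.ord f < 0 := by rw [hf]; omega
  have hodd : Odd (p.ord f) := by
    rw [hf]
    exact (Int.odd_coe_nat dα).mpr hdα |>.neg
  obtain ⟨huniq, hall⟩ := unique_over_of_odd_pole hdeg heq p hpole' hodd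
  obtain ⟨h3, -⟩ := hall P ⟨e, he⟩
  have he2 : e = 2 := (isOverWith_unique he h3).2
  subst he2
  refine ⟨p, he, ?_, ?_, ?_⟩
  · intro P' hP'
    exact huniq.unique hP' ⟨2, he⟩
  · have := two_mul_ord_y heq he (by norm_num) hpole'
    rw [hf] at this
    push_cast at this
    omega
  · rw [xa_eq, isOverWith_ord he, ← alg_X_sub_C,
      ord_alg_irreducible p (irreducible_X_sub_C α) (by rw [alg_X_sub_C]; exact hp)]
    rfl

omit [Algebra (RatFunc k) K] [IsScalarTower k (RatFunc k) K] in
theorem val_sub_const_of_lt (P : Place k K) {x : K} {α β : k} (hβα : β ≠ α)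
    (hP : P.1 (x - algebraMap k K β) < 1) : P.1 (x - algebraMap k K α) = 1 := by
  have h1 : x - algebraMap k K α = algebraMap k K (β - α) + (x - algebraMap k K β) := by
    rw [map_sub]; ring
  have h2 : P.1 (algebraMap k K (β - α)) = 1 := val_algebraMap P (sub_ne_zero.mpr hβα)
  rw [h1, Valuation.map_add_eq_of_lt_left _ (by rw [h2]; exact hP), h2]

omit [Algebra (RatFunc k) K] [IsScalarTower k (RatFunc k) K] in
theorem val_sub_const_of_pole (P : Place k K) {x : K} (α : k) (hP : 1 < P.1 x) :
    P.1 (x - algebraMap k K α) = P.1 x := by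
  rw [sub_eq_add_neg]
  apply Valuation.map_add_eq_of_lt_left
  rw [Valuation.map_neg]
  exact lt_of_le_of_lt (P.2.1 α) hP

end places

section frob

variable {k : Type u} {K : Type v} [Field k] [CharP k 2] [Field K] [Algebra k K]
  [Algebra (RatFunc k) K] [IsScalarTower k (RatFunc k) K]
  (hdeg : finrank (RatFunc k) K = 2) {y : K} {f : RatFunc k}
  (heq : y ^ 2 + y = algebraMap (RatFunc k) K f)

include hdeg heq in
/-- S19047 -/
theorem frobenius_class [DecidableEq (Place k K)] {α : k} {dα : ℕ} (hdα : Odd dα)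
    (hpole : ∀ p : Place k (RatFunc k), p.1 ((RatFunc.X : RatFunc k) - RatFunc.C α) < 1 →
      p.ord f = -(dα : ℤ))
    {P : Place k K} (hP : P.1 (algebraMap (RatFunc k) K RatFunc.X - algebraMap k K α) < 1)
    (j : ℕ) :
    (Pi.single P ((y * (algebraMap (RatFunc k) K RatFunc.X - algebraMap k K α) ^ j) ^ 2) -
      Pi.single P (y * (algebraMap (RatFunc k) K RatFunc.X - algebraMap k K α) ^ (2 * j)) :
        Place k K → K) ∈ AD (0 : Divisor k K) ⊔ LinearMap.range (diag k K) ∧
    (dα < 4 * j + 1 →
      (Pi.single P ((y * (algebraMap (RatFunc k) K RatFunc.X - algebraMap k K α) ^ j) ^ 2) :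
        Place k K → K) ∈ AD (0 : Divisor k K) ⊔ LinearMap.range (diag k K)) := by
  have hfin : FiniteDimensional (RatFunc k) K := Module.finite_of_finrank_pos (by omega)
  haveI : CharP K 2 := charP_of_injective_algebraMap (algebraMap k K).injective 2
  obtain ⟨p, he, huniq, hyo, hxo⟩ := place_over hdeg heq hdα hpole hP
  set xa : K := algebraMap (RatFunc k) K RatFunc.X - algebraMap k K α with hxa
  have hy2 : y ^ 2 = y + algebraMap (RatFunc k) K f := by
    rw [← heq, add_comm (y ^ 2), ← add_assoc, CharTwo.add_self_eq_zero, zero_add]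
  have hsq : (y * xa ^ j) ^ 2 = y * xa ^ (2 * j) +
      algebraMap (RatFunc k) K (f * (RatFunc.X - RatFunc.C α) ^ (2 * j)) := by
    rw [mul_pow, hy2, map_mul, map_pow, ← xa_eq, ← hxa, ← pow_mul, mul_comm j 2]
    ring
  have hW := single_alg_mem he huniq (f * (RatFunc.X - RatFunc.C α) ^ (2 * j))
  constructor
  · rw [← Pi.single_sub, hsq, add_sub_cancel_left]
    exact hW
  · intro hd
    rw [hsq, Pi.single_add]
    refine Submodule.add_mem _ (Submodule.mem_sup_left ?_) hW
    intro P'
    rw [Finsupp.zero_apply, exp_zero]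
    by_cases hPP : P' = P
    · subst hPP
      rw [Pi.single_eq_same]
      have hy0 : y ≠ 0 := by
        rintro rfl
        rw [ord_zero] at hyo
        have := hdα.pos
        omega
      have hxa0 : xa ≠ 0 := by
        rintro h0
        rw [h0, ord_zero] at hxo
        omega
      rw [val_le_one_iff P' (mul_ne_zero hy0 (pow_ne_zero _ hxa0)),
        ord_mul P' hy0 (pow_ne_zero _ hxa0), ord_pow, hyo, hxo]
      push_cast
      omega
    · rw [Pi.single_eq_of_ne hPP, map_zero]
      exact zero_le

end frob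

end Groth.Agent.Lib.helper16.FAA
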