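import Groth.Agent.Lib.helper16.FAdeleAS

set_option autoImplicit false

namespace Groth.Agent.Lib.helper16.FAA

open FunFld WithZero Polynomial Module
open Groth.Agent.Lib.helper16 Groth.Agent.Lib.helper16.FF Groth.Agent.Lib.helper16.FX
  Groth.Agent.Lib.helper16.FR Groth.Agent.Lib.helper16.FA Groth.Agent.Lib.helper16.FHD
open scoped IntermediateField

universe u v w

section gal

variable {k : Type u} {K : Type v} [Field k] [CharP k 2] [Field K] [Algebra k K]
  [Algebra (RatFunc k) K] [IsScalarTower k (RatFunc k) K]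
  (hdeg : finrank (RatFunc k) K = 2) {y : K} (hy : y ∉ Set.range (algebraMap (RatFunc k) K))
  {f : RatFunc k} (heq : y ^ 2 + y = algebraMap (RatFunc k) K f)

omit [CharP k 2] [Algebra k K] [IsScalarTower k (RatFunc k) K] in
include hdeg hy heq in
theorem minpoly_eq : minpoly (RatFunc k) y = X ^ 2 + X - C f := by
  have hfin : FiniteDimensional (RatFunc k) K := Module.finite_of_finrank_pos (by omega)
  have hint : IsIntegral (RatFunc k) y := Algebra.IsIntegral.isIntegral y
  have hdvd : minpoly (RatFunc k) y ∣ X ^ 2 + X - C f := by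
    apply minpoly.dvd
    rw [map_sub, map_add, map_pow, aeval_X, aeval_C, heq]
    exact sub_self _
  have hnd : (X ^ 2 + X - C f : (RatFunc k)[X]).natDegree = 2 := by
    compute_degree!
  have hmonic : (X ^ 2 + X - C f : (RatFunc k)[X]).Monic := by
    monicity!
  have h3 : 2 ≤ (minpoly (RatFunc k) y).natDegree :=
    (minpoly.two_le_natDegree_iff hint).mpr hy
  symm
  apply Polynomial.eq_of_monic_of_dvd_of_natDegree_le (minpoly.monic hint) hmonic hdvd
  rw [hnd]
  exact h3

include hdeg hy heq in
/-- the nontrivial automorphism of an Artin–Schreier extension -/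
theorem exists_sigma [Algebra.IsSeparable (RatFunc k) K] :
    ∃ σ : K ≃ₐ[RatFunc k] K, σ y = y + 1 := by
  have hfin : FiniteDimensional (RatFunc k) K := Module.finite_of_finrank_pos (by omega)
  haveI : CharP K 2 := charP_of_injective_algebraMap (algebraMap k K).injective 2
  haveI : Algebra.IsQuadraticExtension (RatFunc k) K := { finrank_eq_two' := hdeg }
  have hint : IsIntegral (RatFunc k) y := Algebra.IsIntegral.isIntegral y
  have hroot : aeval (y + 1) (minpoly (RatFunc k) y) = 0 := by
    rw [minpoly_eq hdeg hy heq, map_sub, map_add, map_pow, aeval_X, aeval_C, ← heq]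
    have h2 : (2 : K) = 0 := by
      have := CharP.cast_eq_zero K 2
      exact_mod_cast this
    have : (y + 1) ^ 2 + (y + 1) - (y ^ 2 + y) = 2 * y + 2 := by ring
    rw [this, h2, zero_mul, zero_add]
  have hconj : IsConjRoot (RatFunc k) y (y + 1) := isConjRoot_of_aeval_eq_zero hint hroot
  obtain ⟨σ, hσ⟩ := hconj.exists_algEquiv
  refine ⟨σ, ?_⟩
  have h1 : σ y = σ (y + 1) - 1 := by rw [map_add, map_one]; ring
  rw [h1, hσ, CharTwo.sub_eq_add]

omit [CharP k 2] in
include heq in
theorem val_y_le_one {P : Place k K} {p : Place k (RatFunc k)} {e : ℕ}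
    (he : IsOverWith P p e) (hf : p.1 f ≤ 1) : P.1 y ≤ 1 := by
  by_contra hlt
  rw [not_le] at hlt
  have h4 : P.1 (y ^ 2 + y) = P.1 (y ^ 2) := by
    apply Valuation.map_add_eq_of_lt_left
    rw [map_pow, pow_two]
    calc P.1 y = 1 * P.1 y := (one_mul _).symm
      _ < P.1 y * P.1 y := by
        apply mul_lt_mul_of_pos_right hlt
        exact lt_trans zero_lt_one hlt
  have h5 : 1 < P.1 (y ^ 2) := by
    rw [map_pow]
    exact one_lt_pow₀ hlt two_ne_zero
  rw [← h4, heq, he f] at h5
  exact absurd h5 (not_lt.mpr (pow_le_one₀ zero_le hf))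

end gal

section main

variable {k : Type u} {K : Type v} [Field k] [CharP k 2] [Field K] [Algebra k K]
  [Algebra (RatFunc k) K] [IsScalarTower k (RatFunc k) K] [Algebra.IsSeparable (RatFunc k) K]
  (hK : IsFunctionField k K)
  (hdeg : finrank (RatFunc k) K = 2) {y : K} (hy : y ∉ Set.range (algebraMap (RatFunc k) K))
  {f : RatFunc k} (heq : y ^ 2 + y = algebraMap (RatFunc k) K f)
  (B : Finset k) (d : k → ℕ) (hd : ∀ β ∈ B, Odd (d β))
  (hpole : ∀ (p : Place k (RatFunc k)) (β : k), β ∈ B →
      p.1 ((RatFunc.X : RatFunc k) - RatFunc.C β) < 1 → p.ord f = -(d β : ℤ))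
  (hint : ∀ p : Place k (RatFunc k),
    (∀ β ∈ B, 1 ≤ p.1 ((RatFunc.X : RatFunc k) - RatFunc.C β)) → p.1 f ≤ 1)

omit [CharP k 2] [Algebra.IsSeparable (RatFunc k) K] in
include hdeg hint in
/-- over infinity `f` is integral -/
theorem infinity_data {P : Place k K} (hx : 1 < P.1 (xK k K)) :
    ∃ (P₀ : Place k (RatFunc k)) (e : ℕ), IsOverWith P P₀ e ∧
      P₀.ord (RatFunc.X : RatFunc k) < 0 ∧ P₀.1 f ≤ 1 := by
  obtain ⟨P₀, e, he, hinf⟩ := exists_isOverWith_pole hdeg hx
  refine ⟨P₀, e, he, hinf, hint P₀ ?_⟩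
  intro β _
  have h1 : 1 < P₀.1 (RatFunc.X : RatFunc k) := (one_lt_val_iff P₀ RatFunc.X_ne_zero).mpr hinf
  have h2 := val_sub_const_of_pole P₀ β h1
  have hC : algebraMap k (RatFunc k) β = RatFunc.C β := by rw [RatFunc.algebraMap_eq_C]
  rw [hC] at h2
  rw [h2]
  exact le_of_lt h1

include hK hdeg hy heq hd hpole hint in
/-- S19045 -/
theorem poleDivisor_y_mul_zpow :
    (∀ P : Place k K, 1 < P.1 (xK k K) → 0 ≤ P.ord y) ∧
    (∃ P : Place k K, 1 < P.1 (xK k K) ∧ P.ord y = 0) ∧
    ∀ (α : k), α ∈ B → ∀ (j : ℤ) (P : Place k K),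
      (P.1 (xK k K - algebraMap k K α) < 1 →
        max (-(P.ord (y * (xK k K - algebraMap k K α) ^ j))) 0 = max ((d α : ℤ) - 2 * j) 0) ∧
      (∀ β : k, β ∈ B → β ≠ α → P.1 (xK k K - algebraMap k K β) < 1 →
        P.ord (y * (xK k K - algebraMap k K α) ^ j) = -(d β : ℤ)) ∧
      (1 < P.1 (xK k K) →
        max (-(P.ord (y * (xK k K - algebraMap k K α) ^ j))) 0 = max (j - P.ord y) 0) ∧
      (P.1 (xK k K) ≤ 1 → (∀ β : k, β ∈ B → 1 ≤ P.1 (xK k K - algebraMap k K β)) →
        0 ≤ P.ord (y * (xK k K - algebraMap k K α) ^ j)) := by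
  have hfin : FiniteDimensional (RatFunc k) K := Module.finite_of_finrank_pos (by omega)
  have hKr := isFunctionField_ratFunc (k := k)
  have hy0 : y ≠ 0 := by
    rintro rfl
    exact hy ⟨0, map_zero _⟩
  have hinfint : ∀ P : Place k K, 1 < P.1 (xK k K) → 0 ≤ P.ord y := by
    intro P hx
    obtain ⟨P₀, e, he, -, hf⟩ := infinity_data hdeg B hint hx
    exact (val_le_one_iff P hy0).mp (val_y_le_one heq he hf)
  refine ⟨hinfint, ?_, ?_⟩
  · obtain ⟨P, hP⟩ := exists_place_one_lt hK (xK_not_mem_range (k := k) (K := K))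
    by_cases h0 : P.ord y = 0
    · exact ⟨P, hP, h0⟩
    · have hpos : 0 < P.ord y := lt_of_le_of_ne (hinfint P hP) (Ne.symm h0)
      obtain ⟨σ, hσ⟩ := exists_sigma hdeg hy heq
      refine ⟨galPlace σ P, ?_, ?_⟩
      · rw [galPlace_val]
        unfold xK
        rw [σ.commutes]
        exact hP
      · unfold Place.ord
        rw [galPlace_val, hσ]
        have h1 : P.1 y < 1 := (val_lt_one_iff P hy0).mpr hpos
        have h2 : P.1 (1 + y) = P.1 (1 : K) := by
          apply Valuation.map_add_eq_of_lt_left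
          rw [map_one]
          exact h1
        rw [add_comm, h2, map_one, log_one, neg_zero]
  · intro α hα j P
    have hxa0 : xK k K - algebraMap k K α ≠ 0 := by
      intro h0
      have h1 : xK k K = algebraMap k K α := sub_eq_zero.mp h0
      exact xK_not_mem_range (k := k) (K := K) ⟨α, h1.symm⟩
    have hord : P.ord (y * (xK k K - algebraMap k K α) ^ j) =
        P.ord y + j * P.ord (xK k K - algebraMap k K α) := by
      rw [ord_mul P hy0 (zpow_ne_zero _ hxa0), ord_zpow]
    refine ⟨?_, ?_, ?_, ?_⟩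
    · intro hP
      obtain ⟨p, he, huniq, hyo, hxo⟩ :=
        place_over hdeg heq (hd α hα) (fun p hp => hpole p α hα hp) hP
      change P.ord (xK k K - algebraMap k K α) = 2 at hxo
      rw [hord, hyo, hxo]
      congr 1
      ring
    · intro β hβ hβα hP
      obtain ⟨p, he, huniq, hyo, hxo⟩ :=
        place_over hdeg heq (hd β hβ) (fun p hp => hpole p β hβ hp) hP
      have h1 : P.1 (xK k K - algebraMap k K α) = 1 := val_sub_const_of_lt P hβα hP
      have h2 : P.ord (xK k K - algebraMap k K α) = 0 := by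
        unfold Place.ord
        rw [h1, log_one, neg_zero]
      rw [hord, hyo, h2, mul_zero, add_zero]
    · intro hx
      obtain ⟨P₀, e, he, hinf, hf⟩ := infinity_data hdeg B hint hx
      have hfo : 0 ≤ P₀.ord f := by
        by_cases hf0 : f = 0
        · rw [hf0, ord_zero]
        · exact (val_le_one_iff P₀ hf0).mp hf
      have he1 : e = 1 := by
        have := unramified_of_no_pole hdeg hy heq P₀ hfo ⟨e, he⟩
        rwa [ramIdx_eq he] at this
      have hxo : P.ord (xK k K) = -1 := by
        unfold xK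
        rw [isOverWith_ord he, ord_X_of_pole P₀ hinf, he1]
        rfl
      have h2 : P.ord (xK k K - algebraMap k K α) = -1 := by
        unfold Place.ord
        rw [val_sub_const_of_pole P α hx]
        exact hxo
      rw [hord, h2]
      congr 1
      ring
    · intro hx hB
      have h1 : P.1 (xK k K - algebraMap k K α) = 1 := by
        apply le_antisymm _ (hB α hα)
        refine le_trans (Valuation.map_sub _ _ _) (max_le hx (P.2.1 α))
      have h2 : P.ord (xK k K - algebraMap k K α) = 0 := by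
        unfold Place.ord
        rw [h1, log_one, neg_zero]
      obtain ⟨p, e, he⟩ := exists_isOverWith (K' := K) hKr.1 P
      have hepos := isOverWith_pos he
      have hf : p.1 f ≤ 1 := by
        apply hint p
        intro β hβ
        by_contra hlt
        rw [not_le] at hlt
        have h3 := hB β hβ
        unfold xK at h3
        rw [xa_eq, he] at h3
        exact absurd h3 (not_le.mpr (pow_lt_one₀ zero_le hlt (by omega)))
      have hyo : 0 ≤ P.ord y := (val_le_one_iff P hy0).mp (val_y_le_one heq he hf)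
      rw [hord, h2, mul_zero, add_zero]
      exact hyo

end main

end Groth.Agent.Lib.helper16.FAA
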