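import Groth.Agent.Lib.helper16.FConstExt2

set_option autoImplicit false
set_option linter.style.haveILetI false

/-! Helper library (helper16): places with separable residue field are nonsingular. -/

namespace Groth.Agent.Lib.helper16.FCE

open FunFld TensorProduct Module Polynomial Groth.Agent.Lib.helper16.FX

/-- in an artinian reduced commutative ring every nonzero element divides a nonzero idempotent -/
theorem exists_idempotent_of_ne_zero {R : Type*} [CommRing R] [IsArtinianRing R] [IsReduced R]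
    {ξ : R} (hξ : ξ ≠ 0) : ∃ η : R, (ξ * η) * (ξ * η) = ξ * η ∧ ξ * η ≠ 0 := by
  let f : ℕ →o (Ideal R)ᵒᵈ :=
    ⟨fun n => OrderDual.toDual (Ideal.span {ξ ^ n}), by
      intro a b hab
      show Ideal.span {ξ ^ b} ≤ Ideal.span {ξ ^ a}
      rw [Ideal.span_singleton_le_span_singleton]
      exact pow_dvd_pow ξ hab⟩
  obtain ⟨n, hn⟩ := IsArtinian.monotone_stabilizes f
  have h1 : Ideal.span {ξ ^ (n + 1)} = Ideal.span {ξ ^ (n + 2)} := by
    have := (hn (n + 1) (by omega)).symm.trans (hn (n + 2) (by omega))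
    exact this
  have h2 : ξ ^ (n + 1) ∈ Ideal.span {ξ ^ (n + 2)} := by
    rw [← h1]
    exact Ideal.mem_span_singleton_self _
  obtain ⟨ρ, hρ⟩ := Ideal.mem_span_singleton'.mp h2
  obtain ⟨N, hN⟩ : ∃ N, N = n + 1 := ⟨_, rfl⟩
  have hρ' : ρ * ξ * ξ ^ N = ξ ^ N := by
    rw [hN]
    calc ρ * ξ * ξ ^ (n + 1) = ρ * ξ ^ (n + 2) := by ring
      _ = ξ ^ (n + 1) := hρ
  have hk : ∀ j : ℕ, (ρ * ξ) ^ j * ξ ^ N = ξ ^ N := by
    intro j
    induction j with
    | zero => rw [pow_zero, one_mul]
    | succ j ih => rw [pow_succ, mul_assoc, hρ', ih]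
  have hN0 : ξ ^ N ≠ 0 := pow_ne_zero N hξ
  refine ⟨ρ ^ N * ξ ^ n, ?_, ?_⟩
  · have e1 : ξ * (ρ ^ N * ξ ^ n) = (ρ * ξ) ^ N := by
      rw [hN]; ring
    rw [e1]
    have e2 : (ρ * ξ) ^ N * (ρ * ξ) ^ N = ρ ^ N * ((ρ * ξ) ^ N * ξ ^ N) := by ring
    rw [e2, hk N]
    ring
  · intro h0
    have e1 : ξ * (ρ ^ N * ξ ^ n) = (ρ * ξ) ^ N := by
      rw [hN]; ring
    rw [e1] at h0
    have := hk N
    rw [h0, zero_mul] at this
    exact hN0 this.symm

/-- if `x⁻¹` is integral over `R` then `x⁻¹ ∈ R[x]` -/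
theorem inv_mem_adjoin_of_isIntegral_inv {R L : Type*} [CommRing R] [Field L] [Algebra R L]
    {x : L} (hx : x ≠ 0) (hint : IsIntegral R x⁻¹) : x⁻¹ ∈ Algebra.adjoin R {x} := by
  obtain ⟨p, hm, hp⟩ := hint
  have hxA : x ∈ Algebra.adjoin R {x} := Algebra.subset_adjoin rfl
  by_cases hn : p.natDegree = 0
  · rw [Polynomial.natDegree_eq_zero] at hn
    obtain ⟨c, rfl⟩ := hn
    have hc : c = 1 := by
      have := hm.leadingCoeff
      rwa [leadingCoeff_C] at this
    rw [hc, eval₂_C, map_one] at hp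
    exact absurd hp one_ne_zero
  have hn1 : 1 ≤ p.natDegree := Nat.one_le_iff_ne_zero.mpr hn
  have hsum := hm.as_sum
  rw [hsum, eval₂_add, eval₂_pow, eval₂_X, eval₂_finsetSum] at hp
  simp only [eval₂_mul, eval₂_C, eval₂_pow, eval₂_X] at hp
  have h1 : x⁻¹ = -∑ i ∈ Finset.range p.natDegree,
      algebraMap R L (p.coeff i) * x ^ (p.natDegree - 1 - i) := by
    have h2 : x ^ (p.natDegree - 1) * (x⁻¹ ^ p.natDegree + ∑ i ∈ Finset.range p.natDegree,
        algebraMap R L (p.coeff i) * x⁻¹ ^ i) = 0 := by rw [hp, mul_zero]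
    rw [mul_add, Finset.mul_sum] at h2
    have h3 : x ^ (p.natDegree - 1) * x⁻¹ ^ p.natDegree = x⁻¹ := by
      obtain ⟨m, hm'⟩ : ∃ m, p.natDegree = m + 1 := ⟨p.natDegree - 1, by omega⟩
      rw [hm', Nat.add_sub_cancel, pow_succ x⁻¹, ← mul_assoc, ← mul_pow, mul_inv_cancel₀ hx,
        one_pow, one_mul]
    rw [h3] at h2
    rw [eq_neg_iff_add_eq_zero, ← h2]
    congr 1
    apply Finset.sum_congr rfl
    intro i hi
    have hi' : i < p.natDegree := Finset.mem_range.mp hi
    have h4 : x ^ (p.natDegree - 1) = x ^ (p.natDegree - 1 - i) * x ^ i := by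
      rw [← pow_add]
      congr 1
      omega
    rw [h4]
    have h5 : x ^ i * x⁻¹ ^ i = 1 := by rw [← mul_pow, mul_inv_cancel₀ hx, one_pow]
    calc algebraMap R L (p.coeff i) * x ^ (p.natDegree - 1 - i)
        = algebraMap R L (p.coeff i) * x ^ (p.natDegree - 1 - i) * (x ^ i * x⁻¹ ^ i) := by
          rw [h5, mul_one]
      _ = _ := by ring
  rw [h1]
  refine Subalgebra.neg_mem _ (Subalgebra.sum_mem _ fun i _ => ?_)
  exact Subalgebra.mul_mem _ (Subalgebra.algebraMap_mem _ _) (Subalgebra.pow_mem _ hxA _)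

section integral

variable {k K K' : Type*} [Field k] [Field K] [Field K'] [Algebra k K] [Algebra K K']
  [Algebra k K'] [IsScalarTower k K K'] [FiniteDimensional K K']

theorem smulO_mem_semiLocal (P : Place k K) [Algebra P.O K'] [IsScalarTower P.O K K']
    (r : P.O) {y : K'} (hy : y ∈ semiLocal K' P) : r • y ∈ semiLocal K' P := by
  rw [Algebra.smul_def, IsScalarTower.algebraMap_apply P.O K K']
  exact (semiLocal K' P).mul_mem (algebraMap_mem_semiLocal r.2) hy

theorem span_le_semiLocal (P : Place k K) [Algebra P.O K'] [IsScalarTower P.O K K']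
    {ι : Type*} {b : ι → K'} (hbB : ∀ i, b i ∈ semiLocal K' P) {y : K'}
    (hy : y ∈ Submodule.span P.O (Set.range b)) : y ∈ semiLocal K' P := by
  induction hy using Submodule.span_induction with
  | mem x hx =>
    obtain ⟨i, rfl⟩ := hx
    exact hbB i
  | zero => exact (semiLocal K' P).zero_mem
  | add x y _ _ hx hy => exact (semiLocal K' P).add_mem hx hy
  | smul r x _ hx => exact smulO_mem_semiLocal P r hx

/-- elements of the semilocal ring `B_P` are integral over `O_P` -/
theorem isIntegral_of_mem_semiLocal (hK : IsFunctionField k K) (P : Place k K)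
    [Algebra P.O K'] [IsScalarTower P.O K K'] {x : K'} (hx : x ∈ semiLocal K' P) :
    IsIntegral P.O x := by
  obtain ⟨b, hbB, hb⟩ := exists_integral_basis (K' := K') hK P
  refine isIntegral_of_smul_mem_submodule (M := K') (Submodule.span P.O (Set.range b)) ?_
    (Submodule.fg_span (Set.finite_range b)) x ?_
  · intro h0
    have h1 : (1 : K') ∈ Submodule.span P.O (Set.range b) :=
      integralClosure_le_span P hb (semiLocal K' P).one_mem
    rw [h0, Submodule.mem_bot] at h1
    exact one_ne_zero h1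
  · intro y hy
    rw [smul_eq_mul]
    exact integralClosure_le_span P hb
      ((semiLocal K' P).mul_mem hx (span_le_semiLocal P hbB hy))

/-- every place of `K` has a place of `K'` above it -/
theorem exists_isOver_above (hK : IsFunctionField k K) (P : Place k K) :
    ∃ Q : Place k K', IsOver Q P := by
  classical
  obtain ⟨hfin, hsum⟩ := sum_ramIdx_mul_deg (K' := K') hK P
  have h1 := hsum hfin.toFinset (fun Q => hfin.mem_toFinset)
  by_contra hne
  push Not at hne
  have h2 : hfin.toFinset = ∅ := by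
    rw [Finset.eq_empty_iff_forall_notMem]
    intro Q hQ
    exact hne Q (hfin.mem_toFinset.mp hQ)
  rw [h2, Finset.sum_empty] at h1
  have h3 : 0 < finrank K K' * P.deg := Nat.mul_pos Module.finrank_pos (deg_pos hK.1 P)
  omega

end integral

section nonsing

universe u v

variable {k k' : Type u} {K K' : Type v} [Field k] [Field k'] [Field K] [Field K']
    [Algebra k k'] [Algebra k K] [Algebra K K'] [Algebra k' K'] [Algebra k K']
    [IsScalarTower k k' K'] [IsScalarTower k K K']

theorem isScalarTower_O (P : Place k K) [Algebra P.O K'] [IsScalarTower P.O K K'] :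
    IsScalarTower k P.O K' :=
  IsScalarTower.of_algebraMap_eq fun a => by
    rw [IsScalarTower.algebraMap_apply P.O K K', IsScalarTower.algebraMap_apply k K K']
    rfl

variable (k') in
/-- `O_P ⊗ k' → K'` -/
noncomputable def iotaO (P : Place k K) [Algebra P.O K'] [IsScalarTower P.O K K'] :
    P.O ⊗[k] k' →ₐ[P.O] K' :=
  haveI := isScalarTower_O (K' := K') P
  Algebra.TensorProduct.productLeftAlgHom (Algebra.ofId P.O K') (IsScalarTower.toAlgHom k k' K')

theorem iotaO_tmul (P : Place k K) [Algebra P.O K'] [IsScalarTower P.O K K'] (r : P.O) (a : k') :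
    iotaO k' P (r ⊗ₜ a) = algebraMap K K' (r : K) * algebraMap k' K' a := by
  have : iotaO k' P (r ⊗ₜ a) = algebraMap P.O K' r * algebraMap k' K' a := rfl
  rw [this, IsScalarTower.algebraMap_apply P.O K K']
  rfl

theorem isReduced_tensor_of_isSeparable (F : Type*) [Field F] [Algebra k F]
    [FiniteDimensional k F] [Algebra.IsSeparable k F] : IsReduced (F ⊗[k] k') := by
  haveI : Algebra.FormallyUnramified k F := Algebra.FormallyUnramified.of_isSeparable k F
  haveI : IsReduced (k' ⊗[k] F) := Algebra.FormallyUnramified.isReduced_of_field k' (k' ⊗[k] F)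
  exact isReduced_of_injective (Algebra.TensorProduct.comm k F k').toRingEquiv.toRingHom
    (Algebra.TensorProduct.comm k F k').injective

/-- at a place with separable residue field, a basis of constants is an integral basis -/
theorem indepModT_const
    (h : Function.Bijective (Algebra.TensorProduct.productMap
      (IsScalarTower.toAlgHom k k' K') (IsScalarTower.toAlgHom k K K')))
    [FiniteDimensional k k'] (hK : IsFunctionField k K)
    (P : Place k K) [Algebra P.O K'] [IsScalarTower P.O K K']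
    {F : Type*} [Field F] [Algebra k F] [FiniteDimensional k F] [Algebra.IsSeparable k F]
    (res : P.O →ₐ[k] F) (hres : Function.Surjective res)
    (hker : ∀ r : P.O, res r = 0 → P.1 (r : K) < 1)
    {n : ℕ} (b : Basis (Fin n) k k') :
    IndepModT P (fun i => algebraMap k' K' (b i)) := by
  classical
  haveI hfin : Module.Finite K K' := finite_of_surjective k k' K K' h.2
  haveI := isScalarTower_O (K' := K') P
  obtain ⟨ι, hι⟩ : ∃ ι : P.O ⊗[k] k' →ₐ[P.O] K', ι = iotaO k' P := ⟨_, rfl⟩
  obtain ⟨π, hπ⟩ : ∃ π : P.O ⊗[k] k' →ₐ[k] F ⊗[k] k',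
    π = Algebra.TensorProduct.map res (AlgHom.id k k') := ⟨_, rfl⟩
  obtain ⟨bO, hbO⟩ : ∃ bO : Basis (Fin n) P.O (P.O ⊗[k] k'),
    bO = Algebra.TensorProduct.basis P.O b := ⟨_, rfl⟩
  obtain ⟨bF, hbF⟩ : ∃ bF : Basis (Fin n) F (F ⊗[k] k'),
    bF = Algebra.TensorProduct.basis F b := ⟨_, rfl⟩
  have hconst : ∀ (y : k') (Q' : Place k K'), Q'.1 (algebraMap k' K' y) ≤ 1 := by
    intro y Q'
    exact val_le_one_of_isAlgebraic Q' (Algebra.IsAlgebraic.isAlgebraic y).algebraMap
  have hcB : ∀ i, algebraMap k' K' (b i) ∈ semiLocal K' P := fun i Q' _ => hconst _ Q'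
  have hιb : ∀ (r : P.O) (i : Fin n), ι (r • bO i) = (r : K) • algebraMap k' K' (b i) := by
    intro r i
    rw [hbO, Algebra.TensorProduct.basis_apply, TensorProduct.smul_tmul', smul_eq_mul, mul_one,
      hι, iotaO_tmul, Algebra.smul_def]
  have hπb : ∀ (r : P.O) (i : Fin n), π (r • bO i) = res r • bF i := by
    intro r i
    rw [hbO, hbF, Algebra.TensorProduct.basis_apply, Algebra.TensorProduct.basis_apply,
      TensorProduct.smul_tmul', TensorProduct.smul_tmul', smul_eq_mul, mul_one, smul_eq_mul,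
      mul_one, hπ]
    rfl
  have hι_sum : ∀ a : Fin n → P.O,
      ι (∑ i, a i • bO i) = ∑ i, ((a i : P.O) : K) • algebraMap k' K' (b i) := by
    intro a
    rw [map_sum]
    exact Finset.sum_congr rfl fun i _ => hιb _ i
  have hπ_sum : ∀ a : Fin n → P.O, π (∑ i, a i • bO i) = ∑ i, res (a i) • bF i := by
    intro a
    rw [map_sum]
    exact Finset.sum_congr rfl fun i _ => hπb _ i
  have hι_inj : Function.Injective ι := by
    rw [injective_iff_map_eq_zero]
    intro α hα
    rw [← bO.sum_repr α, hι_sum] at hα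
    have hli := (constBasis h b).linearIndependent
    rw [Fintype.linearIndependent_iff] at hli
    have h0 := hli (fun i => ((bO.repr α i : P.O) : K)) (by
      rw [← hα]
      exact Finset.sum_congr rfl fun i _ => by rw [constBasis_apply])
    rw [← bO.sum_repr α]
    refine Finset.sum_eq_zero fun i _ => ?_
    have : bO.repr α i = 0 := Subtype.ext (h0 i)
    rw [this, zero_smul]
  have hι_mem : ∀ β, ι β ∈ semiLocal K' P := by
    intro β
    rw [← bO.sum_repr β, hι_sum]
    exact Subring.sum_mem _ fun i _ => smul_mem_semiLocal (bO.repr β i).2 (hcB i)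
  have hπ_surj : Function.Surjective π := by
    intro η
    obtain ⟨a, ha⟩ : ∃ a : Fin n → P.O, ∀ i, res (a i) = bF.repr η i :=
      ⟨fun i => (hres (bF.repr η i)).choose, fun i => (hres (bF.repr η i)).choose_spec⟩
    refine ⟨∑ i, a i • bO i, ?_⟩
    rw [hπ_sum]
    conv_rhs => rw [← bF.sum_repr η]
    exact Finset.sum_congr rfl fun i _ => by rw [ha]
  haveI : IsArtinianRing (F ⊗[k] k') := IsArtinianRing.of_finite F _
  haveI : IsReduced (F ⊗[k] k') := isReduced_tensor_of_isSeparable F
  have key : ∀ α, ι α ∈ semiLocalT K' P → π α = 0 := by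
    intro α hα
    by_contra hξ
    obtain ⟨η, hidem, hne⟩ := exists_idempotent_of_ne_zero hξ
    obtain ⟨β, rfl⟩ := hπ_surj η
    have hw : ι (α * β) ∈ semiLocalT K' P := by
      rw [map_mul]
      exact mul_mem_semiLocalT hα (hι_mem β)
    have hu1 : ∀ Q : Place k K', IsOver Q P → Q.1 (ι (1 - α * β)) = 1 := by
      intro Q hQ
      have h1 : Q.1 (ι (α * β)) < 1 := by
        refine lt_of_le_of_lt (hw Q hQ) ?_
        rw [← WithZero.exp_zero, WithZero.exp_lt_exp]
        have := isOverWith_pos (isOverWith_ramIdx hQ)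
        omega
      rw [map_sub, map_one]
      have h2 := Valuation.map_sub_eq_of_lt_left Q.1 (x := (1 : K')) (y := ι (α * β))
        (by rw [map_one]; exact h1)
      rw [h2, map_one]
    have hu0 : ι (1 - α * β) ≠ 0 := by
      intro h0
      obtain ⟨Q, hQ⟩ := exists_isOver_above (K' := K') hK P
      have := hu1 Q hQ
      rw [h0, map_zero] at this
      exact zero_ne_one this
    have hinvB : (ι (1 - α * β))⁻¹ ∈ semiLocal K' P := by
      intro Q hQ
      rw [map_inv₀, hu1 Q hQ, inv_one]
    have hint : IsIntegral P.O (ι (1 - α * β))⁻¹ := isIntegral_of_mem_semiLocal hK P hinvB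
    have hmem : (ι (1 - α * β))⁻¹ ∈ ι.range := by
      have h1 := inv_mem_adjoin_of_isIntegral_inv hu0 hint
      have h2 : Algebra.adjoin P.O {ι (1 - α * β)} ≤ ι.range := by
        apply Algebra.adjoin_le
        rintro _ rfl
        exact ⟨_, rfl⟩
      exact h2 h1
    obtain ⟨v, hv⟩ := hmem
    replace hv : ι v = (ι (1 - α * β))⁻¹ := hv
    have huv : (1 - α * β) * v = 1 := by
      apply hι_inj
      rw [map_mul, hv, map_one, mul_inv_cancel₀ hu0]
    have h3 := congrArg π huv
    rw [map_mul, map_sub, map_one, map_mul] at h3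
    apply hne
    calc π α * π β = π α * π β * ((1 - π α * π β) * π v) := by rw [h3, mul_one]
      _ = (π α * π β - π α * π β * (π α * π β)) * π v := by ring
      _ = 0 := by rw [hidem, sub_self, zero_mul]
  intro a ha hsum i
  have h1 : ι (∑ i, (⟨a i, ha i⟩ : P.O) • bO i) = ∑ i, a i • algebraMap k' K' (b i) :=
    hι_sum _
  have h2 := key _ (h1 ▸ hsum)
  rw [hπ_sum] at h2
  have h3 := (Fintype.linearIndependent_iff.mp bF.linearIndependent) _ h2 i
  exact hker _ h3

end nonsing

end Groth.Agent.Lib.helper16.FCE
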