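import Groth.Agent.Lib.helper16.FArtSchPF3
import Groth.Agent.Lib.helper16.FNonsing

set_option autoImplicit false

namespace Groth.Agent.Lib.helper16.FAH

open FunFld WithZero Polynomial Module
open Groth.Agent.Lib.helper16 Groth.Agent.Lib.helper16.FF Groth.Agent.Lib.helper16.FX
  Groth.Agent.Lib.helper16.FR Groth.Agent.Lib.helper16.FA Groth.Agent.Lib.helper16.FHD
  Groth.Agent.Lib.helper16.FAA Groth.Agent.Lib.helper16.FAPF Groth.Agent.Lib.helper16.FH
open scoped IntermediateField

universe u v w

section ratfunc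

variable {k : Type u} [Field k]

/-- the place of `k(x)` at `x = β` is unique -/
theorem eq_of_X_sub_C_lt {p p' : Place k (RatFunc k)} {β : k}
    (h : p.1 ((RatFunc.X : RatFunc k) - RatFunc.C β) < 1)
    (h' : p'.1 ((RatFunc.X : RatFunc k) - RatFunc.C β) < 1) : p = p' := by
  have hirr := irreducible_X_sub_C β
  have h1 : p.1 (algebraMap k[X] (RatFunc k) (X - C β)) < 1 := by rw [alg_X_sub_C]; exact h
  have h1' : p'.1 (algebraMap k[X] (RatFunc k) (X - C β)) < 1 := by rw [alg_X_sub_C]; exact h'
  have hv : ∀ g : k[X], g ≠ 0 →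
      p.1 (algebraMap k[X] (RatFunc k) g) = p'.1 (algebraMap k[X] (RatFunc k) g) := by
    intro g hg
    rw [val_eq_exp_neg_ord p (alg_ne_zero hg), val_eq_exp_neg_ord p' (alg_ne_zero hg),
      ord_alg_eq p hirr h1 hg, ord_alg_eq p' hirr h1' hg, ord_alg_irreducible p hirr h1,
      ord_alg_irreducible p' hirr h1']
  apply Subtype.ext
  ext r
  rw [← RatFunc.num_div_denom r, map_div₀, map_div₀]
  by_cases hr : r.num = 0
  · rw [hr, map_zero, map_zero, map_zero, zero_div, zero_div]
  · rw [hv _ hr, hv _ (RatFunc.denom_ne_zero r)]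

/-- a rational function integral at all places is constant -/
theorem exists_const_of_integral {r : RatFunc k} (h : ∀ p : Place k (RatFunc k), p.1 r ≤ 1) :
    ∃ c : k, r = algebraMap k (RatFunc k) c := by
  have hK := isFunctionField_ratFunc (k := k)
  have h1 : r ∈ L (0 : Divisor k (RatFunc k)) := by
    intro p
    rw [Finsupp.zero_apply, exp_zero]
    exact h p
  rw [L_zero_eq_one hK, Submodule.mem_one] at h1
  obtain ⟨c, hc⟩ := h1
  exact ⟨c, hc.symm⟩

/-- a polynomial in `X - β` of degree `≤ c` divisible by `(X - β)^(c+1)` has zero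
coefficients (in the form used below) -/
theorem taylor_coeff_eq_zero {ι : Type*} (s : Finset ι) (e : ι → k) (pj : ι → ℕ) (β : k) (b₀ : k)
    (c : ℕ) (hpj : ∀ i ∈ s, pj i ≤ c)
    (hdvd : (X - C β) ^ (c + 1) ∣ (C b₀ - ∑ i ∈ s, C (e i) * (X - C β) ^ pj i : k[X]))
    (n : ℕ) : (if n = 0 then b₀ else 0) = ∑ i ∈ s with pj i = n, e i := by
  set W : k[X] := C b₀ - ∑ i ∈ s, C (e i) * (X - C β) ^ pj i with hW
  have hdeg : W.natDegree < ((X - C β) ^ (c + 1) : k[X]).natDegree := by
    rw [natDegree_pow, natDegree_X_sub_C, mul_one]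
    refine lt_of_le_of_lt (natDegree_sub_le _ _) ?_
    rw [natDegree_C, max_eq_right (Nat.zero_le _), Nat.lt_succ_iff]
    apply natDegree_sum_le_of_forall_le
    intro i hi
    refine le_trans (natDegree_C_mul_le _ _) ?_
    rw [natDegree_pow, natDegree_X_sub_C, mul_one]
    exact hpj i hi
  have hW0 : W = 0 := Polynomial.eq_zero_of_dvd_of_natDegree_lt hdvd hdeg
  have h2 : taylor β W = 0 := by rw [hW0, map_zero]
  rw [hW, map_sub, taylor_C, map_sum] at h2
  have h3 : ∀ i, taylor β (C (e i) * (X - C β) ^ pj i) = C (e i) * X ^ pj i := by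
    intro i
    rw [taylor_mul, taylor_C, taylor_pow, map_sub, taylor_X, taylor_C, add_sub_cancel_right]
  simp only [h3] at h2
  have h4 := congrArg (fun f => f.coeff n) h2
  simp only [coeff_sub, coeff_C, finsetSum_coeff, coeff_C_mul_X_pow, coeff_zero] at h4
  rw [sub_eq_zero] at h4
  rw [h4, Finset.sum_filter]
  apply Finset.sum_congr rfl
  intro i _
  by_cases hn : n = pj i
  · rw [if_pos hn, if_pos hn.symm]
  · rw [if_neg hn, if_neg (Ne.symm hn)]

end ratfunc

section analysis

variable {k : Type u} {K : Type v} [Field k] [CharP k 2] [Field K] [Algebra k K]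
  [Algebra (RatFunc k) K] [IsScalarTower k (RatFunc k) K]
  (hdeg : finrank (RatFunc k) K = 2) {y : K} (hy : y ∉ Set.range (algebraMap (RatFunc k) K))
  {f : RatFunc k} (heq : y ^ 2 + y = algebraMap (RatFunc k) K f)

omit [CharP k 2] in
theorem val_le_one_of_alg [FiniteDimensional (RatFunc k) K] {P : Place k K}
    {p : Place k (RatFunc k)} {e : ℕ} (he : IsOverWith P p e)
    {r : RatFunc k} (h : P.1 (algebraMap (RatFunc k) K r) ≤ 1) : p.1 r ≤ 1 := by
  have hepos := isOverWith_pos he
  rw [he] at h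
  by_contra hlt
  rw [not_le] at hlt
  exact absurd h (not_le.mpr (one_lt_pow₀ hlt (by omega)))

omit [CharP k 2] in
include hdeg in
/-- at a ramified place the two components are separately integral -/
theorem ram_analysis {P : Place k K} {p : Place k (RatFunc k)} (he : IsOverWith P p 2)
    {dβ : ℕ} (hdβ : Odd dβ) (hyo : P.ord y = -(dβ : ℤ)) {a w : RatFunc k}
    (h : P.1 (algebraMap (RatFunc k) K a + algebraMap (RatFunc k) K w * y) ≤ 1) :
    p.1 a ≤ 1 ∧ (w = 0 ∨ (dβ : ℤ) ≤ 2 * p.ord w) := by
  have hfin : FiniteDimensional (RatFunc k) K := Module.finite_of_finrank_pos (by omega)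
  have hd1 := hdβ.pos
  have hy0 : y ≠ 0 := by
    rintro rfl
    rw [ord_zero] at hyo
    omega
  by_cases hw : w = 0
  · subst hw
    rw [map_zero, zero_mul, add_zero] at h
    exact ⟨val_le_one_of_alg he h, Or.inl rfl⟩
  have hw' : algebraMap (RatFunc k) K w ≠ 0 := by rwa [Ne, map_eq_zero]
  have htord : P.ord (algebraMap (RatFunc k) K w * y) = 2 * p.ord w - dβ := by
    rw [ord_mul P hw' hy0, isOverWith_ord he, hyo]
    push_cast
    ring
  by_cases ha : a = 0
  · subst ha
    rw [map_zero, zero_add, val_le_one_iff P (mul_ne_zero hw' hy0), htord] at h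
    refine ⟨by rw [map_zero]; exact zero_le, Or.inr (by omega)⟩
  have ha' : algebraMap (RatFunc k) K a ≠ 0 := by rwa [Ne, map_eq_zero]
  have hsord : P.ord (algebraMap (RatFunc k) K a) = 2 * p.ord a := by
    rw [isOverWith_ord he]
    push_cast
    ring
  have hne : P.1 (algebraMap (RatFunc k) K a) ≠ P.1 (algebraMap (RatFunc k) K w * y) := by
    rw [val_eq_exp_neg_ord P ha', val_eq_exp_neg_ord P (mul_ne_zero hw' hy0), Ne, exp_inj, hsord,
      htord]
    obtain ⟨m, hm⟩ := hdβ
    omega
  rw [Valuation.map_add_of_distinct_val _ hne, max_le_iff, val_le_one_iff P ha',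
    val_le_one_iff P (mul_ne_zero hw' hy0), hsord, htord] at h
  refine ⟨(val_le_one_iff p ha).mpr (by omega), Or.inr (by omega)⟩

include hdeg hy heq in
/-- where `f` is integral, integrality above forces integrality of both components -/
theorem unram_analysis [Algebra.IsSeparable (RatFunc k) K]
    {p : Place k (RatFunc k)} (hf : p.1 f ≤ 1) {a b : RatFunc k}
    (h : ∀ P : Place k K, IsOver P p →
      P.1 (algebraMap (RatFunc k) K a + algebraMap (RatFunc k) K b * y) ≤ 1) :
    p.1 a ≤ 1 ∧ p.1 b ≤ 1 := by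
  have hfin : FiniteDimensional (RatFunc k) K := Module.finite_of_finrank_pos (by omega)
  have hKr := isFunctionField_ratFunc (k := k)
  obtain ⟨P, e, he⟩ := FCE.exists_isOver_above (K' := K) hKr p
  obtain ⟨σ, hσ⟩ := exists_sigma hdeg hy heq
  have h1 := h P ⟨e, he⟩
  have h2 := h (galPlace σ P) ⟨e, galPlace_isOverWith σ he⟩
  rw [galPlace_val, map_add, map_mul, σ.commutes, σ.commutes, hσ] at h2
  have h3 : algebraMap (RatFunc k) K b =
      (algebraMap (RatFunc k) K a + algebraMap (RatFunc k) K b * (y + 1)) -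
        (algebraMap (RatFunc k) K a + algebraMap (RatFunc k) K b * y) := by ring
  have h4 : P.1 (algebraMap (RatFunc k) K b) ≤ 1 := by
    rw [h3]
    exact le_trans (Valuation.map_sub _ _ _) (max_le h2 h1)
  have h5 : P.1 y ≤ 1 := val_y_le_one heq he hf
  have h6 : algebraMap (RatFunc k) K a =
      (algebraMap (RatFunc k) K a + algebraMap (RatFunc k) K b * y) -
        algebraMap (RatFunc k) K b * y := by ring
  have h7 : P.1 (algebraMap (RatFunc k) K a) ≤ 1 := by
    rw [h6]
    refine le_trans (Valuation.map_sub _ _ _) (max_le h1 ?_)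
    rw [map_mul]
    exact mul_le_one' h4 h5
  exact ⟨val_le_one_of_alg he h7, val_le_one_of_alg he h4⟩

end analysis

end Groth.Agent.Lib.helper16.FAH
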