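import Groth.Agent.Lib.helper16.FAdeleH1a

set_option autoImplicit false

namespace Groth.Agent.Lib.helper16.FAH

open FunFld WithZero Polynomial Module
open Groth.Agent.Lib.helper16 Groth.Agent.Lib.helper16.FF Groth.Agent.Lib.helper16.FX
  Groth.Agent.Lib.helper16.FR Groth.Agent.Lib.helper16.FA Groth.Agent.Lib.helper16.FHD
  Groth.Agent.Lib.helper16.FAA Groth.Agent.Lib.helper16.FAPF Groth.Agent.Lib.helper16.FH
open scoped IntermediateField

universe u v w

section family

variable {k : Type u} [Field k] (B : Finset k) (d : k → ℕ)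

/-- the exponent of a member -/
def pj : {a : ↥B × ℕ // 1 ≤ a.2 ∧ 2 * a.2 + 1 ≤ d (a.1 : k)} ⊕ {b : ↥B // (b : k) ≠ 0} → ℕ :=
  Sum.elim (fun a => a.1.2) (fun _ => 0)

variable {B d}

theorem al_mem (i) : al B d i ∈ B := by
  rcases i with a | b
  · exact a.1.1.2
  · exact b.1.2

theorem pj_le (i) : pj B d i ≤ (d (al B d i) - 1) / 2 := by
  rcases i with a | b
  · have := a.2.2
    change a.1.2 ≤ (d (a.1.1 : k) - 1) / 2
    omega
  · exact Nat.zero_le _

theorem al_pj_injective {i i'} (h1 : al B d i = al B d i') (h2 : pj B d i = pj B d i') :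
    i = i' := by
  rcases i with a | b <;> rcases i' with a' | b'
  · congr 1
    apply Subtype.ext
    apply Prod.ext
    · exact Subtype.ext h1
    · exact h2
  · exfalso
    have := a.2.1
    change a.1.2 = 0 at h2
    omega
  · exfalso
    have := a'.2.1
    change 0 = a'.1.2 at h2
    omega
  · congr 1
    apply Subtype.ext
    exact Subtype.ext h1

theorem not_al_zero_pj_zero (i) : ¬ (al B d i = 0 ∧ pj B d i = 0) := by
  rintro ⟨h1, h2⟩
  rcases i with a | b
  · have := a.2.1
    change a.1.2 = 0 at h2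
    omega
  · exact b.2 h1

end family

section indep

variable {k : Type u} {K : Type v} [Field k] [CharP k 2] [Field K] [Algebra k K]
  [Algebra (RatFunc k) K] [IsScalarTower k (RatFunc k) K] [Algebra.IsSeparable (RatFunc k) K]
  (hdeg : finrank (RatFunc k) K = 2) {y : K} (hy : y ∉ Set.range (algebraMap (RatFunc k) K))
  {f : RatFunc k} (heq : y ^ 2 + y = algebraMap (RatFunc k) K f)
  (B : Finset k) (h0 : (0 : k) ∈ B) (d : k → ℕ) (hd : ∀ β ∈ B, Odd (d β))
  (hpole : ∀ (p : Place k (RatFunc k)) (β : k), β ∈ B →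
      p.1 ((RatFunc.X : RatFunc k) - RatFunc.C β) < 1 → p.ord f = -(d β : ℤ))
  (hint : ∀ p : Place k (RatFunc k),
    (∀ β ∈ B, 1 ≤ p.1 ((RatFunc.X : RatFunc k) - RatFunc.C β)) → p.1 f ≤ 1)
  (Pl : k → Place k K)
  (hPl : ∀ β ∈ B, (Pl β).1 (xK k K - algebraMap k K β) < 1)

/-- the repartition family -/
noncomputable def rep [DecidableEq (Place k K)] (y : K) :
    {a : ↥B × ℕ // 1 ≤ a.2 ∧ 2 * a.2 + 1 ≤ d (a.1 : k)} ⊕ {b : ↥B // (b : k) ≠ 0} →
      (Place k K → K) :=
  fun i => Pi.single (Pl (al B d i)) (y * (xK k K - algebraMap k K (al B d i)) ^ (pj B d i))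

omit [CharP k 2] [Algebra.IsSeparable (RatFunc k) K] in
include hPl in
theorem Pl_inj {β β' : k} (hβ : β ∈ B) (hβ' : β' ∈ B) (h : Pl β = Pl β') : β = β' := by
  by_contra hne
  have h1 := hPl β hβ
  have h2 := hPl β' hβ'
  rw [← h] at h2
  have h3 := val_sub_const_of_lt (Pl β) hne h1
  rw [h3] at h2
  exact lt_irrefl _ h2

include hdeg hy heq h0 hd hpole hint hPl in
/-- the classes of the family are independent modulo `A(0) + K` -/
theorem indep_core [DecidableEq (Place k K)]
    [Fintype ({a : ↥B × ℕ // 1 ≤ a.2 ∧ 2 * a.2 + 1 ≤ d (a.1 : k)} ⊕ {b : ↥B // (b : k) ≠ 0})]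
    (c : {a : ↥B × ℕ // 1 ≤ a.2 ∧ 2 * a.2 + 1 ≤ d (a.1 : k)} ⊕ {b : ↥B // (b : k) ≠ 0} → k)
    (hT : ∑ i, c i • rep B d Pl y i ∈ AD (0 : Divisor k K) ⊔ LinearMap.range (diag k K)) :
    ∀ i, c i = 0 := by
  classical
  have hfin : FiniteDimensional (RatFunc k) K := Module.finite_of_finrank_pos (by omega)
  have hKr := isFunctionField_ratFunc (k := k)
  rw [Submodule.mem_sup] at hT
  obtain ⟨A, hA, _, ⟨h, rfl⟩, hAh⟩ := hT
  obtain ⟨a, b, hab⟩ := exists_decomp hdeg hy h
  -- components of the combination
  have hTP : ∀ P : Place k K, (∑ i, c i • rep B d Pl y i) P =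
      ∑ i, if P = Pl (al B d i) then
        c i • (y * (xK k K - algebraMap k K (al B d i)) ^ (pj B d i)) else 0 := by
    intro P
    rw [Finset.sum_apply]
    apply Finset.sum_congr rfl
    intro i _
    unfold rep
    rw [Pi.smul_apply, Pi.single_apply]
    split_ifs
    · rfl
    · rw [smul_zero]
  have hAP : ∀ P : Place k K, A P = (∑ i, c i • rep B d Pl y i) P - h := by
    intro P
    rw [← hAh, Pi.add_apply, diag_apply]
    ring
  -- the local polynomials
  set u : k → RatFunc k := fun β =>
    ∑ i with al B d i = β, c i • ((RatFunc.X : RatFunc k) - RatFunc.C β) ^ (pj B d i) with hu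
  have hTβ : ∀ β ∈ B, (∑ i, c i • rep B d Pl y i) (Pl β) = algebraMap (RatFunc k) K (u β) * y := by
    intro β hβ
    rw [hTP, hu]
    simp only
    rw [map_sum, Finset.sum_mul, Finset.sum_filter]
    apply Finset.sum_congr rfl
    intro i _
    by_cases hi : al B d i = β
    · rw [if_pos hi, if_pos (by rw [hi]), hi, Algebra.smul_def, Algebra.smul_def, map_mul, map_pow,
        ← xa_eq, ← IsScalarTower.algebraMap_apply]
      unfold xK
      ring
    · rw [if_neg hi, if_neg]
      intro hPl'
      exact hi (Pl_inj B Pl hPl (al_mem i) hβ hPl'.symm)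
  have hu_int : ∀ (β : k) (p : Place k (RatFunc k)), p.1 RatFunc.X ≤ 1 → p.1 (u β) ≤ 1 := by
    intro β p hX
    rw [hu]
    simp only
    apply Valuation.map_sum_le
    intro i _
    rw [Algebra.smul_def, map_mul, map_pow]
    exact mul_le_one' (p.2.1 _) (pow_le_one' (val_X_sub_C_le_one p β hX) _)
  -- analysis at the places of `B`
  have hram : ∀ β ∈ B, ∀ p : Place k (RatFunc k),
      p.1 ((RatFunc.X : RatFunc k) - RatFunc.C β) < 1 →
      p.1 a ≤ 1 ∧ (b - u β = 0 ∨ (d β : ℤ) ≤ 2 * p.ord (b - u β)) := by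
    intro β hβ p hp
    obtain ⟨p', he, huniq, hyo, hxo⟩ :=
      place_over hdeg heq (hd β hβ) (fun p hp => hpole p β hβ hp) (hPl β hβ)
    have hp' : p'.1 ((RatFunc.X : RatFunc k) - RatFunc.C β) < 1 := by
      have h1 := hPl β hβ
      unfold xK at h1
      rw [xa_eq, he] at h1
      by_contra hge
      rw [not_lt] at hge
      exact absurd h1 (not_lt.mpr (one_le_pow₀ hge))
    have hpp : p' = p := eq_of_X_sub_C_lt hp' hp
    subst hpp
    have h1 := hA (Pl β)
    rw [Finsupp.zero_apply, exp_zero, hAP, hTβ β hβ, hab] at h1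
    have h2 : algebraMap (RatFunc k) K (u β) * y -
        (algebraMap (RatFunc k) K a + algebraMap (RatFunc k) K b * y) =
        -(algebraMap (RatFunc k) K a + algebraMap (RatFunc k) K (b - u β) * y) := by
      rw [map_sub]; ring
    rw [h2, Valuation.map_neg] at h1
    exact ram_analysis hdeg he (hd β hβ) hyo h1
  -- `b` is integral everywhere
  have hbint : ∀ p : Place k (RatFunc k), p.1 b ≤ 1 := by
    intro p
    by_cases hex : ∃ β ∈ B, p.1 ((RatFunc.X : RatFunc k) - RatFunc.C β) < 1
    · obtain ⟨β, hβ, hp⟩ := hex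
      obtain ⟨-, h2⟩ := hram β hβ p hp
      have hX : p.1 RatFunc.X ≤ 1 := by
        by_contra hlt
        rw [not_le] at hlt
        have := val_sub_const_of_pole p β hlt
        have hC : algebraMap k (RatFunc k) β = RatFunc.C β := by rw [RatFunc.algebraMap_eq_C]
        rw [hC] at this
        rw [this] at hp
        exact absurd hp (not_lt.mpr (le_of_lt hlt))
      have h3 : p.1 (b - u β) ≤ 1 := by
        rcases h2 with h2 | h2
        · rw [h2, map_zero]; exact zero_le
        · by_cases hw0 : b - u β = 0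
          · rw [hw0, map_zero]; exact zero_le
          · rw [val_le_one_iff p hw0]
            have := (hd β hβ).pos
            omega
      have h4 : b = (b - u β) + u β := by ring
      rw [h4]
      exact le_trans (p.1.map_add _ _) (max_le h3 (hu_int β p hX))
    · push Not at hex
      have hf := hint p hex
      refine (unram_analysis hdeg hy heq hf (a := a) (b := b) ?_).2
      intro P hP
      have h1 := hA P
      rw [Finsupp.zero_apply, exp_zero, hAP, hTP] at h1
      have h2 : (∑ i, if P = Pl (al B d i) then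
          c i • (y * (xK k K - algebraMap k K (al B d i)) ^ (pj B d i)) else 0) = 0 := by
        apply Finset.sum_eq_zero
        intro i _
        rw [if_neg]
        intro hPi
        obtain ⟨e, he⟩ := hP
        have h3 := hPl _ (al_mem (B := B) (d := d) i)
        rw [← hPi] at h3
        unfold xK at h3
        rw [xa_eq, he] at h3
        have h4 := hex _ (al_mem (B := B) (d := d) i)
        exact absurd h3 (not_lt.mpr (one_le_pow₀ h4))
      rw [h2, zero_sub, Valuation.map_neg, hab] at h1
      exact h1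
  obtain ⟨b₀, hb₀⟩ := exists_const_of_integral hbint
  -- coefficient extraction
  have hcoef : ∀ β ∈ B, ∀ n : ℕ,
      (if n = 0 then b₀ else 0) = ∑ i ∈ Finset.univ.filter (fun i => al B d i = β) with
        pj B d i = n, c i := by
    intro β hβ n
    obtain ⟨p, hp⟩ := exists_place_X_sub_C β
    obtain ⟨-, h2⟩ := hram β hβ p hp
    apply taylor_coeff_eq_zero (Finset.univ.filter (fun i => al B d i = β)) c (pj B d) β b₀
      ((d β - 1) / 2)
    · intro i hi
      rw [Finset.mem_filter] at hi
      rw [← hi.2]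
      exact pj_le i
    · set W : k[X] := C b₀ - ∑ i ∈ Finset.univ.filter (fun i => al B d i = β),
        C (c i) * (X - C β) ^ pj B d i with hW
      have hWalg : algebraMap k[X] (RatFunc k) W = b - u β := by
        have e1 : algebraMap k[X] (RatFunc k) (C b₀) = algebraMap k (RatFunc k) b₀ := by
          rw [RatFunc.algebraMap_C, RatFunc.algebraMap_eq_C]
        rw [hW, map_sub, map_sum, hb₀, hu, e1]
        simp only
        congr 1
        apply Finset.sum_congr rfl
        intro i _
        rw [map_mul, map_pow, alg_X_sub_C, RatFunc.algebraMap_C, Algebra.smul_def,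
          RatFunc.algebraMap_eq_C]
      by_cases hW0 : W = 0
      · rw [hW0]; exact dvd_zero _
      have hirr := irreducible_X_sub_C β
      have hp1 : p.1 (algebraMap k[X] (RatFunc k) (X - C β)) < 1 := by
        rw [alg_X_sub_C]; exact hp
      have hord := ord_alg_eq p hirr hp1 hW0
      rw [ord_alg_irreducible p hirr hp1, mul_one, hWalg] at hord
      have hfm : FiniteMultiplicity (X - C β) W :=
        FiniteMultiplicity.of_prime_left hirr.prime hW0
      rw [hfm.pow_dvd_iff_le_multiplicity]
      rcases h2 with h2 | h2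
      · exfalso
        apply hW0
        have : algebraMap k[X] (RatFunc k) W = 0 := by rw [hWalg, h2]
        exact (map_eq_zero_iff _ (RatFunc.algebraMap_injective k)).mp this
      · rw [hord] at h2
        obtain ⟨m, hm⟩ := hd β hβ
        have : ((d β - 1) / 2 + 1 : ℕ) ≤ multiplicity (X - C β) W := by
          zify
          omega
        exact this
  have hb₀0 : b₀ = 0 := by
    have := hcoef 0 h0 0
    rw [if_pos rfl] at this
    rw [this]
    apply Finset.sum_eq_zero
    intro i hi
    rw [Finset.mem_filter, Finset.mem_filter] at hi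
    exact absurd ⟨hi.1.2, hi.2⟩ (not_al_zero_pj_zero i)
  intro i₀
  have h1 := hcoef (al B d i₀) (al_mem i₀) (pj B d i₀)
  rw [hb₀0, ite_self] at h1
  rw [h1]
  symm
  apply Finset.sum_eq_single_of_mem i₀
  · rw [Finset.mem_filter, Finset.mem_filter]
    exact ⟨⟨Finset.mem_univ _, rfl⟩, rfl⟩
  · intro i hi hne
    rw [Finset.mem_filter, Finset.mem_filter] at hi
    exact absurd (al_pj_injective hi.1.2 hi.2) hne

end indep

end Groth.Agent.Lib.helper16.FAH
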