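import Groth.Agent.Lib.helper16.FFWeil

/-! Helper library (helper16): rational function fields, genus zero. -/

set_option autoImplicit false

namespace Groth.Agent.Lib.helper16.FF

open FunFld WithZero Polynomial Module
open scoped IntermediateField

variable {k K : Type*} [Field k] [Field K] [Algebra k K]

theorem pow_mem_L_nsmul_poleDiv (hK : IsFunctionField k K) (x : K) {j l : ℕ} (hjl : j ≤ l) :
    x ^ j ∈ L (l • poleDiv k x) := by
  intro P
  rw [map_pow, Finsupp.smul_apply, exp_nsmul]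
  have h1 : P.1 x ≤ exp (poleDiv k x P) := val_le_exp_poleDiv hK x P
  have h3 : (1 : ℤᵐ⁰) ≤ exp (poleDiv k x P) := by
    rw [← exp_zero, exp_le_exp]
    exact poleDiv_nonneg x P
  calc P.1 x ^ j ≤ exp (poleDiv k x P) ^ j := by gcongr
    _ ≤ exp (poleDiv k x P) ^ l := pow_le_pow_right₀ h3 hjl

theorem le_ell_nsmul_poleDiv (hK : IsFunctionField k K) {x : K}
    (hx : x ∉ Set.range (algebraMap k K)) (l : ℕ) : l + 1 ≤ ell (l • poleDiv k x) := by
  have htr := transcendental_of_not_mem_range hK hx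
  have hli : LinearIndependent k (fun j : Fin (l + 1) =>
      (⟨x ^ (j : ℕ), pow_mem_L_nsmul_poleDiv hK x (by have := j.2; omega)⟩ :
        L (l • poleDiv k x))) := by
    apply LinearIndependent.of_comp (L (l • poleDiv k x)).subtype
    exact linearIndependent_pow_of_transcendental htr l
  have hfd := finiteDimensional_L hK (l • poleDiv k x)
  have h1 := hli.fintype_card_le_finrank
  rwa [Fintype.card_fin] at h1

theorem not_mem_range_of_adjoin_eq_top (hK : IsFunctionField k K) {x : K}
    (hx : k⟮x⟯ = ⊤) : x ∉ Set.range (algebraMap k K) := by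
  intro hxr
  obtain ⟨y, hy⟩ := exists_not_mem_range hK
  apply hy
  have h1 : k⟮x⟯ = ⊥ := by
    rw [IntermediateField.adjoin_simple_eq_bot_iff]
    exact IntermediateField.mem_bot.mpr hxr
  have h2 : y ∈ (⊥ : IntermediateField k K) := by
    rw [← h1, hx]
    exact IntermediateField.mem_top
  exact IntermediateField.mem_bot.mp h2

theorem genus_eq_zero_of_finrank_eq_one (hK : IsFunctionField k K) {x : K}
    (hx : x ∉ Set.range (algebraMap k K)) (h1 : Module.finrank k⟮x⟯ K = 1) :
    genus k K = 0 := by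
  obtain ⟨N, hN⟩ := riemann hK
  have hdeg : (poleDiv k x).deg = 1 := by rw [deg_poleDiv_eq hK hx, h1]; rfl
  let l : ℕ := N.toNat
  have h2 : N ≤ (l • poleDiv k x).deg := by
    rw [deg_nsmul, hdeg, mul_one]
    exact Int.self_le_toNat N
  have h3 := hN _ h2
  have h4 := le_ell_nsmul_poleDiv hK hx l
  unfold delta at h3
  rw [deg_nsmul, hdeg, mul_one] at h3
  have h5 : ((l + 1 : ℕ) : ℤ) ≤ ell (l • poleDiv k x) := Int.ofNat_le.mpr h4
  push_cast at h5
  omega

theorem genus_eq_zero_of_adjoin_eq_top (hK : IsFunctionField k K) {x : K}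
    (hx : k⟮x⟯ = ⊤) : genus k K = 0 :=
  genus_eq_zero_of_finrank_eq_one hK (not_mem_range_of_adjoin_eq_top hK hx)
    (IntermediateField.finrank_eq_one_iff_eq_top.mpr hx)

/-- a nonnegative divisor of degree one is a place of degree one -/
theorem eq_single_of_deg_eq_one (hK : IsFunctionField k K) {E : Divisor k K} (hE : 0 ≤ E)
    (hdeg : E.deg = 1) : ∃ P : Place k K, P.deg = 1 ∧ E = Finsupp.single P 1 := by
  have hne : E ≠ 0 := by
    rintro rfl
    rw [deg_zero] at hdeg
    omega
  obtain ⟨P, hP⟩ := Finsupp.support_nonempty_iff.mpr hne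
  have hP' : E P ≠ 0 := Finsupp.mem_support_iff.mp hP
  have h1 : Finsupp.single P 1 ≤ E := by
    intro Q
    classical
    rw [Finsupp.single_apply]
    split_ifs with h
    · subst h
      have : 0 ≤ E P := hE P
      omega
    · exact hE Q
  have h2 := deg_mono h1
  rw [deg_single, hdeg, one_mul] at h2
  have h3 := deg_place_pos hK P
  have h4 : P.deg = 1 := by
    have : (P.deg : ℤ) ≤ 1 := h2
    omega
  refine ⟨P, h4, (eq_of_le_of_deg_eq hK h1 ?_).symm⟩
  rw [deg_single, hdeg, h4]
  rfl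

theorem exists_simple_pole_of_adjoin_eq_top (hK : IsFunctionField k K) {x : K}
    (hx : k⟮x⟯ = ⊤) :
    ∃ P : Place k K, P.deg = 1 ∧ P.ord x = -1 ∧ ∀ Q : Place k K, Q ≠ P → 0 ≤ Q.ord x := by
  have hxr := not_mem_range_of_adjoin_eq_top hK hx
  have hdeg : (poleDiv k x).deg = 1 := by
    rw [deg_poleDiv_eq hK hxr, IntermediateField.finrank_eq_one_iff_eq_top.mpr hx]
    rfl
  obtain ⟨P, hP1, hP2⟩ := eq_single_of_deg_eq_one hK (poleDiv_nonneg x) hdeg
  refine ⟨P, hP1, ?_, ?_⟩
  · have := poleDiv_apply hK x P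
    rw [hP2, Finsupp.single_eq_same] at this
    rcases le_total (-P.ord x) 0 with h | h
    · rw [max_eq_right h] at this; omega
    · rw [max_eq_left h] at this; omega
  · intro Q hQ
    have := poleDiv_apply hK x Q
    rw [hP2, Finsupp.single_eq_of_ne hQ] at this
    have h2 : -Q.ord x ≤ max (-Q.ord x) 0 := le_max_left _ _
    omega

theorem poleDiv_eq_single_of_simple_pole (hK : IsFunctionField k K) {x : K} {P : Place k K}
    (h1 : P.ord x = -1) (h2 : ∀ Q : Place k K, Q ≠ P → 0 ≤ Q.ord x) :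
    poleDiv k x = Finsupp.single P 1 := by
  ext Q
  rw [poleDiv_apply hK]
  by_cases hQ : Q = P
  · subst hQ
    rw [h1, Finsupp.single_eq_same]
    rfl
  · rw [Finsupp.single_eq_of_ne hQ, max_eq_right]
    have := h2 Q hQ
    omega

theorem adjoin_eq_top_of_simple_pole (hK : IsFunctionField k K) {x : K} {P : Place k K}
    (hP : P.deg = 1) (h1 : P.ord x = -1) (h2 : ∀ Q : Place k K, Q ≠ P → 0 ≤ Q.ord x) :
    k⟮x⟯ = ⊤ := by
  have hxr : x ∉ Set.range (algebraMap k K) := by
    intro h
    have := ord_eq_zero_of_mem_range P h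
    omega
  have hdeg := deg_poleDiv_eq hK hxr
  rw [poleDiv_eq_single_of_simple_pole hK h1 h2, deg_single, hP] at hdeg
  rw [← IntermediateField.finrank_eq_one_iff_eq_top]
  have : ((1 : ℕ) : ℤ) = (Module.finrank k⟮x⟯ K : ℤ) := by rw [← hdeg]; simp
  exact_mod_cast this.symm

end Groth.Agent.Lib.helper16.FF
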