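import Groth.Agent.Lib.helper16.FAdeleH1b
import Groth.Agent.Lib.helper16.FFRat

set_option autoImplicit false

namespace Groth.Agent.Lib.helper16.FAH

open FunFld WithZero Polynomial Module
open Groth.Agent.Lib.helper16 Groth.Agent.Lib.helper16.FF Groth.Agent.Lib.helper16.FX
  Groth.Agent.Lib.helper16.FR Groth.Agent.Lib.helper16.FA Groth.Agent.Lib.helper16.FHD
  Groth.Agent.Lib.helper16.FAA Groth.Agent.Lib.helper16.FAPF Groth.Agent.Lib.helper16.FH
open scoped IntermediateField

universe u v w

section upper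

variable {k : Type u} {K : Type v} [Field k] [CharP k 2] [Field K] [Algebra k K]
  [Algebra (RatFunc k) K] [IsScalarTower k (RatFunc k) K]
  (hK : IsFunctionField k K)
  (hdeg : finrank (RatFunc k) K = 2) {y : K} (hy : y ∉ Set.range (algebraMap (RatFunc k) K))
  {f : RatFunc k} (heq : y ^ 2 + y = algebraMap (RatFunc k) K f)
  (B : Finset k) (d : k → ℕ) (hd : ∀ β ∈ B, Odd (d β))
  (hpole : ∀ (p : Place k (RatFunc k)) (β : k), β ∈ B →
      p.1 ((RatFunc.X : RatFunc k) - RatFunc.C β) < 1 → p.ord f = -(d β : ℤ))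
  (hint : ∀ p : Place k (RatFunc k),
    (∀ β ∈ B, 1 ≤ p.1 ((RatFunc.X : RatFunc k) - RatFunc.C β)) → p.1 f ≤ 1)

omit [CharP k 2] in
include hK in
theorem polyK_mem_L {a : k[X]} {n : ℕ} (ha : a ∈ degreeLT k (n + 1)) :
    polyK K a ∈ L (n • poleDiv k (xK k K)) := by
  rw [polyK_eq_aeval, aeval_eq_sum_range]
  apply Submodule.sum_mem
  intro i hi
  apply Submodule.smul_mem
  apply pow_mem_L_nsmul_poleDiv hK
  have h1 : a.natDegree < n + 1 := by
    by_cases ha0 : a = 0
    · rw [ha0, natDegree_zero]; omega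
    · rw [mem_degreeLT] at ha
      exact (natDegree_lt_iff_degree_lt ha0).mpr ha
  have := Finset.mem_range.mp hi
  omega

include hK hdeg hy heq hd hpole hint in
theorem qy_mem_L {b₀ : k[X]} {n : ℕ} (hn : (qpoly B d).natDegree ≤ n)
    (hb : b₀ ∈ degreeLT k (n - (qpoly B d).natDegree + 1)) :
    polyK K (qpoly B d * b₀) * y ∈ L (n • poleDiv k (xK k K)) := by
  have hfin : FiniteDimensional (RatFunc k) K := Module.finite_of_finrank_pos (by omega)
  have hKr := isFunctionField_ratFunc (k := k)
  by_cases hb0 : b₀ = 0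
  · rw [hb0, mul_zero]
    unfold polyK
    rw [map_zero, map_zero, zero_mul]
    exact Submodule.zero_mem _
  have hbdeg : b₀.natDegree ≤ n - (qpoly B d).natDegree := by
    rw [mem_degreeLT] at hb
    have := (natDegree_lt_iff_degree_lt hb0).mpr hb
    omega
  have hy0 : y ≠ 0 := by
    rintro rfl
    exact hy ⟨0, map_zero _⟩
  have hqb0 : qpoly B d * b₀ ≠ 0 := mul_ne_zero (qpoly_ne_zero B d) hb0
  have hz0 : polyK K (qpoly B d * b₀) ≠ 0 := by
    unfold polyK
    rw [Ne, map_eq_zero]
    exact alg_ne_zero hqb0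
  intro P
  rw [Finsupp.smul_apply, poleDiv_apply hK, val_le_exp_iff P (mul_ne_zero hz0 hy0),
    ord_mul P hz0 hy0]
  by_cases hx : P.1 (xK k K) ≤ 1
  · have hxo : 0 ≤ P.ord (xK k K) := (val_le_one_iff P xK_ne_zero).mp hx
    rw [max_eq_right (by omega), smul_zero, neg_zero]
    obtain ⟨p, e, he⟩ := exists_isOverWith (K' := K) hKr.1 P
    have hepos := isOverWith_pos he
    have hX : p.1 RatFunc.X ≤ 1 := by
      by_contra hlt
      rw [not_le] at hlt
      have : 1 < P.1 (xK k K) := by
        unfold xK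
        rw [he]
        exact one_lt_pow₀ hlt (by omega)
      exact absurd hx (not_le.mpr this)
    have hzord : P.ord (polyK K (qpoly B d * b₀)) =
        e * (p.ord (algebraMap k[X] (RatFunc k) (qpoly B d)) +
          p.ord (algebraMap k[X] (RatFunc k) b₀)) := by
      unfold polyK
      rw [isOverWith_ord he, map_mul, ord_mul p (alg_ne_zero (qpoly_ne_zero B d)) (alg_ne_zero hb0)]
    have hb₀nn : 0 ≤ p.ord (algebraMap k[X] (RatFunc k) b₀) :=
      (val_le_one_iff p (alg_ne_zero hb0)).mp (val_alg_le_one p hX _)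
    have hqnn : 0 ≤ p.ord (algebraMap k[X] (RatFunc k) (qpoly B d)) :=
      (val_le_one_iff p (alg_ne_zero (qpoly_ne_zero B d))).mp (val_alg_le_one p hX _)
    by_cases hex : ∃ β ∈ B, p.1 ((RatFunc.X : RatFunc k) - RatFunc.C β) < 1
    · obtain ⟨β, hβ, hp⟩ := hex
      have hPβ : P.1 (algebraMap (RatFunc k) K RatFunc.X - algebraMap k K β) < 1 := by
        rw [xa_eq, he]
        exact pow_lt_one₀ zero_le hp (by omega)
      obtain ⟨p', he', -, hyo, -⟩ :=
        place_over hdeg heq (hd β hβ) (fun p hp => hpole p β hβ hp) hPβ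
      obtain ⟨hpp, hee⟩ := isOverWith_unique he he'
      subst hpp
      subst hee
      rw [hzord, hyo, ord_qpoly_of_lt B d p hβ hp]
      obtain ⟨m, hm⟩ := hd β hβ
      have h5 : (((d β + 1) / 2 : ℕ) : ℤ) = m + 1 := by
        have : (d β + 1) / 2 = m + 1 := by omega
        rw [this]
        push_cast
        ring
      rw [h5, hm]
      push_cast
      nlinarith
    · push Not at hex
      have hf := hint p hex
      have hyo : 0 ≤ P.ord y := (val_le_one_iff P hy0).mp (val_y_le_one heq he hf)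
      rw [hzord]
      have : (0 : ℤ) ≤ e * (p.ord (algebraMap k[X] (RatFunc k) (qpoly B d)) +
          p.ord (algebraMap k[X] (RatFunc k) b₀)) := mul_nonneg (by positivity) (by omega)
      omega
  · rw [not_le] at hx
    obtain ⟨P₀, e, he, hinf, hf⟩ := infinity_data hdeg B hint hx
    have hfo : 0 ≤ P₀.ord f := by
      by_cases hf0 : f = 0
      · rw [hf0, ord_zero]
      · exact (val_le_one_iff P₀ hf0).mp hf
    have he1 : e = 1 := by
      have := unramified_of_no_pole hdeg hy heq P₀ hfo ⟨e, he⟩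
      rwa [ramIdx_eq he] at this
    have hxo : P.ord (xK k K) = -1 := by
      unfold xK
      rw [isOverWith_ord he, ord_X_of_pole P₀ hinf, he1]
      rfl
    have hyo : 0 ≤ P.ord y := (val_le_one_iff P hy0).mp (val_y_le_one heq he hf)
    have hzord : P.ord (polyK K (qpoly B d * b₀)) = -((qpoly B d * b₀).natDegree : ℤ) := by
      unfold polyK
      rw [isOverWith_ord he, ord_alg_of_pole P₀ hinf hqb0, ord_X_of_pole P₀ hinf, he1]
      push_cast
      ring
    rw [hxo, hzord, natDegree_mul (qpoly_ne_zero B d) hb0, max_eq_left (by omega), nsmul_eq_mul]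
    push_cast
    have : ((qpoly B d).natDegree : ℤ) + b₀.natDegree ≤ n := by
      have : (qpoly B d).natDegree + b₀.natDegree ≤ n := by omega
      exact_mod_cast this
    omega

include hK hdeg hy heq hd hpole hint in
/-- the genus is at most `deg q - 1` -/
theorem genus_le : (genus k K : ℤ) ≤ (qpoly B d).natDegree - 1 := by
  classical
  set dq := (qpoly B d).natDegree with hdq
  set n : ℕ := dq + genus k K + 1 with hn
  have hfd := finiteDimensional_L hK (n • poleDiv k (xK k K))
  let Ψ : (degreeLT k (n + 1) × degreeLT k (n - dq + 1)) →ₗ[k] K :=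
    ((Polynomial.aeval (xK k K)).toLinearMap.comp (degreeLT k (n + 1)).subtype).coprod
      ((LinearMap.mulRight k (polyK K (qpoly B d) * y)).comp
        ((Polynomial.aeval (xK k K)).toLinearMap.comp (degreeLT k (n - dq + 1)).subtype))
  have hΨ : ∀ p, Ψ p = polyK K (p.1 : k[X]) + polyK K (qpoly B d * (p.2 : k[X])) * y := by
    intro p
    have : Ψ p = aeval (xK k K) (p.1 : k[X]) +
        aeval (xK k K) (p.2 : k[X]) * (polyK K (qpoly B d) * y) := rfl
    rw [this, polyK_eq_aeval, polyK_eq_aeval, polyK_eq_aeval, map_mul]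
    ring
  have hΨinj : Function.Injective Ψ := by
    rw [← LinearMap.ker_eq_bot, LinearMap.ker_eq_bot']
    intro p hp
    rw [hΨ] at hp
    unfold polyK at hp
    obtain ⟨h1, h3⟩ := decomp_eq_zero hy hp
    have h1' : (p.1 : k[X]) = 0 := by
      apply IsFractionRing.injective k[X] (RatFunc k)
      rw [h1, map_zero]
    have h3' : (p.2 : k[X]) = 0 := by
      have : qpoly B d * (p.2 : k[X]) = 0 := by
        apply IsFractionRing.injective k[X] (RatFunc k)
        rw [h3, map_zero]
      rcases mul_eq_zero.mp this with h | h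
      · exact absurd h (qpoly_ne_zero B d)
      · exact h
    exact Prod.ext (Subtype.ext h1') (Subtype.ext h3')
  have hrange : LinearMap.range Ψ ≤ L (n • poleDiv k (xK k K)) := by
    rintro _ ⟨p, rfl⟩
    rw [hΨ]
    exact Submodule.add_mem _ (polyK_mem_L hK p.1.2)
      (qy_mem_L hK hdeg hy heq B d hd hpole hint (by omega) p.2.2)
  have h1 : finrank k (LinearMap.range Ψ) ≤ ell (n • poleDiv k (xK k K)) :=
    Submodule.finrank_mono hrange
  rw [LinearMap.finrank_range_of_inj hΨinj, Module.finrank_prod, FHG.finrank_degreeLT,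
    FHG.finrank_degreeLT] at h1
  have hdegp : (poleDiv k (xK k K)).deg = 2 := by
    rw [deg_poleDiv_eq hK xK_not_mem_range, finrank_adjoin, hdeg]
    rfl
  have hdegD : (n • poleDiv k (xK k K)).deg = 2 * n := by
    rw [← Nat.cast_smul_eq_nsmul ℤ, deg_zsmul, hdegp]
    ring
  have h2 := ell_eq_of_deg_ge hK (D := n • poleDiv k (xK k K)) (by rw [hdegD, hn]; push_cast; omega)
  rw [hdegD] at h2
  have h3 : ((n + 1 + (n - dq + 1) : ℕ) : ℤ) ≤ ell (n • poleDiv k (xK k K)) := by
    exact_mod_cast h1
  rw [h2] at h3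
  have h4 : dq ≤ n := by omega
  push_cast [h4] at h3
  omega

end upper

end Groth.Agent.Lib.helper16.FAH
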