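import Groth.Agent.Lib.helper16.FAdeleH1c

set_option autoImplicit false

namespace Groth.Agent.Lib.helper16.FAH

open FunFld WithZero Polynomial Module
open Groth.Agent.Lib.helper16 Groth.Agent.Lib.helper16.FF Groth.Agent.Lib.helper16.FX
  Groth.Agent.Lib.helper16.FR Groth.Agent.Lib.helper16.FA Groth.Agent.Lib.helper16.FHD
  Groth.Agent.Lib.helper16.FAA Groth.Agent.Lib.helper16.FAPF Groth.Agent.Lib.helper16.FH
open scoped IntermediateField

universe u v w

section final

variable {k : Type u} {K : Type v} [Field k] [CharP k 2] [Field K] [Algebra k K]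
  [Algebra (RatFunc k) K] [IsScalarTower k (RatFunc k) K] [Algebra.IsSeparable (RatFunc k) K]
  (hK : IsFunctionField k K)
  (hdeg : finrank (RatFunc k) K = 2) {y : K} (hy : y ∉ Set.range (algebraMap (RatFunc k) K))
  {f : RatFunc k} (heq : y ^ 2 + y = algebraMap (RatFunc k) K f)
  (B : Finset k) (h0 : (0 : k) ∈ B) (d : k → ℕ) (hd : ∀ β ∈ B, Odd (d β))
  (hpole : ∀ (p : Place k (RatFunc k)) (β : k), β ∈ B →
      p.1 ((RatFunc.X : RatFunc k) - RatFunc.C β) < 1 → p.ord f = -(d β : ℤ))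
  (hint : ∀ p : Place k (RatFunc k),
    (∀ β ∈ B, 1 ≤ p.1 ((RatFunc.X : RatFunc k) - RatFunc.C β)) → p.1 f ≤ 1)
  (Pl : k → Place k K)
  (hPl : ∀ β ∈ B, (Pl β).1 (xK k K - algebraMap k K β) < 1)

omit [CharP k 2] [Algebra.IsSeparable (RatFunc k) K] in
theorem rep_mem_adele [DecidableEq (Place k K)] (i) : rep B d Pl y i ∈ adele k K := by
  rw [mem_adele_iff]
  refine (Set.finite_singleton (Pl (al B d i))).subset ?_
  intro P hP
  rw [Set.mem_singleton_iff]
  by_contra hne
  apply hP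
  unfold rep
  rw [Pi.single_eq_of_ne hne, map_zero]
  exact zero_le

include hK hdeg hy heq h0 hd hpole hint hPl in
/-- S19046 -/
theorem main [DecidableEq (Place k K)] :
    (∀ i, rep B d Pl y i ∈ adele k K) ∧
    LinearIndependent k (fun i => Submodule.mkQ
      (AD (0 : Divisor k K) ⊔ LinearMap.range (diag k K)) (rep B d Pl y i)) ∧
    ∀ a : Place k K → K, a ∈ adele k K →
      a ∈ (AD (0 : Divisor k K) ⊔ LinearMap.range (diag k K)) ⊔
        Submodule.span k (Set.range (rep B d Pl y)) := by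
  letI : Fintype ({a : ↥B × ℕ // 1 ≤ a.2 ∧ 2 * a.2 + 1 ≤ d (a.1 : k)} ⊕
      {b : ↥B // (b : k) ≠ 0}) := Fintype.ofFinite _
  set W : Submodule k (Place k K → K) := AD (0 : Divisor k K) ⊔ LinearMap.range (diag k K)
    with hW
  have hcore := indep_core hdeg hy heq B h0 d hd hpole hint Pl hPl
  refine ⟨rep_mem_adele B d Pl, ?_, ?_⟩
  · rw [Fintype.linearIndependent_iff]
    intro c hc
    apply hcore c
    have h1 : W.mkQ (∑ i, c i • rep B d Pl y i) = 0 := by
      rw [map_sum, ← hc]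
      apply Finset.sum_congr rfl
      intro i _
      rw [map_smul]
    exact (Submodule.Quotient.mk_eq_zero W).mp h1
  · -- the quotient of the adele space
    obtain ⟨hfd, hfr⟩ := finrank_adele_quotient hK (0 : Divisor k K)
    have hdelta : delta (0 : Divisor k K) = 0 := by
      unfold delta
      rw [ell_zero hK, deg_zero]
      simp
    rw [hdelta, sub_zero] at hfr
    let v : ({a : ↥B × ℕ // 1 ≤ a.2 ∧ 2 * a.2 + 1 ≤ d (a.1 : k)} ⊕
        {b : ↥B // (b : k) ≠ 0}) → (↥(adele k K) ⧸ ADK (0 : Divisor k K)) :=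
      fun i => (ADK (0 : Divisor k K)).mkQ ⟨rep B d Pl y i, rep_mem_adele B d Pl i⟩
    have hsub : ∀ c : _ → k, ((∑ i, c i • (⟨rep B d Pl y i, rep_mem_adele B d Pl i⟩ :
        ↥(adele k K)) : ↥(adele k K)) : Place k K → K) = ∑ i, c i • rep B d Pl y i := by
      intro c
      rw [Submodule.coe_sum]
      rfl
    have hvli : LinearIndependent k v := by
      rw [Fintype.linearIndependent_iff]
      intro c hc
      apply hcore c
      have h1 : (ADK (0 : Divisor k K)).mkQ (∑ i, c i • (⟨rep B d Pl y i,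
          rep_mem_adele B d Pl i⟩ : ↥(adele k K))) = 0 := by
        rw [← hc, map_sum]
        apply Finset.sum_congr rfl
        intro i _
        rw [map_smul]
      rw [Submodule.mkQ_apply, Submodule.Quotient.mk_eq_zero] at h1
      have h2 : ((∑ i, c i • (⟨rep B d Pl y i, rep_mem_adele B d Pl i⟩ :
        ↥(adele k K)) : ↥(adele k K)) : Place k K → K) ∈ W := h1
      rwa [hsub] at h2
    have hle1 := hvli.fintype_card_le_finrank
    have hle2 := genus_le hK hdeg hy heq B d hd hpole hint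
    have hcard := card_index B d h0 hd
    rw [Nat.card_eq_fintype_card] at hcard
    have hcardeq : Fintype.card ({a : ↥B × ℕ // 1 ≤ a.2 ∧ 2 * a.2 + 1 ≤ d (a.1 : k)} ⊕
        {b : ↥B // (b : k) ≠ 0}) = finrank k (↥(adele k K) ⧸ ADK (0 : Divisor k K)) := by
      have : (finrank k (↥(adele k K) ⧸ ADK (0 : Divisor k K)) : ℤ) ≤
          (Fintype.card ({a : ↥B × ℕ // 1 ≤ a.2 ∧ 2 * a.2 + 1 ≤ d (a.1 : k)} ⊕
            {b : ↥B // (b : k) ≠ 0}) : ℤ) := by
        rw [hfr]
        have : ((qpoly B d).natDegree : ℤ) = (Fintype.card ({a : ↥B × ℕ //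
            1 ≤ a.2 ∧ 2 * a.2 + 1 ≤ d (a.1 : k)} ⊕ {b : ↥B // (b : k) ≠ 0}) : ℤ) + 1 := by
          rw [← hcard]
          push_cast
          ring
        omega
      have h3 : finrank k (↥(adele k K) ⧸ ADK (0 : Divisor k K)) ≤
          Fintype.card ({a : ↥B × ℕ // 1 ≤ a.2 ∧ 2 * a.2 + 1 ≤ d (a.1 : k)} ⊕
            {b : ↥B // (b : k) ≠ 0}) := by exact_mod_cast this
      omega
    have hspan := hvli.span_eq_top_of_card_eq_finrank' hcardeq
    intro a ha
    have h1 : (ADK (0 : Divisor k K)).mkQ ⟨a, ha⟩ ∈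
        Submodule.span k (Set.range v) := by rw [hspan]; exact Submodule.mem_top
    rw [Submodule.mem_span_range_iff_exists_fun] at h1
    obtain ⟨c, hc⟩ := h1
    have h2 : (ADK (0 : Divisor k K)).mkQ ((⟨a, ha⟩ : ↥(adele k K)) -
        ∑ i, c i • (⟨rep B d Pl y i, rep_mem_adele B d Pl i⟩ : ↥(adele k K))) = 0 := by
      rw [map_sub, ← hc, map_sum, sub_eq_zero]
      apply Finset.sum_congr rfl
      intro i _
      rw [map_smul]
    rw [Submodule.mkQ_apply, Submodule.Quotient.mk_eq_zero] at h2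
    have h3 : (((⟨a, ha⟩ : ↥(adele k K)) -
        ∑ i, c i • (⟨rep B d Pl y i, rep_mem_adele B d Pl i⟩ : ↥(adele k K)) : ↥(adele k K)) :
        Place k K → K) ∈ W := h2
    rw [Submodule.coe_sub, hsub] at h3
    have h4 : a = (a - ∑ i, c i • rep B d Pl y i) + ∑ i, c i • rep B d Pl y i := by
      rw [sub_add_cancel]
    rw [h4]
    refine Submodule.add_mem_sup h3 ?_
    apply Submodule.sum_mem
    intro i _
    exact Submodule.smul_mem _ _ (Submodule.subset_span ⟨i, rfl⟩)

end final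

end Groth.Agent.Lib.helper16.FAH
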