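import Groth.Prelude.Def_W4bk4goldsch23FF
import Mathlib

/-! Helper library (helper16): geometric function fields — perfect constant fields. -/

set_option autoImplicit false

namespace Groth.Agent.Lib.helper16.FG

open FunFld Polynomial Module
open scoped TensorProduct IntermediateField

universe u v

/-- an irreducible monic polynomial over `k` stays irreducible over a field in which `k` is
algebraically closed -/
theorem irreducible_map_of_algClosedIn {k : Type*} {K : Type*} [Field k] [Field K] [Algebra k K]
    (hcl : ∀ y : K, IsAlgebraic k y → y ∈ Set.range (algebraMap k K)) {f : k[X]} (hm : f.Monic)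
    (hf : Irreducible f) : Irreducible (f.map (algebraMap k K)) := by
  have hmK : (f.map (algebraMap k K)).Monic := hm.map _
  rw [hmK.irreducible_iff_natDegree]
  rw [hm.irreducible_iff_natDegree] at hf
  refine ⟨?_, ?_⟩
  · intro h1
    apply hf.1
    have : f.map (algebraMap k K) = (1 : k[X]).map (algebraMap k K) := by rw [h1, Polynomial.map_one]
    exact Polynomial.map_injective _ (algebraMap k K).injective this
  · intro q r hq hr hqr
    have hlift : ∀ g : K[X], g.Monic → g ∣ f.map (algebraMap k K) →
        g ∈ Polynomial.lifts (algebraMap k K) := by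
      intro g hg hdvd
      rw [Polynomial.lifts_iff_coeff_lifts]
      intro n
      have hint := Polynomial.isIntegral_coeff_of_dvd f g hm hg hdvd n
      exact hcl _ hint.isAlgebraic
    obtain ⟨q₀, hq₀, hq₀d, hq₀m⟩ := Polynomial.lifts_and_natDegree_eq_and_monic
      (hlift q hq ⟨r, hqr.symm⟩) hq
    obtain ⟨r₀, hr₀, hr₀d, hr₀m⟩ := Polynomial.lifts_and_natDegree_eq_and_monic
      (hlift r hr ⟨q, by rw [mul_comm]; exact hqr.symm⟩) hr
    have hprod : q₀ * r₀ = f := by
      apply Polynomial.map_injective _ (algebraMap k K).injective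
      rw [Polynomial.map_mul, hq₀, hr₀, hqr]
    rcases hf.2 q₀ r₀ hq₀m hr₀m hprod with h | h
    · left; rw [← hq₀d, h]
    · right; rw [← hr₀d, h]

/-- over a perfect field, a function field is geometric -/
theorem isGeometric_of_perfectField (k : Type u) (K : Type v) [Field k] [Field K] [Algebra k K]
    [PerfectField k] (hcl : ∀ y : K, IsAlgebraic k y → y ∈ Set.range (algebraMap k K)) :
    IsGeometric k K := by
  intro k' _ _ hfin
  have hsep : Algebra.IsSeparable k k' := inferInstance
  let pb : PowerBasis k k' := Field.powerBasisOfFiniteOfSeparable k k'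
  let f : k[X] := minpoly k pb.gen
  have hfm : f.Monic := minpoly.monic pb.isIntegral_gen
  have hfi : Irreducible f := minpoly.irreducible pb.isIntegral_gen
  have hfK : Irreducible (f.map (algebraMap k K)) := irreducible_map_of_algClosedIn hcl hfm hfi
  have : Fact (Irreducible (f.map (algebraMap k K))) := ⟨hfK⟩
  let E := AdjoinRoot (f.map (algebraMap k K))
  have hroot : aeval (AdjoinRoot.root (f.map (algebraMap k K))) f = 0 := by
    rw [aeval_def, IsScalarTower.algebraMap_eq k K (AdjoinRoot (f.map (algebraMap k K))),
      ← Polynomial.eval₂_map, AdjoinRoot.algebraMap_eq]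
    exact AdjoinRoot.eval₂_root _
  let g : k' →ₐ[k] E := pb.lift (AdjoinRoot.root (f.map (algebraMap k K))) hroot
  let ψ : K ⊗[k] k' →ₐ[K] E :=
    Algebra.TensorProduct.productLeftAlgHom (Algebra.ofId K E) g
  have hsurj : Function.Surjective ψ := by
    rw [← AlgHom.range_eq_top, eq_top_iff, ← AdjoinRoot.adjoinRoot_eq_top]
    apply Algebra.adjoin_le
    rintro x hx
    rw [Set.mem_singleton_iff] at hx
    rw [hx]
    refine ⟨(1 : K) ⊗ₜ[k] pb.gen, ?_⟩
    show ψ ((1 : K) ⊗ₜ[k] pb.gen) = _
    simp only [ψ, Algebra.TensorProduct.productLeftAlgHom, Algebra.TensorProduct.lift_tmul,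
      map_one, one_mul, g, PowerBasis.lift_gen]
  have hdim : finrank K (K ⊗[k] k') = finrank K E := by
    rw [Module.finrank_baseChange, pb.finrank,
      (AdjoinRoot.powerBasis hfK.ne_zero).finrank, AdjoinRoot.powerBasis_dim,
      Polynomial.natDegree_map, pb.natDegree_minpoly]
  have hfinE : FiniteDimensional K E := (AdjoinRoot.powerBasis hfK.ne_zero).finite
  have hinj : Function.Injective ψ :=
    (LinearMap.injective_iff_surjective_of_finrank_eq_finrank
      (f := ψ.toLinearMap) hdim).mpr hsurj
  let e : K ⊗[k] k' ≃+* E := RingEquiv.ofBijective ψ.toRingHom ⟨hinj, hsurj⟩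
  have hfld : IsField (K ⊗[k] k') := e.toMulEquiv.isField (Field.toIsField E)
  exact (Algebra.TensorProduct.comm k k' K).toMulEquiv.isField hfld

/-- an intermediate field of a geometric extension is geometric -/
theorem isGeometric_intermediateField (k : Type u) (K : Type v) [Field k] [Field K] [Algebra k K]
    (hg : IsGeometric k K) (K₀ : IntermediateField k K) : IsGeometric k K₀ := by
  intro k' _ _ hfin
  have hfld := hg k' hfin
  -- `K₀ ⊗ k'` is a domain, as it embeds in `K ⊗ k'`
  let ι : K₀ ⊗[k] k' →ₐ[k] K ⊗[k] k' := Algebra.TensorProduct.map K₀.val (AlgHom.id k k')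
  have hιinj : Function.Injective ι := by
    have := Module.Flat.rTensor_preserves_injective_linearMap (R := k) (M := k')
      K₀.val.toLinearMap (Subtype.val_injective)
    exact this
  have hfldK : IsField (K ⊗[k] k') :=
    (Algebra.TensorProduct.comm k K k').toMulEquiv.isField hfld
  let _ := hfldK.toField
  have hdom : IsDomain (K₀ ⊗[k] k') := hιinj.isDomain ι.toRingHom
  have hint : Algebra.IsIntegral K₀ (K₀ ⊗[k] k') := inferInstance
  have h1 : IsField (K₀ ⊗[k] k') := by
    have h2 := isField_of_isIntegral_of_isField' (R := K₀) (S := K₀ ⊗[k] k') (Field.toIsField K₀)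
    exact ⟨h2.exists_pair_ne, h2.mul_comm, h2.mul_inv_cancel⟩
  exact (Algebra.TensorProduct.comm k k' K₀).toMulEquiv.isField h1

end Groth.Agent.Lib.helper16.FG
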