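import Groth.Agent.Lib.helper16.FSepT
import Groth.Agent.Lib.helper16.FGeom
import Groth.Prelude.Def_LocRes

/-! Helper library (helper16): uniqueness principle for Hasse families (Hensel uniqueness),
the Taylor homomorphism of power series, iterativity. -/

set_option autoImplicit false

namespace Groth.Agent.Lib.helper16.FHs

open Polynomial
open scoped IntermediateField

section uniq

variable {k K R L : Type*} [Field k] [Field K] [Algebra k K] [CommRing R] [IsDomain R] [Field L]

/-- the equalizer of two ring homomorphisms from a field into a domain, as an intermediate field -/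
def eqField (A B : K →+* R) (hk : ∀ c : k, A (algebraMap k K c) = B (algebraMap k K c)) :
    IntermediateField k K where
  carrier := {z | A z = B z}
  mul_mem' := fun {a b} ha hb => by
    show A (a * b) = B (a * b)
    rw [map_mul, map_mul, show A a = B a from ha, show A b = B b from hb]
  add_mem' := fun {a b} ha hb => by
    show A (a + b) = B (a + b)
    rw [map_add, map_add, show A a = B a from ha, show A b = B b from hb]
  algebraMap_mem' := hk
  inv_mem' := fun a ha => by
    show A a⁻¹ = B a⁻¹
    by_cases h0 : a = 0
    · rw [h0, inv_zero, map_zero, map_zero]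
    · have h1 : A a⁻¹ * A a = 1 := by rw [← map_mul, inv_mul_cancel₀ h0, map_one]
      have h2 : B a⁻¹ * A a = 1 := by
        rw [show A a = B a from ha, ← map_mul, inv_mul_cancel₀ h0, map_one]
      have h3 : A a ≠ 0 := by
        intro h
        rw [h, mul_zero] at h1
        exact zero_ne_one h1
      exact mul_right_cancel₀ h3 (h1.trans h2.symm)

theorem mem_eqField {A B : K →+* R} {hk : ∀ c : k, A (algebraMap k K c) = B (algebraMap k K c)}
    {z : K} : z ∈ eqField A B hk ↔ A z = B z := Iff.rfl

/-- **Hensel uniqueness**: two ring homomorphisms from `K` to a domain `R`, lifting the same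
homomorphism to a field `L` along `π : R → L`, agreeing on `k` and on a separating element `s`,
are equal. -/
theorem eq_of_agree (π : R →+* L) (A B : K →+* R) (hπ : π.comp A = π.comp B)
    (hk : ∀ c : k, A (algebraMap k K c) = B (algebraMap k K c))
    (s : K) (hs : A s = B s) [Algebra.IsSeparable k⟮s⟯ K] : A = B := by
  have hle : k⟮s⟯ ≤ eqField A B hk := by
    rw [IntermediateField.adjoin_le_iff, Set.singleton_subset_iff]
    exact hs
  ext y
  set F₀ := k⟮s⟯ with hF₀
  have hysep : IsSeparable F₀ y := Algebra.IsSeparable.isSeparable F₀ y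
  set g := minpoly F₀ y with hg
  have hgy : aeval y g = 0 := minpoly.aeval F₀ y
  have hg' : aeval y (derivative g) ≠ 0 := hysep.aeval_derivative_ne_zero hgy
  -- the two coefficient maps agree
  have hAB : A.comp (algebraMap F₀ K) = B.comp (algebraMap F₀ K) := by
    ext c
    exact hle c.2
  set G := g.map (A.comp (algebraMap F₀ K)) with hG
  have hGA : G.eval (A y) = 0 := by
    rw [hG, eval_map, ← hom_eval₂, ← aeval_def, hgy, map_zero]
  have hGB : G.eval (B y) = 0 := by
    rw [hG, hAB, eval_map, ← hom_eval₂, ← aeval_def, hgy, map_zero]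
  obtain ⟨c, hc⟩ := binomExpansion G (A y) (B y - A y)
  rw [add_sub_cancel, hGB, hGA, zero_add] at hc
  have hfac : (B y - A y) * (G.derivative.eval (A y) + c * (B y - A y)) = 0 := by
    rw [hc]; ring
  rcases mul_eq_zero.mp hfac with h | h
  · exact (sub_eq_zero.mp h).symm
  · exfalso
    have h1 := congrArg π h
    rw [map_add, map_mul, map_sub, map_zero] at h1
    have h2 : π (B y) = π (A y) := by
      have := RingHom.congr_fun hπ y
      exact this.symm
    rw [h2, sub_self, mul_zero, add_zero] at h1
    have h3 : G.derivative.eval (A y) = A (aeval y (derivative g)) := by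
      rw [hG, derivative_map, eval_map, ← hom_eval₂, ← aeval_def]
    rw [h3] at h1
    have h4 : (π.comp A) (aeval y (derivative g)) = 0 := h1
    rw [map_eq_zero] at h4
    exact hg' h4

end uniq

section taylor

variable {R : Type*} [CommRing R]

open PowerSeries

/-- the `n`-th Hasse derivative of a power series -/
noncomputable def psHasse (n : ℕ) (f : PowerSeries R) : PowerSeries R :=
  PowerSeries.mk fun m => ((m + n).choose n : R) * PowerSeries.coeff (m + n) f

theorem coeff_psHasse (n m : ℕ) (f : PowerSeries R) :
    PowerSeries.coeff m (psHasse n f) = ((m + n).choose n : R) * PowerSeries.coeff (m + n) f :=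
  PowerSeries.coeff_mk _ _

theorem coeff_psHasse_eq_trunc {n m N : ℕ} (h : m + n < N) (f : PowerSeries R) :
    PowerSeries.coeff m (psHasse n f) = (Polynomial.hasseDeriv n (PowerSeries.trunc N f)).coeff m := by
  rw [coeff_psHasse, Polynomial.hasseDeriv_coeff, PowerSeries.coeff_trunc, if_pos h]

theorem psHasse_mul (n : ℕ) (f g : PowerSeries R) :
    psHasse n (f * g) =
      ∑ ij ∈ Finset.HasAntidiagonal.antidiagonal n, psHasse ij.1 f * psHasse ij.2 g := by
  ext m
  have hN : m + n < m + n + 1 := Nat.lt_succ_self _
  rw [coeff_psHasse, PowerSeries.coeff_mul_eq_coeff_trunc_mul_trunc f g hN, ← Polynomial.coe_mul,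
    Polynomial.coeff_coe, ← Polynomial.hasseDeriv_coeff, Polynomial.hasseDeriv_mul,
    Polynomial.finsetSum_coeff, map_sum]
  apply Finset.sum_congr rfl
  intro ij hij
  rw [Finset.HasAntidiagonal.mem_antidiagonal] at hij
  rw [Polynomial.coeff_mul, PowerSeries.coeff_mul]
  apply Finset.sum_congr rfl
  intro ab hab
  rw [Finset.HasAntidiagonal.mem_antidiagonal] at hab
  rw [coeff_psHasse_eq_trunc (N := m + n + 1) (by omega),
    coeff_psHasse_eq_trunc (N := m + n + 1) (by omega)]

theorem psHasse_zero (f : PowerSeries R) : psHasse 0 f = f := by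
  ext m
  rw [coeff_psHasse, Nat.choose_zero_right, Nat.cast_one, one_mul, add_zero]

theorem psHasse_add (n : ℕ) (f g : PowerSeries R) : psHasse n (f + g) = psHasse n f + psHasse n g := by
  ext m
  rw [map_add, coeff_psHasse, coeff_psHasse, coeff_psHasse, map_add, mul_add]

theorem psHasse_C (n : ℕ) (c : R) : psHasse (n + 1) (PowerSeries.C c) = 0 := by
  ext m
  rw [coeff_psHasse, PowerSeries.coeff_C, if_neg (by omega), mul_zero, map_zero]

theorem psHasse_one (n : ℕ) : psHasse (n + 1) (1 : PowerSeries R) = 0 := by
  rw [← map_one (PowerSeries.C (R := R)), psHasse_C]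

theorem psHasse_X_one : psHasse 1 (PowerSeries.X : PowerSeries R) = 1 := by
  ext m
  rw [coeff_psHasse, PowerSeries.coeff_X, PowerSeries.coeff_one]
  by_cases hm : m = 0
  · subst hm
    simp
  · rw [if_neg (by omega), if_neg hm, mul_zero]

theorem psHasse_X_succ (n : ℕ) : psHasse (n + 2) (PowerSeries.X : PowerSeries R) = 0 := by
  ext m
  rw [coeff_psHasse, PowerSeries.coeff_X, if_neg (by omega), mul_zero, map_zero]

/-- the Taylor homomorphism `f(X) ↦ f(X + T) = ∑ (D^(n) f)(X) Tⁿ` -/
noncomputable def taylorPS : PowerSeries R →+* PowerSeries (PowerSeries R) where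
  toFun f := PowerSeries.mk fun n => psHasse n f
  map_one' := by
    ext n : 1
    rw [PowerSeries.coeff_mk, PowerSeries.coeff_one]
    cases n with
    | zero => rw [psHasse_zero, if_pos rfl]
    | succ n => rw [psHasse_one, if_neg (by omega)]
  map_mul' f g := by
    ext n : 1
    rw [PowerSeries.coeff_mk, psHasse_mul, PowerSeries.coeff_mul]
    apply Finset.sum_congr rfl
    intro ij _
    rw [PowerSeries.coeff_mk, PowerSeries.coeff_mk]
  map_zero' := by
    ext n : 1
    rw [PowerSeries.coeff_mk, map_zero]
    ext m
    rw [coeff_psHasse, map_zero, mul_zero, map_zero]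
  map_add' f g := by
    ext n : 1
    rw [PowerSeries.coeff_mk, map_add, PowerSeries.coeff_mk, PowerSeries.coeff_mk, psHasse_add]

theorem coeff_taylorPS (n : ℕ) (f : PowerSeries R) :
    PowerSeries.coeff n (taylorPS f) = psHasse n f := by
  show PowerSeries.coeff n (PowerSeries.mk fun n => psHasse n f) = _
  exact PowerSeries.coeff_mk _ _

theorem constantCoeff_taylorPS (f : PowerSeries R) :
    PowerSeries.constantCoeff (taylorPS f) = f := by
  rw [← PowerSeries.coeff_zero_eq_constantCoeff_apply, coeff_taylorPS, psHasse_zero]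

theorem taylorPS_C (c : R) : taylorPS (PowerSeries.C c) = PowerSeries.C (PowerSeries.C c) := by
  ext n : 1
  rw [coeff_taylorPS, PowerSeries.coeff_C]
  cases n with
  | zero => rw [psHasse_zero, if_pos rfl]
  | succ n => rw [psHasse_C, if_neg (by omega)]

theorem taylorPS_X : taylorPS (PowerSeries.X : PowerSeries R) =
    PowerSeries.C PowerSeries.X + PowerSeries.X := by
  ext n : 1
  rw [coeff_taylorPS, map_add, PowerSeries.coeff_C, PowerSeries.coeff_X]
  rcases n with _ | _ | n
  · rw [psHasse_zero, if_pos rfl, if_neg (by omega), add_zero]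
  · rw [psHasse_X_one, if_neg (by omega), if_pos rfl, zero_add]
  · rw [psHasse_X_succ, if_neg (by omega), if_neg (by omega), add_zero]

end taylor

section hasse

universe u v

variable {k : Type u} {K : Type v} [Field k] [Field K] [Algebra k K]

open FunFld LocRes

/-- the first Hasse derivative is a derivation -/
noncomputable def hasseDer (H : K →ₐ[k] PowerSeries K)
    (hH0 : ∀ y : K, PowerSeries.constantCoeff (H y) = y) : Derivation k K K where
  toFun y := PowerSeries.coeff 1 (H y)
  map_add' a b := by rw [map_add, map_add]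
  map_smul' c a := by
    rw [RingHom.id_apply, Algebra.smul_def, map_mul, H.commutes, PowerSeries.algebraMap_apply,
      PowerSeries.coeff_C_mul, Algebra.smul_def]
  map_one_eq_zero' := by
    show PowerSeries.coeff 1 (H 1) = 0
    rw [map_one, PowerSeries.coeff_one, if_neg one_ne_zero]
  leibniz' a b := by
    show PowerSeries.coeff 1 (H (a * b)) = a • PowerSeries.coeff 1 (H b) + b • PowerSeries.coeff 1 (H a)
    rw [map_mul, PowerSeries.coeff_mul, Finset.Nat.sum_antidiagonal_eq_sum_range_succ_mk,
      Finset.sum_range_succ, Finset.sum_range_one]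
    simp only [Nat.sub_zero, Nat.sub_self]
    rw [PowerSeries.coeff_zero_eq_constantCoeff_apply, PowerSeries.coeff_zero_eq_constantCoeff_apply,
      hH0, hH0, smul_eq_mul, smul_eq_mul]
    ring

theorem hasseDer_apply (H : K →ₐ[k] PowerSeries K)
    (hH0 : ∀ y : K, PowerSeries.constantCoeff (H y) = y) (y : K) :
    hasseDer H hH0 y = PowerSeries.coeff 1 (H y) := rfl

theorem D_ne_zero_of_isHasseFamily {s : K} {H : K →ₐ[k] PowerSeries K}
    (hH : IsHasseFamily s H) : KaehlerDifferential.D k K s ≠ 0 := by
  intro h0
  have h1 : (hasseDer H hH.2).liftKaehlerDifferential (KaehlerDifferential.D k K s) =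
      hasseDer H hH.2 s := Derivation.liftKaehlerDifferential_comp_D _ _
  rw [h0, map_zero, hasseDer_apply, hH.1, map_add, PowerSeries.coeff_C, if_neg one_ne_zero,
    PowerSeries.coeff_one_X, zero_add] at h1
  exact zero_ne_one h1

theorem isSeparable_of_D_ne_zero (hK : IsFunctionField k K) (hg : IsGeometric k K) {s : K}
    (hs : KaehlerDifferential.D k K s ≠ 0) : Algebra.IsSeparable k⟮s⟯ K := by
  obtain _ | ⟨p, hp, hpK⟩ := CharP.exists' K
  · have hstr : Transcendental k s := by
      intro halg
      obtain ⟨c, rfl⟩ := hK.2 s halg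
      exact hs (Derivation.map_algebraMap _ _)
    have hfd : FiniteDimensional k⟮s⟯ K := FX.finiteDimensional_of_transcendental hK.1 hstr
    have : CharZero k⟮s⟯ := RingHom.charZero (algebraMap k⟮s⟯ K)
    exact Algebra.IsAlgebraic.isSeparable_of_perfectField
  · haveI := hp
    haveI := hpK
    by_contra hns
    exact hs (((FS.mem_kKp_iff p hK hg s).1).mp (((FS.mem_kKp_iff p hK hg s).2).mpr hns))

theorem isSeparable_of_isHasseFamily (hK : IsFunctionField k K) (hg : IsGeometric k K) {s : K}
    {H : K →ₐ[k] PowerSeries K} (hH : IsHasseFamily s H) : Algebra.IsSeparable k⟮s⟯ K :=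
  isSeparable_of_D_ne_zero hK hg (D_ne_zero_of_isHasseFamily hH)

/-- uniqueness of the Hasse family -/
theorem hasseFamily_unique (hK : IsFunctionField k K) (hg : IsGeometric k K) {s : K}
    {H H' : K →ₐ[k] PowerSeries K} (hH : IsHasseFamily s H) (hH' : IsHasseFamily s H') :
    H = H' := by
  haveI := isSeparable_of_isHasseFamily hK hg hH
  have := eq_of_agree (k := k) (PowerSeries.constantCoeff (R := K)) H.toRingHom H'.toRingHom
    (by ext y; show PowerSeries.constantCoeff (H y) = PowerSeries.constantCoeff (H' y)
        rw [hH.2, hH'.2])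
    (fun c => by
      show H (algebraMap k K c) = H' (algebraMap k K c)
      rw [H.commutes, H'.commutes]) s
    (by show H s = H' s; rw [hH.1, hH'.1])
  ext y : 1
  exact RingHom.congr_fun this y

/-- iterativity of Hasse derivatives -/
theorem hasseD_hasseD (hK : IsFunctionField k K) (hg : IsGeometric k K) {s : K}
    {H : K →ₐ[k] PowerSeries K} (hH : IsHasseFamily s H) (i j : ℕ) (y : K) :
    hasseD H i (hasseD H j y) = ((i + j).choose j : K) * hasseD H (i + j) y := by
  haveI := isSeparable_of_isHasseFamily hK hg hH
  -- two maps `K → K[[T]][[U]]`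
  let A : K →+* PowerSeries (PowerSeries K) := (PowerSeries.map H.toRingHom).comp H.toRingHom
  let B : K →+* PowerSeries (PowerSeries K) := taylorPS.comp H.toRingHom
  let π : PowerSeries (PowerSeries K) →+* K :=
    (PowerSeries.constantCoeff (R := K)).comp (PowerSeries.constantCoeff (R := PowerSeries K))
  have hAB : A = B := by
    apply eq_of_agree (k := k) π A B _ _ s
    · show PowerSeries.map H.toRingHom (H s) = taylorPS (H s)
      rw [hH.1, map_add, map_add, taylorPS_C, taylorPS_X, PowerSeries.map_C, PowerSeries.map_X]
      show PowerSeries.C (H s) + PowerSeries.X = _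
      rw [hH.1, map_add, add_assoc]
    · ext y
      show PowerSeries.constantCoeff (PowerSeries.constantCoeff (PowerSeries.map H.toRingHom (H y))) =
        PowerSeries.constantCoeff (PowerSeries.constantCoeff (taylorPS (H y)))
      rw [constantCoeff_taylorPS, ← PowerSeries.coeff_zero_eq_constantCoeff_apply
        (φ := PowerSeries.map H.toRingHom (H y)), PowerSeries.coeff_map,
        PowerSeries.coeff_zero_eq_constantCoeff_apply, hH.2]
      show PowerSeries.constantCoeff (H y) = _
      rw [hH.2]
    · intro c
      show PowerSeries.map H.toRingHom (H (algebraMap k K c)) = taylorPS (H (algebraMap k K c))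
      rw [H.commutes, PowerSeries.algebraMap_apply,
        PowerSeries.map_C, taylorPS_C]
      show PowerSeries.C (H (algebraMap k K c)) = _
      rw [H.commutes, PowerSeries.algebraMap_apply]
  have h1 := congrArg (fun f => PowerSeries.coeff i (PowerSeries.coeff j f))
    (RingHom.congr_fun hAB y)
  have hA : PowerSeries.coeff i (PowerSeries.coeff j (A y)) = hasseD H i (hasseD H j y) := by
    show PowerSeries.coeff i (PowerSeries.coeff j (PowerSeries.map H.toRingHom (H y))) = _
    rw [PowerSeries.coeff_map]
    rfl
  have hB : PowerSeries.coeff i (PowerSeries.coeff j (B y)) =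
      ((i + j).choose j : K) * hasseD H (i + j) y := by
    show PowerSeries.coeff i (PowerSeries.coeff j (taylorPS (H y))) = _
    rw [coeff_taylorPS, coeff_psHasse]
    rfl
  rw [← hA, ← hB, h1]

end hasse

end Groth.Agent.Lib.helper16.FHs
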