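import Groth.Agent.Lib.helper16.FFMore
import Mathlib

/-! Helper library (helper16): first-order Taylor expansion at a place; tangent lines of plane
curves. -/

set_option autoImplicit false

namespace Groth.Agent.Lib.helper16.FT

open FunFld WithZero MvPolynomial Groth.Agent.Lib.helper16.FF

/-- homogeneous polynomials scale -/
theorem aeval_mul_of_isHomogeneous {R A σ : Type*} [CommSemiring R] [CommSemiring A] [Algebra R A]
    [Fintype σ] {f : MvPolynomial σ R} {n : ℕ} (hf : f.IsHomogeneous n) (c : A) (g : σ → A) :
    aeval (fun i => c * g i) f = c ^ n * aeval g f := by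
  rw [aeval_def, aeval_def, eval₂_eq', eval₂_eq', Finset.mul_sum]
  apply Finset.sum_congr rfl
  intro d hd
  have h1 : ∏ i, (c * g i) ^ d i = c ^ n * ∏ i, g i ^ d i := by
    simp_rw [mul_pow]
    rw [Finset.prod_mul_distrib, Finset.prod_pow_eq_pow_sum]
    congr 2
    rw [hf.degree_eq_sum_deg_support hd]
    exact (Finset.sum_subset (Finset.subset_univ _) (fun i _ hi => by simpa using hi)).symm
  rw [h1]
  ring

section taylor

variable {k K : Type*} [Field k] [Field K] [Algebra k K] {σ : Type*} [Fintype σ] [DecidableEq σ]

/-- first-order Taylor expansion modulo `m_P²` -/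
theorem val_taylor_le (P : Place k K) (α : σ → k) (t : σ → K) (ht : ∀ i, P.1 (t i) ≤ exp (-1))
    (g : MvPolynomial σ k) :
    P.1 (aeval (fun i => algebraMap k K (α i) + t i) g - algebraMap k K (eval α g) -
      ∑ i, algebraMap k K (eval α (pderiv i g)) * t i) ≤ exp (-2) := by
  induction g using MvPolynomial.induction_on with
  | C c =>
    simp only [aeval_C, eval_C, pderiv_C, map_zero, zero_mul, Finset.sum_const_zero, sub_self]
    exact zero_le
  | add p q hp hq =>
    have : aeval (fun i => algebraMap k K (α i) + t i) (p + q) - algebraMap k K (eval α (p + q)) -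
        ∑ i, algebraMap k K (eval α (pderiv i (p + q))) * t i =
        (aeval (fun i => algebraMap k K (α i) + t i) p - algebraMap k K (eval α p) -
          ∑ i, algebraMap k K (eval α (pderiv i p)) * t i) +
        (aeval (fun i => algebraMap k K (α i) + t i) q - algebraMap k K (eval α q) -
          ∑ i, algebraMap k K (eval α (pderiv i q)) * t i) := by
      simp only [map_add, add_mul, Finset.sum_add_distrib]
      ring
    rw [this]
    exact le_trans (P.1.map_add _ _) (max_le hp hq)
  | mul_X p l hp =>
    have hsum : ∑ i, algebraMap k K (eval α (pderiv i (p * X l))) * t i =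
        algebraMap k K (α l) * ∑ i, algebraMap k K (eval α (pderiv i p)) * t i +
          algebraMap k K (eval α p) * t l := by
      have h1 : ∀ i, algebraMap k K (eval α (pderiv i (p * X l))) * t i =
          algebraMap k K (α l) * (algebraMap k K (eval α (pderiv i p)) * t i) +
            (if i = l then algebraMap k K (eval α p) * t l else 0) := by
        intro i
        rw [Derivation.leibniz, pderiv_X, smul_eq_mul, smul_eq_mul, map_add, map_mul, map_mul,
          eval_X, map_add, map_mul, map_mul]
        by_cases hil : i = l
        · subst hil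
          rw [Pi.single_eq_same, map_one, map_one, if_pos rfl]
          ring
        · rw [Pi.single_eq_of_ne (Ne.symm hil), if_neg hil]
          simp only [map_zero, mul_zero, zero_add, add_zero]
          ring
      rw [Finset.sum_congr rfl (fun i _ => h1 i), Finset.sum_add_distrib, ← Finset.mul_sum,
        Finset.sum_ite_eq' Finset.univ l, if_pos (Finset.mem_univ l)]
    have hE : aeval (fun i => algebraMap k K (α i) + t i) (p * X l) -
        algebraMap k K (eval α (p * X l)) -
        ∑ i, algebraMap k K (eval α (pderiv i (p * X l))) * t i =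
        algebraMap k K (α l) * (aeval (fun i => algebraMap k K (α i) + t i) p -
          algebraMap k K (eval α p) - ∑ i, algebraMap k K (eval α (pderiv i p)) * t i) +
        t l * ((aeval (fun i => algebraMap k K (α i) + t i) p - algebraMap k K (eval α p) -
          ∑ i, algebraMap k K (eval α (pderiv i p)) * t i) +
          ∑ i, algebraMap k K (eval α (pderiv i p)) * t i) := by
      rw [hsum, map_mul, aeval_X, map_mul, eval_X, map_mul]
      ring
    rw [hE]
    refine le_trans (P.1.map_add _ _) (max_le ?_ ?_)
    · rw [map_mul]
      calc _ ≤ 1 * exp (-2) := by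
            gcongr
            · exact val_algebraMap_le P _
      _ = _ := one_mul _
    · rw [map_mul]
      have h2 : P.1 (∑ i, algebraMap k K (eval α (pderiv i p)) * t i) ≤ exp (-1) := by
        apply Valuation.map_sum_le
        intro i _
        rw [map_mul]
        calc _ ≤ 1 * exp (-1) := by
              gcongr
              · exact val_algebraMap_le P _
              · exact ht i
        _ = _ := one_mul _
      have h3 : P.1 ((aeval (fun i => algebraMap k K (α i) + t i) p - algebraMap k K (eval α p) -
          ∑ i, algebraMap k K (eval α (pderiv i p)) * t i) +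
          ∑ i, algebraMap k K (eval α (pderiv i p)) * t i) ≤ exp (-1) := by
        refine le_trans (P.1.map_add _ _) (max_le (le_trans hp ?_) h2)
        rw [exp_le_exp]
        omega
      calc _ ≤ exp (-1) * exp (-1) := by
            gcongr
            exact ht l
      _ = exp (-2) := by rw [← exp_add]; rfl

end taylor

section tangent

variable {k K : Type*} [Field k] [IsAlgClosed k] [Field K] [Algebra k K]

/-- S11074: the tangent form vanishes to order two -/
theorem val_tangentForm_le (hK : IsFunctionField k K) (φ : Fin 3 → K)
    (f : MvPolynomial (Fin 3) k) (hhom : f.IsHomogeneous f.totalDegree)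
    (hfφ : aeval φ f = 0) (P : Place k K) (j : Fin 3) (a : Fin 3 → P.O)
    (ha : ∀ i, ((a i : P.O) : K) = φ i / φ j) (c : Fin 3 → k)
    (hc : ∀ i, algebraMap k (IsLocalRing.ResidueField P.O) (c i) =
      aeval (fun l => IsLocalRing.residue P.O (a l)) (pderiv i f)) :
    P.1 (∑ i, c i • (φ i / φ j)) ≤ exp (-2) := by
  have hfd := FF.finiteDimensional_residueField hK P
  have hint : Algebra.IsIntegral k (IsLocalRing.ResidueField P.O) :=
    @Algebra.IsIntegral.of_finite k _ _ _ _ hfd
  have hsurj : Function.Surjective (algebraMap k (IsLocalRing.ResidueField P.O)) :=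
    (IsAlgClosed.algebraMap_bijective_of_isIntegral (k := k)).2
  have hinj := (algebraMap k (IsLocalRing.ResidueField P.O)).injective
  -- the coordinates of the image point
  choose α hα using fun i => hsurj (IsLocalRing.residue P.O (a i))
  obtain ⟨t, ht⟩ : ∃ t : Fin 3 → K, ∀ i, t i = φ i / φ j - algebraMap k K (α i) := ⟨_, fun i => rfl⟩
  have htlt : ∀ i, P.1 (t i) ≤ exp (-1) := by
    intro i
    rw [← lt_one_iff_le_exp_neg_one]
    have h1 : IsLocalRing.residue P.O (a i - algebraMap k P.O (α i)) = 0 := by
      rw [map_sub, ← hα i]
      exact sub_self _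
    rw [FF.residue_eq_zero_iff] at h1
    have h2 : ((a i - algebraMap k P.O (α i) : P.O) : K) = t i := by
      rw [ht, ← ha]
      rfl
    rwa [h2] at h1
  have hu : ∀ i, φ i / φ j = algebraMap k K (α i) + t i := by
    intro i
    rw [ht]
    ring
  -- `f(u) = 0`
  have hfu : aeval (fun i => algebraMap k K (α i) + t i) f = 0 := by
    have h1 : (fun i => algebraMap k K (α i) + t i) = fun i => (φ j)⁻¹ * φ i := by
      funext i
      rw [← hu, div_eq_inv_mul]
    rw [h1, aeval_mul_of_isHomogeneous hhom, hfφ, mul_zero]
  have hT := val_taylor_le P α t htlt f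
  rw [hfu, zero_sub] at hT
  have hsumlt : P.1 (∑ i, algebraMap k K (eval α (pderiv i f)) * t i) < 1 := by
    rw [lt_one_iff_le_exp_neg_one]
    apply Valuation.map_sum_le
    intro i _
    rw [map_mul]
    calc _ ≤ 1 * exp (-1) := by
          gcongr
          · exact val_algebraMap_le P _
          · exact htlt i
    _ = _ := one_mul _
  -- `f(α) = 0`
  have hfα : eval α f = 0 := by
    by_contra hne
    have h1 : P.1 (algebraMap k K (eval α f)) = 1 := val_algebraMap P hne
    have h2 : P.1 (-algebraMap k K (eval α f) -
        ∑ i, algebraMap k K (eval α (pderiv i f)) * t i) = 1 := by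
      rw [sub_eq_add_neg, Valuation.map_add_eq_of_lt_left, Valuation.map_neg, h1]
      rw [Valuation.map_neg, Valuation.map_neg, h1]
      exact hsumlt
    rw [h2, ← exp_zero, exp_le_exp] at hT
    omega
  -- the coefficients of the tangent line
  have hcα : ∀ i, c i = eval α (pderiv i f) := by
    intro i
    apply hinj
    rw [hc i]
    have h1 : (fun l => IsLocalRing.residue P.O (a l)) =
        fun l => algebraMap k (IsLocalRing.ResidueField P.O) (α l) := by
      funext l
      exact (hα l).symm
    rw [h1, aeval_def]
    have h2 := eval₂_comp_left (algebraMap k (IsLocalRing.ResidueField P.O)) (RingHom.id k) α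
      (pderiv i f)
    rw [RingHom.comp_id] at h2
    exact h2.symm
  -- Euler's identity
  have heuler : ∑ i, α i * c i = 0 := by
    have h1 := congrArg (eval α) hhom.sum_X_mul_pderiv
    rw [map_sum, map_nsmul, hfα, smul_zero] at h1
    rw [← h1]
    apply Finset.sum_congr rfl
    intro i _
    rw [map_mul, eval_X, hcα]
  have hfin : ∑ i, c i • (φ i / φ j) =
      ∑ i, algebraMap k K (eval α (pderiv i f)) * t i := by
    have h1 : ∀ i, c i • (φ i / φ j) =
        algebraMap k K (α i * c i) + algebraMap k K (eval α (pderiv i f)) * t i := by
      intro i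
      rw [hu, Algebra.smul_def, map_mul, hcα]
      ring
    rw [Finset.sum_congr rfl (fun i _ => h1 i), Finset.sum_add_distrib, ← map_sum, heuler,
      map_zero, zero_add]
  rw [hfin]
  rw [hfα, map_zero, neg_zero, zero_sub, Valuation.map_neg] at hT
  exact hT

end tangent

end Groth.Agent.Lib.helper16.FT
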