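import Mathlib
import Groth.Agent.Lib.helper16.FTangent

/-! Helper library (helper16): the differential `dx / f_y` of a plane curve under a projective
change of coordinates. -/

set_option autoImplicit false

namespace Groth.Agent.Lib.helper16.FKP

open MvPolynomial

section chain

variable {R B M : Type*} [CommSemiring R] [CommSemiring B] [Algebra R B] [AddCommMonoid M]
  [Module R M] [Module B M] {σ : Type*} [Fintype σ]

/-- chain rule for a derivation applied to a polynomial expression -/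
theorem derivation_aeval (D : Derivation R B M) (v : σ → B) (f : MvPolynomial σ R) :
    D (aeval v f) = ∑ i, aeval v (pderiv i f) • D (v i) := by
  classical
  induction f using MvPolynomial.induction_on with
  | C a =>
    simp only [aeval_C, Derivation.map_algebraMap, pderiv_C, map_zero, zero_smul,
      Finset.sum_const_zero]
  | add p q hp hq =>
    simp only [map_add, hp, hq, add_smul, Finset.sum_add_distrib]
  | mul_X p j hp =>
    rw [map_mul, aeval_X, Derivation.leibniz, hp]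
    simp only [Derivation.leibniz, pderiv_X, map_add, map_mul, aeval_X, add_smul, smul_eq_mul]
    rw [Finset.sum_add_distrib, Finset.smul_sum]
    have h1 : ∑ i, ((aeval v) p * (aeval v) (Pi.single (M := fun _ => MvPolynomial σ R) i 1 j)) • D (v i) =
        (aeval v) p • D (v j) := by
      rw [Finset.sum_eq_single j]
      · rw [Pi.single_eq_same, map_one, mul_one]
      · intro i _ hij
        rw [Pi.single_eq_of_ne (Ne.symm hij), map_zero, mul_zero, zero_smul]
      · intro h; exact absurd (Finset.mem_univ j) h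
    rw [h1]
    congr 1
    apply Finset.sum_congr rfl
    intro i _
    rw [smul_smul]

end chain

section main

variable {k K : Type*} [Field k] [Field K] [Algebra k K]

open KaehlerDifferential

/-- the cross-product identity behind the invariance of `dx / f_y` -/
theorem cross_identity {M : Type*} [AddCommGroup M] [Module K M]
    (a : Fin 3 → Fin 3 → K) (u F G : Fin 3 → K) (du : Fin 3 → M) (x : K) (dx : M)
    (hG : ∀ m, G m = F 0 * a 0 m + F 1 * a 1 m + F 2 * a 2 m)
    (hb : G 0 • du 0 + G 1 • du 1 + G 2 • du 2 = 0)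
    (hc : u 0 * G 0 + u 1 * G 1 + u 2 * G 2 = 0)
    (h0 : a 0 0 * u 0 + a 0 1 * u 1 + a 0 2 * u 2 = 1)
    (hd0 : a 0 0 • du 0 + a 0 1 • du 1 + a 0 2 • du 2 = 0)
    (h1 : a 1 0 * u 0 + a 1 1 * u 1 + a 1 2 * u 2 = x)
    (hd1 : a 1 0 • du 0 + a 1 1 • du 1 + a 1 2 • du 2 = dx) :
    G 2 • dx = ((a 0 0 * a 1 1 * a 2 2 - a 0 0 * a 1 2 * a 2 1 - a 0 1 * a 1 0 * a 2 2 +
      a 0 1 * a 1 2 * a 2 0 + a 0 2 * a 1 0 * a 2 1 - a 0 2 * a 1 1 * a 2 0) * F 2) •
        (u 0 • du 1 - u 1 • du 0) := by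
  -- `η = u × du` is parallel to `G`
  have hp0 : G 2 • (u 1 • du 2 - u 2 • du 1) = G 0 • (u 0 • du 1 - u 1 • du 0) := by
    have : G 2 • (u 1 • du 2 - u 2 • du 1) - G 0 • (u 0 • du 1 - u 1 • du 0) =
        u 1 • (G 0 • du 0 + G 1 • du 1 + G 2 • du 2) -
          (u 0 * G 0 + u 1 * G 1 + u 2 * G 2) • du 1 := by module
    rw [hb, hc, smul_zero, zero_smul, sub_zero, sub_eq_zero] at this
    exact this
  have hp1 : G 2 • (u 2 • du 0 - u 0 • du 2) = G 1 • (u 0 • du 1 - u 1 • du 0) := by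
    have : G 2 • (u 2 • du 0 - u 0 • du 2) - G 1 • (u 0 • du 1 - u 1 • du 0) =
        (u 0 * G 0 + u 1 * G 1 + u 2 * G 2) • du 0 -
          u 0 • (G 0 • du 0 + G 1 • du 1 + G 2 • du 2) := by module
    rw [hb, hc, smul_zero, zero_smul, sub_zero, sub_eq_zero] at this
    exact this
  -- `dx = ∑ cof_{2l} η_l`
  have hdx : dx = (a 0 1 * a 1 2 - a 0 2 * a 1 1) • (u 1 • du 2 - u 2 • du 1) +
      (a 0 2 * a 1 0 - a 0 0 * a 1 2) • (u 2 • du 0 - u 0 • du 2) +
      (a 0 0 * a 1 1 - a 0 1 * a 1 0) • (u 0 • du 1 - u 1 • du 0) := by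
    have e1 : dx = (a 0 0 * u 0 + a 0 1 * u 1 + a 0 2 * u 2) •
        (a 1 0 • du 0 + a 1 1 • du 1 + a 1 2 • du 2) -
        (a 1 0 * u 0 + a 1 1 * u 1 + a 1 2 * u 2) •
        (a 0 0 • du 0 + a 0 1 • du 1 + a 0 2 • du 2) := by
      rw [h0, hd0, hd1, one_smul, smul_zero, sub_zero]
    rw [e1]
    module
  rw [hdx, smul_add, smul_add, smul_comm (G 2) (a 0 1 * a 1 2 - a 0 2 * a 1 1),
    smul_comm (G 2) (a 0 2 * a 1 0 - a 0 0 * a 1 2), hp0, hp1, hG 0, hG 1, hG 2]
  module

/-- the linear forms `σ_i = ∑_j A_{ij} X_j` -/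
noncomputable def lin (A : Matrix (Fin 3) (Fin 3) k) (i : Fin 3) : MvPolynomial (Fin 3) k :=
  ∑ j, C (A i j) * X j

theorem lin_isHomogeneous (A : Matrix (Fin 3) (Fin 3) k) (i : Fin 3) :
    (lin A i).IsHomogeneous 1 := by
  unfold lin
  apply IsHomogeneous.sum
  intro j _
  exact (isHomogeneous_X k j).C_mul _

theorem pderiv_lin (A : Matrix (Fin 3) (Fin 3) k) (i m : Fin 3) :
    pderiv m (lin A i) = C (A i m) := by
  classical
  unfold lin
  rw [map_sum]
  rw [Finset.sum_eq_single m]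
  · rw [Derivation.leibniz, pderiv_C, smul_zero, add_zero, pderiv_X, Pi.single_eq_same,
      smul_eq_mul, mul_one]
  · intro j _ hj
    rw [Derivation.leibniz, pderiv_C, smul_zero, add_zero, pderiv_X, Pi.single_eq_of_ne hj,
      smul_zero]
  · intro h; exact absurd (Finset.mem_univ m) h

theorem aeval_lin (A : Matrix (Fin 3) (Fin 3) k) (u : Fin 3 → K) (i : Fin 3) :
    aeval u (lin A i) = ∑ j, algebraMap k K (A i j) * u j := by
  unfold lin
  rw [map_sum]
  apply Finset.sum_congr rfl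
  intro j _
  rw [map_mul, aeval_C, aeval_X]

theorem pderiv_aeval_lin (A : Matrix (Fin 3) (Fin 3) k) (f : MvPolynomial (Fin 3) k) (m : Fin 3) :
    pderiv m (aeval (lin A) f) = ∑ l, aeval (lin A) (pderiv l f) * C (A l m) := by
  rw [derivation_aeval (pderiv m) (lin A) f]
  apply Finset.sum_congr rfl
  intro l _
  rw [pderiv_lin, smul_eq_mul]

theorem kaehler_coord_change
    (f : MvPolynomial (Fin 3) k) (e : ℕ) (hf : f.IsHomogeneous e)
    (x y : K) (hfxy : aeval ![(1 : K), x, y] f = 0)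
    (A : Matrix (Fin 3) (Fin 3) k)
    (u : Fin 3 → K) (hu : ∀ i, ∑ j, algebraMap k K (A i j) * u j = ![(1 : K), x, y] i)
    (hu0 : u 0 ≠ 0)
    (hfy : aeval ![(1 : K), x, y] (pderiv 2 f) ≠ 0)
    (hfy' : aeval ![(1 : K), u 1 / u 0, u 2 / u 0] (pderiv 2 (aeval (lin A) f)) ≠ 0) :
    (aeval ![(1 : K), x, y] (pderiv 2 f))⁻¹ • D k K x =
      (algebraMap k K A.det * (u 0)⁻¹ ^ ((e : ℤ) - 3) *
        (aeval ![(1 : K), u 1 / u 0, u 2 / u 0] (pderiv 2 (aeval (lin A) f)))⁻¹) •
        D k K (u 1 / u 0) := by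
  set v : Fin 3 → K := ![(1 : K), x, y] with hv
  set w : Fin 3 → K := ![(1 : K), u 1 / u 0, u 2 / u 0] with hw
  set f' := aeval (lin A) f with hf'
  -- `e ≥ 1`
  have he : 1 ≤ e := by
    by_contra hlt
    have he0 : e = 0 := by omega
    subst he0
    rw [← totalDegree_zero_iff_isHomogeneous, totalDegree_eq_zero_iff_eq_C] at hf
    apply hfy
    rw [hf, pderiv_C, map_zero]
  have hσu : ∀ i, aeval u (lin A i) = v i := fun i => by rw [aeval_lin, hu i]
  have hcomp : ∀ p : MvPolynomial (Fin 3) k, aeval u (aeval (lin A) p) = aeval v p := by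
    intro p
    rw [comp_aeval_apply]
    congr 2
    funext i
    exact hσu i
  have hf'0 : aeval u f' = 0 := by rw [hf', hcomp, hfxy]
  have hf'h : f'.IsHomogeneous e := by
    have := hf.aeval (lin A) (lin_isHomogeneous A)
    rwa [one_mul] at this
  have hG : ∀ m, aeval u (pderiv m f') = aeval v (pderiv 0 f) * algebraMap k K (A 0 m) +
      aeval v (pderiv 1 f) * algebraMap k K (A 1 m) +
      aeval v (pderiv 2 f) * algebraMap k K (A 2 m) := by
    intro m
    rw [hf', pderiv_aeval_lin, map_sum, Fin.sum_univ_three]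
    simp only [map_mul, hcomp, aeval_C]
  have hb : aeval u (pderiv 0 f') • D k K (u 0) + aeval u (pderiv 1 f') • D k K (u 1) +
      aeval u (pderiv 2 f') • D k K (u 2) = 0 := by
    have := derivation_aeval (D k K) u f'
    rw [hf'0, map_zero, Fin.sum_univ_three] at this
    exact this.symm
  have hc : u 0 * aeval u (pderiv 0 f') + u 1 * aeval u (pderiv 1 f') +
      u 2 * aeval u (pderiv 2 f') = 0 := by
    have := congrArg (aeval u) hf'h.sum_X_mul_pderiv
    rw [map_sum, Fin.sum_univ_three, map_nsmul, hf'0, smul_zero] at this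
    simpa only [map_mul, aeval_X] using this
  have h0 := hu 0
  have h1 := hu 1
  rw [Fin.sum_univ_three] at h0 h1
  have hv0 : v 0 = 1 := rfl
  have hv1 : v 1 = x := rfl
  rw [hv0] at h0
  rw [hv1] at h1
  have hDlin : ∀ i, algebraMap k K (A i 0) • D k K (u 0) + algebraMap k K (A i 1) • D k K (u 1) +
      algebraMap k K (A i 2) • D k K (u 2) = D k K (v i) := by
    intro i
    rw [← hu i, Fin.sum_univ_three, map_add, map_add]
    simp only [Derivation.leibniz, Derivation.map_algebraMap, smul_zero, add_zero]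
  have hd0 := hDlin 0
  have hd1 := hDlin 1
  rw [hv0, Derivation.map_one_eq_zero] at hd0
  rw [hv1] at hd1
  have key := cross_identity (fun i j => algebraMap k K (A i j)) u
    (fun l => aeval v (pderiv l f)) (fun m => aeval u (pderiv m f')) (fun j => D k K (u j)) x
    (D k K x) hG hb hc h0 hd0 h1 hd1
  have hdet : algebraMap k K A.det =
      algebraMap k K (A 0 0) * algebraMap k K (A 1 1) * algebraMap k K (A 2 2) -
      algebraMap k K (A 0 0) * algebraMap k K (A 1 2) * algebraMap k K (A 2 1) -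
      algebraMap k K (A 0 1) * algebraMap k K (A 1 0) * algebraMap k K (A 2 2) +
      algebraMap k K (A 0 1) * algebraMap k K (A 1 2) * algebraMap k K (A 2 0) +
      algebraMap k K (A 0 2) * algebraMap k K (A 1 0) * algebraMap k K (A 2 1) -
      algebraMap k K (A 0 2) * algebraMap k K (A 1 1) * algebraMap k K (A 2 0) := by
    rw [Matrix.det_fin_three]
    simp only [map_add, map_sub, map_mul]
  rw [← hdet] at key
  -- homogeneity of `∂f'/∂X₂`
  have huw : u = fun i => u 0 * w i := by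
    funext i
    fin_cases i
    · show u 0 = u 0 * 1
      rw [mul_one]
    · show u 1 = u 0 * (u 1 / u 0)
      field_simp
    · show u 2 = u 0 * (u 2 / u 0)
      field_simp
  have hG2 : aeval u (pderiv 2 f') = u 0 ^ (e - 1) * aeval w (pderiv 2 f') := by
    conv_lhs => rw [huw]
    exact FT.aeval_mul_of_isHomogeneous hf'h.pderiv (u 0) w
  have hDq : D k K (u 1 / u 0) = (u 0)⁻¹ ^ 2 • (u 0 • D k K (u 1) - u 1 • D k K (u 0)) :=
    Derivation.leibniz_div _ _ _
  rw [hDq, smul_smul]
  rw [hG2] at key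
  have hGne : u 0 ^ (e - 1) * aeval w (pderiv 2 f') ≠ 0 :=
    mul_ne_zero (pow_ne_zero _ hu0) hfy'
  have hdx : D k K x = ((u 0 ^ (e - 1) * aeval w (pderiv 2 f'))⁻¹ *
      (algebraMap k K A.det * aeval v (pderiv 2 f))) •
      (u 0 • D k K (u 1) - u 1 • D k K (u 0)) := by
    rw [mul_smul, ← key, smul_smul, inv_mul_cancel₀ hGne, one_smul]
  rw [hdx, smul_smul]
  congr 1
  have hz : (u 0)⁻¹ ^ ((e : ℤ) - 3) * (u 0)⁻¹ ^ 2 = (u 0 ^ (e - 1))⁻¹ := by
    rw [← zpow_natCast ((u 0)⁻¹) 2, ← zpow_add₀ (inv_ne_zero hu0), inv_zpow, ← zpow_natCast]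
    congr 2
    push_cast [Nat.cast_sub he]
    ring
  rw [mul_inv, ← hz]
  field_simp

end main

end Groth.Agent.Lib.helper16.FKP
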