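import Groth.Agent.Lib.helper16.FWDivPos
import Groth.Agent.Lib.helper16.FKaehlerPlane

/-! Helper library (helper16): invariance of the adjoint divisor under a change of projective
coordinates (S12616). -/

set_option autoImplicit false

namespace Groth.Agent.Lib.helper16.FAI

open FunFld WithZero LocRes
open Groth.Agent.Lib.helper16

universe u v

section mapdiv

variable {k K : Type*} [Field k] [Field K] [Algebra k K]

theorem mapDiv_le_iff (hK : IsFunctionField k K) {ι : Type*} [Fintype ι] [Nonempty ι]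
    (ψ : ι → K) (heff : (1 : K) ∈ Submodule.span k (Set.range ψ)) (D : Divisor k K) :
    mapDiv k ψ ≤ D ↔ ∀ i, ψ i ∈ L D := by
  constructor
  · intro h i
    exact FF.L_mono h (FF.mem_L_mapDiv hK ψ i)
  · intro h P
    obtain ⟨j, hj⟩ := FF.exists_ord_eq_neg_mapDiv hK ψ P
    by_cases h0 : ψ j = 0
    · rw [h0, FF.ord_zero] at hj
      have h1 : (1 : K) ∈ L D :=
        (Submodule.span_le.mpr (by rintro _ ⟨i, rfl⟩; exact h i)) heff
      have h2 := h1 P
      rw [map_one, ← exp_zero, exp_le_exp] at h2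
      omega
    · have h1 := h j P
      rw [FF.val_le_exp_iff P h0] at h1
      omega

theorem mapDiv_eq_of_span_eq_eff (hK : IsFunctionField k K) {ι ι' : Type*} [Fintype ι]
    [Nonempty ι] [Fintype ι'] [Nonempty ι'] (ψ : ι → K) (ψ' : ι' → K)
    (heff : (1 : K) ∈ Submodule.span k (Set.range ψ))
    (h : Submodule.span k (Set.range ψ') = Submodule.span k (Set.range ψ)) :
    mapDiv k ψ' = mapDiv k ψ := by
  have heff' : (1 : K) ∈ Submodule.span k (Set.range ψ') := by rw [h]; exact heff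
  apply le_antisymm
  · rw [mapDiv_le_iff hK ψ' heff']
    intro i
    apply FF.span_le_L_mapDiv hK ψ
    rw [← h]
    exact Submodule.subset_span ⟨i, rfl⟩
  · rw [mapDiv_le_iff hK ψ heff]
    intro i
    apply FF.span_le_L_mapDiv hK ψ'
    rw [h]
    exact Submodule.subset_span ⟨i, rfl⟩

theorem mapDiv_smul_of_eff (hK : IsFunctionField k K) {ι : Type*} [Fintype ι] [Nonempty ι]
    (ψ : ι → K) (heff : (1 : K) ∈ Submodule.span k (Set.range ψ)) {y : K} (hy : y ≠ 0)
    (heff' : (1 : K) ∈ Submodule.span k (Set.range (y • ψ))) :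
    mapDiv k (y • ψ) = mapDiv k ψ - FunFld.div k y := by
  apply le_antisymm
  · rw [mapDiv_le_iff hK _ heff']
    intro i P
    rw [Pi.smul_apply, smul_eq_mul, map_mul, Finsupp.sub_apply, FF.div_apply hK,
      FF.val_eq_exp_neg_ord P hy]
    have h1 := FF.mem_L_mapDiv hK ψ i P
    calc exp (-P.ord y) * P.1 (ψ i) ≤ exp (-P.ord y) * exp (mapDiv k ψ P) :=
          mul_le_mul' le_rfl h1
      _ = exp (mapDiv k ψ P - P.ord y) := by rw [← exp_add]; congr 1; ring
  · rw [sub_le_iff_le_add, mapDiv_le_iff hK _ heff]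
    intro i P
    have h1 := FF.mem_L_mapDiv hK (y • ψ) i P
    rw [Pi.smul_apply, smul_eq_mul, map_mul, FF.val_eq_exp_neg_ord P hy] at h1
    rw [Finsupp.add_apply, FF.div_apply hK]
    calc P.1 (ψ i) = exp (P.ord y) * (exp (-P.ord y) * P.1 (ψ i)) := by
          rw [← mul_assoc, ← exp_add]; simp
      _ ≤ exp (P.ord y) * exp (mapDiv k (y • ψ) P) := mul_le_mul' le_rfl h1
      _ = exp (mapDiv k (y • ψ) P + P.ord y) := by rw [← exp_add]; congr 1; ring

theorem div_zpow (hK : IsFunctionField k K) (x : K) (m : ℤ) :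
    FunFld.div k (x ^ m) = m • FunFld.div k x := by
  ext P
  rw [Finsupp.smul_apply, FF.div_apply hK, FF.div_apply hK]
  unfold Place.ord
  rw [map_zpow₀, log_zpow]
  simp

end mapdiv

section main

variable {k : Type u} {K : Type v} [Field k] [Field K] [Algebra k K] [IsAlgClosed k]

open MvPolynomial in
/-- S12616 -/
theorem adjointDiv_eq_of_coord_change (hK : IsFunctionField k K) (f : MvPolynomial (Fin 3) k)
    (e : ℕ) (hf : f.IsHomogeneous e)
    (x y : K) (hfxy : aeval ![(1 : K), x, y] f = 0)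
    (hdx : KaehlerDifferential.D k K x ≠ 0)
    (he : (mapDiv k ![(1 : K), x, y]).deg = e)
    (A : Matrix (Fin 3) (Fin 3) k) (hA : A.det ≠ 0)
    (u : Fin 3 → K) (hu : ∀ i, ∑ j, algebraMap k K (A i j) * u j = ![(1 : K), x, y] i)
    (hu0 : u 0 ≠ 0)
    (hfy : aeval ![(1 : K), x, y] (pderiv 2 f) ≠ 0)
    (hfy' : aeval ![(1 : K), u 1 / u 0, u 2 / u 0] (pderiv 2 (aeval (FKP.lin A) f)) ≠ 0)
    (Φ : Place k K → (K →ₐ[k] LaurentSeries k))
    (hΦ : ∀ P : Place k K, IsExpansionAt P.1 (Φ P)) :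
    ((mapDiv k ![(1 : K), x, y]).deg - 3) • mapDiv k ![(1 : K), x, y] -
        divDiff Φ (aeval ![(1 : K), x, y] (pderiv 2 f))⁻¹ x =
      ((mapDiv k ![(1 : K), u 1 / u 0, u 2 / u 0]).deg - 3) •
          mapDiv k ![(1 : K), u 1 / u 0, u 2 / u 0] -
        divDiff Φ (aeval ![(1 : K), u 1 / u 0, u 2 / u 0]
          (pderiv 2 (aeval (FKP.lin A) f)))⁻¹ (u 1 / u 0) := by
  classical
  set φ : Fin 3 → K := ![(1 : K), x, y] with hφ
  set φ' : Fin 3 → K := ![(1 : K), u 1 / u 0, u 2 / u 0] with hφ'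
  set g := aeval φ (pderiv 2 f) with hg
  set g' := aeval φ' (pderiv 2 (aeval (FKP.lin A) f)) with hg'
  set c := algebraMap k K A.det with hc
  have hc0 : c ≠ 0 := by rwa [hc, Ne, map_eq_zero_iff _ (algebraMap k K).injective]
  have hkae := FKP.kaehler_coord_change f e hf x y hfxy A u hu hu0 hfy hfy'
  rw [← hφ, ← hφ', ← hg, ← hg', ← hc] at hkae
  have hginv : g⁻¹ ≠ 0 := inv_ne_zero hfy
  have hg'inv : g'⁻¹ ≠ 0 := inv_ne_zero hfy'
  have hz0 : (u 0)⁻¹ ^ ((e : ℤ) - 3) ≠ 0 := zpow_ne_zero _ (inv_ne_zero hu0)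
  set x' := u 1 / u 0 with hx'
  -- `dx' ≠ 0`
  have hdx' : KaehlerDifferential.D k K x' ≠ 0 := by
    intro h0
    rw [h0, smul_zero] at hkae
    rcases smul_eq_zero.mp hkae with h | h
    · exact hginv h
    · exact hdx h
  -- `dx = h dx'`
  set h := g * (c * (u 0)⁻¹ ^ ((e : ℤ) - 3) * g'⁻¹) with hh
  have hrel : KaehlerDifferential.D k K x = h • KaehlerDifferential.D k K x' := by
    rw [hh, mul_smul, ← hkae, smul_smul, mul_inv_cancel₀ hfy, one_smul]
  -- the divisors of the differentials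
  have h1 : divDiff Φ g⁻¹ x = FunFld.div k g⁻¹ + divDiff Φ 1 x :=
    FDD.divDiff_eq_div_add hK hginv x hdx Φ hΦ
  have h2 : divDiff Φ g'⁻¹ x' = FunFld.div k g'⁻¹ + divDiff Φ 1 x' :=
    FDD.divDiff_eq_div_add hK hg'inv x' hdx' Φ hΦ
  have h3 : divDiff Φ 1 x = FunFld.div k h + divDiff Φ 1 x' :=
    FDD.divDiff_change hK hrel hdx Φ hΦ
  have h4 : FunFld.div k g⁻¹ + FunFld.div k h =
      ((e : ℤ) - 3) • FunFld.div k (u 0)⁻¹ + FunFld.div k g'⁻¹ := by
    have hprod : c * (u 0)⁻¹ ^ ((e : ℤ) - 3) * g'⁻¹ ≠ 0 :=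
      mul_ne_zero (mul_ne_zero hc0 hz0) hg'inv
    rw [hh, FF.div_mul hK hfy hprod, FF.div_mul hK (mul_ne_zero hc0 hz0) hg'inv,
      FF.div_mul hK hc0 hz0, FF.div_eq_zero_of_mem_range hK ⟨A.det, rfl⟩, zero_add,
      div_zpow hK, FF.div_inv hK g]
    abel
  -- the divisors of the maps
  set ψ : Fin 3 → K := fun i => ∑ j, A i j • φ' j with hψ
  have hφψ : φ = u 0 • ψ := by
    funext i
    rw [Pi.smul_apply, smul_eq_mul, hψ, ← hu i, Finset.mul_sum]
    apply Finset.sum_congr rfl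
    intro j _
    rw [Algebra.smul_def, mul_left_comm]
    congr 1
    fin_cases j
    · show u 0 = u 0 * (1 : K)
      rw [mul_one]
    · show u 1 = u 0 * (u 1 / u 0)
      rw [mul_div_cancel₀ _ hu0]
    · show u 2 = u 0 * (u 2 / u 0)
      rw [mul_div_cancel₀ _ hu0]
  have heffφ' : (1 : K) ∈ Submodule.span k (Set.range φ') :=
    Submodule.subset_span ⟨0, rfl⟩
  have heffφ : (1 : K) ∈ Submodule.span k (Set.range φ) :=
    Submodule.subset_span ⟨0, rfl⟩
  have hspan : Submodule.span k (Set.range ψ) = Submodule.span k (Set.range φ') := by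
    apply le_antisymm
    · rw [Submodule.span_le]
      rintro _ ⟨i, rfl⟩
      exact Submodule.sum_mem _ fun j _ =>
        Submodule.smul_mem _ _ (Submodule.subset_span ⟨j, rfl⟩)
    · rw [Submodule.span_le]
      rintro _ ⟨i, rfl⟩
      show φ' i ∈ _
      rw [FWI.inv_relation hA φ' i]
      exact Submodule.sum_mem _ fun j _ =>
        Submodule.smul_mem _ _ (Submodule.subset_span ⟨j, rfl⟩)
  have heffψ : (1 : K) ∈ Submodule.span k (Set.range ψ) := by rw [hspan]; exact heffφ'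
  have hmap : mapDiv k φ = mapDiv k φ' - FunFld.div k (u 0) := by
    have h5 : (1 : K) ∈ Submodule.span k (Set.range (u 0 • ψ)) := by rw [← hφψ]; exact heffφ
    rw [hφψ, mapDiv_smul_of_eff hK ψ heffψ hu0 h5, mapDiv_eq_of_span_eq_eff hK φ' ψ heffφ' hspan]
  have hdeg : (mapDiv k φ').deg = (mapDiv k φ).deg := by
    rw [hmap, FF.deg_sub, FF.deg_div_eq_zero hK, sub_zero]
  rw [hdeg, he, h1, h2, h3, hmap, ← add_assoc, h4, FF.div_inv hK (u 0)]
  module

end main

end Groth.Agent.Lib.helper16.FAI
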