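import Groth.Agent.Lib.helper16.FFLin

/-! Helper library (helper16): genus zero function fields over algebraically closed fields,
pencils ramified at two points. -/

set_option autoImplicit false

namespace Groth.Agent.Lib.helper16.FF

open FunFld WithZero Polynomial Module

variable {k K : Type*} [Field k] [Field K] [Algebra k K]

/-- evaluation at a place over an algebraically closed constant field -/
theorem exists_sub_val_lt_one [IsAlgClosed k] (hK : IsFunctionField k K) (P : Place k K) {x : K}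
    (hx : P.1 x ≤ 1) : ∃ c : k, P.1 (x - algebraMap k K c) < 1 := by
  have hfd := finiteDimensional_residueField hK P
  have hint : Algebra.IsIntegral k (IsLocalRing.ResidueField P.O) :=
    @Algebra.IsIntegral.of_finite k _ _ _ _ hfd
  have hbij : Function.Bijective (algebraMap k (IsLocalRing.ResidueField P.O)) :=
    IsAlgClosed.algebraMap_bijective_of_isIntegral
  obtain ⟨c, hc⟩ := hbij.2 (IsLocalRing.residue P.O ⟨x, hx⟩)
  refine ⟨c, ?_⟩
  have h0 : IsLocalRing.residue P.O (⟨x, hx⟩ - algebraMap k P.O c) = 0 := by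
    rw [map_sub, ← hc]
    exact sub_self _
  rw [residue_eq_zero_iff] at h0
  exact h0

theorem eq_smul_of_div_eq (hK : IsFunctionField k K) {f g : K} (hf0 : f ≠ 0) (hg0 : g ≠ 0)
    (h : FunFld.div k g = FunFld.div k f) : ∃ c : k, g = c • f := by
  have h0 : g * f⁻¹ ≠ 0 := mul_ne_zero hg0 (inv_ne_zero hf0)
  have h1 : FunFld.div k (g * f⁻¹) = 0 := by
    rw [div_mul hK hg0 (inv_ne_zero hf0), div_inv hK, h, add_neg_cancel]
  have h2 : g * f⁻¹ ∈ L (0 : Divisor k K) := by
    rw [nonneg_add_div_iff hK _ h0, h1, add_zero]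
  rw [L_zero_eq_one hK, Submodule.mem_one] at h2
  obtain ⟨c, hc⟩ := h2
  refine ⟨c, ?_⟩
  rw [Algebra.smul_def, hc, mul_assoc, inv_mul_cancel₀ hf0, mul_one]

theorem eq_zero_of_support_singleton (hK : IsFunctionField k K) {Δ : Divisor k K} (S : Place k K)
    (h : ∀ R : Place k K, R ≠ S → Δ R = 0) (hdeg : Δ.deg = 0) : Δ = 0 := by
  have h1 : Δ = Finsupp.single S (Δ S) := by
    ext R
    by_cases hR : R = S
    · subst hR; rw [Finsupp.single_eq_same]
    · rw [Finsupp.single_eq_of_ne hR, h R hR]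
  have h2 := deg_place_pos hK S
  rw [h1, deg_single] at hdeg
  have h3 : Δ S = 0 := by
    have h4 : ((S.deg : ℕ) : ℤ) ≠ 0 := by exact_mod_cast (by omega : S.deg ≠ 0)
    rcases mul_eq_zero.mp hdeg with h5 | h5
    · exact h5
    · exact absurd h5 h4
  rw [h1, h3, Finsupp.single_zero]

theorem div_pow (hK : IsFunctionField k K) (t : K) (m : ℕ) :
    FunFld.div k (t ^ m) = m • FunFld.div k t := by
  ext R
  rw [div_apply hK, Finsupp.smul_apply, div_apply hK, ord_pow, nsmul_eq_mul]

theorem exists_div_eq_of_deg_eq_zero (hK : IsFunctionField k K) (hg : genus k K = 0)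
    {E : Divisor k K} (hE : E.deg = 0) : ∃ t : K, t ≠ 0 ∧ FunFld.div k t = E := by
  have h1 := ell_eq_of_deg_ge hK (D := -E) (by rw [hg, deg_neg, hE]; norm_num)
  rw [hg, deg_neg, hE] at h1
  have h2 : 0 < ell (-E) := by
    have : (ell (-E) : ℤ) = 1 := by rw [h1]; norm_num
    omega
  obtain ⟨t, ht0, ht⟩ := exists_ne_zero_mem_L hK h2
  refine ⟨t, ht0, ?_⟩
  rw [div_eq_neg_of_mem_L_of_deg_eq_zero hK (by rw [deg_neg, hE, neg_zero]) ht0 ht, neg_neg]

/-- a function with divisor `P - P'` takes each value at most simply away from `P, P'`, and so do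
its powers in characteristic zero -/
theorem val_add_pow_ge [IsAlgClosed k] [CharZero k] (hK : IsFunctionField k K)
    {P P' Q : Place k K} (hPP' : P ≠ P') (hQP : Q ≠ P) (hQP' : Q ≠ P') {t : K}
    (ht : FunFld.div k t = Finsupp.single P 1 - Finsupp.single P' 1) {m : ℕ}
    (hm : 1 ≤ m) {α γ : k} (hαγ : α ≠ 0 ∨ γ ≠ 0) :
    exp (-1 : ℤ) ≤ Q.1 (algebraMap k K α + algebraMap k K γ * t ^ m) := by
  have hdegQ := deg_eq_one_of_isAlgClosed hK Q
  have hdegP' := deg_eq_one_of_isAlgClosed hK P'
  have hnr : t ∉ Set.range (algebraMap k K) := by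
    intro hr
    have h1 := div_eq_zero_of_mem_range hK hr
    rw [ht] at h1
    have h2 := DFunLike.congr_fun h1 P
    rw [Finsupp.sub_apply, Finsupp.single_eq_same, Finsupp.single_eq_of_ne hPP'] at h2
    simp at h2
  have ht0 : t ≠ 0 := by
    rintro rfl
    exact hnr ⟨0, map_zero _⟩
  have hordQ : Q.ord t = 0 := by
    rw [← div_apply hK, ht, Finsupp.sub_apply, Finsupp.single_eq_of_ne hQP,
      Finsupp.single_eq_of_ne hQP', sub_zero]
  have hvalQ : Q.1 t = 1 := by
    rw [val_eq_exp_neg_ord Q ht0, hordQ, neg_zero, exp_zero]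
  obtain ⟨c, hc⟩ := exists_sub_val_lt_one hK Q (le_of_eq hvalQ)
  have hc0 : c ≠ 0 := by
    rintro rfl
    rw [map_zero, sub_zero, hvalQ] at hc
    exact lt_irrefl _ hc
  set u : K := t - algebraMap k K c with hu
  have hu0 : u ≠ 0 := by
    intro h0
    apply hnr
    exact ⟨c, (sub_eq_zero.mp h0).symm⟩
  have htL : t ∈ L (Finsupp.single P' (1 : ℤ)) := by
    rw [nonneg_add_div_iff hK _ ht0, ht]
    have : Finsupp.single P' (1 : ℤ) + (Finsupp.single P 1 - Finsupp.single P' 1) =
        Finsupp.single P (1 : ℤ) := by abel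
    rw [this]
    exact Finsupp.single_nonneg.mpr zero_le_one
  have hcL : algebraMap k K c ∈ L (Finsupp.single P' (1 : ℤ)) := by
    have h0 : (0 : Divisor k K) ≤ Finsupp.single P' (1 : ℤ) :=
      Finsupp.single_nonneg.mpr zero_le_one
    apply L_mono h0
    rw [L_zero_eq_one hK, Submodule.mem_one]
    exact ⟨c, rfl⟩
  have huL : u ∈ L (Finsupp.single P' (1 : ℤ)) := Submodule.sub_mem _ htL hcL
  have hordu : Q.ord u = 1 := by
    have h1 : 0 < Q.ord u := (val_lt_one_iff Q hu0).mp hc
    by_contra hne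
    have h2 : 2 ≤ Q.ord u := by omega
    have huL2 : u ∈ L (Finsupp.single P' (1 : ℤ) - Finsupp.single Q (2 : ℤ)) := by
      rw [mem_L_iff]
      intro R
      by_cases hR : R = Q
      · subst hR
        rw [Finsupp.sub_apply, Finsupp.single_eq_same, Finsupp.single_eq_of_ne hQP',
          val_le_exp_iff R hu0]
        omega
      · rw [Finsupp.sub_apply, Finsupp.single_eq_of_ne hR, sub_zero]
        exact (mem_L_iff.mp huL) R
    rw [L_eq_bot_of_deg_neg hK] at huL2
    · exact hu0 ((Submodule.mem_bot k).mp huL2)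
    · rw [deg_sub, deg_single, deg_single, hdegQ, hdegP']
      norm_num
  have hvalu : Q.1 u = exp (-1 : ℤ) := by
    rw [val_eq_exp_neg_ord Q hu0, hordu]
  -- expansion
  let c' : Q.O := ⟨algebraMap k K c, Q.2.1 c⟩
  let u' : Q.O := ⟨u, le_of_lt hc⟩
  obtain ⟨w, hw⟩ := Polynomial.powAddExpansion c' u' m
  have hw' : (algebraMap k K c + u) ^ m =
      (algebraMap k K c) ^ m + m * (algebraMap k K c) ^ (m - 1) * u + (w : K) * u ^ 2 := by
    have := congrArg (fun z : Q.O => (z : K)) hw
    simpa using this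
  have htcu : algebraMap k K c + u = t := by rw [hu]; ring
  rw [htcu] at hw'
  have hwval : Q.1 (w : K) ≤ 1 := w.2
  have hrest : Q.1 (algebraMap k K γ * ((w : K) * u ^ 2)) ≤ exp (-2 : ℤ) := by
    rw [map_mul, map_mul, map_pow, hvalu]
    calc Q.1 (algebraMap k K γ) * (Q.1 (w : K) * exp (-1 : ℤ) ^ 2)
        ≤ 1 * (1 * exp (-1 : ℤ) ^ 2) := by
          gcongr
          exact Q.2.1 γ
      _ = exp (-2 : ℤ) := by
          rw [one_mul, one_mul, ← exp_nsmul]
          norm_num
  have hexp : algebraMap k K α + algebraMap k K γ * t ^ m =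
      algebraMap k K (α + γ * c ^ m) + (algebraMap k K (γ * m * c ^ (m - 1)) * u +
        algebraMap k K γ * ((w : K) * u ^ 2)) := by
    rw [hw']
    simp only [map_add, map_mul, map_pow, map_natCast]
    ring
  rw [hexp]
  by_cases hA : α + γ * c ^ m = 0
  · have hγ : γ ≠ 0 := by
      rcases hαγ with h | h
      · intro h0
        rw [h0, zero_mul, add_zero] at hA
        exact h hA
      · exact h
    have hB : γ * m * c ^ (m - 1) ≠ 0 := by
      refine mul_ne_zero (mul_ne_zero hγ ?_) (pow_ne_zero _ hc0)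
      exact_mod_cast (by omega : m ≠ 0)
    rw [hA, map_zero, zero_add]
    have h1 : Q.1 (algebraMap k K (γ * m * c ^ (m - 1)) * u) = exp (-1 : ℤ) := by
      rw [map_mul, val_algebraMap Q hB, one_mul, hvalu]
    rw [Valuation.map_add_eq_of_lt_left]
    · rw [h1]
    · rw [h1]
      refine lt_of_le_of_lt hrest ?_
      rw [exp_lt_exp]
      norm_num
  · have h1 : Q.1 (algebraMap k K (α + γ * c ^ m)) = 1 := val_algebraMap Q hA
    have h2 : Q.1 (algebraMap k K (γ * m * c ^ (m - 1)) * u +
        algebraMap k K γ * ((w : K) * u ^ 2)) < 1 := by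
      refine lt_of_le_of_lt (Q.1.map_add _ _) (max_lt ?_ ?_)
      · rw [map_mul, hvalu]
        calc Q.1 (algebraMap k K (γ * m * c ^ (m - 1))) * exp (-1 : ℤ)
            ≤ 1 * exp (-1 : ℤ) := by
              gcongr
              exact Q.2.1 _
          _ < 1 := by
              rw [one_mul, ← exp_zero, exp_lt_exp]
              norm_num
      · refine lt_of_le_of_lt hrest ?_
        rw [← exp_zero, exp_lt_exp]
        norm_num
    rw [Valuation.map_add_eq_of_lt_left]
    · rw [h1, ← exp_zero, exp_le_exp]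
      norm_num
    · rw [h1]
      exact h2

/-- genus zero, cusp at `Q`: two members of `V` supported on `{P, P'}` cannot have different
orders at `P` -/
theorem false_of_cusp_of_lt [IsAlgClosed k] [CharZero k] (hK : IsFunctionField k K)
    (hg0 : genus k K = 0) (r : ℕ) (D : Divisor k K)
    (V : Submodule k K) (hV : V ≤ L D) (hVr : finrank k ↥V = r + 1)
    (Q : Place k K) (hcusp : r ≤ finrank k ↥(V ⊓ L (D - Finsupp.single Q (2 : ℤ))))
    (P P' : Place k K) (hPP' : P ≠ P') (hP : P ≠ Q) (hP' : P' ≠ Q)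
    (f g : K) (hf : f ∈ V) (hg : g ∈ V) (hf0 : f ≠ 0) (hg0' : g ≠ 0)
    (hfs : ∀ R : Place k K, R ≠ P → R ≠ P' → (FunFld.div k f + D) R = 0)
    (hgs : ∀ R : Place k K, R ≠ P → R ≠ P' → (FunFld.div k g + D) R = 0)
    (hlt : FunFld.div k f P < FunFld.div k g P) : False := by
  have hfdV : FiniteDimensional k V := by
    have := finiteDimensional_L hK D
    exact Submodule.finiteDimensional_of_le hV
  have hdegP := deg_eq_one_of_isAlgClosed hK P
  have hdegP' := deg_eq_one_of_isAlgClosed hK P'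
  obtain ⟨m, hm⟩ : ∃ m : ℕ, (m : ℤ) = FunFld.div k g P - FunFld.div k f P :=
    ⟨(FunFld.div k g P - FunFld.div k f P).toNat, Int.toNat_of_nonneg (by omega)⟩
  have hm1 : 1 ≤ m := by omega
  have hE : Divisor.deg (k := k) (K := K) (Finsupp.single P (1 : ℤ) - Finsupp.single P' (1 : ℤ)) = 0 := by
    rw [deg_sub, deg_single, deg_single, hdegP, hdegP']
    norm_num
  obtain ⟨t, ht0, ht⟩ := exists_div_eq_of_deg_eq_zero hK hg0 hE
  -- `div g = div f + m • div t`
  have hΔ : FunFld.div k g - FunFld.div k f - m • FunFld.div k t = 0 := by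
    apply eq_zero_of_support_singleton hK P'
    · intro R hR
      rw [Finsupp.sub_apply, Finsupp.sub_apply, Finsupp.smul_apply, ht, Finsupp.sub_apply,
        Finsupp.single_eq_of_ne hR, sub_zero]
      by_cases hRP : R = P
      · subst hRP
        rw [Finsupp.single_eq_same, nsmul_eq_mul, mul_one]
        omega
      · rw [Finsupp.single_eq_of_ne hRP, smul_zero, sub_zero]
        have h1 := hfs R hRP hR
        have h2 := hgs R hRP hR
        rw [Finsupp.add_apply] at h1 h2
        omega
    · rw [deg_sub, deg_sub, deg_nsmul, deg_div_eq_zero hK, deg_div_eq_zero hK,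
        deg_div_eq_zero hK]
      simp
  have hdivg : FunFld.div k g = FunFld.div k (f * t ^ m) := by
    rw [div_mul hK hf0 (pow_ne_zero _ ht0), div_pow hK]
    have := sub_eq_zero.mp hΔ
    rw [← this]
    abel
  obtain ⟨c₀, hc₀⟩ := eq_smul_of_div_eq hK (mul_ne_zero hf0 (pow_ne_zero _ ht0)) hg0' hdivg
  have hc₀0 : c₀ ≠ 0 := by
    rintro rfl
    rw [zero_smul] at hc₀
    exact hg0' hc₀
  -- a nontrivial combination of `f, g` vanishing doubly at `Q`
  set W : Submodule k K := V ⊓ L (D - Finsupp.single Q (2 : ℤ)) with hW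
  obtain ⟨α, β, hαβ, hmem⟩ : ∃ α β : k, (α ≠ 0 ∨ β ≠ 0) ∧ α • f + β • g ∈ W := by
    by_cases hfW : f ∈ W
    · exact ⟨1, 0, Or.inl one_ne_zero, by simpa using hfW⟩
    · have hlt : W < W ⊔ Submodule.span k {f} := by
        refine lt_of_le_of_ne le_sup_left ?_
        intro heq
        apply hfW
        rw [heq]
        exact Submodule.mem_sup_right (Submodule.mem_span_singleton_self f)
      have hle : W ⊔ Submodule.span k {f} ≤ V :=
        sup_le inf_le_left ((Submodule.span_singleton_le_iff_mem f V).mpr hf)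
      have hfd2 : FiniteDimensional k ↥(W ⊔ Submodule.span k {f}) :=
        Submodule.finiteDimensional_of_le hle
      have h1 := Submodule.finrank_lt_finrank_of_lt hlt
      have h2 : W ⊔ Submodule.span k {f} = V := by
        apply Submodule.eq_of_le_of_finrank_le hle
        omega
      have hg' : g ∈ W ⊔ Submodule.span k {f} := by rw [h2]; exact hg
      obtain ⟨w, hw, y, hy, hwy⟩ := Submodule.mem_sup.mp hg'
      obtain ⟨c, rfl⟩ := Submodule.mem_span_singleton.mp hy
      refine ⟨-c, 1, Or.inr one_ne_zero, ?_⟩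
      have : -c • f + (1 : k) • g = w := by
        rw [← hwy]; simp
      rw [this]
      exact hw
  have hmemL := (mem_L_iff.mp hmem.2) Q
  rw [Finsupp.sub_apply, Finsupp.single_eq_same] at hmemL
  have hordf : Q.ord f = -D Q := by
    have := hfs Q (Ne.symm hP) (Ne.symm hP')
    rw [Finsupp.add_apply, div_apply hK] at this
    omega
  have hvalf : Q.1 f = exp (D Q) := by
    rw [val_eq_exp_neg_ord Q hf0, hordf, neg_neg]
  have hfac : α • f + β • g = f * (algebraMap k K α + algebraMap k K (β * c₀) * t ^ m) := by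
    rw [hc₀, Algebra.smul_def, Algebra.smul_def, Algebra.smul_def, map_mul]
    ring
  rw [hfac, map_mul, hvalf, sub_eq_add_neg, exp_add] at hmemL
  have h3 : Q.1 (algebraMap k K α + algebraMap k K (β * c₀) * t ^ m) ≤ exp (-2 : ℤ) := by
    have hne : (exp (D Q) : ℤᵐ⁰) ≠ 0 := exp_ne_zero
    exact (mul_le_mul_iff_right₀ (zero_lt_iff.mpr hne)).mp hmemL
  have h4 := val_add_pow_ge hK hPP' (Ne.symm hP) (Ne.symm hP') ht hm1
    (α := α) (γ := β * c₀) (by
      rcases hαβ with h | h
      · exact Or.inl h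
      · exact Or.inr (mul_ne_zero h hc₀0))
  have h5 := le_trans h4 h3
  rw [exp_le_exp] at h5
  omega

theorem eq_smul_of_cusp_genus_zero [IsAlgClosed k] [CharZero k] (hK : IsFunctionField k K)
    (hg0 : genus k K = 0) (r : ℕ) (D : Divisor k K)
    (V : Submodule k K) (hV : V ≤ L D) (hVr : finrank k ↥V = r + 1)
    (Q : Place k K) (hcusp : r ≤ finrank k ↥(V ⊓ L (D - Finsupp.single Q (2 : ℤ))))
    (P P' : Place k K) (hP : P ≠ Q) (hP' : P' ≠ Q)
    (f g : K) (hf : f ∈ V) (hg : g ∈ V) (hf0 : f ≠ 0) (hg0' : g ≠ 0)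
    (hfs : ∀ R : Place k K, R ≠ P → R ≠ P' → (FunFld.div k f + D) R = 0)
    (hgs : ∀ R : Place k K, R ≠ P → R ≠ P' → (FunFld.div k g + D) R = 0) :
    ∃ c : k, g = c • f := by
  apply eq_smul_of_div_eq hK hf0 hg0'
  have hdeg0 : (FunFld.div k g - FunFld.div k f).deg = 0 := by
    rw [deg_sub, deg_div_eq_zero hK, deg_div_eq_zero hK, sub_zero]
  have hoff : ∀ R : Place k K, R ≠ P → R ≠ P' → (FunFld.div k g - FunFld.div k f) R = 0 := by
    intro R hRP hRP'
    have h1 := hfs R hRP hRP'
    have h2 := hgs R hRP hRP'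
    rw [Finsupp.add_apply] at h1 h2
    rw [Finsupp.sub_apply]
    omega
  apply sub_eq_zero.mp
  by_cases hPP' : P = P'
  · subst hPP'
    exact eq_zero_of_support_singleton hK P (fun R hR => hoff R hR hR) hdeg0
  · rcases lt_trichotomy (FunFld.div k f P) (FunFld.div k g P) with hlt | heq | hgt
    · exact (false_of_cusp_of_lt hK hg0 r D V hV hVr Q hcusp P P' hPP' hP hP' f g hf hg hf0 hg0'
        hfs hgs hlt).elim
    · apply eq_zero_of_support_singleton hK P' _ hdeg0
      intro R hR
      by_cases hRP : R = P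
      · subst hRP
        rw [Finsupp.sub_apply, heq, sub_self]
      · exact hoff R hRP hR
    · exact (false_of_cusp_of_lt hK hg0 r D V hV hVr Q hcusp P P' hPP' hP hP' g f hg hf hg0' hf0
        hgs hfs hgt).elim

end Groth.Agent.Lib.helper16.FF
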