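import Groth.Agent.Lib.helper16.FFNS

/-! Helper library (helper16): the divisor of a projective map. -/

set_option autoImplicit false

namespace Groth.Agent.Lib.helper16.FF

open FunFld WithZero Polynomial Module
open scoped IntermediateField

variable {k K : Type*} [Field k] [Field K] [Algebra k K]

theorem mapDiv_apply (hK : IsFunctionField k K) {ι : Type*} [Fintype ι] [Nonempty ι]
    (φ : ι → K) (P : Place k K) :
    mapDiv k φ P = -(Finset.univ.inf' Finset.univ_nonempty fun i => P.ord (φ i)) := by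
  have hfin : (Function.support fun P : Place k K =>
      -Finset.univ.inf' Finset.univ_nonempty (fun i => P.ord (φ i))).Finite := by
    have hsub : (Function.support fun P : Place k K =>
        -Finset.univ.inf' Finset.univ_nonempty (fun i => P.ord (φ i))) ⊆
        ⋃ i, Function.support fun P : Place k K => P.ord (φ i) := by
      intro Q hQ
      by_contra hcon
      simp only [Set.mem_iUnion, Function.mem_support, not_exists, not_not] at hcon
      apply hQ
      show -Finset.univ.inf' Finset.univ_nonempty (fun i => Q.ord (φ i)) = 0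
      have : (fun i => Q.ord (φ i)) = fun _ => (0 : ℤ) := funext hcon
      rw [this, Finset.inf'_const, neg_zero]
    exact (Set.finite_iUnion fun i => finite_support_ord hK (φ i)).subset hsub
  unfold mapDiv
  rw [dif_pos hfin]
  rfl

theorem neg_mapDiv_le_ord (hK : IsFunctionField k K) {ι : Type*} [Fintype ι] [Nonempty ι]
    (φ : ι → K) (P : Place k K) (i : ι) : -(mapDiv k φ P) ≤ P.ord (φ i) := by
  rw [mapDiv_apply hK, neg_neg]
  exact Finset.inf'_le _ (Finset.mem_univ i)

theorem exists_ord_eq_neg_mapDiv (hK : IsFunctionField k K) {ι : Type*} [Fintype ι] [Nonempty ι]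
    (φ : ι → K) (P : Place k K) : ∃ j, P.ord (φ j) = -(mapDiv k φ P) := by
  obtain ⟨j, -, hj⟩ := Finset.exists_mem_eq_inf' Finset.univ_nonempty fun i => P.ord (φ i)
  exact ⟨j, by rw [mapDiv_apply hK, neg_neg, hj]⟩

theorem mem_L_mapDiv (hK : IsFunctionField k K) {ι : Type*} [Fintype ι] [Nonempty ι]
    (φ : ι → K) (i : ι) : φ i ∈ L (mapDiv k φ) := by
  intro P
  by_cases h0 : φ i = 0
  · rw [h0, map_zero]; exact zero_le
  · rw [val_le_exp_iff P h0]
    exact neg_mapDiv_le_ord hK φ P i

theorem span_le_L_mapDiv (hK : IsFunctionField k K) {ι : Type*} [Fintype ι] [Nonempty ι]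
    (φ : ι → K) : Submodule.span k (Set.range φ) ≤ L (mapDiv k φ) := by
  rw [Submodule.span_le]
  rintro _ ⟨i, rfl⟩
  exact mem_L_mapDiv hK φ i

/-- an entry of least order at `P` has valuation `exp ([φ](P))` -/
theorem val_eq_exp_mapDiv_iff (hK : IsFunctionField k K) {ι : Type*} [Fintype ι] [Nonempty ι]
    (φ : ι → K) (hφ0 : ∀ i, φ i ≠ 0) (P : Place k K) (j : ι) :
    (∀ i, P.1 (φ i) ≤ P.1 (φ j)) ↔ P.1 (φ j) = exp (mapDiv k φ P) := by
  constructor
  · intro hmax
    apply le_antisymm (mem_L_mapDiv hK φ j P)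
    obtain ⟨j', hj'⟩ := exists_ord_eq_neg_mapDiv hK φ P
    have := hmax j'
    rw [val_eq_exp_neg_ord P (hφ0 j'), hj', neg_neg] at this
    exact this
  · intro hv i
    rw [hv]
    exact mem_L_mapDiv hK φ i P

theorem exists_mem_inf_not_mem (hK : IsFunctionField k K) (V : Submodule k K) {D : Divisor k K}
    {P : Place k K}
    (h : finrank k ↥(V ⊓ L (D - Finsupp.single P (1 : ℤ))) < finrank k ↥(V ⊓ L D)) :
    ∃ s ∈ V, s ∈ L D ∧ s ∉ L (D - Finsupp.single P (1 : ℤ)) := by
  by_contra hcon
  push Not at hcon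
  have hle : V ⊓ L D ≤ V ⊓ L (D - Finsupp.single P (1 : ℤ)) :=
    fun s hs => ⟨hs.1, hcon s hs.1 hs.2⟩
  have := finiteDimensional_inf_L hK V (D - Finsupp.single P (1 : ℤ))
  have h1 := Submodule.finrank_mono hle
  omega

/-- functions with the same value at `P` and `Q` -/
def sameRes (P Q : Place k K) : Subalgebra k K where
  carrier := {w | ∃ c : k, P.1 (w - algebraMap k K c) < 1 ∧ Q.1 (w - algebraMap k K c) < 1}
  mul_mem' := by
    rintro z z' ⟨c, hc1, hc2⟩ ⟨c', hc1', hc2'⟩
    refine ⟨c * c', ?_, ?_⟩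
    · have hz' : P.1 z' ≤ 1 := by
        have : z' = (z' - algebraMap k K c') + algebraMap k K c' := by ring
        rw [this]
        exact le_trans (P.1.map_add _ _) (max_le hc1'.le (val_algebraMap_le P c'))
      have e : z * z' - algebraMap k K (c * c') =
          (z - algebraMap k K c) * z' + algebraMap k K c * (z' - algebraMap k K c') := by
        rw [map_mul]; ring
      rw [e]
      refine lt_of_le_of_lt (P.1.map_add _ _) (max_lt ?_ ?_)
      · rw [map_mul]
        exact mul_lt_one_of_nonneg_of_lt_one_left zero_le hc1 hz'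
      · rw [map_mul]
        exact mul_lt_one_of_nonneg_of_lt_one_right (val_algebraMap_le P c) zero_le hc1'
    · have hz' : Q.1 z' ≤ 1 := by
        have : z' = (z' - algebraMap k K c') + algebraMap k K c' := by ring
        rw [this]
        exact le_trans (Q.1.map_add _ _) (max_le hc2'.le (val_algebraMap_le Q c'))
      have e : z * z' - algebraMap k K (c * c') =
          (z - algebraMap k K c) * z' + algebraMap k K c * (z' - algebraMap k K c') := by
        rw [map_mul]; ring
      rw [e]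
      refine lt_of_le_of_lt (Q.1.map_add _ _) (max_lt ?_ ?_)
      · rw [map_mul]
        exact mul_lt_one_of_nonneg_of_lt_one_left zero_le hc2 hz'
      · rw [map_mul]
        exact mul_lt_one_of_nonneg_of_lt_one_right (val_algebraMap_le Q c) zero_le hc2'
  add_mem' := by
    rintro z z' ⟨c, hc1, hc2⟩ ⟨c', hc1', hc2'⟩
    refine ⟨c + c', ?_, ?_⟩
    · have e : z + z' - algebraMap k K (c + c') =
          (z - algebraMap k K c) + (z' - algebraMap k K c') := by
        rw [map_add]; ring
      rw [e]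
      exact lt_of_le_of_lt (P.1.map_add _ _) (max_lt hc1 hc1')
    · have e : z + z' - algebraMap k K (c + c') =
          (z - algebraMap k K c) + (z' - algebraMap k K c') := by
        rw [map_add]; ring
      rw [e]
      exact lt_of_le_of_lt (Q.1.map_add _ _) (max_lt hc2 hc2')
  algebraMap_mem' := by
    intro c
    exact ⟨c, by rw [sub_self, map_zero]; exact zero_lt_one,
      by rw [sub_self, map_zero]; exact zero_lt_one⟩

theorem val_le_one_of_mem_sameRes {P Q : Place k K} {w : K} (hw : w ∈ sameRes P Q) :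
    Q.1 w ≤ 1 := by
  obtain ⟨c, -, hc⟩ := hw
  have : w = (w - algebraMap k K c) + algebraMap k K c := by ring
  rw [this]
  exact le_trans (Q.1.map_add _ _) (max_le hc.le (val_algebraMap_le Q c))

theorem val_eq_one_of_mem_sameRes {P Q : Place k K} {w : K} (hw : w ∈ sameRes P Q)
    (hP : P.1 w = 1) : Q.1 w = 1 := by
  obtain ⟨c, hc1, hc2⟩ := hw
  have hc0 : c ≠ 0 := by
    rintro rfl
    rw [map_zero, sub_zero, hP] at hc1
    exact lt_irrefl _ hc1
  have : w = algebraMap k K c + (w - algebraMap k K c) := by ring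
  rw [this, Valuation.map_add_eq_of_lt_left, val_algebraMap Q hc0]
  rw [val_algebraMap Q hc0]
  exact hc2

theorem div_mem_adjoin_of_mem_span {ι : Type*} [Fintype ι] (φ : ι → K) (j : ι) {s : K}
    (hs : s ∈ Submodule.span k (Set.range φ)) :
    s / φ j ∈ Algebra.adjoin k (Set.range fun i => φ i / φ j) := by
  obtain ⟨c, rfl⟩ := (Submodule.mem_span_range_iff_exists_fun k).mp hs
  rw [Finset.sum_div]
  refine Subalgebra.sum_mem _ fun i _ => ?_
  rw [smul_div_assoc]
  exact Subalgebra.smul_mem _ (Algebra.subset_adjoin (Set.mem_range_self i)) _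

theorem exists_chart_mapDiv (hK : IsFunctionField k K) {ι : Type*} [Fintype ι] [Nonempty ι]
    (φ : ι → K) (hφ0 : ∀ i, φ i ≠ 0) (P : Place k K) :
    ∃ j, (∀ i, P.1 (φ i) ≤ P.1 (φ j)) ∧ P.1 (φ j) = exp (mapDiv k φ P) := by
  obtain ⟨j, hj⟩ := exists_max_val φ P
  exact ⟨j, hj, (val_eq_exp_mapDiv_iff hK φ hφ0 P j).mp hj⟩

theorem val_div_le_one (P : Place k K) {a b : K} (hb : b ≠ 0) :
    P.1 (a / b) ≤ 1 ↔ P.1 a ≤ P.1 b := by
  rw [map_div₀, div_le_one₀ (zero_lt_iff.mpr (val_ne_zero P hb))]

theorem mem_L_sub_single_iff {D : Divisor k K} {P : Place k K} {f : K} :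
    f ∈ L (D - Finsupp.single P (1 : ℤ)) ↔ f ∈ L D ∧ P.1 f ≤ exp (D P - 1) := by
  classical
  constructor
  · intro hf
    refine ⟨L_mono (sub_le_self _ ?_) hf, ?_⟩
    · intro R
      rw [Finsupp.single_apply]
      split_ifs <;> simp
    · have := hf P
      rwa [Finsupp.sub_apply, Finsupp.single_eq_same] at this
  · rintro ⟨hf, hP⟩ R
    by_cases hR : R = P
    · subst hR
      rwa [Finsupp.sub_apply, Finsupp.single_eq_same]
    · rw [Finsupp.sub_apply, Finsupp.single_eq_of_ne hR, sub_zero]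
      exact hf R

/-- if `W ∩ L([φ] - P - Q)` has codimension `2` in `W` for every place `Q`, then the birational
projective map `φ` is nonsingular at `P` -/
theorem isNonsingularAt_of_codim_two [IsAlgClosed k] (hK : IsFunctionField k K) {ι : Type*}
    [Fintype ι] [Nonempty ι] (φ : ι → K) (hφ0 : ∀ i, φ i ≠ 0) (i₀ : ι)
    (hbir : IntermediateField.adjoin k (Set.range fun i => φ i / φ i₀) = ⊤) (P : Place k K)
    (h : ∀ Q : Place k K,
      finrank k ↥(Submodule.span k (Set.range φ) ⊓
          L (mapDiv k φ - Finsupp.single P 1 - Finsupp.single Q 1)) + 2 =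
        finrank k ↥(Submodule.span k (Set.range φ))) :
    IsNonsingularAt φ P := by
  classical
  set W := Submodule.span k (Set.range φ) with hW
  have hWD : W ⊓ L (mapDiv k φ) = W := inf_eq_left.mpr (span_le_L_mapDiv hK φ)
  obtain ⟨j, hmax, hvj⟩ := exists_chart_mapDiv hK φ hφ0 P
  have hj0 := hφ0 j
  have key : ∀ Q : Place k K, ∃ s ∈ W, s ∈ L ((mapDiv k φ) - Finsupp.single Q 1) ∧
      s ∉ L ((mapDiv k φ) - Finsupp.single Q 1 - Finsupp.single P 1) := by
    intro Q
    apply exists_mem_inf_not_mem hK W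
    have h1 := finrank_inf_L_le_sub_single hK W (mapDiv k φ) Q
    rw [hWD, deg_eq_one_of_isAlgClosed hK Q] at h1
    have h2 := h Q
    have e : (mapDiv k φ) - Finsupp.single P 1 - Finsupp.single Q 1 =
        (mapDiv k φ) - Finsupp.single Q 1 - Finsupp.single P 1 := by abel
    rw [e] at h2
    omega
  have hkey := inLoc_of_sep_of_tan hK (fun i => φ i / φ j) P
    (fun i => (val_div_le_one P hj0).mpr (hmax i))
    (bir_chart φ i₀ j (hφ0 i₀) hj0 hbir) ?_ ?_
  · intro z hz
    obtain ⟨u, hu, w, hw, hw1, hzw⟩ := hkey z hz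
    exact ⟨j, hj0, hmax, u, hu, w, hw, hw1, hzw⟩
  · intro Q hQP hQint
    have hmaxQ : ∀ i, Q.1 (φ i) ≤ Q.1 (φ j) := fun i => (val_div_le_one Q hj0).mp (hQint i)
    have hvjQ := (val_eq_exp_mapDiv_iff hK φ hφ0 Q j).mp hmaxQ
    obtain ⟨s, hsW, hsL, hsn⟩ := key Q
    have hPs := val_eq_of_mem_L_of_not_mem hsL hsn
    rw [Finsupp.sub_apply, Finsupp.single_eq_of_ne (Ne.symm hQP), sub_zero] at hPs
    have hQs := hsL Q
    rw [Finsupp.sub_apply, Finsupp.single_eq_same] at hQs
    refine ⟨s / φ j, div_mem_adjoin_of_mem_span φ j hsW, ?_, ?_⟩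
    · rw [map_div₀, hvjQ, div_lt_one₀ exp_pos]
      exact lt_of_le_of_lt hQs (exp_lt_exp.mpr (by omega))
    · rw [map_div₀, hvj, hPs]
      exact div_self exp_ne_zero
  · obtain ⟨s, hsW, hsL, hsn⟩ := key P
    have hPs := val_eq_of_mem_L_of_not_mem hsL hsn
    rw [Finsupp.sub_apply, Finsupp.single_eq_same] at hPs
    refine ⟨s / φ j, div_mem_adjoin_of_mem_span φ j hsW, ?_⟩
    rw [map_div₀, hvj, hPs, ← exp_sub]
    congr 1
    ring

/-- if the projective map `φ` is nonsingular at `P`, then `W ∩ L([φ] - P - Q)` has codimension `2`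
in `W` for every place `Q` -/
theorem codim_two_of_isNonsingularAt [IsAlgClosed k] (hK : IsFunctionField k K) {ι : Type*}
    [Fintype ι] [Nonempty ι] (φ : ι → K) (hφ0 : ∀ i, φ i ≠ 0) (P : Place k K)
    (hns : IsNonsingularAt φ P) (Q : Place k K) :
    finrank k ↥(Submodule.span k (Set.range φ) ⊓
        L (mapDiv k φ - Finsupp.single P 1 - Finsupp.single Q 1)) + 2 =
      finrank k ↥(Submodule.span k (Set.range φ)) := by
  classical
  set W := Submodule.span k (Set.range φ) with hW
  have hWL : W ≤ L (mapDiv k φ) := span_le_L_mapDiv hK φ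
  have hWD : W ⊓ L (mapDiv k φ) = W := inf_eq_left.mpr hWL
  obtain ⟨j, hmax, hvj⟩ := exists_chart_mapDiv hK φ hφ0 P
  have hj0 := hφ0 j
  have hvj0 : P.1 (φ j) ≠ 0 := val_ne_zero P hj0
  have hloc : ∀ z, P.1 z ≤ 1 → InLoc (Algebra.adjoin k (Set.range fun i => φ i / φ j)) P z :=
    fun z hz => inLoc_of_inLocRing φ P j hj0 hmax (hns z hz)
  have hu1 := finrank_inf_L_le_sub_single hK W (mapDiv k φ) P
  have hu2 := finrank_inf_L_le_sub_single hK W (mapDiv k φ - Finsupp.single P 1) Q
  rw [deg_eq_one_of_isAlgClosed hK] at hu1 hu2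
  have hfd1 := finiteDimensional_inf_L hK W (mapDiv k φ)
  have hfd2 := finiteDimensional_inf_L hK W (mapDiv k φ - Finsupp.single P 1)
  have hs1 : finrank k ↥(W ⊓ L (mapDiv k φ - Finsupp.single P 1)) <
      finrank k ↥(W ⊓ L (mapDiv k φ)) := by
    apply Submodule.finrank_lt_finrank_of_lt
    rw [SetLike.lt_iff_le_and_exists]
    refine ⟨inf_le_inf_left _ fun f hf => (mem_L_sub_single_iff.mp hf).1, φ j,
      ⟨Submodule.subset_span (Set.mem_range_self j), mem_L_mapDiv hK φ j⟩, ?_⟩
    intro hmem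
    have := (mem_L_sub_single_iff.mp hmem.2).2
    rw [hvj, exp_le_exp] at this
    omega
  have hs2 : finrank k ↥(W ⊓ L (mapDiv k φ - Finsupp.single P 1 - Finsupp.single Q 1)) <
      finrank k ↥(W ⊓ L (mapDiv k φ - Finsupp.single P 1)) := by
    apply Submodule.finrank_lt_finrank_of_lt
    rw [SetLike.lt_iff_le_and_exists]
    refine ⟨inf_le_inf_left _ fun f hf => (mem_L_sub_single_iff.mp hf).1, ?_⟩
    by_contra hcon
    push Not at hcon
    choose c hc using fun i =>
      exists_sub_val_lt_one hK P ((val_div_le_one P hj0).mpr (hmax i))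
    have hsW : ∀ i, φ i - c i • φ j ∈ W := fun i =>
      Submodule.sub_mem _ (Submodule.subset_span (Set.mem_range_self i))
        (Submodule.smul_mem _ _ (Submodule.subset_span (Set.mem_range_self j)))
    have hse : ∀ i, φ i - c i • φ j = φ j * (φ i / φ j - algebraMap k K (c i)) := by
      intro i
      rw [Algebra.smul_def]
      field_simp
    have hsL : ∀ i, φ i - c i • φ j ∈ L (mapDiv k φ - Finsupp.single P 1) := by
      intro i
      rw [mem_L_sub_single_iff]
      refine ⟨hWL (hsW i), ?_⟩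
      have h2 : (exp (mapDiv k φ P - 1) : ℤᵐ⁰) = exp (mapDiv k φ P) * exp (-1) := by
        rw [← exp_add]; congr 1
      rw [hse, map_mul, hvj, h2]
      exact mul_le_mul_right (lt_one_iff_le_exp_neg_one.mp (hc i)) _
    have hsQ : ∀ i, φ i - c i • φ j ∈
        L (mapDiv k φ - Finsupp.single P 1 - Finsupp.single Q 1) := fun i =>
      (hcon _ ⟨hsW i, hsL i⟩).2
    by_cases hQP : Q = P
    · subst hQP
      have hsec : ∀ i, φ i / φ j ∈ secondOrder Q := by
        intro i
        refine ⟨c i, ?_⟩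
        have h1 := (mem_L_sub_single_iff.mp (hsQ i)).2
        rw [Finsupp.sub_apply, Finsupp.single_eq_same, hse, map_mul, hvj] at h1
        have h2 : (exp (mapDiv k φ Q - 1 - 1) : ℤᵐ⁰) = exp (mapDiv k φ Q) * exp (-2) := by
          rw [← exp_add]; congr 1; ring
        rw [h2] at h1
        exact le_of_mul_le_mul_left h1 exp_pos
      have hle : Algebra.adjoin k (Set.range fun i => φ i / φ j) ≤ secondOrder Q := by
        apply Algebra.adjoin_le
        rintro _ ⟨i, rfl⟩
        exact hsec i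
      obtain ⟨t, ht⟩ := exists_uniformizer Q
      obtain ⟨u, hu, w, hw, hw1, htw⟩ := hloc t (by rw [ht, ← exp_zero, exp_le_exp]; omega)
      apply val_ne_of_mem_secondOrder (hle hu)
      rw [← htw, map_mul, hw1, mul_one, ht]
    · obtain ⟨i₁, -, hv₁⟩ := exists_chart_mapDiv hK φ hφ0 Q
      have hQs : ∀ i, Q.1 (φ i - c i • φ j) ≤ exp (mapDiv k φ Q - 1) := by
        intro i
        have h1 := (mem_L_sub_single_iff.mp (hsQ i)).2
        rwa [Finsupp.sub_apply, Finsupp.single_eq_of_ne hQP, sub_zero] at h1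
      have hvjQ : Q.1 (φ j) = exp (mapDiv k φ Q) := by
        apply le_antisymm (mem_L_mapDiv hK φ j Q)
        have h1 : Q.1 (φ i₁ - c i₁ • φ j) < Q.1 (φ i₁) := by
          rw [hv₁]
          exact lt_of_le_of_lt (hQs i₁) (exp_lt_exp.mpr (by omega))
        have h2 : c i₁ • φ j = φ i₁ - (φ i₁ - c i₁ • φ j) := by ring
        have h3 : Q.1 (c i₁ • φ j) = Q.1 (φ i₁) := by
          rw [h2]
          exact Valuation.map_sub_eq_of_lt_left _ h1
        rw [← hv₁, ← h3]
        exact val_smul_le Q _ _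
      have hsame : ∀ i, φ i / φ j ∈ sameRes P Q := by
        intro i
        refine ⟨c i, hc i, ?_⟩
        have h1 := hQs i
        rw [hse, map_mul, hvjQ] at h1
        have h2 : (exp (mapDiv k φ Q - 1) : ℤᵐ⁰) = exp (mapDiv k φ Q) * exp (-1) := by
          rw [← exp_add]; congr 1
        rw [h2] at h1
        exact lt_one_iff_le_exp_neg_one.mpr (le_of_mul_le_mul_left h1 exp_pos)
      have hle : Algebra.adjoin k (Set.range fun i => φ i / φ j) ≤ sameRes P Q := by
        apply Algebra.adjoin_le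
        rintro _ ⟨i, rfl⟩
        exact hsame i
      apply hQP
      symm
      apply eq_of_valuationRing_le
      intro z hz
      obtain ⟨u, hu, w, hw, hw1, hzw⟩ := hloc z hz
      have hQw := val_eq_one_of_mem_sameRes (hle hw) hw1
      have hQu := val_le_one_of_mem_sameRes (hle hu)
      rw [← hzw, map_mul, hQw, mul_one] at hQu
      exact hQu
  rw [hWD] at hu1 hs1
  omega

/-- **Nonsingularity criterion** for a birational projective map in terms of codimensions -/
theorem isNonsingularAt_iff_codim_two [IsAlgClosed k] (hK : IsFunctionField k K) {ι : Type*}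
    [Fintype ι] [Nonempty ι] (φ : ι → K) (hφ0 : ∀ i, φ i ≠ 0) (i₀ : ι)
    (hbir : IntermediateField.adjoin k (Set.range fun i => φ i / φ i₀) = ⊤) (P : Place k K) :
    IsNonsingularAt φ P ↔ ∀ Q : Place k K,
      finrank k ↥(Submodule.span k (Set.range φ) ⊓
          L (mapDiv k φ - Finsupp.single P 1 - Finsupp.single Q 1)) + 2 =
        finrank k ↥(Submodule.span k (Set.range φ)) :=
  ⟨fun h Q => codim_two_of_isNonsingularAt hK φ hφ0 P h Q,
    isNonsingularAt_of_codim_two hK φ hφ0 i₀ hbir P⟩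

/-- **Generic nonsingularity**: a finitely generated subalgebra `R` with fraction field `K` has a
nonzero "conductor" `c ∈ R` such that the local ring of `R` is the whole valuation ring at every
place where the generators are integral and `c` is a unit. -/
theorem exists_conductor_inLoc [IsAlgClosed k] (hK : IsFunctionField k K) {ι : Type*} [Fintype ι]
    (xs : ι → K)
    (hbir : ∀ z : K, ∃ r ∈ Algebra.adjoin k (Set.range xs),
      ∃ s ∈ Algebra.adjoin k (Set.range xs), s ≠ 0 ∧ z * s = r) :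
    ∃ c ∈ Algebra.adjoin k (Set.range xs), c ≠ 0 ∧ ∀ P : Place k K, (∀ i, P.1 (xs i) ≤ 1) →
      P.1 c = 1 → ∀ z, P.1 z ≤ 1 → InLoc (Algebra.adjoin k (Set.range xs)) P z := by
  classical
  set R := Algebra.adjoin k (Set.range xs) with hR
  let Sinf : Set (Place k K) := {Q | ∃ i, 1 < Q.1 (xs i)}
  have hSfin : Sinf.Finite := by
    have : Sinf = ⋃ i, {Q | 1 < Q.1 (xs i)} := by
      ext Q; simp [Sinf]
    rw [this]
    apply Set.finite_iUnion
    intro i
    by_cases hi : xs i ∈ Set.range (algebraMap k K)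
    · convert Set.finite_empty
      ext Q
      simp only [Set.mem_ofPred_eq, Set.mem_empty_iff_false, iff_false, not_lt]
      obtain ⟨c, hc⟩ := hi
      rw [← hc]; exact val_algebraMap_le Q c
    · exact poles_finite hK hi
  have hRint : ∀ Q ∉ Sinf, ∀ r ∈ R, Q.1 r ≤ 1 := by
    intro Q hQ r hr
    apply val_le_one_of_mem_adjoin xs Q _ hr
    intro i
    by_contra h
    exact hQ ⟨i, not_le.mp h⟩
  obtain ⟨a, ha⟩ := exists_generic_pole xs Sinf hSfin (fun Q hQ => hQ)
  set x := ∑ i, a i • xs i with hx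
  have hxR : x ∈ R := Subalgebra.sum_mem _ fun i _ =>
    Subalgebra.smul_mem _ (Algebra.subset_adjoin (Set.mem_range_self i)) _
  have hSne : Sinf.Nonempty := by
    by_contra hemp
    rw [Set.not_nonempty_iff_eq_empty] at hemp
    have hconst : ∀ r ∈ R, r ∈ Set.range (algebraMap k K) := by
      intro r hr
      apply mem_range_of_forall_val_le_one hK
      intro Q
      exact hRint Q (by rw [hemp]; exact Set.notMem_empty Q) r hr
    obtain ⟨z, hz⟩ := exists_not_mem_range hK
    obtain ⟨r, hr, s, hs, hs0, hzs⟩ := hbir z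
    obtain ⟨c, hc⟩ := hconst r hr
    obtain ⟨d, hd⟩ := hconst s hs
    apply hz
    refine ⟨c / d, ?_⟩
    rw [map_div₀, hc, hd, ← hzs]
    field_simp
  obtain ⟨Q₀, hQ₀⟩ := hSne
  have hxnc : x ∉ Set.range (algebraMap k K) := by
    rintro ⟨c, hc⟩
    have := ha Q₀ hQ₀
    rw [← hc] at this
    exact absurd (val_algebraMap_le Q₀ c) (not_le.mpr this)
  have hx0 : x ≠ 0 := by
    intro h
    exact hxnc ⟨0, by rw [map_zero, h]⟩
  obtain ⟨c, hcR, hc0, hcond⟩ := exists_conductor hK R hxR hxnc hbir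
  set B := poleDiv k x with hB
  have hB0 : 0 ≤ B := poleDiv_nonneg x
  have hN : 1 ≤ B.deg := by
    rw [deg_poleDiv_eq hK hxnc]
    have := finiteDimensional_of_transcendental hK (transcendental_of_not_mem_range hK hxnc)
    have : 0 < Module.finrank k⟮x⟯ K := Module.finrank_pos
    omega
  have hBzero : ∀ Q ∉ Sinf, B Q = 0 := by
    intro Q hQ
    have h1 := hRint Q hQ x hxR
    rw [hB, poleDiv_apply hK]
    rw [val_le_one_iff Q hx0] at h1
    omega
  refine ⟨c, hcR, hc0, ?_⟩
  intro P hPint hPc z hz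
  have hPS : P ∉ Sinf := by
    rintro ⟨i, hi⟩
    exact absurd (hPint i) (not_le.mpr hi)
  by_cases hz0 : z = 0
  · rw [hz0]; exact InLoc.of_mem R.zero_mem
  set E := poleDiv k z with hE
  have hE0 : 0 ≤ E := poleDiv_nonneg z
  have hEP : E P = 0 := by
    rw [hE, poleDiv_apply hK]
    have := (val_le_one_iff P hz0).mp hz
    omega
  have hEd : 0 ≤ E.deg := deg_nonneg hE0
  set m : ℕ := (2 * (genus k K : ℤ) + E.deg).toNat with hm
  have hdeg : 2 * (genus k K : ℤ) ≤ (m • B - E).deg := by
    rw [deg_sub, deg_nsmul]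
    have h1 : (2 * (genus k K : ℤ) + E.deg) ≤ m := by rw [hm]; exact Int.self_le_toNat _
    have h2 : (m : ℤ) ≤ m * B.deg := by
      have : (0 : ℤ) ≤ m := Nat.cast_nonneg m
      nlinarith
    omega
  have hlt := ell_sub_single_lt_of_deg_ge hK hdeg (deg_eq_one_of_isAlgClosed hK P)
  obtain ⟨r, hrL, hrn⟩ := exists_mem_L_not_mem_sub_single hK hlt
  have hrP : P.1 r = 1 := by
    rw [val_eq_of_mem_L_of_not_mem hrL hrn, Finsupp.sub_apply, Finsupp.smul_apply,
      hBzero P hPS, hEP]
    simp
  have hr1 : r ∈ L (m • B) := L_mono (sub_le_self _ hE0) hrL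
  have hr2 : r * z ∈ L (m • B) := by
    intro Q
    have h1 := hrL Q
    have h2 : Q.1 z ≤ exp (E Q) := by
      rw [val_eq_exp_neg_ord Q hz0, exp_le_exp, hE, poleDiv_apply hK]
      exact le_max_left _ _
    rw [map_mul]
    calc Q.1 r * Q.1 z ≤ exp ((m • B - E) Q) * exp (E Q) := mul_le_mul' h1 h2
      _ = exp ((m • B) Q) := by
        rw [← exp_add, Finsupp.sub_apply]
        congr 1
        ring
  refine ⟨c * (r * z), hcond m _ hr2, c * r, hcond m _ hr1, ?_, by ring⟩
  rw [map_mul, hPc, hrP, one_mul]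

/-- a birational projective map is nonsingular at all but finitely many places -/
theorem finite_not_isNonsingularAt [IsAlgClosed k] (hK : IsFunctionField k K) {ι : Type*}
    [Fintype ι] (φ : ι → K) (i₀ : ι) (h0 : φ i₀ ≠ 0)
    (hbir : IntermediateField.adjoin k (Set.range fun i => φ i / φ i₀) = ⊤) :
    {P : Place k K | ¬ IsNonsingularAt φ P}.Finite := by
  classical
  obtain ⟨c, hcR, hc0, hc⟩ := exists_conductor_inLoc hK (fun i => φ i / φ i₀)
    (bir_chart φ i₀ i₀ h0 h0 hbir)
  have hfin1 : {P : Place k K | ∃ i, 1 < P.1 (φ i / φ i₀)}.Finite := by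
    have : {P : Place k K | ∃ i, 1 < P.1 (φ i / φ i₀)} =
        ⋃ i, {P : Place k K | 1 < P.1 (φ i / φ i₀)} := by
      ext Q; simp
    rw [this]
    apply Set.finite_iUnion
    intro i
    by_cases hi : φ i / φ i₀ ∈ Set.range (algebraMap k K)
    · convert Set.finite_empty
      ext Q
      simp only [Set.mem_ofPred_eq, Set.mem_empty_iff_false, iff_false, not_lt]
      obtain ⟨c, hc⟩ := hi
      rw [← hc]; exact val_algebraMap_le Q c
    · exact poles_finite hK hi
  have hfin2 : {P : Place k K | P.1 c < 1}.Finite := by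
    by_cases hi : c ∈ Set.range (algebraMap k K)
    · convert Set.finite_empty
      ext Q
      simp only [Set.mem_ofPred_eq, Set.mem_empty_iff_false, iff_false, not_lt]
      obtain ⟨d, hd⟩ := hi
      have hd0 : d ≠ 0 := by
        rintro rfl
        exact hc0 (by rw [← hd, map_zero])
      rw [← hd, val_algebraMap Q hd0]
    · exact zeros_finite hK hi
  refine (hfin1.union hfin2).subset ?_
  intro P hP
  by_contra hnot
  apply hP
  simp only [Set.mem_union, Set.mem_ofPred_eq, not_or, not_exists, not_lt] at hnot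
  obtain ⟨hint, hcP⟩ := hnot
  have hcP' : P.1 c = 1 := le_antisymm (val_le_one_of_mem_adjoin _ P hint hcR) hcP
  have hmax : ∀ i, P.1 (φ i) ≤ P.1 (φ i₀) := fun i => (val_div_le_one P h0).mp (hint i)
  intro z hz
  obtain ⟨u, hu, w, hw, hw1, hzw⟩ := hc P hint hcP' z hz
  exact ⟨i₀, h0, hmax, u, hu, w, hw, hw1, hzw⟩

end Groth.Agent.Lib.helper16.FF
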