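import Groth.Agent.Lib.helper16.FFDeg
import Groth.Agent.Lib.helper16.FFMapDiv
import Groth.Agent.Lib.helper16.FAdjInv
import Groth.Agent.Lib.helper16.FFG0

/-! Helper library (helper16): the degree of a plane model (S11070). -/

set_option autoImplicit false

namespace Groth.Agent.Lib.helper16.FPD

open FunFld WithZero Module Polynomial
open Groth.Agent.Lib.helper16
open scoped IntermediateField

section shear

variable {k : Type*} [Field k]

/-- the inner variable of `k[Y][X]` -/
noncomputable abbrev Yv : k[X][X] := C (X : k[X])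

/-- the shear `X₀ ↦ X`, `X₁ ↦ Y + t X` -/
noncomputable def Phi (t : k) : MvPolynomial (Fin 2) k →ₐ[k] k[X][X] :=
  MvPolynomial.aeval ![(X : k[X][X]), Yv + C (C t) * X]

/-- the inverse shear -/
noncomputable def Psi (t : k) : k[X][X] →ₐ[k] MvPolynomial (Fin 2) k :=
  aevalTower (aeval (MvPolynomial.X 1 - MvPolynomial.C t * MvPolynomial.X 0) :
    k[X] →ₐ[k] MvPolynomial (Fin 2) k) (MvPolynomial.X 0)

theorem Phi_X0 (t : k) : Phi t (MvPolynomial.X 0) = X := by
  unfold Phi
  rw [MvPolynomial.aeval_X]
  rfl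

theorem Phi_X1 (t : k) : Phi t (MvPolynomial.X 1) = Yv + C (C t) * X := by
  unfold Phi
  rw [MvPolynomial.aeval_X]
  rfl

theorem Psi_X (t : k) : Psi t X = MvPolynomial.X 0 := by
  unfold Psi
  rw [aevalTower_X]

theorem Psi_Y (t : k) : Psi t Yv = MvPolynomial.X 1 - MvPolynomial.C t * MvPolynomial.X 0 := by
  unfold Psi Yv
  rw [aevalTower_C, aeval_X]

theorem Psi_CC (t c : k) : Psi t (C (C c)) = MvPolynomial.C c := by
  unfold Psi
  rw [aevalTower_C, aeval_C]
  rfl

theorem Phi_C (t c : k) : Phi t (MvPolynomial.C c) = C (C c) := by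
  unfold Phi
  rw [MvPolynomial.aeval_C]
  rfl

theorem Psi_comp_Phi (t : k) : (Psi t).comp (Phi t) = AlgHom.id k _ := by
  apply MvPolynomial.algHom_ext
  intro i
  fin_cases i
  · change Psi t (Phi t (MvPolynomial.X 0)) = MvPolynomial.X 0
    rw [Phi_X0, Psi_X]
  · change Psi t (Phi t (MvPolynomial.X 1)) = MvPolynomial.X 1
    rw [Phi_X1, map_add, map_mul, Psi_Y, Psi_CC, Psi_X]
    ring

theorem Phi_comp_Psi (t : k) : (Phi t).comp (Psi t) = AlgHom.id k _ := by
  apply Polynomial.algHom_ext'
  · apply Polynomial.algHom_ext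
    change Phi t (Psi t Yv) = Yv
    rw [Psi_Y, map_sub, map_mul, Phi_X1, Phi_X0, Phi_C]
    ring
  · change Phi t (Psi t X) = X
    rw [Psi_X, Phi_X0]

/-- the shear as an isomorphism -/
noncomputable def PhiE (t : k) : MvPolynomial (Fin 2) k ≃ₐ[k] k[X][X] :=
  AlgEquiv.ofAlgHom (Phi t) (Psi t) (Phi_comp_Psi t) (Psi_comp_Phi t)

theorem irreducible_Phi (t : k) {f : MvPolynomial (Fin 2) k} (hf : Irreducible f) :
    Irreducible (Phi t f) :=
  (MulEquiv.irreducible_iff (PhiE t).toMulEquiv).mpr hf


theorem deg2 (m : Fin 2 →₀ ℕ) : (m.sum fun _ e => e) = m 0 + m 1 := by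
  rw [Finsupp.sum_fintype _ _ (fun _ => rfl), Fin.sum_univ_two]

theorem Phi_eq_sum (t : k) (f : MvPolynomial (Fin 2) k) :
    Phi t f = ∑ m ∈ f.support,
      C (C (f.coeff m)) * (X ^ (m 0) * (Yv + C (C t) * X) ^ (m 1)) := by
  unfold Phi
  rw [MvPolynomial.aeval_def, MvPolynomial.eval₂_eq']
  apply Finset.sum_congr rfl
  intro m _
  rw [Fin.prod_univ_two]
  rfl

theorem natDegree_lin_le (t : k) : (Yv + C (C t) * X : k[X][X]).natDegree ≤ 1 := by
  apply (natDegree_add_le _ _).trans
  apply max_le
  · rw [natDegree_C]; exact Nat.zero_le _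
  · exact (natDegree_C_mul_le _ _).trans natDegree_X_le

theorem coeff_lin_one (t : k) : (Yv + C (C t) * X : k[X][X]).coeff 1 = C t := by
  rw [coeff_add, coeff_C_mul, coeff_X_one, mul_one, coeff_C]
  simp

theorem natDegree_term_le (t : k) (c : k) (a b : ℕ) :
    (C (C c) * (X ^ a * (Yv + C (C t) * X) ^ b) : k[X][X]).natDegree ≤ a + b := by
  apply (natDegree_C_mul_le _ _).trans
  apply natDegree_mul_le.trans
  apply add_le_add
  · exact natDegree_X_pow_le a
  · apply natDegree_pow_le.trans
    calc b * (Yv + C (C t) * X : k[X][X]).natDegree ≤ b * 1 :=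
          Nat.mul_le_mul_left b (natDegree_lin_le t)
      _ = b := mul_one b

theorem coeff_term (t : k) (c : k) (a b : ℕ) :
    (C (C c) * (X ^ a * (Yv + C (C t) * X) ^ b) : k[X][X]).coeff (a + b) = C (c * t ^ b) := by
  rw [coeff_C_mul, add_comm a b, coeff_X_pow_mul]
  have h1 := coeff_pow_of_natDegree_le (natDegree_lin_le t) (m := b)
  rw [mul_one] at h1
  rw [h1, coeff_lin_one, ← C_pow, ← C_mul]

theorem natDegree_Phi_le (t : k) (f : MvPolynomial (Fin 2) k) :
    (Phi t f).natDegree ≤ f.totalDegree := by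
  rw [Phi_eq_sum]
  apply natDegree_sum_le_of_forall_le
  intro m hm
  apply (natDegree_term_le t _ _ _).trans
  rw [← deg2]
  exact MvPolynomial.le_totalDegree hm

open scoped Classical in
/-- the top form of `f` evaluated at `(1, T)` -/
noncomputable def topPoly (f : MvPolynomial (Fin 2) k) : k[X] :=
  ∑ m ∈ f.support.filter (fun m => m 0 + m 1 = f.totalDegree), C (f.coeff m) * X ^ (m 1)

theorem coeff_Phi (t : k) (f : MvPolynomial (Fin 2) k) :
    (Phi t f).coeff f.totalDegree = C ((topPoly f).eval t) := by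
  classical
  rw [Phi_eq_sum, finsetSum_coeff, topPoly, eval_finsetSum, map_sum, Finset.sum_filter]
  apply Finset.sum_congr rfl
  intro m hm
  split_ifs with h
  · rw [← h, coeff_term, eval_mul, eval_C, eval_pow, eval_X]
  · apply coeff_eq_zero_of_natDegree_lt
    apply lt_of_le_of_lt (natDegree_term_le t _ _ _)
    have h1 := MvPolynomial.le_totalDegree hm
    rw [deg2] at h1
    exact lt_of_le_of_ne h1 h

theorem topPoly_ne_zero {f : MvPolynomial (Fin 2) k} (hf : f ≠ 0) : topPoly f ≠ 0 := by
  classical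
  have hne : f.support.Nonempty := by
    rw [Finset.nonempty_iff_ne_empty, Ne, MvPolynomial.support_eq_empty]
    exact hf
  obtain ⟨m₀, hm₀, hsup⟩ := Finset.exists_mem_eq_sup f.support hne (fun s => s.sum fun _ e => e)
  have hd : m₀ 0 + m₀ 1 = f.totalDegree := by
    rw [← deg2]
    exact hsup.symm
  intro h0
  have h1 : (topPoly f).coeff (m₀ 1) = f.coeff m₀ := by
    unfold topPoly
    rw [finsetSum_coeff, Finset.sum_eq_single m₀]
    · rw [coeff_C_mul, coeff_X_pow, if_pos rfl, mul_one]
    · intro m hm hne'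
      rw [Finset.mem_filter] at hm
      rw [coeff_C_mul, coeff_X_pow, if_neg, mul_zero]
      intro h2
      apply hne'
      ext i
      fin_cases i
      · change m 0 = m₀ 0
        omega
      · change m 1 = m₀ 1
        omega
    · intro h2
      exact absurd (Finset.mem_filter.mpr ⟨hm₀, hd⟩) h2
  rw [h0, coeff_zero] at h1
  exact (MvPolynomial.mem_support_iff.mp hm₀) h1.symm

end shear


section field

universe u v

variable {k : Type u} {K : Type v} [Field k] [Field K] [Algebra k K]

/-- evaluation at `(x; y - t x)` -/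
noncomputable def Theta (x y : K) (t : k) : k[X][X] →ₐ[k] K :=
  aevalTower (aeval (y - algebraMap k K t * x)) x

theorem Theta_X (x y : K) (t : k) : Theta x y t X = x := by
  unfold Theta
  rw [aevalTower_X]

theorem Theta_C (x y : K) (t : k) (g : k[X]) :
    Theta x y t (C g) = aeval (y - algebraMap k K t * x) g := by
  unfold Theta
  rw [aevalTower_C]

theorem Theta_comp_Phi (x y : K) (t : k) :
    (Theta x y t).comp (Phi t) = MvPolynomial.aeval ![x, y] := by
  apply MvPolynomial.algHom_ext
  intro i
  fin_cases i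
  · change Theta x y t (Phi t (MvPolynomial.X 0)) = MvPolynomial.aeval ![x, y] (MvPolynomial.X 0)
    rw [Phi_X0, Theta_X, MvPolynomial.aeval_X]
    rfl
  · change Theta x y t (Phi t (MvPolynomial.X 1)) = MvPolynomial.aeval ![x, y] (MvPolynomial.X 1)
    rw [Phi_X1, map_add, map_mul, Theta_X, Theta_C, Theta_C, aeval_X, aeval_C,
      MvPolynomial.aeval_X]
    change y - algebraMap k K t * x + algebraMap k K t * x = y
    ring

theorem Theta_eq_eval₂ (x y : K) (t : k) (F : k[X][X]) :
    Theta x y t F = eval₂ (aeval (y - algebraMap k K t * x) : k[X] →ₐ[k] K).toRingHom x F := rfl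

variable [IsAlgClosed k] (hK : IsFunctionField k K)

include hK in
/-- for generic `t` the poles of `x` are poles of `y - t x` of at least the same order -/
theorem exists_finset_bad (x y : K) : ∃ B : Finset k, ∀ t ∉ B, ∀ P : Place k K,
    P.1 x ≤ max 1 (P.1 (y - algebraMap k K t * x)) := by
  classical
  have hex : ∀ P : Place k K, ∃ c : k, P.1 (y / x) ≤ 1 → P.1 (y / x - algebraMap k K c) < 1 := by
    intro P
    by_cases h : P.1 (y / x) ≤ 1
    · obtain ⟨c, hc⟩ := FF.exists_sub_val_lt_one hK P h
      exact ⟨c, fun _ => hc⟩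
    · exact ⟨0, fun h' => absurd h' h⟩
  choose c hc using hex
  refine ⟨(FF.finite_support_ord hK x).toFinset.image c, ?_⟩
  intro t ht P
  by_cases hx1 : P.1 x ≤ 1
  · exact hx1.trans (le_max_left _ _)
  rw [not_le] at hx1
  have hx0 : x ≠ 0 := by
    rintro rfl
    rw [map_zero] at hx1
    exact absurd hx1 (not_lt.mpr zero_le)
  have hPmem : P ∈ (FF.finite_support_ord hK x).toFinset := by
    rw [Set.Finite.mem_toFinset, Function.mem_support]
    intro h0
    rw [FF.val_eq_exp_neg_ord P hx0, h0, neg_zero, exp_zero] at hx1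
    exact lt_irrefl _ hx1
  have htc : t ≠ c P := by
    intro h
    apply ht
    rw [h]
    exact Finset.mem_image_of_mem c hPmem
  apply le_trans _ (le_max_right _ _)
  by_cases hyx : P.1 y ≤ P.1 x
  · have h1 : P.1 (y / x) ≤ 1 := by
      rw [map_div₀]
      exact div_le_one_of_le₀ hyx zero_le
    have h2 := hc P h1
    have h3 : P.1 (y / x - algebraMap k K t) = 1 := by
      have e1 : y / x - algebraMap k K t =
          (y / x - algebraMap k K (c P)) + algebraMap k K (c P - t) := by
        rw [map_sub]; ring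
      have h4 : P.1 (algebraMap k K (c P - t)) = 1 :=
        FF.val_algebraMap P (sub_ne_zero.mpr (Ne.symm htc))
      rw [e1, Valuation.map_add_eq_of_lt_right]
      · exact h4
      · rw [h4]; exact h2
    have e2 : y - algebraMap k K t * x = x * (y / x - algebraMap k K t) := by
      field_simp
    rw [e2, map_mul, h3, mul_one]
  · rw [not_le] at hyx
    have h1 : P.1 (algebraMap k K t * x) < P.1 y := by
      rw [map_mul]
      exact lt_of_le_of_lt (mul_le_of_le_one_left' (P.2.1 t)) hyx
    rw [Valuation.map_sub_eq_of_lt_left _ h1]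
    exact hyx.le


theorem max_one_val (P : Place k K) {z : K} (hz : z ≠ 0) :
    exp (max (-P.ord z) 0) = max 1 (P.1 z) := by
  rw [FF.val_eq_exp_neg_ord P hz]
  rcases le_total (-P.ord z) 0 with h | h
  · rw [max_eq_right h, exp_zero, max_eq_left]
    rw [← exp_zero, exp_le_exp]
    exact h
  · rw [max_eq_left h, max_eq_right]
    rw [← exp_zero, exp_le_exp]
    exact h

include hK in
theorem mapDiv_eq_poleDiv (x y : K) (t : k) (hy' : y - algebraMap k K t * x ≠ 0)
    (ht : ∀ P : Place k K, P.1 x ≤ max 1 (P.1 (y - algebraMap k K t * x))) :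
    mapDiv k ![(1 : K), x, y] = FF.poleDiv k (y - algebraMap k K t * x) := by
  have heff : (1 : K) ∈ Submodule.span k (Set.range ![(1 : K), x, y]) :=
    Submodule.subset_span ⟨0, rfl⟩
  apply le_antisymm
  · rw [FAI.mapDiv_le_iff hK _ heff]
    have hx : x ∈ L (FF.poleDiv k (y - algebraMap k K t * x)) := by
      intro P
      rw [FF.poleDiv_apply hK, max_one_val P hy']
      exact ht P
    have h1 : (1 : K) ∈ L (FF.poleDiv k (y - algebraMap k K t * x)) := by
      intro P
      rw [FF.poleDiv_apply hK, max_one_val P hy', map_one]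
      exact le_max_left _ _
    have hy'm : y - algebraMap k K t * x ∈ L (FF.poleDiv k (y - algebraMap k K t * x)) := by
      intro P
      rw [FF.poleDiv_apply hK, max_one_val P hy']
      exact le_max_right _ _
    have hy : y ∈ L (FF.poleDiv k (y - algebraMap k K t * x)) := by
      have e : y = (y - algebraMap k K t * x) + t • x := by
        rw [Algebra.smul_def]; ring
      have hsum := Submodule.add_mem _ hy'm (Submodule.smul_mem _ t hx)
      rwa [← e] at hsum
    intro i
    fin_cases i
    · exact h1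
    · exact hx
    · exact hy
  · intro P
    rw [FF.poleDiv_apply hK]
    apply max_le
    · have hmem : y - algebraMap k K t * x ∈ Submodule.span k (Set.range ![(1 : K), x, y]) := by
        have e : y - algebraMap k K t * x = y - t • x := by rw [Algebra.smul_def]
        rw [e]
        exact Submodule.sub_mem _ (Submodule.subset_span ⟨2, rfl⟩)
          (Submodule.smul_mem _ t (Submodule.subset_span ⟨1, rfl⟩))
      have h2 := FF.span_le_L_mapDiv hK ![(1 : K), x, y] hmem P
      rw [FF.val_le_exp_iff P hy'] at h2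
      omega
    · have h3 := FF.neg_mapDiv_le_ord hK ![(1 : K), x, y] P 0
      have h4 : P.ord ((![(1 : K), x, y]) 0) = 0 := FF.ord_one P
      rw [h4] at h3
      omega

omit [IsAlgClosed k] in
/-- the degree of `K` over `k(y')` from an irreducible relation monic in `x` -/
theorem finrank_eq_of_irreducible (x y' : K) (htr : Transcendental k y') {F : k[X][X]}
    (hF : Irreducible F) {d : ℕ} {c : k} (hc : c ≠ 0) (hlead : F.coeff d = C c)
    (hdeg : F.natDegree ≤ d)
    (hroot : eval₂ (aeval y' : k[X] →ₐ[k] K).toRingHom x F = 0)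
    (hgen : (k⟮y'⟯)⟮x⟯ = ⊤) : finrank k⟮y'⟯ K = d := by
  set E := k⟮y'⟯ with hE
  let ρ := RatFunc.algEquivOfTranscendental y' htr
  have hnat : F.natDegree = d := by
    apply le_antisymm hdeg
    apply le_natDegree_of_ne_zero
    rw [hlead, Ne, C_eq_zero]
    exact hc
  have hprim : F.IsPrimitive := by
    rw [isPrimitive_iff_isUnit_of_C_dvd]
    intro r hr
    have h1 := (C_dvd_iff_dvd_coeff r F).mp hr d
    rw [hlead] at h1
    exact isUnit_of_dvd_unit h1 (isUnit_C.mpr (IsUnit.mk0 c hc))
  have hG₀ : Irreducible (F.map (algebraMap k[X] (RatFunc k))) :=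
    (IsPrimitive.irreducible_iff_irreducible_map_fraction_map hprim).mp hF
  set G := (F.map (algebraMap k[X] (RatFunc k))).map (ρ : RatFunc k →+* E) with hG
  have hGirr : Irreducible G := by
    have := (MulEquiv.irreducible_iff (mapEquiv ρ.toRingEquiv).toMulEquiv
      (x := F.map (algebraMap k[X] (RatFunc k)))).mpr hG₀
    exact this
  have hcomp : ((algebraMap E K).comp (ρ : RatFunc k →+* E)).comp (algebraMap k[X] (RatFunc k)) =
      (aeval y' : k[X] →ₐ[k] K).toRingHom := by
    apply RingHom.ext
    intro g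
    change algebraMap E K (ρ (algebraMap k[X] (RatFunc k) g)) = aeval y' g
    rw [RatFunc.algEquivOfTranscendental_algebraMap, ← aeval_algebraMap_apply,
      IntermediateField.AdjoinSimple.algebraMap_gen]
  have hGroot : aeval x G = 0 := by
    rw [aeval_def, hG, eval₂_map, eval₂_map, hcomp]
    exact hroot
  have hGnat : G.natDegree = d := by
    rw [hG, natDegree_map_eq_of_injective (RingHom.injective _),
      natDegree_map_eq_of_injective (IsFractionRing.injective k[X] (RatFunc k)), hnat]
  have hG0 : G ≠ 0 := hGirr.ne_zero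
  have hint : IsIntegral E x := isAlgebraic_iff_isIntegral.mp ⟨G, hG0, hGroot⟩
  have hmin := minpoly.eq_of_irreducible hGirr hGroot
  have h1 : finrank E E⟮x⟯ = (minpoly E x).natDegree := IntermediateField.adjoin.finrank hint
  rw [← hmin, natDegree_mul_C (inv_ne_zero (leadingCoeff_ne_zero.mpr hG0)), hGnat] at h1
  rw [← h1, hgen, IntermediateField.finrank_top']


include hK in
/-- S11070 -/
theorem main (x y : K) (hxy : IntermediateField.adjoin k ({x, y} : Set K) = ⊤)
    (f : MvPolynomial (Fin 2) k) (hf : Irreducible f)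
    (hfxy : MvPolynomial.aeval ![x, y] f = 0) :
    (mapDiv k ![(1 : K), x, y]).deg = f.totalDegree := by
  classical
  have hf0 : f ≠ 0 := hf.ne_zero
  obtain ⟨B, hB⟩ := exists_finset_bad hK x y
  have hq0 := topPoly_ne_zero hf0
  obtain ⟨t, ht⟩ := Infinite.exists_notMem_finset (B ∪ (topPoly f).roots.toFinset)
  rw [Finset.mem_union, not_or] at ht
  obtain ⟨ht1, ht2⟩ := ht
  have hqt : (topPoly f).eval t ≠ 0 := by
    intro h0
    apply ht2
    rw [Multiset.mem_toFinset, mem_roots hq0]
    exact h0
  set y' := y - algebraMap k K t * x with hy'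
  have hF := irreducible_Phi t hf
  have hlead := coeff_Phi t f
  have hdeg := natDegree_Phi_le t f
  have hroot : eval₂ (aeval y' : k[X] →ₐ[k] K).toRingHom x (Phi t f) = 0 := by
    have h1 := congrArg (fun φ => φ f) (Theta_comp_Phi x y t)
    simp only [AlgHom.comp_apply] at h1
    rw [hfxy, Theta_eq_eval₂] at h1
    exact h1
  have hy'nc : y' ∉ Set.range (algebraMap k K) := by
    rintro ⟨c₀, hc₀⟩
    have hev : (aeval y' : k[X] →ₐ[k] K).toRingHom = (algebraMap k K).comp (evalRingHom c₀) := by
      apply RingHom.ext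
      intro g
      change aeval y' g = algebraMap k K (eval c₀ g)
      rw [← hc₀, aeval_algebraMap_apply_eq_algebraMap_eval]
    have hp : aeval x ((Phi t f).map (evalRingHom c₀)) = 0 := by
      rw [aeval_def, eval₂_map, ← hev]
      exact hroot
    have hp0 : (Phi t f).map (evalRingHom c₀) ≠ 0 := by
      intro h0
      have h2 : ((Phi t f).map (evalRingHom c₀)).coeff f.totalDegree = 0 := by
        rw [h0, coeff_zero]
      rw [coeff_map, hlead] at h2
      apply hqt
      simpa using h2
    have hxalg : IsAlgebraic k x := ⟨_, hp0, hp⟩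
    obtain ⟨cx, hcx⟩ := hK.2 x hxalg
    have hyr : y ∈ Set.range (algebraMap k K) := by
      refine ⟨c₀ + t * cx, ?_⟩
      rw [map_add, map_mul, hc₀, hcx, hy']
      ring
    have hle : IntermediateField.adjoin k ({x, y} : Set K) ≤ ⊥ := by
      rw [IntermediateField.adjoin_le_iff]
      intro z hz
      rw [Set.mem_insert_iff, Set.mem_singleton_iff] at hz
      rw [SetLike.mem_coe, IntermediateField.mem_bot]
      rcases hz with rfl | rfl
      · exact ⟨cx, hcx⟩
      · exact hyr
    rw [hxy] at hle
    obtain ⟨⟨x₀, hx₀, -⟩, -⟩ := hK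
    have : x₀ ∈ (⊥ : IntermediateField k K) := hle IntermediateField.mem_top
    rw [IntermediateField.mem_bot] at this
    obtain ⟨c, rfl⟩ := this
    exact hx₀ (isAlgebraic_algebraMap c)
  have htr := FF.transcendental_of_not_mem_range hK hy'nc
  have hy'0 : y' ≠ 0 := by
    intro h0
    exact hy'nc ⟨0, by rw [map_zero, h0]⟩
  have hgen : (k⟮y'⟯)⟮x⟯ = ⊤ := by
    rw [eq_top_iff]
    intro z _
    have hz : z ∈ IntermediateField.adjoin k ({x, y} : Set K) := by
      rw [hxy]; exact IntermediateField.mem_top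
    have hle : IntermediateField.adjoin k ({x, y} : Set K) ≤
        ((k⟮y'⟯)⟮x⟯).restrictScalars k := by
      rw [IntermediateField.adjoin_le_iff]
      intro w hw
      rw [Set.mem_insert_iff, Set.mem_singleton_iff] at hw
      have hxm : x ∈ (k⟮y'⟯)⟮x⟯ := IntermediateField.mem_adjoin_simple_self _ x
      have hym : y' ∈ (k⟮y'⟯)⟮x⟯ := by
        have := IntermediateField.algebraMap_mem ((k⟮y'⟯)⟮x⟯)
          (IntermediateField.AdjoinSimple.gen k y')
        rwa [IntermediateField.AdjoinSimple.algebraMap_gen] at this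
      rcases hw with rfl | rfl
      · exact hxm
      · have e : w = y' + algebraMap k K t * x := by rw [hy']; ring
        change w ∈ (k⟮y'⟯)⟮x⟯
        rw [e]
        refine add_mem hym (mul_mem ?_ hxm)
        have := IntermediateField.algebraMap_mem ((k⟮y'⟯)⟮x⟯) (algebraMap k k⟮y'⟯ t)
        rwa [← IsScalarTower.algebraMap_apply] at this
    exact hle hz
  rw [mapDiv_eq_poleDiv hK x y t hy'0 (hB t ht1), FF.deg_poleDiv_eq hK hy'nc,
    finrank_eq_of_irreducible x y' htr hF hqt hlead hdeg hroot hgen]

end field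

end Groth.Agent.Lib.helper16.FPD
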