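import Groth.Agent.Lib.helper16.FFIndep

/-! Helper library (helper16): linear series `V ⊆ L(D)` and vanishing at places. -/

set_option autoImplicit false

namespace Groth.Agent.Lib.helper16.FF

open FunFld WithZero Polynomial Module

variable {k K : Type*} [Field k] [Field K] [Algebra k K]

theorem L_inf_L (D₁ D₂ : Divisor k K) : L D₁ ⊓ L D₂ = L (D₁ ⊓ D₂) := by
  ext x
  constructor
  · rintro ⟨h1, h2⟩ P
    rw [Finsupp.inf_apply]
    rcases le_total (D₁ P) (D₂ P) with h | h
    · rw [inf_eq_left.mpr h]; exact h1 P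
    · rw [inf_eq_right.mpr h]; exact h2 P
  · intro h
    exact ⟨L_mono inf_le_left h, L_mono inf_le_right h⟩

theorem finiteDimensional_inf_L (hK : IsFunctionField k K) (V : Submodule k K) (D : Divisor k K) :
    FiniteDimensional k ↥(V ⊓ L D) := by
  have := finiteDimensional_L hK D
  exact Submodule.finiteDimensional_of_le inf_le_right

theorem inf_L_eq_bot_of_deg_neg (hK : IsFunctionField k K) (V : Submodule k K) {D : Divisor k K}
    (h : D.deg < 0) : V ⊓ L D = ⊥ := by
  rw [L_eq_bot_of_deg_neg hK D h, inf_bot_eq]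

/-- vanishing at two distinct places: the spaces `V(-nP)` and `V(-mQ)` are disjoint when
`n + m > deg D` -/
theorem finrank_add_finrank_le (hK : IsFunctionField k K) {D : Divisor k K}
    {V : Submodule k K} (hV : V ≤ L D) {P Q : Place k K} (hPQ : P ≠ Q) (hP : P.deg = 1)
    (hQ : Q.deg = 1) {n m : ℤ} (hn : 0 ≤ n) (hm : 0 ≤ m) (hnm : D.deg < n + m) :
    finrank k ↥(V ⊓ L (D - Finsupp.single P n)) + finrank k ↥(V ⊓ L (D - Finsupp.single Q m)) ≤
      finrank k ↥V := by
  have hfdV : FiniteDimensional k V := by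
    have := finiteDimensional_L hK D
    exact Submodule.finiteDimensional_of_le hV
  have h1 := finiteDimensional_inf_L hK V (D - Finsupp.single P n)
  have h2 := finiteDimensional_inf_L hK V (D - Finsupp.single Q m)
  have hdis : (V ⊓ L (D - Finsupp.single P n)) ⊓ (V ⊓ L (D - Finsupp.single Q m)) = ⊥ := by
    rw [eq_bot_iff]
    have hle : (V ⊓ L (D - Finsupp.single P n)) ⊓ (V ⊓ L (D - Finsupp.single Q m)) ≤
        L (D - Finsupp.single P n) ⊓ L (D - Finsupp.single Q m) :=
      inf_le_inf inf_le_right inf_le_right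
    refine le_trans hle ?_
    rw [L_inf_L]
    have hle2 : (D - Finsupp.single P n) ⊓ (D - Finsupp.single Q m) ≤
        D - Finsupp.single P n - Finsupp.single Q m := by
      intro R
      rw [Finsupp.inf_apply]
      simp only [Finsupp.sub_apply]
      by_cases hRP : R = P
      · subst hRP
        rw [Finsupp.single_eq_same, Finsupp.single_eq_of_ne hPQ]
        simp
      · rw [Finsupp.single_eq_of_ne hRP]
        by_cases hRQ : R = Q
        · subst hRQ
          rw [Finsupp.single_eq_same]
          simp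
        · rw [Finsupp.single_eq_of_ne hRQ]
          simp
    refine le_trans (L_mono hle2) ?_
    rw [L_eq_bot_of_deg_neg hK]
    rw [deg_sub, deg_sub, deg_single, deg_single, hP, hQ]
    push_cast
    omega
  have h3 := Submodule.finrank_sup_add_finrank_inf_eq (V ⊓ L (D - Finsupp.single P n))
    (V ⊓ L (D - Finsupp.single Q m))
  rw [hdis, finrank_bot, add_zero] at h3
  rw [← h3]
  exact Submodule.finrank_mono (sup_le inf_le_left inf_le_left)

theorem ell_le_deg_add_one (hK : IsFunctionField k K) (D : Divisor k K) (hd : 0 ≤ D.deg) :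
    (ell D : ℤ) ≤ D.deg + 1 := by
  by_cases h0 : ell D = 0
  · rw [h0]; push_cast; omega
  · obtain ⟨x, hx0, hx⟩ := exists_ne_zero_mem_L hK (Nat.pos_of_ne_zero h0)
    have h1 := (nonneg_add_div_iff hK D hx0).mp hx
    have h2 := ell_sub_ell_le hK h1
    rw [ell_add_div hK D hx0, ell_zero hK, deg_add, deg_div_eq_zero hK x, deg_zero] at h2
    push_cast at h2
    omega

theorem L_sub_inf_L_sub_le {D : Divisor k K} {P Q : Place k K} (hPQ : P ≠ Q) {n m : ℤ}
    (hn : 0 ≤ n) (hm : 0 ≤ m) :
    L (D - Finsupp.single P n) ⊓ L (D - Finsupp.single Q m) ≤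
      L (D - Finsupp.single P n - Finsupp.single Q m) := by
  rw [L_inf_L]
  refine L_mono ?_
  intro R
  rw [Finsupp.inf_apply]
  simp only [Finsupp.sub_apply]
  by_cases hRP : R = P
  · subst hRP
    rw [Finsupp.single_eq_same, Finsupp.single_eq_of_ne hPQ]
    simp
  · rw [Finsupp.single_eq_of_ne hRP]
    by_cases hRQ : R = Q
    · subst hRQ
      rw [Finsupp.single_eq_same]
      simp
    · rw [Finsupp.single_eq_of_ne hRQ]
      simp

/-- a nonzero element of `L(D)` with `deg D = 0` has divisor `-D` -/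
theorem div_eq_neg_of_mem_L_of_deg_eq_zero (hK : IsFunctionField k K) {D : Divisor k K}
    (hD : D.deg = 0) {x : K} (hx0 : x ≠ 0) (hx : x ∈ L D) : FunFld.div k x = -D := by
  have h1 := (nonneg_add_div_iff hK D hx0).mp hx
  have h2 : (0 : Divisor k K) = D + FunFld.div k x := by
    apply eq_of_le_of_deg_eq hK h1
    rw [deg_zero, deg_add, hD, deg_div_eq_zero hK x, add_zero]
  have : FunFld.div k x = (D + FunFld.div k x) - D := by abel
  rw [this, ← h2, zero_sub]

/-- vanishing at two distinct places: upper bound with equality case -/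
theorem finrank_add_finrank_le_add_one (hK : IsFunctionField k K) {D : Divisor k K}
    {V : Submodule k K} (hV : V ≤ L D) {P Q : Place k K} (hPQ : P ≠ Q) (hP : P.deg = 1)
    (hQ : Q.deg = 1) {n m : ℤ} (hn : 0 ≤ n) (hm : 0 ≤ m) (hnm : D.deg = n + m) :
    finrank k ↥(V ⊓ L (D - Finsupp.single P n)) + finrank k ↥(V ⊓ L (D - Finsupp.single Q m)) ≤
      finrank k ↥V + 1 := by
  have hfdV : FiniteDimensional k V := by
    have := finiteDimensional_L hK D
    exact Submodule.finiteDimensional_of_le hV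
  have h1 := finiteDimensional_inf_L hK V (D - Finsupp.single P n)
  have h2 := finiteDimensional_inf_L hK V (D - Finsupp.single Q m)
  have hfd3 := finiteDimensional_L hK (D - Finsupp.single P n - Finsupp.single Q m)
  have hle : (V ⊓ L (D - Finsupp.single P n)) ⊓ (V ⊓ L (D - Finsupp.single Q m)) ≤
      L (D - Finsupp.single P n - Finsupp.single Q m) :=
    le_trans (inf_le_inf inf_le_right inf_le_right) (L_sub_inf_L_sub_le hPQ hn hm)
  have hdeg : (D - Finsupp.single P n - Finsupp.single Q m).deg = 0 := by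
    rw [deg_sub, deg_sub, deg_single, deg_single, hP, hQ]
    push_cast
    omega
  have h4 := ell_le_deg_add_one hK (D - Finsupp.single P n - Finsupp.single Q m) (by omega)
  rw [hdeg] at h4
  have h5 : finrank k ↥((V ⊓ L (D - Finsupp.single P n)) ⊓ (V ⊓ L (D - Finsupp.single Q m))) ≤ 1 := by
    have := Submodule.finrank_mono hle
    unfold ell at h4
    omega
  have h3 := Submodule.finrank_sup_add_finrank_inf_eq (V ⊓ L (D - Finsupp.single P n))
    (V ⊓ L (D - Finsupp.single Q m))
  have h6 : finrank k ↥((V ⊓ L (D - Finsupp.single P n)) ⊔ (V ⊓ L (D - Finsupp.single Q m))) ≤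
      finrank k ↥V := Submodule.finrank_mono (sup_le inf_le_left inf_le_left)
  omega

/-- equality case: a member of `V` with divisor exactly `nP + mQ - D` -/
theorem exists_div_eq_of_finrank_lt (hK : IsFunctionField k K) {D : Divisor k K}
    {V : Submodule k K} (hV : V ≤ L D) {P Q : Place k K} (hPQ : P ≠ Q) (hP : P.deg = 1)
    (hQ : Q.deg = 1) {n m : ℤ} (hn : 0 ≤ n) (hm : 0 ≤ m) (hnm : D.deg = n + m)
    (hlt : finrank k ↥V <
      finrank k ↥(V ⊓ L (D - Finsupp.single P n)) + finrank k ↥(V ⊓ L (D - Finsupp.single Q m))) :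
    ∃ s : K, s ≠ 0 ∧ s ∈ V ∧
      FunFld.div k s = Finsupp.single P n + Finsupp.single Q m - D := by
  have hfdV : FiniteDimensional k V := by
    have := finiteDimensional_L hK D
    exact Submodule.finiteDimensional_of_le hV
  have h1 := finiteDimensional_inf_L hK V (D - Finsupp.single P n)
  have h2 := finiteDimensional_inf_L hK V (D - Finsupp.single Q m)
  have h3 := Submodule.finrank_sup_add_finrank_inf_eq (V ⊓ L (D - Finsupp.single P n))
    (V ⊓ L (D - Finsupp.single Q m))
  have h6 : finrank k ↥((V ⊓ L (D - Finsupp.single P n)) ⊔ (V ⊓ L (D - Finsupp.single Q m))) ≤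
      finrank k ↥V := Submodule.finrank_mono (sup_le inf_le_left inf_le_left)
  have h7 : 0 < finrank k
      ↥((V ⊓ L (D - Finsupp.single P n)) ⊓ (V ⊓ L (D - Finsupp.single Q m))) := by omega
  obtain ⟨s, hs⟩ := Module.finrank_pos_iff_exists_ne_zero.mp h7
  have hs0 : (s : K) ≠ 0 := fun h0 => hs (Subtype.ext h0)
  have hsmem := s.2
  have hsV : (s : K) ∈ V := hsmem.1.1
  have hsL : (s : K) ∈ L (D - Finsupp.single P n - Finsupp.single Q m) :=
    L_sub_inf_L_sub_le hPQ hn hm ⟨hsmem.1.2, hsmem.2.2⟩
  have hdeg : (D - Finsupp.single P n - Finsupp.single Q m).deg = 0 := by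
    rw [deg_sub, deg_sub, deg_single, deg_single, hP, hQ]
    push_cast
    omega
  refine ⟨s, hs0, hsV, ?_⟩
  rw [div_eq_neg_of_mem_L_of_deg_eq_zero hK hdeg hs0 hsL]
  abel

/-- if a sum of integers each at most one is at least two, two distinct terms are at least one -/
theorem exists_two_of_two_le_sum (N : ℕ) (e : ℕ → ℤ) (he : ∀ n < N, e n ≤ 1)
    (hs : 2 ≤ ∑ n ∈ Finset.range N, e n) :
    ∃ n₁ n₂ : ℕ, n₁ < n₂ ∧ n₂ < N ∧ 1 ≤ e n₁ ∧ 1 ≤ e n₂ := by
  by_contra hcon
  push Not at hcon
  by_cases hex : ∃ n₁ < N, 1 ≤ e n₁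
  · obtain ⟨n₁, hn₁, h1⟩ := hex
    have hothers : ∀ n ∈ (Finset.range N).erase n₁, e n ≤ 0 := by
      intro n hn
      rw [Finset.mem_erase, Finset.mem_range] at hn
      by_contra hpos
      have hpos' : 1 ≤ e n := by omega
      rcases lt_or_gt_of_ne hn.1 with hlt | hgt
      · have := hcon n n₁ hlt hn₁ hpos'
        omega
      · have := hcon n₁ n hgt hn.2 h1
        omega
    have hsum := Finset.add_sum_erase (Finset.range N) e (Finset.mem_range.mpr hn₁)
    have h0 : ∑ n ∈ (Finset.range N).erase n₁, e n ≤ 0 := Finset.sum_nonpos hothers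
    have := he n₁ hn₁
    omega
  · push Not at hex
    have h0 : ∑ n ∈ Finset.range N, e n ≤ 0 := by
      apply Finset.sum_nonpos
      intro n hn
      have := hex n (Finset.mem_range.mp hn)
      omega
    omega

/-- on a curve of positive genus a divisor of degree one has `ℓ ≤ 1` -/
theorem ell_le_one_of_deg_eq_one (hK : IsFunctionField k K) (hg : 0 < genus k K)
    {E : Divisor k K} (hE : E.deg = 1) : ell E ≤ 1 := by
  by_cases h0 : ell E = 0
  · omega
  · obtain ⟨x, hx0, hx⟩ := exists_ne_zero_mem_L hK (Nat.pos_of_ne_zero h0)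
    have h1 := (nonneg_add_div_iff hK E hx0).mp hx
    have h2 : (E + FunFld.div k x).deg = 1 := by
      rw [deg_add, deg_div_eq_zero hK x, hE, add_zero]
    obtain ⟨R, hR, hER⟩ := eq_single_of_deg_eq_one hK h1 h2
    rw [← ell_add_div hK E hx0, hER, ell_single_eq_one hK hg hR]

theorem finrank_inf_L_le_ell (hK : IsFunctionField k K) (V : Submodule k K) (D : Divisor k K) :
    finrank k ↥(V ⊓ L D) ≤ ell D := by
  have := finiteDimensional_L hK D
  exact Submodule.finrank_mono inf_le_right

/-- vanishing one more time at `P` cuts the dimension by at most `deg P` -/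
theorem finrank_inf_L_add_single_le (hK : IsFunctionField k K) (V : Submodule k K)
    (D : Divisor k K) (P : Place k K) :
    finrank k ↥(V ⊓ L (D + Finsupp.single P 1)) ≤ finrank k ↥(V ⊓ L D) + P.deg := by
  obtain ⟨φ, hφ⟩ := exists_linearMap_ker_eq D P
  have := finiteDimensional_residueField hK P
  have hfd1 := finiteDimensional_inf_L hK V (D + Finsupp.single P 1)
  have hle : V ⊓ L D ≤ V ⊓ L (D + Finsupp.single P 1) :=
    inf_le_inf_left V (L_mono (le_add_single D P))
  let ψ : ↥(V ⊓ L (D + Finsupp.single P 1)) →ₗ[k] IsLocalRing.ResidueField P.O :=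
    φ.comp (Submodule.inclusion inf_le_right)
  have hker : LinearMap.ker ψ = (V ⊓ L D).comap (V ⊓ L (D + Finsupp.single P 1)).subtype := by
    ext x
    rw [LinearMap.mem_ker, LinearMap.comp_apply, ← LinearMap.mem_ker, hφ, Submodule.mem_comap,
      Submodule.mem_comap]
    constructor
    · intro h
      exact ⟨x.2.1, h⟩
    · intro h
      exact h.2
  have h1 : Module.finrank k (LinearMap.ker ψ) = finrank k ↥(V ⊓ L D) := by
    rw [hker]
    exact LinearEquiv.finrank_eq (Submodule.comapSubtypeEquivOfLe hle)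
  have h2 := ψ.finrank_range_add_finrank_ker
  have h3 : Module.finrank k (LinearMap.range ψ) ≤ P.deg := Submodule.finrank_le _
  omega

theorem finrank_inf_L_le_sub_single (hK : IsFunctionField k K) (V : Submodule k K)
    (D : Divisor k K) (P : Place k K) :
    finrank k ↥(V ⊓ L D) ≤ finrank k ↥(V ⊓ L (D - Finsupp.single P 1)) + P.deg := by
  have := finrank_inf_L_add_single_le hK V (D - Finsupp.single P 1) P
  rwa [sub_add_cancel] at this

theorem finrank_inf_L_mono (hK : IsFunctionField k K) (V : Submodule k K)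
    {D₁ D₂ : Divisor k K} (h : D₁ ≤ D₂) :
    finrank k ↥(V ⊓ L D₁) ≤ finrank k ↥(V ⊓ L D₂) := by
  have := finiteDimensional_inf_L hK V D₂
  exact Submodule.finrank_mono (inf_le_inf_left V (L_mono h))

theorem inf_L_inf_inf_L (V : Submodule k K) (D₁ D₂ : Divisor k K) :
    (V ⊓ L D₁) ⊓ (V ⊓ L D₂) = V ⊓ L (D₁ ⊓ D₂) := by
  rw [← L_inf_L]
  exact (inf_inf_distrib_left V (L D₁) (L D₂)).symm

/-- in a space of dimension at most one, two nonzero vectors are proportional -/
theorem mem_of_finrank_le_one {W U : Submodule k K} [FiniteDimensional k W]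
    (hW : finrank k ↥W ≤ 1) {s₁ s₂ : K} (h1 : s₁ ∈ W) (h2 : s₂ ∈ W) (h20 : s₂ ≠ 0)
    (hU : s₂ ∈ U) : s₁ ∈ U := by
  obtain ⟨v, hv⟩ := finrank_le_one_iff.mp hW
  obtain ⟨c₁, hc₁⟩ := hv ⟨s₁, h1⟩
  obtain ⟨c₂, hc₂⟩ := hv ⟨s₂, h2⟩
  have hc₂0 : c₂ ≠ 0 := by
    rintro rfl
    rw [zero_smul] at hc₂
    exact h20 (congrArg Subtype.val hc₂).symm
  have hs12 : s₁ = (c₁ * c₂⁻¹) • s₂ := by
    have e1 : s₁ = c₁ • (v : K) := (congrArg Subtype.val hc₁).symm
    have e2 : s₂ = c₂ • (v : K) := (congrArg Subtype.val hc₂).symm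
    rw [e1, e2, smul_smul, mul_assoc, inv_mul_cancel₀ hc₂0, mul_one]
  rw [hs12]
  exact Submodule.smul_mem _ _ hU

theorem sub_single_inf_sub_single (D : Divisor k K) {P Q : Place k K} (hPQ : P ≠ Q)
    (m n m' n' : ℤ) :
    (D - Finsupp.single P m - Finsupp.single Q n) ⊓ (D - Finsupp.single P m' - Finsupp.single Q n') =
      D - Finsupp.single P (max m m') - Finsupp.single Q (max n n') := by
  ext R
  rw [Finsupp.inf_apply]
  simp only [Finsupp.sub_apply]
  by_cases hRP : R = P
  · subst hRP
    rw [Finsupp.single_eq_same, Finsupp.single_eq_same, Finsupp.single_eq_same,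
      Finsupp.single_eq_of_ne hPQ, Finsupp.single_eq_of_ne hPQ, Finsupp.single_eq_of_ne hPQ]
    rcases le_total m m' with h | h
    · rw [max_eq_right h, sub_zero, min_eq_right (by omega)]
    · rw [max_eq_left h, sub_zero, min_eq_left (by omega)]
  · rw [Finsupp.single_eq_of_ne hRP, Finsupp.single_eq_of_ne hRP, Finsupp.single_eq_of_ne hRP]
    by_cases hRQ : R = Q
    · subst hRQ
      rw [Finsupp.single_eq_same, Finsupp.single_eq_same, Finsupp.single_eq_same]
      rcases le_total n n' with h | h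
      · rw [max_eq_right h, sub_zero, min_eq_right (by omega)]
      · rw [max_eq_left h, sub_zero, min_eq_left (by omega)]
    · rw [Finsupp.single_eq_of_ne hRQ, Finsupp.single_eq_of_ne hRQ, Finsupp.single_eq_of_ne hRQ]
      simp

theorem sub_single_sub_single_mono (D : Divisor k K) (P Q : Place k K)
    {m n m' n' : ℤ} (hm : m ≤ m') (hn : n ≤ n') :
    D - Finsupp.single P m' - Finsupp.single Q n' ≤ D - Finsupp.single P m - Finsupp.single Q n := by
  apply sub_le_sub
  · apply sub_le_sub_left
    rw [Finsupp.single_le_single]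
    exact hm
  · rw [Finsupp.single_le_single]
    exact hn

end Groth.Agent.Lib.helper16.FF
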