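import Groth.Agent.Lib.helper16.FPlaneNS3
import Groth.Agent.Lib.helper16.FFLin
import Groth.Agent.Lib.helper16.FFRat

/-! Helper library (helper16): `k[x, y] = ⋂ O_P[y]`. -/

set_option autoImplicit false

namespace Groth.Agent.Lib.helper16.FPI

open FunFld WithZero Polynomial Module Groth.Agent.Lib.helper16.FF Groth.Agent.Lib.helper16.FX
  Groth.Agent.Lib.helper16.FPN
open scoped IntermediateField

section poly

variable {k F : Type*} [Field k] [Field F] [Algebra k F]

/-- in a rational function field `k(x₀)`, a function regular away from the poles of `x₀` is a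
polynomial in `x₀` -/
theorem exists_aeval_of_regular (hF : IsFunctionField k F) {x₀ : F} (hx₀ : k⟮x₀⟯ = ⊤) {r : F}
    (hr : ∀ P : Place k F, P.1 x₀ ≤ 1 → P.1 r ≤ 1) : ∃ p : k[X], aeval x₀ p = r := by
  classical
  have hxr := not_mem_range_of_adjoin_eq_top hF hx₀
  have htr := transcendental_of_not_mem_range hF hxr
  obtain ⟨B, hB⟩ : ∃ B : Divisor k F, B = poleDiv k x₀ := ⟨_, rfl⟩
  have hBdeg : B.deg = 1 := by
    rw [hB, deg_poleDiv_eq hF hxr, IntermediateField.finrank_eq_one_iff_eq_top.mpr hx₀]
    rfl
  have hB0 : ∀ P, 0 ≤ B P := fun P => by rw [hB]; exact poleDiv_nonneg x₀ P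
  obtain ⟨m, hm⟩ : ∃ m : ℕ, m = ∑ P ∈ B.support, (P.ord r).natAbs := ⟨_, rfl⟩
  have hmem : r ∈ L (m • B) := by
    intro P
    rw [Finsupp.smul_apply]
    by_cases hP : P.1 x₀ ≤ 1
    · refine (hr P hP).trans ?_
      rw [← exp_zero, exp_le_exp]
      exact smul_nonneg (Nat.cast_nonneg m) (hB0 P)
    · by_cases hr0 : r = 0
      · rw [hr0, map_zero]; exact zero_le
      have hx0 : x₀ ≠ 0 := by
        rintro rfl
        exact hxr ⟨0, map_zero _⟩
      have hord : P.ord x₀ < 0 := (one_lt_val_iff P hx0).mp (not_le.mp hP)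
      have hBP : 1 ≤ B P := by
        rw [hB, poleDiv_apply hF]
        have := le_max_left (-P.ord x₀) 0
        omega
      have hPS : P ∈ B.support := by
        rw [Finsupp.mem_support_iff]
        omega
      have h1 : (P.ord r).natAbs ≤ m := by
        rw [hm]
        exact Finset.single_le_sum (f := fun P : Place k F => (P.ord r).natAbs)
          (fun _ _ => Nat.zero_le _) hPS
      rw [val_eq_exp_neg_ord P hr0, exp_le_exp]
      have h2 : -P.ord r ≤ ((P.ord r).natAbs : ℤ) := by omega
      have h3 : (m : ℤ) ≤ m • B P := by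
        rw [nsmul_eq_mul]
        have : (0 : ℤ) ≤ m := Nat.cast_nonneg m
        nlinarith
      have h4 : ((P.ord r).natAbs : ℤ) ≤ m := by exact_mod_cast h1
      omega
  have hfd := finiteDimensional_L hF (m • B)
  have h4 := le_ell_nsmul_poleDiv hF hxr m
  rw [← hB] at h4
  have h5 := ell_le_deg_add_one hF (m • B) (by rw [deg_nsmul, hBdeg]; positivity)
  rw [deg_nsmul, hBdeg, mul_one] at h5
  have hell : finrank k (L (m • B)) = m + 1 := by
    have : (ell (m • B) : ℤ) = m + 1 := by
      have : ((m + 1 : ℕ) : ℤ) ≤ ell (m • B) := by exact_mod_cast h4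
      push_cast at this
      omega
    unfold ell at this
    exact_mod_cast this
  have hli : LinearIndependent k (fun j : Fin (m + 1) =>
      (⟨x₀ ^ (j : ℕ), by rw [hB]; exact pow_mem_L_nsmul_poleDiv hF x₀ (by have := j.2; omega)⟩ :
        L (m • B))) := by
    apply LinearIndependent.of_comp (L (m • B)).subtype
    exact linearIndependent_pow_of_transcendental htr m
  have hspan := hli.span_eq_top_of_card_eq_finrank' (by rw [Fintype.card_fin, hell])
  have h6 : (⟨r, hmem⟩ : L (m • B)) ∈ Submodule.span k (Set.range fun j : Fin (m + 1) =>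
      (⟨x₀ ^ (j : ℕ), by rw [hB]; exact pow_mem_L_nsmul_poleDiv hF x₀ (by have := j.2; omega)⟩ :
        L (m • B))) := by
    rw [hspan]; exact Submodule.mem_top
  rw [Submodule.mem_span_range_iff_exists_fun] at h6
  obtain ⟨c, hc⟩ := h6
  refine ⟨∑ j : Fin (m + 1), C (c j) * X ^ (j : ℕ), ?_⟩
  have h7 : ((∑ i, c i • (⟨x₀ ^ (i : ℕ), by
      rw [hB]; exact pow_mem_L_nsmul_poleDiv hF x₀ (by have := i.2; omega)⟩ : L (m • B)) :
      L (m • B)) : F) = r := congrArg Subtype.val hc
  simp only [map_sum, map_mul, aeval_C, map_pow, aeval_X]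
  rw [← h7, Submodule.coe_sum]
  apply Finset.sum_congr rfl
  intro j _
  rw [Submodule.coe_smul, Algebra.smul_def]

end poly

section main

variable {k F K : Type*} [Field k] [Field F] [Field K] [Algebra k F] [Algebra F K] [Algebra k K]
  [IsScalarTower k F K]

/-- an element integral over a subalgebra contained in the valuation ring is integral at the
place -/
theorem val_le_one_of_isIntegral_subalgebra (Q : Place k K) (A₁ : Subalgebra k K)
    (hA : ∀ a ∈ A₁, Q.1 a ≤ 1) {y : K} (hy : IsIntegral A₁ y) : Q.1 y ≤ 1 := by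
  obtain ⟨p, hmonic, heval⟩ := hy
  let ι : A₁ →+* Q.1.integer :=
    { toFun := fun a => ⟨a.1, hA a.1 a.2⟩
      map_one' := rfl
      map_mul' := fun _ _ => rfl
      map_zero' := rfl
      map_add' := fun _ _ => rfl }
  have hint : IsIntegral Q.1.integer y := by
    refine ⟨p.map ι, hmonic.map ι, ?_⟩
    rw [Polynomial.eval₂_map]
    exact heval
  exact (Valuation.integer.integers Q.1).mem_of_integral hint

theorem adjoin_pair_eq_iInter [FiniteDimensional F K] (hF : IsFunctionField k F) {x₀ : F}
    (hx₀ : k⟮x₀⟯ = ⊤) {y : K} (hFy : F⟮y⟯ = ⊤)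
    (hy : IsIntegral (Algebra.adjoin k ({algebraMap F K x₀} : Set K)) y) :
    (Algebra.adjoin k ({algebraMap F K x₀, y} : Set K) : Set K) =
      ⋂ (P : Place k F) (_ : P.1 x₀ ≤ 1),
        (Subring.closure ((algebraMap F K '' (P.O : Set F)) ∪ {y}) : Set K) := by
  classical
  obtain ⟨x, hx⟩ : ∃ x : K, x = algebraMap F K x₀ := ⟨_, rfl⟩
  rw [← hx] at hy ⊢
  have hyF : IsIntegral F y := Algebra.IsIntegral.isIntegral y
  ext z
  simp only [Set.mem_iInter, SetLike.mem_coe]
  constructor
  · intro hz P hP
    refine Algebra.adjoin_induction (p := fun a _ => a ∈ Subring.closure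
      ((algebraMap F K '' (P.O : Set F)) ∪ {y})) ?_ ?_ ?_ ?_ hz
    · rintro g (rfl | rfl)
      · apply Subring.subset_closure
        left
        exact ⟨x₀, hP, hx.symm⟩
      · apply Subring.subset_closure
        right
        rfl
    · intro c
      apply Subring.subset_closure
      left
      exact ⟨algebraMap k F c, val_algebraMap_le P c, (IsScalarTower.algebraMap_apply k F K c).symm⟩
    · intro a b _ _ ha hb
      exact Subring.add_mem _ ha hb
    · intro a b _ _ ha hb
      exact Subring.mul_mem _ ha hb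
  · intro hz
    have hzF : z ∈ Algebra.adjoin F ({y} : Set K) := by
      rw [← IntermediateField.adjoin_simple_toSubalgebra_of_isAlgebraic hyF.isAlgebraic, hFy]
      exact Algebra.mem_top
    obtain ⟨γ, hγ⟩ := exists_coeff_range (A := F) (F := F) hyF hzF
    have hpoly : ∀ b < (minpoly F y).natDegree, ∃ p : k[X], aeval x₀ p = γ b := by
      intro b hb
      apply exists_aeval_of_regular hF hx₀
      intro P hP
      letI : Algebra P.O K := ((algebraMap F K).comp P.O.subtype).toAlgebra
      haveI : IsScalarTower P.O F K := IsScalarTower.of_algebraMap_eq (fun _ => rfl)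
      have hzP : z ∈ Algebra.adjoin P.O ({y} : Set K) := by
        have h1 := hz P hP
        have h2 : Set.range (algebraMap P.O K) = algebraMap F K '' (P.O : Set F) := by
          ext a
          constructor
          · rintro ⟨r, rfl⟩
            exact ⟨r.1, r.2, rfl⟩
          · rintro ⟨r, hr, rfl⟩
            exact ⟨⟨r, hr⟩, rfl⟩
        rw [← h2, ← Algebra.adjoin_eq_ring_closure] at h1
        exact h1
      have hyB : y ∈ semiLocal K P := by
        rintro Q ⟨e, he⟩
        apply val_le_one_of_isIntegral_subalgebra Q (Algebra.adjoin k ({x} : Set K)) ?_ hy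
        intro a ha
        refine Algebra.adjoin_induction (p := fun a _ => Q.1 a ≤ 1) ?_ ?_ ?_ ?_ ha
        · intro g hg
          rw [Set.mem_singleton_iff.mp hg, hx, he]
          exact pow_le_one₀ zero_le hP
        · intro c
          exact val_algebraMap_le Q c
        · intro a b _ _ ha hb
          exact le_trans (Q.1.map_add a b) (max_le ha hb)
        · intro a b _ _ ha hb
          rw [map_mul]
          exact mul_le_one' ha hb
      have hyP : IsIntegral P.O y :=
        Groth.Agent.Lib.helper16.FCE.isIntegral_of_mem_semiLocal hF P hyB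
      obtain ⟨c, hc⟩ := exists_coeff_range (F := F) hyP hzP
      have hcmp := coeff_unique (x := y) (α := γ) (β := fun b => ((c b : P.O) : F)) (by
        rw [← hγ, hc]
        apply Finset.sum_congr rfl
        intro b _
        rw [IsScalarTower.algebraMap_apply P.O F K]
        rfl)
      rw [hcmp b hb]
      exact (c b).2
    choose p hp using hpoly
    rw [hγ]
    refine Subalgebra.sum_mem _ fun b hb => ?_
    have hb' := Finset.mem_range.mp hb
    rw [← hp b hb', ← aeval_algebraMap_apply, ← hx]
    have hxR : x ∈ Algebra.adjoin k ({x, y} : Set K) := Algebra.subset_adjoin (by simp)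
    have hyR : y ∈ Algebra.adjoin k ({x, y} : Set K) := Algebra.subset_adjoin (by simp)
    exact Subalgebra.mul_mem _ (aeval_mem_of_mem _ hxR _) (Subalgebra.pow_mem _ hyR _)

end main

section final

variable {k K : Type*} [Field k] [Field K] [Algebra k K]

/-- S11067 -/
theorem adjoin_pair_eq_iInter' (hK : IsFunctionField k K) (x y : K) (hx : Transcendental k x)
    (hxy : IntermediateField.adjoin k ({x, y} : Set K) = ⊤)
    (hy : IsIntegral (Algebra.adjoin k ({x} : Set K)) y) :
    (Algebra.adjoin k ({x, y} : Set K) : Set K) =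
      ⋂ (P : Place k (IntermediateField.adjoin k ({x} : Set K)))
        (_ : P.1 ⟨x, IntermediateField.mem_adjoin_simple_self k x⟩ ≤ 1),
        (Subring.closure
          ((algebraMap (IntermediateField.adjoin k ({x} : Set K)) K '' (P.O : Set _)) ∪ {y}) :
          Set K) := by
  haveI : FiniteDimensional k⟮x⟯ K := finiteDimensional_of_transcendental hK hx
  have hF : IsFunctionField k k⟮x⟯ :=
    Groth.Agent.Lib.helper16.FG.isFunctionField_intermediateField k K hK k⟮x⟯
      ⟨x, IntermediateField.mem_adjoin_simple_self k x, hx⟩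
  have hx₀ : k⟮(⟨x, IntermediateField.mem_adjoin_simple_self k x⟩ : k⟮x⟯)⟯ = ⊤ := by
    apply IntermediateField.map_injective k⟮x⟯.val
    rw [IntermediateField.adjoin_map, Set.image_singleton, ← AlgHom.fieldRange_eq_map,
      IntermediateField.fieldRange_val]
    rfl
  have hFy : (k⟮x⟯)⟮y⟯ = ⊤ := by
    rw [← IntermediateField.restrictScalars_eq_top_iff (K := k),
      IntermediateField.adjoin_simple_adjoin_simple, hxy]
  exact adjoin_pair_eq_iInter hF hx₀ hFy hy

end final

end Groth.Agent.Lib.helper16.FPI
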