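import Groth.Agent.Lib.helper16.FAdjMin
import Groth.Agent.Lib.helper16.FPlaneDeg
import Groth.Agent.Lib.helper16.FPlaneInt
import Groth.Agent.Lib.helper16.FHasseU

/-! Helper library (helper16): the adjoint coefficient in normalised affine coordinates
(towards S12613). -/

set_option autoImplicit false

namespace Groth.Agent.Lib.helper16.FAN

open FunFld WithZero Module LocRes
open Groth.Agent.Lib.helper16 Groth.Agent.Lib.helper16.FF
open scoped IntermediateField

universe u v

variable {k : Type u} {K : Type v} [Field k] [Field K] [Algebra k K] [IsAlgClosed k]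

theorem mapDiv_eq_poleDiv' (hK : IsFunctionField k K) (x y : K) (hx0 : x ≠ 0)
    (ht : ∀ P : Place k K, P.1 y ≤ max 1 (P.1 x)) :
    mapDiv k ![(1 : K), x, y] = FF.poleDiv k x := by
  have heff : (1 : K) ∈ Submodule.span k (Set.range ![(1 : K), x, y]) :=
    Submodule.subset_span ⟨0, rfl⟩
  apply le_antisymm
  · rw [FAI.mapDiv_le_iff hK _ heff]
    have h1 : (1 : K) ∈ L (FF.poleDiv k x) := by
      intro P
      rw [FF.poleDiv_apply hK, FPD.max_one_val P hx0, map_one]
      exact le_max_left _ _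
    have hx : x ∈ L (FF.poleDiv k x) := by
      intro P
      rw [FF.poleDiv_apply hK, FPD.max_one_val P hx0]
      exact le_max_right _ _
    have hy : y ∈ L (FF.poleDiv k x) := by
      intro P
      rw [FF.poleDiv_apply hK, FPD.max_one_val P hx0]
      exact ht P
    intro i
    fin_cases i
    · exact h1
    · exact hx
    · exact hy
  · intro P
    rw [FF.poleDiv_apply hK]
    apply max_le
    · have hmem : x ∈ Submodule.span k (Set.range ![(1 : K), x, y]) :=
        Submodule.subset_span ⟨1, rfl⟩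
      have h2 := FF.span_le_L_mapDiv hK ![(1 : K), x, y] hmem P
      rw [FF.val_le_exp_iff P hx0] at h2
      omega
    · have h3 := FF.neg_mapDiv_le_ord hK ![(1 : K), x, y] P 0
      have h4 : P.ord ((![(1 : K), x, y]) 0) = 0 := FF.ord_one P
      rw [h4] at h3
      omega

/-- **the adjoint coefficient in normalised affine coordinates** -/
theorem affine (hK : IsFunctionField k K) (x y : K)
    (hxy : IntermediateField.adjoin k ({x, y} : Set K) = ⊤)
    (hdx : KaehlerDifferential.D k K x ≠ 0)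
    (G : MvPolynomial (Fin 3) k) (e : ℕ) (hG : G.IsHomogeneous e)
    (hc : G.coeff (Finsupp.single 2 e) ≠ 0)
    (hGxy : MvPolynomial.aeval ![(1 : K), x, y] G = 0)
    (hdeg : (mapDiv k ![(1 : K), x, y]).deg = e)
    (Q : Place k K) (hQx : Q.1 x ≤ 1)
    (ΦQ : K →ₐ[k] LaurentSeries k) (hΦQ : IsExpansionAt Q.1 ΦQ) :
    MvPolynomial.aeval ![(1 : K), x, y] (MvPolynomial.pderiv 2 G) ≠ 0 ∧
    Q.1 y ≤ 1 ∧
    mapDiv k ![(1 : K), x, y] Q = 0 ∧
    0 ≤ -ordDiff ΦQ (MvPolynomial.aeval ![(1 : K), x, y] (MvPolynomial.pderiv 2 G))⁻¹ x ∧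
    (-ordDiff ΦQ (MvPolynomial.aeval ![(1 : K), x, y] (MvPolynomial.pderiv 2 G))⁻¹ x = 0 ↔
      ∀ z : K, Q.1 z ≤ 1 → InLoc (Algebra.adjoin k ({x, y} : Set K)) Q z) := by
  classical
  have hg : IsGeometric k K := FG.isGeometric_of_perfectField k K hK.2
  have hxr : x ∉ Set.range (algebraMap k K) := by
    rintro ⟨c, rfl⟩
    exact hdx (Derivation.map_algebraMap _ _)
  have hxtr : Transcendental k x := by
    intro halg
    obtain ⟨c, rfl⟩ := hK.2 x halg
    exact hdx (Derivation.map_algebraMap _ _)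
  have hx0 : x ≠ 0 := by
    rintro rfl
    exact hxr ⟨0, map_zero _⟩
  -- the valuation bound
  have hyval : ∀ P : Place k K, P.1 y ≤ max 1 (P.1 x) := by
    intro P
    by_cases hx1 : P.1 x ≤ 1
    · have := FAM.val_le_one_of_monic hG hc P ![(1 : K), x, y]
        (by show P.1 (1 : K) ≤ 1; rw [map_one]) hx1 hGxy
      exact le_trans this (le_max_left _ _)
    · rw [not_le] at hx1
      have h1 : MvPolynomial.aeval (fun i => x⁻¹ * ![(1 : K), x, y] i) G = 0 := by
        rw [FT.aeval_mul_of_isHomogeneous hG, hGxy, mul_zero]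
      have h2 := FAM.val_le_one_of_monic hG hc P (fun i => x⁻¹ * ![(1 : K), x, y] i)
        (by
          show P.1 (x⁻¹ * 1) ≤ 1
          rw [mul_one, map_inv₀]
          exact inv_le_one_of_one_le₀ hx1.le)
        (by
          show P.1 (x⁻¹ * x) ≤ 1
          rw [inv_mul_cancel₀ hx0, map_one]) h1
      have h3 : P.1 (x⁻¹ * y) ≤ 1 := h2
      rw [map_mul, map_inv₀] at h3
      have hxv : P.1 x ≠ 0 := val_ne_zero P hx0
      have h4 : P.1 y ≤ P.1 x := by
        have := mul_le_mul_right h3 (P.1 x)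
        rwa [← mul_assoc, mul_inv_cancel₀ hxv, one_mul, mul_one] at this
      exact le_trans h4 (le_max_right _ _)
  have hQy : Q.1 y ≤ 1 := by
    have := hyval Q
    rwa [max_eq_left hQx] at this
  have hmap := mapDiv_eq_poleDiv' hK x y hx0 hyval
  have hmapQ : mapDiv k ![(1 : K), x, y] Q = 0 := by
    rw [hmap, FF.poleDiv_apply hK]
    have := (val_le_one_iff Q hx0).mp hQx
    apply max_eq_right
    omega
  have hrank : finrank k⟮x⟯ K = e := by
    have h1 := deg_poleDiv_eq hK hxr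
    rw [← hmap, hdeg] at h1
    exact_mod_cast h1.symm
  -- the rational subfield
  haveI : FiniteDimensional k⟮x⟯ K := finiteDimensional_of_transcendental hK hxtr
  haveI : Algebra.IsSeparable k⟮x⟯ K := FHs.isSeparable_of_D_ne_zero hK hg hdx
  have hF : IsFunctionField k k⟮x⟯ :=
    FG.isFunctionField_intermediateField k K hK k⟮x⟯
      ⟨x, IntermediateField.mem_adjoin_simple_self k x, hxtr⟩
  have hx₀ : k⟮(⟨x, IntermediateField.mem_adjoin_simple_self k x⟩ : k⟮x⟯)⟯ = ⊤ := by
    apply IntermediateField.map_injective k⟮x⟯.val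
    rw [IntermediateField.adjoin_map, Set.image_singleton, ← AlgHom.fieldRange_eq_map,
      IntermediateField.fieldRange_val]
    rfl
  have hFy : (k⟮x⟯)⟮y⟯ = ⊤ := by
    rw [← IntermediateField.restrictScalars_eq_top_iff (K := k),
      IntermediateField.adjoin_simple_adjoin_simple, hxy]
  have hdx' : vDiff ΦQ 1 x ≠ 0 := by
    rw [FDE.vDiff_one, Ne, map_eq_zero]
    exact FDD.D_expand_ne_zero hK hg Q ΦQ hΦQ hdx
  obtain ⟨h1, h2⟩ := FAC.core hK hF hx₀ hFy
    (fun Q' hQ' => by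
      have hQ'' : Q'.1 x ≤ 1 := hQ'
      have := hyval Q'
      rwa [max_eq_left hQ''] at this) Q hQx ΦQ hΦQ hdx'
  have hM := FAM.aeval_pderiv_eq (F := k⟮x⟯) hG hc
    (⟨x, IntermediateField.mem_adjoin_simple_self k x⟩ : k⟮x⟯) hFy hrank hGxy
  obtain ⟨w, hwdef⟩ : ∃ w : K, w = Polynomial.aeval y (Polynomial.derivative (minpoly k⟮x⟯ y)) :=
    ⟨_, rfl⟩
  obtain ⟨gy, hgydef⟩ : ∃ gy : K,
    gy = MvPolynomial.aeval ![(1 : K), x, y] (MvPolynomial.pderiv 2 G) := ⟨_, rfl⟩
  have hM' : gy = algebraMap k K (G.coeff (Finsupp.single 2 e)) * w := by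
    rw [hgydef, hwdef]; exact hM
  have h1' : ordDiff ΦQ 1 x ≤ Q.ord w := by rw [hwdef]; exact h1
  have h2' : Q.ord w = ordDiff ΦQ 1 x ↔
      ∀ z : K, Q.1 z ≤ 1 → InLoc (Algebra.adjoin k ({x, y} : Set K)) Q z := by
    rw [hwdef]; exact h2
  rw [← hgydef]
  have hw0 : w ≠ 0 := by
    rw [hwdef]
    exact (Algebra.IsSeparable.isSeparable k⟮x⟯ y).aeval_derivative_ne_zero
      (minpoly.aeval k⟮x⟯ y)
  have hc0 : algebraMap k K (G.coeff (Finsupp.single 2 e)) ≠ 0 := by
    rwa [Ne, map_eq_zero_iff _ (algebraMap k K).injective]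
  have hgy0 : gy ≠ 0 := by rw [hM']; exact mul_ne_zero hc0 hw0
  have hordgy : Q.ord gy = Q.ord w := by
    rw [hM', ord_mul Q hc0 hw0]
    have : Q.ord (algebraMap k K (G.coeff (Finsupp.single 2 e))) = 0 := by
      unfold Place.ord
      rw [val_algebraMap Q hc]
      simp
    rw [this, zero_add]
  have hD : LocRes.D k (ΦQ x) ≠ 0 := FDD.D_expand_ne_zero hK hg Q ΦQ hΦQ hdx
  have hform : ordDiff ΦQ gy⁻¹ x = -Q.ord w + ordDiff ΦQ 1 x := by
    rw [FDD.ordDiff_eq_ord_add Q ΦQ hΦQ (inv_ne_zero hgy0) hD, ord_inv, hordgy]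
  refine ⟨hgy0, hQy, hmapQ, ?_, ?_⟩
  · rw [hform]; omega
  · rw [hform, ← h2']
    constructor <;> intro h <;> omega

end Groth.Agent.Lib.helper16.FAN
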