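import Groth.Agent.Lib.helper16.FAdjMin
import Groth.Agent.Lib.helper16.FPlaneDeg

/-! Helper library (helper16): homogenisation of a plane polynomial and specialisations
(towards S12613). -/

set_option autoImplicit false

namespace Groth.Agent.Lib.helper16.FAH

open MvPolynomial
open Groth.Agent.Lib.helper16

section hom

variable {k : Type*} [Field k]

/-- the homogenisation of `f` in degree `totalDegree f` -/
noncomputable def hom (f : MvPolynomial (Fin 2) k) : MvPolynomial (Fin 3) k :=
  ∑ m ∈ f.support,
    C (f.coeff m) * (X 0 ^ (f.totalDegree - (m 0 + m 1)) * X 1 ^ m 0 * X 2 ^ m 1)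

theorem deg_le {f : MvPolynomial (Fin 2) k} {m : Fin 2 →₀ ℕ} (hm : m ∈ f.support) :
    m 0 + m 1 ≤ f.totalDegree := by
  have h1 := MvPolynomial.le_totalDegree hm
  rwa [FPD.deg2] at h1

theorem hom_isHomogeneous (f : MvPolynomial (Fin 2) k) : (hom f).IsHomogeneous f.totalDegree := by
  unfold hom
  apply IsHomogeneous.sum
  intro m hm
  have h := deg_le hm
  have h3 : ((X 0 : MvPolynomial (Fin 3) k) ^ (f.totalDegree - (m 0 + m 1)) * X 1 ^ m 0 *
      X 2 ^ m 1).IsHomogeneous ((f.totalDegree - (m 0 + m 1)) + m 0 + m 1) :=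
    (((isHomogeneous_X_pow 0 _).mul (isHomogeneous_X_pow 1 _)).mul (isHomogeneous_X_pow 2 _))
  have h4 : f.totalDegree - (m 0 + m 1) + m 0 + m 1 = f.totalDegree := by omega
  rw [h4] at h3
  exact h3.C_mul _

theorem aeval_hom {B : Type*} [CommRing B] [Algebra k B] (f : MvPolynomial (Fin 2) k) (a b : B) :
    aeval ![1, a, b] (hom f) = aeval ![a, b] f := by
  unfold hom
  rw [map_sum]
  conv_rhs => rw [aeval_def, eval₂_eq']
  apply Finset.sum_congr rfl
  intro m _
  rw [Fin.prod_univ_two]
  simp

theorem aeval_pderiv_hom {B : Type*} [CommRing B] [Algebra k B] (f : MvPolynomial (Fin 2) k)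
    (a b : B) :
    aeval ![1, a, b] (pderiv 2 (hom f)) = aeval ![a, b] (pderiv 1 f) := by
  have hψ : aeval ![(1 : MvPolynomial (Fin 2) k), X 0, X 1] (hom f) = f := by
    rw [aeval_hom]
    have : (![X 0, X 1] : Fin 2 → MvPolynomial (Fin 2) k) = X := by
      funext i; fin_cases i <;> rfl
    rw [this, aeval_X_left_apply]
  have hchain := FKP.derivation_aeval (pderiv (1 : Fin 2))
    ![(1 : MvPolynomial (Fin 2) k), X 0, X 1] (hom f)
  rw [hψ, Fin.sum_univ_three] at hchain
  have e0 : pderiv (1 : Fin 2) (![(1 : MvPolynomial (Fin 2) k), X 0, X 1] 0) = 0 := by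
    show pderiv (1 : Fin 2) (1 : MvPolynomial (Fin 2) k) = 0
    exact pderiv_one
  have e1 : pderiv (1 : Fin 2) (![(1 : MvPolynomial (Fin 2) k), X 0, X 1] 1) = 0 := by
    show pderiv (1 : Fin 2) (X 0 : MvPolynomial (Fin 2) k) = 0
    rw [pderiv_X, Pi.single_eq_of_ne (by decide)]
  have e2 : pderiv (1 : Fin 2) (![(1 : MvPolynomial (Fin 2) k), X 0, X 1] 2) = 1 := by
    show pderiv (1 : Fin 2) (X 1 : MvPolynomial (Fin 2) k) = 1
    rw [pderiv_X, Pi.single_eq_same]
  rw [e0, e1, e2, smul_zero, smul_zero, zero_add, zero_add, smul_eq_mul, mul_one] at hchain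
  rw [hchain, comp_aeval_apply]
  congr 2
  funext i
  fin_cases i <;> simp

theorem aeval_hom_top (f : MvPolynomial (Fin 2) k) (t : k) :
    aeval ![(0 : k), 1, t] (hom f) = (FPD.topPoly f).eval t := by
  classical
  unfold hom FPD.topPoly
  rw [map_sum, Polynomial.eval_finsetSum, Finset.sum_filter]
  apply Finset.sum_congr rfl
  intro m hm
  have h := deg_le hm
  by_cases hd : m 0 + m 1 = f.totalDegree
  · rw [if_pos hd]
    simp [hd]
  · rw [if_neg hd]
    have : f.totalDegree - (m 0 + m 1) ≠ 0 := by omega
    simp [this]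

end hom


section spec

variable {k : Type*} [Field k]

/-- the specialisation of `f` keeping the variable `j` and killing the other -/
noncomputable def spec (j : Fin 2) (f : MvPolynomial (Fin 2) k) : Polynomial k :=
  aeval (fun l => if l = j then (Polynomial.X : Polynomial k) else 0) f

theorem eval_spec (j : Fin 2) (f : MvPolynomial (Fin 2) k) (c : k) :
    (spec j f).eval c = aeval (fun l => if l = j then c else (0 : k)) f := by
  unfold spec
  rw [← Polynomial.coe_aeval_eq_eval, comp_aeval_apply]
  congr 2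
  funext l
  split_ifs <;> simp

theorem coeff_spec (j : Fin 2) (f : MvPolynomial (Fin 2) k) (n : ℕ) :
    (spec j f).coeff n = f.coeff (Finsupp.single j n) := by
  classical
  unfold spec
  rw [aeval_def, eval₂_eq', Polynomial.finsetSum_coeff]
  rw [Finset.sum_eq_single (Finsupp.single j n)]
  · rw [Polynomial.algebraMap_apply, Algebra.algebraMap_self_apply, Polynomial.coeff_C_mul,
      Finset.prod_eq_single j]
    · rw [if_pos rfl, Finsupp.single_eq_same, Polynomial.coeff_X_pow, if_pos rfl, mul_one]
    · intro l _ hl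
      rw [Finsupp.single_eq_of_ne hl, pow_zero]
    · intro h; exact absurd (Finset.mem_univ j) h
  · intro m hm hne
    rw [Polynomial.algebraMap_apply, Polynomial.coeff_C_mul]
    by_cases hex : ∃ l, l ≠ j ∧ m l ≠ 0
    · obtain ⟨l, hl, hml⟩ := hex
      rw [Finset.prod_eq_zero (Finset.mem_univ l), Polynomial.coeff_zero, mul_zero]
      rw [if_neg hl, zero_pow hml]
    · push Not at hex
      have hm' : m = Finsupp.single j (m j) := by
        ext l
        by_cases hl : l = j
        · rw [hl, Finsupp.single_eq_same]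
        · rw [Finsupp.single_eq_of_ne hl, hex l hl]
      rw [Finset.prod_eq_single j]
      · rw [if_pos rfl, Polynomial.coeff_X_pow, if_neg, mul_zero]
        intro h
        apply hne
        rw [hm', ← h]
      · intro l _ hl
        rw [hex l hl, pow_zero]
      · intro h; exact absurd (Finset.mem_univ j) h
  · intro hns
    rw [notMem_support_iff.mp hns, map_zero, zero_mul, Polynomial.coeff_zero]

/-- if the specialisation killing `X_{j'}` vanishes then `X_{j'}` divides `f` -/
theorem X_dvd_of_spec_eq_zero {j j' : Fin 2} (hjj' : j ≠ j') {f : MvPolynomial (Fin 2) k}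
    (h : spec j f = 0) : X j' ∣ f := by
  classical
  rw [X_dvd_iff_modMonomial_eq_zero]
  ext m
  rw [coeff_zero]
  by_cases hle : Finsupp.single j' 1 ≤ m
  · exact coeff_modMonomial_of_le f hle
  · rw [coeff_modMonomial_of_not_le f hle]
    have hm0 : m j' = 0 := by
      by_contra hne
      apply hle
      intro l
      by_cases hl : l = j'
      · rw [hl, Finsupp.single_eq_same]
        exact Nat.one_le_iff_ne_zero.mpr hne
      · rw [Finsupp.single_eq_of_ne hl]
        exact Nat.zero_le _
    have hm' : m = Finsupp.single j (m j) := by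
      ext l
      by_cases hl : l = j
      · rw [hl, Finsupp.single_eq_same]
      · rw [Finsupp.single_eq_of_ne hl]
        have : l = j' := by
          fin_cases l <;> fin_cases j <;> fin_cases j' <;> simp_all
        rw [this, hm0]
    rw [hm', ← coeff_spec, h, Polynomial.coeff_zero]

/-- for an irreducible relation `f(x, y) = 0` with the `j'`-th coordinate nonzero, the
specialisation killing `X_{j'}` does not vanish -/
theorem spec_ne_zero {K : Type*} [Field K] [Algebra k K] {f : MvPolynomial (Fin 2) k}
    (hf : Irreducible f) (v : Fin 2 → K) (hfv : aeval v f = 0) {j j' : Fin 2} (hjj' : j ≠ j')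
    (hv : v j' ≠ 0) : spec j f ≠ 0 := by
  intro h0
  obtain ⟨g, hg⟩ := X_dvd_of_spec_eq_zero hjj' h0
  have hXnu : ¬ IsUnit (X j' : MvPolynomial (Fin 2) k) := (X_prime (i := j')).not_isUnit
  have hgu : IsUnit g := (hf.isUnit_or_isUnit hg).resolve_left hXnu
  rw [hg, map_mul, aeval_X] at hfv
  rcases mul_eq_zero.mp hfv with h | h
  · exact hv h
  · exact (hgu.map (aeval v)).ne_zero h

end spec


section coeff

variable {k : Type*} [Field k]

theorem coeff_single_eq_aeval {G : MvPolynomial (Fin 3) k} {e : ℕ} (hG : G.IsHomogeneous e) :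
    G.coeff (Finsupp.single 2 e) = aeval ![(0 : k), 0, 1] G := by
  classical
  rw [aeval_def, eval₂_eq']
  rw [Finset.sum_eq_single (Finsupp.single 2 e)]
  · rw [Fin.prod_univ_three]
    simp
  · intro m hm hne
    rw [Fin.prod_univ_three]
    have hd := FAM.deg3 hG hm
    by_cases h0 : m 0 = 0
    · by_cases h1 : m 1 = 0
      · exfalso
        apply hne
        exact FAM.eq_single_of_two_ge hG hm (by omega)
      · simp [h1]
    · simp [h0]
  · intro hns
    rw [notMem_support_iff.mp hns]
    simp

theorem isHomogeneous_aeval_lin (A : Matrix (Fin 3) (Fin 3) k) {F : MvPolynomial (Fin 3) k}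
    {e : ℕ} (hF : F.IsHomogeneous e) : (aeval (FKP.lin A) F).IsHomogeneous e := by
  have := hF.aeval (FKP.lin A) (FKP.lin_isHomogeneous A)
  rwa [one_mul] at this

theorem coeff_aeval_lin (A : Matrix (Fin 3) (Fin 3) k) {F : MvPolynomial (Fin 3) k} {e : ℕ}
    (hF : F.IsHomogeneous e) :
    (aeval (FKP.lin A) F).coeff (Finsupp.single 2 e) = aeval (fun i => A i 2) F := by
  rw [coeff_single_eq_aeval (isHomogeneous_aeval_lin A hF), comp_aeval_apply]
  congr 2
  funext i
  rw [FKP.aeval_lin, Fin.sum_univ_three]
  simp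

end coeff

end Groth.Agent.Lib.helper16.FAH
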