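import Groth.Agent.Lib.helper16.FDivDiff

/-! Helper library (helper16): invariance of the Weierstrass divisor (S12614). -/

set_option autoImplicit false

namespace Groth.Agent.Lib.helper16.FWI

open FunFld WithZero LocRes
open Groth.Agent.Lib.helper16

universe u v

section mapdiv

variable {k K : Type*} [Field k] [Field K] [Algebra k K]

theorem mapDiv_le_of_mem_span (hK : IsFunctionField k K) {ι ι' : Type*} [Fintype ι] [Nonempty ι]
    [Fintype ι'] [Nonempty ι'] (φ : ι → K) (ψ : ι' → K) (hψ0 : ∀ i, ψ i ≠ 0)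
    (h : ∀ i, ψ i ∈ Submodule.span k (Set.range φ)) : mapDiv k ψ ≤ mapDiv k φ := by
  intro P
  obtain ⟨j, hj⟩ := FF.exists_ord_eq_neg_mapDiv hK ψ P
  have h1 := FF.span_le_L_mapDiv hK φ (h j) P
  rw [FF.val_le_exp_iff P (hψ0 j)] at h1
  omega

theorem mapDiv_eq_of_span_eq (hK : IsFunctionField k K) {ι ι' : Type*} [Fintype ι] [Nonempty ι]
    [Fintype ι'] [Nonempty ι'] (φ : ι → K) (ψ : ι' → K) (hφ0 : ∀ i, φ i ≠ 0)
    (hψ0 : ∀ i, ψ i ≠ 0)
    (h : Submodule.span k (Set.range ψ) = Submodule.span k (Set.range φ)) :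
    mapDiv k ψ = mapDiv k φ := by
  apply le_antisymm
  · exact mapDiv_le_of_mem_span hK φ ψ hψ0 (fun i => by
      rw [← h]; exact Submodule.subset_span ⟨i, rfl⟩)
  · exact mapDiv_le_of_mem_span hK ψ φ hφ0 (fun i => by
      rw [h]; exact Submodule.subset_span ⟨i, rfl⟩)

theorem mapDiv_smul (hK : IsFunctionField k K) {ι : Type*} [Fintype ι] [Nonempty ι]
    (φ : ι → K) {y : K} (hy : y ≠ 0) (hφ0 : ∀ i, φ i ≠ 0) :
    mapDiv k (y • φ) = mapDiv k φ - FunFld.div k y := by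
  ext P
  rw [Finsupp.sub_apply, FF.div_apply hK]
  have hord : ∀ i, P.ord ((y • φ) i) = P.ord y + P.ord (φ i) := fun i => by
    rw [Pi.smul_apply, smul_eq_mul, FF.ord_mul P hy (hφ0 i)]
  obtain ⟨j, hj⟩ := FF.exists_ord_eq_neg_mapDiv hK φ P
  obtain ⟨j', hj'⟩ := FF.exists_ord_eq_neg_mapDiv hK (y • φ) P
  have h1 := FF.neg_mapDiv_le_ord hK (y • φ) P j
  have h2 := FF.neg_mapDiv_le_ord hK φ P j'
  rw [hord] at h1 hj'
  omega

theorem div_pow (hK : IsFunctionField k K) (x : K) (m : ℕ) :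
    FunFld.div k (x ^ m) = m • FunFld.div k x := by
  ext P
  rw [Finsupp.smul_apply, FF.div_apply hK, FF.div_apply hK, FF.ord_pow]
  simp

end mapdiv

section jumps

variable {R M M' : Type*} [Semiring R] [AddCommMonoid M] [AddCommMonoid M'] [Module R M]
  [Module R M']

theorem mem_span_image_of_linearMap (c : ℕ → M) (c' : ℕ → M') (g : M →ₗ[R] M')
    (hg : ∀ j, g (c j) = c' j) {j : ℕ} (h : c j ∈ Submodule.span R (c '' Set.Iio j)) :
    c' j ∈ Submodule.span R (c' '' Set.Iio j) := by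
  have h1 : g (c j) ∈ (Submodule.span R (c '' Set.Iio j)).map g := Submodule.mem_map_of_mem h
  rw [Submodule.map_span, Set.image_image, hg] at h1
  have : (fun x => g (c x)) '' Set.Iio j = c' '' Set.Iio j := Set.image_congr (fun x _ => hg x)
  rwa [this] at h1

theorem isJump_iff_of_linearMaps (c : ℕ → M) (c' : ℕ → M') (g : M →ₗ[R] M') (g' : M' →ₗ[R] M)
    (hg : ∀ j, g (c j) = c' j) (hg' : ∀ j, g' (c' j) = c j) (j : ℕ) :
    IsJump R c j ↔ IsJump R c' j := by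
  unfold IsJump
  rw [not_iff_not]
  exact ⟨mem_span_image_of_linearMap c c' g hg, mem_span_image_of_linearMap c' c g' hg'⟩

end jumps

section main

variable {k : Type u} {K : Type v} [Field k] [Field K] [Algebra k K]

theorem isOrders_of_span_eq {n m m' : ℕ} (τ : K →ₐ[k] K) (H : K →ₐ[k] PowerSeries K)
    (φ : Fin m → K) (ψ : Fin m' → K) (h1 : ∀ a, ψ a ∈ Submodule.span k (Set.range φ))
    (h2 : ∀ a, φ a ∈ Submodule.span k (Set.range ψ)) (J : Fin n → ℕ) :
    IsOrders K (hcol τ H ψ) J ↔ IsOrders K (hcol τ H φ) J := by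
  obtain ⟨g, hg⟩ := FHL.exists_linearMap_hcol τ H φ ψ h1
  obtain ⟨g', hg'⟩ := FHL.exists_linearMap_hcol τ H ψ φ h2
  unfold IsOrders
  simp only [isJump_iff_of_linearMaps (hcol τ H ψ) (hcol τ H φ) g' g hg' hg]

theorem kaehler_eq_hasseD_smul (hK : IsFunctionField k K) (hg : IsGeometric k K) {t : K}
    {Ht : K →ₐ[k] PowerSeries K} (hHt : IsHasseFamily t Ht) (s : K) :
    KaehlerDifferential.D k K s = hasseD Ht 1 s • KaehlerDifferential.D k K t := by
  obtain ⟨h, hh⟩ := FDE.exists_kaehler_smul hK hg s (FHs.D_ne_zero_of_isHasseFamily hHt)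
  have h1 := congrArg (FHs.hasseDer Ht hHt.2).liftKaehlerDifferential hh
  rw [map_smul, Derivation.liftKaehlerDifferential_comp_D,
    Derivation.liftKaehlerDifferential_comp_D, FHs.hasseDer_apply, FHs.hasseDer_apply, hHt.1,
    map_add, PowerSeries.coeff_C, if_neg one_ne_zero, PowerSeries.coeff_one_X, zero_add,
    smul_eq_mul, mul_one] at h1
  rw [hh, ← h1]
  rfl

/-- the tuple `Aφ` for an invertible matrix `A` over `k` and its inverse relation -/
theorem inv_relation {n : ℕ} {A : Matrix (Fin n) (Fin n) k} (hA : A.det ≠ 0) (φ : Fin n → K)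
    (i : Fin n) : φ i = ∑ j, A⁻¹ i j • ∑ l, A j l • φ l := by
  simp only [Finset.smul_sum, smul_smul]
  rw [Finset.sum_comm]
  simp only [← Finset.sum_smul]
  have h1 : ∀ l, ∑ j, A⁻¹ i j * A j l = (1 : Matrix (Fin n) (Fin n) k) i l := by
    intro l
    rw [← Matrix.mul_apply, Matrix.nonsing_inv_mul _ (isUnit_iff_ne_zero.mpr hA)]
  simp only [h1, Matrix.one_apply, ite_smul, one_smul, zero_smul, Finset.sum_ite_eq,
    Finset.mem_univ, if_true]

variable [IsAlgClosed k]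

/-- S12614 -/
theorem wDiv_eq_of_equiv (hK : IsFunctionField k K) {n : ℕ} (φ : Fin (n + 1) → K)
    (hφ : LinearIndependent k φ) (τ : K →ₐ[k] K) {s : K} {Hs : K →ₐ[k] PowerSeries K}
    (hHs : IsHasseFamily s Hs) {t : K} {Ht : K →ₐ[k] PowerSeries K} (hHt : IsHasseFamily t Ht)
    (J : Fin n → ℕ) (hJ : IsOrders K (hcol τ Hs φ) J)
    (A : Matrix (Fin (n + 1)) (Fin (n + 1)) k) (hA : A.det ≠ 0) (y : K) (hy : y ≠ 0)
    (φ' : Fin (n + 1) → K) (hφ' : ∀ i, φ' i = y * ∑ j, A i j • φ j)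
    (Φ : Place k K → (K →ₐ[k] LaurentSeries k))
    (hΦ : ∀ P : Place k K, IsExpansionAt P.1 (Φ P)) :
    wDiv τ Ht Φ t φ' J = wDiv τ Hs Φ s φ J := by
  classical
  have hg := FG.isGeometric_of_perfectField k K hK.2
  set ψ : Fin (n + 1) → K := fun i => ∑ j, A i j • φ j with hψ
  have hφ'eq : φ' = y • ψ := by
    funext i
    rw [hφ' i, Pi.smul_apply, smul_eq_mul]
  have hφ0 : ∀ i, φ i ≠ 0 := fun i => hφ.ne_zero i
  have hinv : ∀ i, φ i = ∑ j, A⁻¹ i j • ψ j := fun i => inv_relation hA φ i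
  have hψspan : ∀ i, ψ i ∈ Submodule.span k (Set.range φ) := fun i =>
    Submodule.sum_mem _ fun j _ => Submodule.smul_mem _ _ (Submodule.subset_span ⟨j, rfl⟩)
  have hφspan : ∀ i, φ i ∈ Submodule.span k (Set.range ψ) := fun i => by
    rw [hinv i]
    exact Submodule.sum_mem _ fun j _ => Submodule.smul_mem _ _ (Submodule.subset_span ⟨j, rfl⟩)
  have hspan : Submodule.span k (Set.range ψ) = Submodule.span k (Set.range φ) := by
    apply le_antisymm
    · rw [Submodule.span_le]; rintro _ ⟨i, rfl⟩; exact hψspan i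
    · rw [Submodule.span_le]; rintro _ ⟨i, rfl⟩; exact hφspan i
  have hψ0 : ∀ i, ψ i ≠ 0 := by
    intro i h0
    have h1 := Fintype.linearIndependent_iff.mp hφ (fun j => A i j) h0
    exact hA (Matrix.det_eq_zero_of_row_eq_zero i h1)
  -- the same for `τ ∘ φ`
  have hτφ0 : ∀ i, (τ ∘ φ) i ≠ 0 := fun i => by
    show τ (φ i) ≠ 0
    rw [Ne, map_eq_zero_iff τ τ.injective]
    exact hφ0 i
  have hτψ0 : ∀ i, (τ ∘ ψ) i ≠ 0 := fun i => by
    show τ (ψ i) ≠ 0
    rw [Ne, map_eq_zero_iff τ τ.injective]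
    exact hψ0 i
  have hτspan : Submodule.span k (Set.range (τ ∘ ψ)) = Submodule.span k (Set.range (τ ∘ φ)) := by
    apply le_antisymm
    · rw [Submodule.span_le]
      rintro _ ⟨i, rfl⟩
      show τ (ψ i) ∈ _
      rw [hψ, map_sum]
      refine Submodule.sum_mem _ fun j _ => ?_
      rw [map_smul]
      exact Submodule.smul_mem _ _ (Submodule.subset_span ⟨j, rfl⟩)
    · rw [Submodule.span_le]
      rintro _ ⟨i, rfl⟩
      show τ (φ i) ∈ _
      rw [hinv i, map_sum]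
      refine Submodule.sum_mem _ fun j _ => ?_
      rw [map_smul]
      exact Submodule.smul_mem _ _ (Submodule.subset_span ⟨j, rfl⟩)
  have hτφ' : (τ ∘ φ') = τ y • (τ ∘ ψ) := by
    funext i
    show τ (φ' i) = τ y * τ (ψ i)
    rw [hφ'eq, Pi.smul_apply, smul_eq_mul, map_mul]
  -- orders
  have hcv := FHs.isOrders_change_variable hK hg φ τ hHs hHt
  have hJt : IsOrders K (hcol τ Ht φ) J := (hcv.1 J).mpr hJ
  have hJψ : IsOrders K (hcol τ Ht ψ) J :=
    (isOrders_of_span_eq τ Ht φ ψ hψspan hφspan J).mpr hJt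
  -- determinants
  set W := (wrMat τ Hs φ J).det with hW
  have hW0 : W ≠ 0 := by
    obtain ⟨J₀, hJ₀, hdet₀⟩ := FHs.exists_isOrders_det_ne_zero hK hg φ hφ τ hHs
    rw [hW, ← FHL.isOrders_unique hJ₀ hJ]
    exact hdet₀
  set d := hasseD Ht 1 s with hd
  have hd0 : d ≠ 0 := FHs.hasseD_one_ne_zero hK hg hHs hHt
  have hdetφ : (wrMat τ Ht φ J).det = d ^ (∑ l, J l) * W := hcv.2 J hJ
  obtain ⟨c₁, h1⟩ := FHL.exists_det_wrMat_eq τ Ht φ ψ J hψspan
  obtain ⟨c₂, h2⟩ := FHL.exists_det_wrMat_eq τ Ht ψ φ J hφspan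
  have hdW : d ^ (∑ l, J l) * W ≠ 0 := mul_ne_zero (pow_ne_zero _ hd0) hW0
  have hc₁ : c₁ ≠ 0 := by
    rintro rfl
    rw [map_zero, zero_mul] at h1
    rw [h1, mul_zero] at h2
    rw [hdetφ] at h2
    exact hdW h2
  have hτy : τ y ≠ 0 := by rwa [Ne, map_eq_zero_iff τ τ.injective]
  have hdet' : (wrMat τ Ht φ' J).det =
      τ y * (y ^ n * (algebraMap k K c₁ * (d ^ (∑ l, J l) * W))) := by
    rw [hφ'eq, FW.det_wrMat_smul τ Ht hHt y ψ J hJψ, h1, hdetφ]
    ring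
  have hc₁' : algebraMap k K c₁ ≠ 0 := by
    rwa [Ne, map_eq_zero_iff _ (algebraMap k K).injective]
  have hdiv : FunFld.div k (wrMat τ Ht φ' J).det =
      FunFld.div k (τ y) + (n • FunFld.div k y + ((∑ l, J l) • FunFld.div k d + FunFld.div k W)) := by
    rw [hdet', FF.div_mul hK hτy (mul_ne_zero (pow_ne_zero _ hy) (mul_ne_zero hc₁' hdW)),
      FF.div_mul hK (pow_ne_zero _ hy) (mul_ne_zero hc₁' hdW), FF.div_mul hK hc₁' hdW,
      FF.div_eq_zero_of_mem_range hK ⟨c₁, rfl⟩, zero_add,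
      FF.div_mul hK (pow_ne_zero _ hd0) hW0, div_pow hK, div_pow hK]
  have hm1 : mapDiv k (τ ∘ φ') = mapDiv k (τ ∘ φ) - FunFld.div k (τ y) := by
    rw [hτφ', mapDiv_smul hK _ hτy hτψ0, mapDiv_eq_of_span_eq hK (τ ∘ φ) (τ ∘ ψ) hτφ0 hτψ0 hτspan]
  have hm2 : mapDiv k φ' = mapDiv k φ - FunFld.div k y := by
    rw [hφ'eq, mapDiv_smul hK _ hy hψ0, mapDiv_eq_of_span_eq hK φ ψ hφ0 hψ0 hspan]
  have hds : divDiff Φ 1 s = FunFld.div k d + divDiff Φ 1 t :=
    FDD.divDiff_change hK (kaehler_eq_hasseD_smul hK hg hHt s)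
      (FHs.D_ne_zero_of_isHasseFamily hHs) Φ hΦ
  unfold wDiv
  rw [hdiv, hm1, hm2, hds, ← hW]
  have hcast : (∑ l, (J l : ℤ)) = ((∑ l, J l : ℕ) : ℤ) := by push_cast; rfl
  rw [hcast, ← natCast_zsmul (FunFld.div k y) n, ← natCast_zsmul (FunFld.div k d) (∑ l, J l)]
  module

end main

end Groth.Agent.Lib.helper16.FWI
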