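import Groth.Agent.Lib.helper16.FPlaneNS1
import Groth.Agent.Lib.helper16.FWDivInv

/-! Helper library (helper16): the local ring of a plane map under a projective change of
coordinates (towards S12613). -/

set_option autoImplicit false

namespace Groth.Agent.Lib.helper16.FANS

open FunFld WithZero
open Groth.Agent.Lib.helper16 Groth.Agent.Lib.helper16.FF

variable {k K : Type*} [Field k] [Field K] [Algebra k K]

/-- nonsingularity of a plane map at `Q` read in new projective coordinates `u = A⁻¹ φ` whose first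
entry has least order at `Q` -/
theorem isNonsingularAt_iff (φ : Fin 3 → K) (Q : Place k K) (A : Matrix (Fin 3) (Fin 3) k)
    (hA : A.det ≠ 0) (u : Fin 3 → K)
    (hu : ∀ i, ∑ j, algebraMap k K (A i j) * u j = φ i) (hu0 : u 0 ≠ 0)
    (hmax : ∀ l, Q.1 (u l) ≤ Q.1 (u 0)) :
    IsNonsingularAt φ Q ↔
      ∀ z : K, Q.1 z ≤ 1 →
        InLoc (Algebra.adjoin k ({u 1 / u 0, u 2 / u 0} : Set K)) Q z := by
  classical
  obtain ⟨R', hR'def⟩ : ∃ R' : Subalgebra k K,
      R' = Algebra.adjoin k ({u 1 / u 0, u 2 / u 0} : Set K) := ⟨_, rfl⟩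
  rw [← hR'def]
  have hB : ∀ l, u l = ∑ i, algebraMap k K (A⁻¹ l i) * φ i := by
    intro l
    have h1 := FWI.inv_relation (K := K) hA u l
    rw [h1]
    apply Finset.sum_congr rfl
    intro j _
    rw [Algebra.smul_def, ← hu j]
    congr 1
    apply Finset.sum_congr rfl
    intro m _
    rw [Algebra.smul_def]
  have hu0v : Q.1 (u 0) ≠ 0 := val_ne_zero Q hu0
  have hφle : ∀ i, Q.1 (φ i) ≤ Q.1 (u 0) := by
    intro i
    rw [← hu i]
    apply Valuation.map_sum_le
    intro j _
    rw [map_mul]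
    exact le_trans (mul_le_of_le_one_left' (Q.2.1 _)) (hmax j)
  have hule : ∀ j, (∀ i, Q.1 (φ i) ≤ Q.1 (φ j)) → Q.1 (u 0) ≤ Q.1 (φ j) := by
    intro j hj
    rw [hB 0]
    apply Valuation.map_sum_le
    intro i _
    rw [map_mul]
    exact le_trans (mul_le_of_le_one_left' (Q.2.1 _)) (hj i)
  have huj : ∀ j, u j / u 0 ∈ R' := by
    intro j
    rw [hR'def]
    fin_cases j
    · show u 0 / u 0 ∈ _
      rw [div_self hu0]
      exact Subalgebra.one_mem _
    · exact Algebra.subset_adjoin (by simp)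
    · exact Algebra.subset_adjoin (by simp)
  constructor
  · intro hns z hz
    refine FPN.inLoc_of_inLocRing' φ Q R' hu0 ?_ ?_ (hns z hz)
    · intro i
      rw [← hu i, Finset.sum_div]
      refine R'.sum_mem (fun j _ => ?_)
      rw [mul_div_assoc]
      exact R'.mul_mem (R'.algebraMap_mem _) (huj j)
    · intro j hj
      exact le_antisymm (hφle j) (hule j hj)
  · intro h z hz
    obtain ⟨a, ha, b, hb, hb1, hzb⟩ := h z hz
    obtain ⟨j, hj⟩ := Finite.exists_max (fun i => Q.1 (φ i))
    have hφj : Q.1 (φ j) = Q.1 (u 0) := le_antisymm (hφle j) (hule j hj)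
    have hφj0 : φ j ≠ 0 := by
      intro h0
      rw [h0, map_zero] at hφj
      exact hu0v hφj.symm
    obtain ⟨Rj, hRjdef⟩ : ∃ Rj : Subalgebra k K,
        Rj = Algebra.adjoin k (Set.range fun i => φ i / φ j) := ⟨_, rfl⟩
    have hgen : ∀ l, u l / φ j ∈ Rj := by
      intro l
      rw [hB l, Finset.sum_div]
      refine Rj.sum_mem (fun i _ => ?_)
      rw [mul_div_assoc]
      refine Rj.mul_mem (Rj.algebraMap_mem _) ?_
      rw [hRjdef]
      exact Algebra.subset_adjoin ⟨i, rfl⟩
    have hunit : Q.1 (u 0 / φ j) = 1 := by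
      rw [map_div₀, hφj]
      exact div_self hu0v
    have hquot : ∀ l, InLoc Rj Q (u l / u 0) := by
      intro l
      have e1 : u l / u 0 = (u l / φ j) / (u 0 / φ j) := by
        field_simp
      rw [e1]
      exact FPN.InLoc.div (InLoc.of_mem (hgen l)) (InLoc.of_mem (hgen 0)) hunit
    have hS : ∀ g ∈ ({u 1 / u 0, u 2 / u 0} : Set K), InLoc Rj Q g := by
      intro g hg
      rcases hg with rfl | hg
      · exact hquot 1
      · rw [Set.mem_singleton_iff] at hg
        rw [hg]
        exact hquot 2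
    rw [hR'def] at ha hb
    have hb0 : b ≠ 0 := by
      rintro rfl
      rw [map_zero] at hb1
      exact zero_ne_one hb1
    have hz' : z = a / b := by
      rw [← hzb, mul_div_cancel_right₀ _ hb0]
    have hfin : InLoc Rj Q z := by
      rw [hz']
      exact FPN.InLoc.div (FPN.InLoc.of_adjoin hS ha) (FPN.InLoc.of_adjoin hS hb) hb1
    obtain ⟨a', ha', b', hb', hb1', h'⟩ := hfin
    rw [hRjdef] at ha' hb'
    exact ⟨j, hφj0, hj, a', ha', b', hb', hb1', h'⟩

end Groth.Agent.Lib.helper16.FANS
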