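import Groth.Agent.Lib.helper16.FAdjAffine
import Groth.Agent.Lib.helper16.FAdjHom
import Groth.Agent.Lib.helper16.FAdjNS
import Groth.Agent.Lib.helper16.FAdjInv

/-! Helper library (helper16): the adjoint coefficient at a place after a suitable change of
projective coordinates (towards S12613). -/

set_option autoImplicit false

namespace Groth.Agent.Lib.helper16.FAS

open FunFld WithZero Module LocRes MvPolynomial
open Groth.Agent.Lib.helper16 Groth.Agent.Lib.helper16.FF
open scoped IntermediateField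

universe u v

variable {k : Type u} {K : Type v} [Field k] [Field K] [Algebra k K] [IsAlgClosed k]

/-- the divisor of a plane map under a change of projective coordinates -/
theorem mapDiv_coord (hK : IsFunctionField k K) (x y : K)
    (A : Matrix (Fin 3) (Fin 3) k) (hA : A.det ≠ 0) (u : Fin 3 → K)
    (hu : ∀ i, ∑ j, algebraMap k K (A i j) * u j = ![(1 : K), x, y] i) (hu0 : u 0 ≠ 0) :
    mapDiv k ![(1 : K), x, y] =
      mapDiv k ![(1 : K), u 1 / u 0, u 2 / u 0] - FunFld.div k (u 0) := by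
  set φ : Fin 3 → K := ![(1 : K), x, y] with hφ
  set φ' : Fin 3 → K := ![(1 : K), u 1 / u 0, u 2 / u 0] with hφ'
  set ψ : Fin 3 → K := fun i => ∑ j, A i j • φ' j with hψ
  have hφψ : φ = u 0 • ψ := by
    funext i
    rw [Pi.smul_apply, smul_eq_mul, hψ, ← hu i, Finset.mul_sum]
    apply Finset.sum_congr rfl
    intro j _
    rw [Algebra.smul_def, mul_left_comm]
    congr 1
    fin_cases j
    · show u 0 = u 0 * (1 : K)
      rw [mul_one]
    · show u 1 = u 0 * (u 1 / u 0)
      rw [mul_div_cancel₀ _ hu0]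
    · show u 2 = u 0 * (u 2 / u 0)
      rw [mul_div_cancel₀ _ hu0]
  have heffφ' : (1 : K) ∈ Submodule.span k (Set.range φ') :=
    Submodule.subset_span ⟨0, rfl⟩
  have heffφ : (1 : K) ∈ Submodule.span k (Set.range φ) :=
    Submodule.subset_span ⟨0, rfl⟩
  have hspan : Submodule.span k (Set.range ψ) = Submodule.span k (Set.range φ') := by
    apply le_antisymm
    · rw [Submodule.span_le]
      rintro _ ⟨i, rfl⟩
      exact Submodule.sum_mem _ fun j _ =>
        Submodule.smul_mem _ _ (Submodule.subset_span ⟨j, rfl⟩)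
    · rw [Submodule.span_le]
      rintro _ ⟨i, rfl⟩
      show φ' i ∈ _
      rw [FWI.inv_relation hA φ' i]
      exact Submodule.sum_mem _ fun j _ =>
        Submodule.smul_mem _ _ (Submodule.subset_span ⟨j, rfl⟩)
  have heffψ : (1 : K) ∈ Submodule.span k (Set.range ψ) := by rw [hspan]; exact heffφ'
  have h5 : (1 : K) ∈ Submodule.span k (Set.range (u 0 • ψ)) := by rw [← hφψ]; exact heffφ
  rw [hφψ, FAI.mapDiv_smul_of_eff hK ψ heffψ hu0 h5,
    FAI.mapDiv_eq_of_span_eq_eff hK φ' ψ heffφ' hspan]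

/-- **the adjoint coefficient** computed through a change of projective coordinates adapted to
the place `Q` -/
theorem of_coord (hK : IsFunctionField k K) (x y : K)
    (hxy : IntermediateField.adjoin k ({x, y} : Set K) = ⊤)
    (f : MvPolynomial (Fin 2) k) (hf : Irreducible f) (hfxy : aeval ![x, y] f = 0)
    (Q : Place k K) (ΦQ : K →ₐ[k] LaurentSeries k) (hΦQ : IsExpansionAt Q.1 ΦQ)
    (hne : vDiff ΦQ (aeval ![x, y] (pderiv 1 f))⁻¹ x ≠ 0)
    (A : Matrix (Fin 3) (Fin 3) k) (hA : A.det ≠ 0) (u : Fin 3 → K)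
    (hu : ∀ i, ∑ j, algebraMap k K (A i j) * u j = ![(1 : K), x, y] i) (hu0 : u 0 ≠ 0)
    (hmax : ∀ l, Q.1 (u l) ≤ Q.1 (u 0))
    (hdx' : KaehlerDifferential.D k K (u 1 / u 0) ≠ 0)
    (hw : aeval (fun i => A i 2) (FAH.hom f) ≠ 0) :
    0 ≤ ((mapDiv k ![(1 : K), x, y]).deg - 3) * mapDiv k ![(1 : K), x, y] Q -
        ordDiff ΦQ (aeval ![x, y] (pderiv 1 f))⁻¹ x ∧
    (((mapDiv k ![(1 : K), x, y]).deg - 3) * mapDiv k ![(1 : K), x, y] Q -
        ordDiff ΦQ (aeval ![x, y] (pderiv 1 f))⁻¹ x = 0 ↔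
      IsNonsingularAt ![(1 : K), x, y] Q) := by
  classical
  obtain ⟨F, hFdef⟩ : ∃ F : MvPolynomial (Fin 3) k, F = FAH.hom f := ⟨_, rfl⟩
  obtain ⟨e, hedef⟩ : ∃ e : ℕ, e = f.totalDegree := ⟨_, rfl⟩
  have hFh : F.IsHomogeneous e := by rw [hFdef, hedef]; exact FAH.hom_isHomogeneous f
  have hFv : aeval ![(1 : K), x, y] F = 0 := by rw [hFdef, FAH.aeval_hom, hfxy]
  have hFy : aeval ![(1 : K), x, y] (pderiv 2 F) = aeval ![x, y] (pderiv 1 f) := by
    rw [hFdef]; exact FAH.aeval_pderiv_hom f x y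
  have he : (mapDiv k ![(1 : K), x, y]).deg = e := by
    rw [hedef]; exact FPD.main hK x y hxy f hf hfxy
  obtain ⟨gy, hgydef⟩ : ∃ gy : K, gy = aeval ![x, y] (pderiv 1 f) := ⟨_, rfl⟩
  rw [← hgydef] at hne hFy ⊢
  have hgy0 : gy ≠ 0 := by
    rintro rfl
    apply hne
    unfold vDiff
    rw [inv_zero, map_zero, zero_mul, map_zero]
  have hD : LocRes.D k (ΦQ x) ≠ 0 := by
    intro h0
    apply hne
    unfold vDiff
    rw [h0, mul_zero, map_zero]
  have hdx : KaehlerDifferential.D k K x ≠ 0 := FDE.kaehler_ne_zero_of_D_ne_zero ΦQ hD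
  -- the transformed form
  obtain ⟨G, hGdef⟩ : ∃ G : MvPolynomial (Fin 3) k, G = aeval (FKP.lin A) F := ⟨_, rfl⟩
  have hGh : G.IsHomogeneous e := by rw [hGdef]; exact FAH.isHomogeneous_aeval_lin A hFh
  have hGc : G.coeff (Finsupp.single 2 e) ≠ 0 := by
    rw [hGdef, FAH.coeff_aeval_lin A hFh, hFdef]; exact hw
  obtain ⟨x', hx'def⟩ : ∃ x' : K, x' = u 1 / u 0 := ⟨_, rfl⟩
  obtain ⟨y', hy'def⟩ : ∃ y' : K, y' = u 2 / u 0 := ⟨_, rfl⟩
  have hGu : aeval ![(1 : K), x', y'] G = 0 := by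
    have huw : (![(1 : K), x', y'] : Fin 3 → K) = fun i => (u 0)⁻¹ * u i := by
      funext i
      fin_cases i
      · show (1 : K) = (u 0)⁻¹ * u 0
        rw [inv_mul_cancel₀ hu0]
      · show x' = (u 0)⁻¹ * u 1
        rw [hx'def, div_eq_inv_mul]
      · show y' = (u 0)⁻¹ * u 2
        rw [hy'def, div_eq_inv_mul]
    have hcomp : (fun i => aeval u (FKP.lin A i)) = ![(1 : K), x, y] := by
      funext i
      rw [FKP.aeval_lin, hu i]
    rw [huw, FT.aeval_mul_of_isHomogeneous hGh, hGdef, comp_aeval_apply, hcomp, hFv, mul_zero]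
  have hxy' : IntermediateField.adjoin k ({x', y'} : Set K) = ⊤ := by
    obtain ⟨L, hLdef⟩ : ∃ L : IntermediateField k K,
        L = IntermediateField.adjoin k ({x', y'} : Set K) := ⟨_, rfl⟩
    rw [← hLdef]
    have hul : ∀ l, u l / u 0 ∈ L := by
      intro l
      rw [hLdef]
      fin_cases l
      · show u 0 / u 0 ∈ _
        rw [div_self hu0]
        exact one_mem _
      · show u 1 / u 0 ∈ _
        rw [← hx'def]
        exact IntermediateField.subset_adjoin k _ (by simp)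
      · show u 2 / u 0 ∈ _
        rw [← hy'def]
        exact IntermediateField.subset_adjoin k _ (by simp)
    have hvl : ∀ i, ![(1 : K), x, y] i / u 0 ∈ L := by
      intro i
      rw [← hu i, Finset.sum_div]
      refine sum_mem (fun j _ => ?_)
      rw [mul_div_assoc]
      exact mul_mem (IntermediateField.algebraMap_mem _ _) (hul j)
    have hu0L : u 0 ∈ L := by
      have h1 := hvl 0
      have h2 : ![(1 : K), x, y] 0 / u 0 = (u 0)⁻¹ := by
        show (1 : K) / u 0 = _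
        rw [one_div]
      rw [h2] at h1
      have := inv_mem h1
      rwa [inv_inv] at this
    have hvL : ∀ i, ![(1 : K), x, y] i ∈ L := by
      intro i
      have := mul_mem (hvl i) hu0L
      rwa [div_mul_cancel₀ _ hu0] at this
    rw [eq_top_iff, ← hxy, IntermediateField.adjoin_le_iff]
    intro g hg
    rcases hg with rfl | hg
    · exact hvL 1
    · rw [Set.mem_singleton_iff] at hg
      rw [hg]
      exact hvL 2
  have hmapc := mapDiv_coord hK x y A hA u hu hu0
  rw [← hx'def, ← hy'def] at hmapc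
  have hdeg' : (mapDiv k ![(1 : K), x', y']).deg = e := by
    rw [← he, hmapc, FF.deg_sub, FF.deg_div_eq_zero hK, sub_zero]
  have hQx' : Q.1 x' ≤ 1 := by
    rw [hx'def, map_div₀]
    exact div_le_one_of_le₀ (hmax 1) zero_le
  rw [← hx'def] at hdx'
  obtain ⟨hgy', hQy', hmapQ', hnn, hiff⟩ :=
    FAN.affine hK x' y' hxy' hdx' G e hGh hGc hGu hdeg' Q hQx' ΦQ hΦQ
  -- a family of expansions
  obtain ⟨Φ, hΦdef⟩ : ∃ Φ : Place k K → (K →ₐ[k] LaurentSeries k),
      Φ = fun P => if P = Q then ΦQ else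
        FHL.Φ hK P (Classical.choose_spec (exists_uniformizer P)) := ⟨_, rfl⟩
  have hΦ : ∀ P : Place k K, IsExpansionAt P.1 (Φ P) := by
    intro P
    rw [hΦdef]
    by_cases hP : P = Q
    · simp only [if_pos hP]
      rw [hP]
      exact hΦQ
    · simp only [if_neg hP]
      exact FHL.isExp hK P _
  have hΦQeq : Φ Q = ΦQ := by rw [hΦdef]; simp only [if_true]
  have hcc := FAI.adjointDiv_eq_of_coord_change hK F e hFh x y hFv hdx he A hA u hu hu0
    (by rw [hFy]; exact hgy0) (by rw [← hx'def, ← hy'def, ← hGdef]; exact hgy') Φ hΦ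
  rw [← hx'def, ← hy'def, ← hGdef, hFy] at hcc
  have hccQ := DFunLike.congr_fun hcc Q
  rw [Finsupp.sub_apply, Finsupp.sub_apply, Finsupp.smul_apply, Finsupp.smul_apply,
    FDD.divDiff_apply hK _ _ hdx Φ hΦ Q, FDD.divDiff_apply hK _ _ hdx' Φ hΦ Q, hΦQeq, hmapQ',
    smul_zero, zero_sub, smul_eq_mul] at hccQ
  rw [hccQ]
  have hNS := FANS.isNonsingularAt_iff ![(1 : K), x, y] Q A hA u hu hu0 hmax
  rw [← hx'def, ← hy'def] at hNS
  rw [hNS]
  exact ⟨hnn, hiff⟩

end Groth.Agent.Lib.helper16.FAS
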