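import Groth.Agent.Lib.helper16.FGeom
import Groth.Agent.Lib.helper16.FXExt

/-! Helper library (helper16): intermediate fields of function fields. -/

set_option autoImplicit false

namespace Groth.Agent.Lib.helper16.FG

open FunFld Polynomial Module Groth.Agent.Lib.helper16.FX
open scoped TensorProduct IntermediateField

/-- a lower finiteness: if `K'` is finite over `k(x')` (`x'` the image of `x`), then `K` is finite
over `k(x)` -/
theorem finiteDimensional_adjoin_of_algebraMap {k K K' : Type*} [Field k] [Field K] [Field K']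
    [Algebra k K] [Algebra K K'] [Algebra k K'] [IsScalarTower k K K'] (x : K)
    [FiniteDimensional k⟮algebraMap K K' x⟯ K'] : FiniteDimensional k⟮x⟯ K := by
  have he : (algebraMap k⟮x⟯ K').comp (adjoinEquiv (K' := K') x).symm.toRingEquiv.toRingHom =
      (RingEquiv.refl K').toRingHom.comp (algebraMap k⟮algebraMap K K' x⟯ K') := by
    ext a
    obtain ⟨a', rfl⟩ := (adjoinEquiv (K' := K') x).surjective a
    simp only [RingHom.coe_comp, Function.comp_apply]
    show algebraMap k⟮x⟯ K' ((adjoinEquiv (K' := K') x).symm (adjoinEquiv (K' := K') x a')) = _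
    rw [AlgEquiv.symm_apply_apply]
    rfl
  have h1 : Module.Finite k⟮x⟯ K' :=
    Module.Finite.of_equiv_equiv (adjoinEquiv (K' := K') x).symm.toRingEquiv (RingEquiv.refl K') he
  exact Module.Finite.of_injective (IsScalarTower.toAlgHom k⟮x⟯ K K').toLinearMap
    (algebraMap K K').injective

theorem isFunctionField_intermediateField (k K : Type*) [Field k] [Field K] [Algebra k K]
    (hK : IsFunctionField k K) (K₀ : IntermediateField k K)
    (h₀ : ∃ x ∈ K₀, Transcendental k x) : IsFunctionField k K₀ := by
  obtain ⟨x₀, hx₀mem, hx₀⟩ := h₀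
  refine ⟨⟨⟨x₀, hx₀mem⟩, ?_, ?_⟩, ?_⟩
  · exact (transcendental_algebraMap_iff (S := K₀) (A := K) (algebraMap K₀ K).injective).mp hx₀
  · have : FiniteDimensional k⟮algebraMap K₀ K ⟨x₀, hx₀mem⟩⟯ K :=
      finiteDimensional_of_transcendental hK.1 hx₀
    exact finiteDimensional_adjoin_of_algebraMap (K' := K) (⟨x₀, hx₀mem⟩ : K₀)
  · intro y hy
    have hy' : IsAlgebraic k (algebraMap K₀ K y) :=
      (isAlgebraic_algebraMap_iff (algebraMap K₀ K).injective).mpr hy
    obtain ⟨c, hc⟩ := hK.2 _ hy'
    exact ⟨c, Subtype.ext hc⟩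

end Groth.Agent.Lib.helper16.FG
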