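import Groth.Agent.Lib.helper16.FSepK
import Mathlib

/-! Helper library (helper16): the subfield `kK^p` of a geometric function field. -/

set_option autoImplicit false

namespace Groth.Agent.Lib.helper16.FS

open FunFld Polynomial Module KaehlerDifferential
open scoped IntermediateField

section converse

variable {F E : Type*} [Field F] [Field E] [Algebra F E] (p : ℕ) [hp : Fact p.Prime] [CharP F p]

omit hp [CharP F p] in
/-- if `E = F(E^p)` then the `F`-span of `E^p` is everything (algebraic case) -/
theorem span_range_pow_eq_top [Algebra.IsAlgebraic F E]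
    (h : IntermediateField.adjoin F (Set.range fun y : E => y ^ p) = ⊤) :
    Submodule.span F (Set.range fun y : E => y ^ p) = ⊤ := by
  have h1 := congrArg IntermediateField.toSubalgebra h
  rw [IntermediateField.adjoin_toSubalgebra_of_isAlgebraic
    fun x _ ↦ Algebra.IsAlgebraic.isAlgebraic x, IntermediateField.top_toSubalgebra] at h1
  have h2 := congrArg Subalgebra.toSubmodule h1
  rw [Algebra.adjoin_eq_span, Algebra.top_toSubmodule] at h2
  have h3 := (MonoidHom.mrange (powMonoidHom (α := E) p)).closure_eq
  have h4 : ((MonoidHom.mrange (powMonoidHom (α := E) p) : Submonoid E) : Set E) =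
      Set.range fun y : E => y ^ p := by
    ext z
    simp [powMonoidHom]
  rw [← h2, ← h4, h3]

/-- a basis stays spanning after taking `p`-th powers, if `E = F(E^p)` -/
theorem span_basis_pow_eq_top [FiniteDimensional F E]
    (h : IntermediateField.adjoin F (Set.range fun y : E => y ^ p) = ⊤) {ι : Type*} [Fintype ι]
    (b : Basis ι F E) : Submodule.span F (Set.range fun i => b i ^ p) = ⊤ := by
  have hE : CharP E p := charP_of_injective_algebraMap (algebraMap F E).injective p
  rw [eq_top_iff, ← span_range_pow_eq_top p h, Submodule.span_le]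
  rintro _ ⟨y, rfl⟩
  show y ^ p ∈ Submodule.span F (Set.range fun i => b i ^ p)
  have hy : y ^ p = ∑ i, (b.repr y i • b i) ^ p := by
    conv_lhs => rw [← b.sum_repr y]
    exact sum_pow_char p _ _
  rw [hy]
  apply Submodule.sum_mem
  intro i _
  rw [Algebra.smul_def, mul_pow, ← map_pow, ← Algebra.smul_def]
  exact Submodule.smul_mem _ _ (Submodule.subset_span ⟨i, rfl⟩)

/-- linear independence is preserved by `p`-th powers, if `E = F(E^p)` -/
theorem linearIndependent_pow_of_adjoin_pow_eq_top [FiniteDimensional F E]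
    (h : IntermediateField.adjoin F (Set.range fun y : E => y ^ p) = ⊤) {ι : Type*} {v : ι → E}
    (hv : LinearIndependent F v) : LinearIndependent F (fun i => v i ^ p) := by
  have h' := hv.linearIndepOn_id
  let ι' := h'.extend (Set.range v).subset_univ
  let b : Basis ι' F E := Basis.extend h'
  let _ : Fintype ι' := FiniteDimensional.fintypeBasisIndex b
  have H := linearIndependent_of_top_le_span_of_card_eq_finrank
    (span_basis_pow_eq_top p h b).ge (Module.finrank_eq_card_basis b).symm
  let f (i : ι) : ι' := ⟨v i, h'.subset_extend _ ⟨i, rfl⟩⟩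
  have H2 := H.comp f fun _ _ heq ↦ hv.injective (by simpa only [f, Subtype.mk.injEq] using heq)
  convert H2 using 1
  ext i
  simp only [Function.comp_apply, b, f]
  rw [Basis.extend_apply_self]

/-- **converse**: a finite extension with `E = F(E^p)` is separable -/
theorem isSeparable_of_adjoin_pow_eq_top [FiniteDimensional F E]
    (h : IntermediateField.adjoin F (Set.range fun y : E => y ^ p) = ⊤) :
    Algebra.IsSeparable F E := by
  refine ⟨fun z => ?_⟩
  have hint : IsIntegral F z := Algebra.IsIntegral.isIntegral z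
  have hirr := minpoly.irreducible hint
  rcases separable_or p hirr with hsep | ⟨-, g, hg, hexp⟩
  · exact hsep
  exfalso
  have hg0 : g ≠ 0 := hg.ne_zero
  have hdeg : (minpoly F z).natDegree = g.natDegree * p := by
    rw [← hexp, natDegree_expand]
  have hgpos : 0 < g.natDegree := hg.natDegree_pos
  have hlt : g.natDegree + 1 ≤ (minpoly F z).natDegree := by
    rw [hdeg]
    have := hp.out.two_le
    nlinarith
  have hli : LinearIndependent F fun j : Fin (g.natDegree + 1) => z ^ (j : ℕ) :=
    (linearIndependent_pow (K := F) z).comp (Fin.castLE hlt) (Fin.castLE_injective hlt)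
  have hli2 := linearIndependent_pow_of_adjoin_pow_eq_top p h hli
  rw [Fintype.linearIndependent_iff] at hli2
  have h0 : ∑ j : Fin (g.natDegree + 1), g.coeff j • (z ^ (j : ℕ)) ^ p = 0 := by
    have h1 : aeval z (expand F p g) = 0 := by rw [hexp, minpoly.aeval]
    rw [expand_aeval, aeval_eq_sum_range, Finset.sum_range] at h1
    rw [← h1]
    apply Finset.sum_congr rfl
    intro j _
    rw [← pow_mul, ← pow_mul, mul_comm]
  have h2 := hli2 (fun j => g.coeff j) h0 (Fin.last _)
  exact hg0 (leadingCoeff_eq_zero.mp h2)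

end converse

section kKp

universe u v

variable {k : Type u} {K : Type v} [Field k] [Field K] [Algebra k K] (p : ℕ) [hp : Fact p.Prime]
  [CharP K p]

omit hp in
/-- differentials vanish on `kK^p` -/
theorem D_eq_zero_of_mem {z : K}
    (hz : z ∈ IntermediateField.adjoin k (Set.range fun y : K => y ^ p)) : D k K z = 0 := by
  induction hz using IntermediateField.adjoin_induction with
  | mem z hz =>
    obtain ⟨y, rfl⟩ := hz
    rw [Derivation.leibniz_pow, ← Nat.cast_smul_eq_nsmul K, CharP.cast_eq_zero K p, zero_smul]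
  | algebraMap c => exact Derivation.map_algebraMap _ _
  | add x y _ _ hx hy => rw [map_add, hx, hy, add_zero]
  | inv x _ hx => rw [Derivation.leibniz_inv, hx, smul_zero]
  | mul x y _ _ hx hy => rw [Derivation.leibniz, hx, hy, smul_zero, smul_zero, add_zero]

/-- a variable generating `K` over `kK^p` is separating -/
theorem isSeparable_of_adjoin_union_eq_top {x : K} [FiniteDimensional k⟮x⟯ K]
    (h : IntermediateField.adjoin k ({x} ∪ Set.range fun y : K => y ^ p) = ⊤) :
    Algebra.IsSeparable k⟮x⟯ K := by
  have : CharP k⟮x⟯ p := RingHom.charP (algebraMap k⟮x⟯ K) (algebraMap k⟮x⟯ K).injective p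
  apply isSeparable_of_adjoin_pow_eq_top p
  rw [← IntermediateField.restrictScalars_eq_top_iff (K := k),
    IntermediateField.adjoin_adjoin_left, h]

/-- a separating variable generates `K` over `kK^p` -/
theorem adjoin_union_eq_top_of_isSeparable {x : K} [Algebra.IsSeparable k⟮x⟯ K] :
    IntermediateField.adjoin k ({x} ∪ Set.range fun y : K => y ^ p) = ⊤ := by
  have : CharP k⟮x⟯ p := RingHom.charP (algebraMap k⟮x⟯ K) (algebraMap k⟮x⟯ K).injective p
  have : ExpChar k⟮x⟯ p := ExpChar.prime hp.out
  rw [eq_top_iff]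
  intro z _
  have h1 := IntermediateField.adjoin_simple_eq_adjoin_pow_expChar_of_isSeparable' k⟮x⟯ K z p
  have h2 : z ∈ (k⟮x⟯⟮z ^ p⟯).restrictScalars k := by
    rw [IntermediateField.mem_restrictScalars, ← h1]
    exact IntermediateField.mem_adjoin_simple_self _ _
  rw [IntermediateField.adjoin_adjoin_left] at h2
  refine IntermediateField.adjoin.mono k _ _ ?_ h2
  rintro w (hw | hw)
  · exact Or.inl hw
  · rw [Set.mem_singleton_iff] at hw
    exact Or.inr ⟨z, hw.symm⟩

/-- `[K : kK^p] = p` as soon as a separating variable exists -/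
theorem finrank_kKp_of_separating {x : K} (hx : Transcendental k x)
    [Algebra.IsSeparable k⟮x⟯ K] :
    finrank (IntermediateField.adjoin k (Set.range fun y : K => y ^ p)) K = p := by
  obtain ⟨M, hM⟩ : ∃ M : IntermediateField k K,
      M = IntermediateField.adjoin k (Set.range fun y : K => y ^ p) := ⟨_, rfl⟩
  rw [← hM]
  have hxM : x ∉ M := by
    intro hxM
    rw [hM] at hxM
    obtain ⟨b, hb⟩ := exists_basis_of_separating hx
    have := b.ne_zero ()
    rw [hb, D_eq_zero_of_mem p hxM] at this
    exact this rfl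
  have hxp : x ^ p ∈ M := by
    rw [hM]
    exact IntermediateField.subset_adjoin _ _ ⟨x, rfl⟩
  have htop : M⟮x⟯ = ⊤ := by
    rw [← IntermediateField.restrictScalars_eq_top_iff (K := k), hM,
      IntermediateField.adjoin_adjoin_left, Set.union_comm]
    exact adjoin_union_eq_top_of_isSeparable p
  have hirr : Irreducible (X ^ p - C (⟨x ^ p, hxp⟩ : M)) := by
    apply X_pow_sub_C_irreducible_of_prime hp.out
    intro b hb
    have h1 : ((b : K)) ^ p = x ^ p := congrArg Subtype.val hb
    have h2 : ((b : K) - x) ^ p = 0 := by rw [sub_pow_char, h1, sub_self]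
    have h3 : (b : K) = x := sub_eq_zero.mp (eq_zero_of_pow_eq_zero h2)
    exact hxM (h3 ▸ b.2)
  have hroot : aeval x (X ^ p - C (⟨x ^ p, hxp⟩ : M)) = 0 := by
    rw [map_sub, map_pow, aeval_X, aeval_C]
    exact sub_self _
  have hmin : minpoly M x = X ^ p - C (⟨x ^ p, hxp⟩ : M) :=
    (minpoly.eq_of_irreducible_of_monic hirr hroot
      (monic_X_pow_sub_C _ hp.out.ne_zero)).symm
  have hint : IsIntegral M x := by
    refine ⟨_, monic_X_pow_sub_C (⟨x ^ p, hxp⟩ : M) hp.out.ne_zero, ?_⟩
    rw [← aeval_def]
    exact hroot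
  rw [← IntermediateField.finrank_top', ← htop, IntermediateField.adjoin.finrank hint, hmin,
    natDegree_X_pow_sub_C]

/-- S11001: `[K : kK^p] = p` -/
theorem finrank_kKp (hK : IsFunctionField k K) (hg : IsGeometric k K) :
    finrank (IntermediateField.adjoin k (Set.range fun y : K => y ^ p)) K = p := by
  obtain ⟨x, hx, hsep⟩ := exists_separating hK hg
  exact finrank_kKp_of_separating p hx

/-- a separating variable is transcendental -/
theorem transcendental_of_isSeparable (hK : IsFunctionField k K) {x : K}
    (hsep : Algebra.IsSeparable k⟮x⟯ K) : Transcendental k x := by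
  intro halg
  obtain ⟨⟨x₀, hx₀, -⟩, -⟩ := hK
  have h1 : Algebra.IsAlgebraic k k⟮x⟯ := IntermediateField.isAlgebraic_adjoin_simple halg.isIntegral
  have h2 : Algebra.IsAlgebraic k⟮x⟯ K := inferInstance
  have h3 : Algebra.IsAlgebraic k K := Algebra.IsAlgebraic.trans k k⟮x⟯ K
  exact hx₀ (Algebra.IsAlgebraic.isAlgebraic x₀)

/-- the differential of a separating variable is nonzero -/
theorem D_ne_zero_of_isSeparable (hK : IsFunctionField k K) {x : K}
    (hsep : Algebra.IsSeparable k⟮x⟯ K) : D k K x ≠ 0 := by
  obtain ⟨b, hb⟩ := exists_basis_of_separating (transcendental_of_isSeparable hK hsep)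
  rw [← hb ()]
  exact b.ne_zero ()

/-- elements outside `kK^p` are separating variables -/
theorem isSeparable_of_not_mem (hK : IsFunctionField k K) (hg : IsGeometric k K) {x : K}
    (hx : x ∉ IntermediateField.adjoin k (Set.range fun y : K => y ^ p)) :
    Algebra.IsSeparable k⟮x⟯ K := by
  have hdeg := finrank_kKp p hK hg
  obtain ⟨M, hM⟩ : ∃ M : IntermediateField k K,
      M = IntermediateField.adjoin k (Set.range fun y : K => y ^ p) := ⟨_, rfl⟩
  rw [← hM] at hx hdeg
  have hxtr : Transcendental k x := by
    intro halg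
    obtain ⟨c, rfl⟩ := hK.2 x halg
    exact hx (M.algebraMap_mem c)
  have hfd : FiniteDimensional k⟮x⟯ K := FX.finiteDimensional_of_transcendental hK.1 hxtr
  have hfdM : FiniteDimensional M K :=
    Module.finite_of_finrank_pos (by rw [hdeg]; exact hp.out.pos)
  have hmul := Module.finrank_mul_finrank M M⟮x⟯ K
  rw [hdeg] at hmul
  have hne1 : finrank M M⟮x⟯ ≠ 1 := by
    intro h1
    rw [IntermediateField.finrank_adjoin_simple_eq_one_iff, IntermediateField.mem_bot] at h1
    obtain ⟨m, rfl⟩ := h1
    exact hx m.2
  have hp1 : finrank M M⟮x⟯ = p :=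
    ((Nat.Prime.eq_one_or_self_of_dvd hp.out _ ⟨_, hmul.symm⟩).resolve_left hne1)
  have h1 : finrank M⟮x⟯ K = 1 := by
    rw [hp1] at hmul
    exact Nat.eq_of_mul_eq_mul_left hp.out.pos (by rw [hmul, mul_one])
  have htop : M⟮x⟯ = ⊤ := by
    apply IntermediateField.eq_of_le_of_finrank_eq' le_top
    rw [h1, IntermediateField.finrank_top]
  apply isSeparable_of_adjoin_union_eq_top p
  rw [Set.union_comm, ← IntermediateField.adjoin_adjoin_left, ← hM,
    IntermediateField.restrictScalars_eq_top_iff]
  exact htop

/-- S11002 -/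
theorem mem_kKp_iff (hK : IsFunctionField k K) (hg : IsGeometric k K) (x : K) :
    (x ∈ IntermediateField.adjoin k (Set.range fun y : K => y ^ p) ↔ D k K x = 0) ∧
    (x ∈ IntermediateField.adjoin k (Set.range fun y : K => y ^ p) ↔
      ¬ Algebra.IsSeparable k⟮x⟯ K) := by
  refine ⟨⟨D_eq_zero_of_mem p, fun h0 => ?_⟩, ⟨fun hx hsep => ?_, fun hns => ?_⟩⟩
  · by_contra hx
    exact D_ne_zero_of_isSeparable hK (isSeparable_of_not_mem p hK hg hx) h0
  · exact D_ne_zero_of_isSeparable hK hsep (D_eq_zero_of_mem p hx)
  · by_contra hx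
    exact hns (isSeparable_of_not_mem p hK hg hx)

end kKp

end Groth.Agent.Lib.helper16.FS
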