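import Groth.Agent.Lib.helper16.FXDisc
import Groth.Agent.Lib.helper16.FFG0
import Groth.Agent.Lib.helper16.FGeom2
import Groth.Agent.Lib.helper16.FSepP

/-! Helper library (helper16): plane models `K = k(x, y)` with local parameters in `span{1, x, y}`. -/

set_option autoImplicit false

namespace Groth.Agent.Lib.helper16.FPG

open FunFld WithZero Polynomial Module Groth.Agent.Lib.helper16.FF Groth.Agent.Lib.helper16.FX
open scoped IntermediateField

section single

variable {k K : Type*} [Field k] [Field K] [Algebra k K]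

/-- an element with the same prescribed value at finitely many places -/
theorem exists_val_eq_of_finset (S : Finset (Place k K)) (m : ℤ) :
    ∃ y : K, y ≠ 0 ∧ ∀ Q ∈ S, Q.1 y = exp m := by
  classical
  by_cases hS : S.Nonempty
  · have ht : ∀ Q : S, ∃ t : K, Q.1.1 t = exp m := fun Q => exists_val_eq_exp Q.1 m
    choose t ht using ht
    obtain ⟨y, hy⟩ := weak_approximation (fun Q : S => Q.1) Subtype.val_injective t (-m + 1)
    have hval : ∀ Q ∈ S, Q.1 y = exp m := by
      intro Q hQ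
      have h1 := hy ⟨Q, hQ⟩
      have h2 : Q.1 (y - t ⟨Q, hQ⟩) < Q.1 (t ⟨Q, hQ⟩) := by
        rw [ht ⟨Q, hQ⟩]
        refine lt_of_le_of_lt h1 ?_
        rw [exp_lt_exp]
        omega
      have h3 : y = t ⟨Q, hQ⟩ + (y - t ⟨Q, hQ⟩) := by ring
      rw [h3, Valuation.map_add_eq_of_lt_left _ h2]
      exact ht ⟨Q, hQ⟩
    refine ⟨y, ?_, hval⟩
    obtain ⟨Q, hQ⟩ := hS
    intro h0
    have := hval Q hQ
    rw [h0, map_zero] at this
    exact exp_ne_zero.symm this
  · refine ⟨1, one_ne_zero, fun Q hQ => ?_⟩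
    exact absurd ⟨Q, hQ⟩ hS

/-- high powers of an element small on `S` make any element small on `S` -/
theorem exists_pow_mul_le (S : Finset (Place k K)) {h : K} (hh : ∀ Q ∈ S, Q.1 h < 1) (z : K)
    (m : ℤ) : ∃ N : ℕ, ∀ Q ∈ S, Q.1 (h ^ N * z) ≤ exp m := by
  classical
  induction S using Finset.induction_on with
  | empty => exact ⟨0, fun Q hQ => absurd hQ (Finset.notMem_empty Q)⟩
  | insert Q₀ S hQ₀ ih =>
    obtain ⟨N, hN⟩ := ih (fun Q hQ => hh Q (Finset.mem_insert_of_mem hQ))
    have h0 := hh Q₀ (Finset.mem_insert_self _ _)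
    have hmono : ∀ (Q : Place k K), Q.1 h < 1 → ∀ a b : ℕ, a ≤ b →
        Q.1 (h ^ b * z) ≤ Q.1 (h ^ a * z) := by
      intro Q hQ a b hab
      obtain ⟨c, rfl⟩ := Nat.exists_eq_add_of_le hab
      rw [pow_add, mul_assoc, map_mul, map_pow]
      calc Q.1 h ^ a * Q.1 (h ^ c * z) ≤ Q.1 h ^ a * Q.1 z := by
            gcongr
            rw [map_mul, map_pow]
            calc Q.1 h ^ c * Q.1 z ≤ 1 * Q.1 z := by
                  gcongr
                  exact pow_le_one₀ zero_le hQ.le
              _ = Q.1 z := one_mul _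
        _ = Q.1 (h ^ a * z) := by rw [map_mul, map_pow]
    -- a bound at `Q₀`
    obtain ⟨N₀, hN₀⟩ : ∃ N₀ : ℕ, Q₀.1 (h ^ N₀ * z) ≤ exp m := by
      by_cases hz : z = 0
      · exact ⟨0, by rw [hz, mul_zero, map_zero]; exact zero_le⟩
      have h1 : Q₀.1 h ≤ exp (-1) := lt_one_iff_le_exp_neg_one.mp h0
      refine ⟨(-Q₀.ord z - m).natAbs, ?_⟩
      rw [map_mul, map_pow, val_eq_exp_neg_ord Q₀ hz]
      calc Q₀.1 h ^ (-Q₀.ord z - m).natAbs * exp (-Q₀.ord z)
          ≤ exp (-1) ^ (-Q₀.ord z - m).natAbs * exp (-Q₀.ord z) := by gcongr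
        _ ≤ exp m := by
            rw [← exp_nsmul, ← exp_add, exp_le_exp]
            have := Int.le_natAbs (a := -Q₀.ord z - m)
            simp only [nsmul_eq_mul, mul_neg, mul_one]
            omega
    refine ⟨max N N₀, fun Q hQ => ?_⟩
    rcases Finset.mem_insert.mp hQ with rfl | hQ'
    · exact (hmono Q h0 _ _ (le_max_right _ _)).trans hN₀
    · exact (hmono Q (hh Q hQ) _ _ (le_max_left _ _)).trans (hN Q hQ')

end single

section ext

variable {k F K : Type*} [Field k] [Field F] [Field K] [Algebra k F] [Algebra F K]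
  [Algebra k K] [IsScalarTower k F K]

/-- at an unramified place over a finite place of the rational subfield `F = k(x₀)`, some
`x₀ - a` is a local parameter -/
theorem exists_sub_val_eq_exp_neg_one [IsAlgClosed k] (hF : IsFunctionField k F) {x₀ : F}
    (hx₀ : k⟮x₀⟯ = ⊤) {Q : Place k K} {P : Place k F} (hQP : IsOverWith Q P 1)
    (hP : P.1 x₀ ≤ 1) :
    ∃ a : k, Q.1 (algebraMap F K x₀ - algebraMap k K a) = exp (-1) := by
  obtain ⟨a, ha⟩ := exists_sub_val_lt_one hF P hP
  refine ⟨a, ?_⟩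
  obtain ⟨u, hu⟩ : ∃ u : F, u = x₀ - algebraMap k F a := ⟨_, rfl⟩
  have hxr := not_mem_range_of_adjoin_eq_top hF hx₀
  have hu0 : u ≠ 0 := by
    intro h0
    apply hxr
    refine ⟨a, ?_⟩
    rw [hu, sub_eq_zero] at h0
    exact h0.symm
  have hutop : k⟮u⟯ = ⊤ := by
    rw [eq_top_iff, ← hx₀, IntermediateField.adjoin_simple_le_iff]
    have h1 : x₀ = u + algebraMap k F a := by rw [hu]; ring
    rw [h1]
    exact add_mem (IntermediateField.mem_adjoin_simple_self k u) (IntermediateField.algebraMap_mem _ a)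
  have hutop' : k⟮u⁻¹⟯ = ⊤ := by rw [adjoin_inv_eq, hutop]
  obtain ⟨P₁, -, hP₁, hP₁'⟩ := exists_simple_pole_of_adjoin_eq_top hF hutop'
  rw [← hu] at ha
  have hpos : 0 < P.ord u := (val_lt_one_iff P hu0).mp ha
  have hPP : P = P₁ := by
    by_contra hne
    have := hP₁' P hne
    rw [ord_inv] at this
    omega
  have hord : P.ord u = 1 := by
    rw [← hPP, ord_inv] at hP₁
    omega
  have hval : P.1 u = exp (-1) := by rw [val_eq_exp_neg_ord P hu0, hord]
  have := hQP u
  rw [pow_one, hval, hu, map_sub, ← IsScalarTower.algebraMap_apply] at this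
  exact this

/-- perturbing by a multiple of a primitive element gives a primitive element -/
theorem exists_smul_primitive [Infinite k] [FiniteDimensional F K] [Algebra.IsSeparable F K]
    (y₀ : K) {w : K} (hw : F⟮w⟯ = ⊤) : ∃ c : k, F⟮y₀ + c • w⟯ = ⊤ := by
  haveI : Finite (IntermediateField F K) :=
    Field.finite_intermediateField_of_exists_primitive_element F K ⟨w, hw⟩
  obtain ⟨c, c', hne, heq⟩ := Finite.exists_ne_map_eq_of_infinite
    (fun c : k => F⟮y₀ + c • w⟯)
  refine ⟨c, ?_⟩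
  have heq : F⟮y₀ + c • w⟯ = F⟮y₀ + c' • w⟯ := heq
  have h1 : y₀ + c • w ∈ F⟮y₀ + c • w⟯ := IntermediateField.mem_adjoin_simple_self F _
  have h2 : y₀ + c' • w ∈ F⟮y₀ + c • w⟯ := by
    rw [heq]
    exact IntermediateField.mem_adjoin_simple_self F _
  have h3 : (c - c') • w ∈ F⟮y₀ + c • w⟯ := by
    have : (c - c') • w = (y₀ + c • w) - (y₀ + c' • w) := by rw [sub_smul]; ring
    rw [this]
    exact sub_mem h1 h2
  have hsmul : ∀ (d : k) (z : K), z ∈ F⟮y₀ + c • w⟯ → d • z ∈ F⟮y₀ + c • w⟯ := by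
    intro d z hz
    have hdz : d • z = algebraMap F K (algebraMap k F d) * z := by
      rw [Algebra.smul_def, IsScalarTower.algebraMap_apply k F K]
    rw [hdz]
    exact mul_mem (IntermediateField.algebraMap_mem _ _) hz
  have h4 : w ∈ F⟮y₀ + c • w⟯ := by
    have := hsmul (c - c')⁻¹ _ h3
    rwa [smul_smul, inv_mul_cancel₀ (sub_ne_zero.mpr hne), one_smul] at this
  rw [eq_top_iff, ← hw, IntermediateField.adjoin_simple_le_iff]
  exact h4

/-- generic form: `F = k(x₀)` rational, `K/F` finite separable -/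
theorem exists_generator_aux [IsAlgClosed k] [FiniteDimensional F K] [Algebra.IsSeparable F K]
    (hF : IsFunctionField k F) (hK : IsFunctionField k K) {x₀ : F} (hx₀ : k⟮x₀⟯ = ⊤) :
    ∃ y : K, F⟮y⟯ = ⊤ ∧ ∀ P : Place k K,
      ∃ f ∈ Submodule.span k ({1, algebraMap F K x₀, y} : Set K), P.1 f = exp (-1) := by
  classical
  have hR := finite_ramified (k := k) (K := F) (K' := K) hF
  have hpoles : {Q : Place k K | 1 < Q.1 (algebraMap F K x₀)}.Finite := by
    refine (finite_support_ord hK.1 (algebraMap F K x₀)).subset ?_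
    intro Q hQ
    have hQ' : 1 < Q.1 (algebraMap F K x₀) := hQ
    have hne : algebraMap F K x₀ ≠ 0 := by
      intro h0
      rw [h0, map_zero] at hQ'
      exact not_lt.mpr zero_le hQ'
    have := (one_lt_val_iff Q hne).mp hQ'
    show Q.ord (algebraMap F K x₀) ≠ 0
    omega
  obtain ⟨S, hS⟩ : ∃ S : Finset (Place k K), ∀ Q, Q ∈ S ↔
      (∃ P : Place k F, IsOver Q P ∧ ramIdx Q P ≠ 1) ∨ 1 < Q.1 (algebraMap F K x₀) :=
    ⟨hR.toFinset ∪ hpoles.toFinset, by simp⟩
  obtain ⟨y₀, -, hy₀⟩ := exists_val_eq_of_finset S (-1)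
  have hbelow : ∀ Q : Place k K, ∃ (P : Place k F) (e : ℕ), IsOverWith Q P e :=
    exists_isOverWith hF.1
  choose pl e hpl using hbelow
  obtain ⟨h, hh0, hh⟩ := exists_val_eq_of_finset (S.image pl) (-1)
  have hhS : ∀ Q ∈ S, Q.1 (algebraMap F K h) < 1 := by
    intro Q hQ
    rw [hpl Q h, hh _ (Finset.mem_image_of_mem _ hQ), ← exp_nsmul, ← exp_zero, exp_lt_exp]
    have he := isOverWith_pos (hpl Q)
    simp only [nsmul_eq_mul, mul_neg, mul_one]
    omega
  obtain ⟨θ, hθ⟩ := Field.exists_primitive_element F K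
  obtain ⟨N, hN⟩ := exists_pow_mul_le S hhS θ (-2)
  obtain ⟨w, hw⟩ : ∃ w, w = algebraMap F K h ^ N * θ := ⟨_, rfl⟩
  have hwtop : F⟮w⟯ = ⊤ := by
    rw [eq_top_iff, ← hθ, IntermediateField.adjoin_simple_le_iff]
    have hne : algebraMap F K h ^ N ≠ 0 :=
      pow_ne_zero _ ((map_ne_zero_iff _ (algebraMap F K).injective).mpr hh0)
    have : θ = (algebraMap F K (h ^ N))⁻¹ * w := by
      rw [hw, map_pow, inv_mul_cancel_left₀ hne]
    rw [this]
    exact mul_mem (inv_mem (IntermediateField.algebraMap_mem _ _))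
      (IntermediateField.mem_adjoin_simple_self F w)
  obtain ⟨c, hc⟩ := exists_smul_primitive (k := k) y₀ hwtop
  refine ⟨y₀ + c • w, hc, fun P => ?_⟩
  by_cases hPS : P ∈ S
  · refine ⟨y₀ + c • w, Submodule.subset_span (by simp), ?_⟩
    have h1 : P.1 (c • w) < P.1 y₀ := by
      rw [hy₀ P hPS]
      have h2 : P.1 w ≤ exp (-2) := by rw [hw]; exact hN P hPS
      refine lt_of_le_of_lt ((val_smul_le P c w).trans h2) ?_
      rw [exp_lt_exp]; omega
    rw [Valuation.map_add_eq_of_lt_left _ h1]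
    exact hy₀ P hPS
  · rw [hS] at hPS
    push Not at hPS
    obtain ⟨hram, hpole⟩ := hPS
    have he1 : e P = 1 := by
      have := hram (pl P) ⟨e P, hpl P⟩
      rwa [ramIdx_eq (hpl P)] at this
    have hover : IsOverWith P (pl P) 1 := he1 ▸ hpl P
    have hx₀P : (pl P).1 x₀ ≤ 1 := by
      have := hover x₀
      rw [pow_one] at this
      rw [← this]
      exact hpole
    obtain ⟨a, ha⟩ := exists_sub_val_eq_exp_neg_one hF hx₀ hover hx₀P
    refine ⟨algebraMap F K x₀ - algebraMap k K a, ?_, ha⟩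
    rw [Algebra.algebraMap_eq_smul_one (A := K) a]
    exact Submodule.sub_mem _ (Submodule.subset_span (by simp))
      (Submodule.smul_mem _ a (Submodule.subset_span (Set.mem_insert _ _)))

end ext

section main

variable {k K : Type*} [Field k] [Field K] [Algebra k K]

/-- **plane model with local parameters in `span{1, x, y}`** -/
theorem exists_generator_span_contains_uniformizers [IsAlgClosed k] (hK : IsFunctionField k K)
    (x : K) (hsep : Algebra.IsSeparable k⟮x⟯ K) :
    ∃ y : K, k⟮x, y⟯ = ⊤ ∧ ∀ P : Place k K,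
      ∃ f ∈ Submodule.span k ({1, x, y} : Set K), P.1 f = exp (-1) := by
  have hx : Transcendental k x := Groth.Agent.Lib.helper16.FS.transcendental_of_isSeparable hK hsep
  haveI : FiniteDimensional k⟮x⟯ K := finiteDimensional_of_transcendental hK.1 hx
  have hF : IsFunctionField k k⟮x⟯ :=
    Groth.Agent.Lib.helper16.FG.isFunctionField_intermediateField k K hK k⟮x⟯
      ⟨x, IntermediateField.mem_adjoin_simple_self k x, hx⟩
  have hx₀ : k⟮(⟨x, IntermediateField.mem_adjoin_simple_self k x⟩ : k⟮x⟯)⟯ = ⊤ := by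
    apply IntermediateField.map_injective k⟮x⟯.val
    rw [IntermediateField.adjoin_map, Set.image_singleton, ← AlgHom.fieldRange_eq_map,
      IntermediateField.fieldRange_val]
    rfl
  obtain ⟨y, hy, hP⟩ := exists_generator_aux hF hK hx₀
  refine ⟨y, ?_, hP⟩
  rw [← IntermediateField.adjoin_simple_adjoin_simple, hy, IntermediateField.restrictScalars_top]

end main

end Groth.Agent.Lib.helper16.FPG
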