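import Groth.Agent.Lib.helper16.FHasseWD
import Groth.Agent.Lib.helper16.FPlaneGen

/-! Helper library (helper16): divisors of differentials read through expansions — finite support,
change of the variable. -/

set_option autoImplicit false

namespace Groth.Agent.Lib.helper16.FDD

open FunFld WithZero LocRes
open Groth.Agent.Lib.helper16
open scoped IntermediateField

universe u v w

section loc

variable {k : Type u} {K : Type v} {F : Type w} [Field k] [Field K] [Field F] [Algebra k K]
  [Algebra k F]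

theorem D_sub_algebraMap (Φ : K →ₐ[k] LaurentSeries F) (s : K) (a : k) :
    LocRes.D F (Φ (s - algebraMap k K a)) = LocRes.D F (Φ s) := by
  rw [map_sub, LocRes.map_algebraMap, map_sub, LocRes.D_apply F (HahnSeries.C _),
    LocRes.derivative_C, sub_zero]

/-- if `s - a` is a local parameter the differential `ds` has order zero -/
theorem ordDiff_eq_zero_of_sub (P : Place k K) (Φ : K →ₐ[k] LaurentSeries F)
    (hΦ : IsExpansionAt P.1 Φ) {s : K} {a : k}
    (h : P.1 (s - algebraMap k K a) = exp (-1)) : ordDiff Φ 1 s = 0 := by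
  unfold ordDiff
  rw [FDE.vDiff_one, ← D_sub_algebraMap Φ s a]
  have h1 : Valued.v (Φ (s - algebraMap k K a)) = exp (-(1 : ℤ)) := by rw [hΦ.1, h]
  have h2 := (FDE.val_D_of_val_eq h1).1 (by simp)
  rw [h2]
  simp

theorem ordDiff_eq_ord_add (P : Place k K) (Φ : K →ₐ[k] LaurentSeries F)
    (hΦ : IsExpansionAt P.1 Φ) {u s : K} (hu : u ≠ 0) (hs : LocRes.D F (Φ s) ≠ 0) :
    ordDiff Φ u s = P.ord u + ordDiff Φ 1 s := by
  unfold ordDiff vDiff Place.ord
  rw [map_one, one_mul, map_mul, hΦ.1 u, log_mul]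
  · ring
  · rwa [ne_eq, map_eq_zero]
  · rwa [ne_eq, map_eq_zero]

end loc

section sep

variable {k : Type u} {K : Type v} {F : Type w} [Field k] [Field K] [Field F] [Algebra k K]
  [Algebra k F]

/-- the differential of a separating element does not vanish through an expansion -/
theorem D_expand_ne_zero (hK : IsFunctionField k K) (hg : IsGeometric k K) (P : Place k K)
    (Φ : K →ₐ[k] LaurentSeries F) (hΦ : IsExpansionAt P.1 Φ) {s : K}
    (hs : KaehlerDifferential.D k K s ≠ 0) : LocRes.D F (Φ s) ≠ 0 := by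
  obtain ⟨t, ht⟩ := FF.exists_uniformizer P
  obtain ⟨h, hh⟩ := FDE.exists_kaehler_smul hK hg t hs
  have h1 : Valued.v (Φ t) = exp (-(1 : ℤ)) := by rw [hΦ.1, ht]
  have h2 := (FDE.val_D_of_val_eq h1).1 (by simp)
  intro h0
  rw [FDE.D_eq_of_kaehler Φ hh, h0, mul_zero, map_zero] at h2
  exact exp_ne_zero h2.symm

end sep

section fs

variable {k : Type u} {K : Type v} [Field k] [Field K] [Algebra k K] [IsAlgClosed k]

/-- the divisor of `ds` has finite support -/
theorem finite_support_ordDiff_one (hK : IsFunctionField k K) (s : K)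
    (hsep : Algebra.IsSeparable k⟮s⟯ K)
    (Φ : Place k K → (K →ₐ[k] LaurentSeries k)) (hΦ : ∀ P, IsExpansionAt P.1 (Φ P)) :
    (Function.support fun P : Place k K => ordDiff (Φ P) 1 s).Finite := by
  have hx : Transcendental k s := FS.transcendental_of_isSeparable hK hsep
  haveI : FiniteDimensional k⟮s⟯ K := FX.finiteDimensional_of_transcendental hK.1 hx
  have hF : IsFunctionField k k⟮s⟯ :=
    FG.isFunctionField_intermediateField k K hK k⟮s⟯
      ⟨s, IntermediateField.mem_adjoin_simple_self k s, hx⟩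
  have hx₀ : k⟮(⟨s, IntermediateField.mem_adjoin_simple_self k s⟩ : k⟮s⟯)⟯ = ⊤ := by
    apply IntermediateField.map_injective k⟮s⟯.val
    rw [IntermediateField.adjoin_map, Set.image_singleton, ← AlgHom.fieldRange_eq_map,
      IntermediateField.fieldRange_val]
    rfl
  have hram := FX.finite_ramified (K := k⟮s⟯) (K' := K) hF
  have hpole : {Q : Place k K | 1 < Q.1 s}.Finite := by
    refine (FF.finite_support_ord hK s).subset ?_
    intro Q hQ
    rw [Set.mem_ofPred_eq] at hQ
    rw [Function.mem_support]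
    intro h0
    have hs0 : s ≠ 0 := by
      rintro rfl
      rw [map_zero] at hQ
      exact absurd hQ (by simp)
    rw [FF.val_eq_exp_neg_ord Q hs0, h0] at hQ
    simp at hQ
  refine (hram.union hpole).subset ?_
  intro Q hQ
  by_contra hcon
  rw [Set.mem_union, not_or] at hcon
  obtain ⟨h1, h2⟩ := hcon
  apply hQ
  obtain ⟨P, e, he⟩ := FX.exists_isOverWith hF.1 Q
  have he1 : e = 1 := by
    by_contra hne
    apply h1
    refine ⟨P, ⟨e, he⟩, ?_⟩
    rw [FX.ramIdx_eq he]
    exact hne
  subst he1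
  have hs1 : Q.1 s ≤ 1 := not_lt.mp h2
  have hP : P.1 (⟨s, IntermediateField.mem_adjoin_simple_self k s⟩ : k⟮s⟯) ≤ 1 := by
    have h3 := he ⟨s, IntermediateField.mem_adjoin_simple_self k s⟩
    rw [pow_one] at h3
    rw [← h3]
    exact hs1
  obtain ⟨a, ha⟩ := FPG.exists_sub_val_eq_exp_neg_one hF hx₀ he hP
  exact ordDiff_eq_zero_of_sub Q (Φ Q) (hΦ Q) ha

/-- the divisor of `u ds` has finite support -/
theorem finite_support_ordDiff (hK : IsFunctionField k K) (u s : K)
    (hs : KaehlerDifferential.D k K s ≠ 0)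
    (Φ : Place k K → (K →ₐ[k] LaurentSeries k)) (hΦ : ∀ P, IsExpansionAt P.1 (Φ P)) :
    (Function.support fun P : Place k K => ordDiff (Φ P) u s).Finite := by
  have hg := FG.isGeometric_of_perfectField k K hK.2
  have hsep := FHs.isSeparable_of_D_ne_zero hK hg hs
  by_cases hu : u = 0
  · subst hu
    have : (Function.support fun P : Place k K => ordDiff (Φ P) 0 s) = ∅ := by
      ext P
      simp [ordDiff, vDiff]
    rw [this]
    exact Set.finite_empty
  · refine ((FF.finite_support_ord hK u).union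
      (finite_support_ordDiff_one hK s hsep Φ hΦ)).subset ?_
    intro P hP
    rw [Function.mem_support,
      ordDiff_eq_ord_add P (Φ P) (hΦ P) hu (D_expand_ne_zero hK hg P (Φ P) (hΦ P) hs)] at hP
    rw [Set.mem_union, Function.mem_support, Function.mem_support]
    by_contra hcon
    rw [not_or, not_not, not_not] at hcon
    apply hP
    rw [hcon.1, hcon.2, add_zero]

theorem divDiff_apply (hK : IsFunctionField k K) (u s : K)
    (hs : KaehlerDifferential.D k K s ≠ 0)
    (Φ : Place k K → (K →ₐ[k] LaurentSeries k)) (hΦ : ∀ P, IsExpansionAt P.1 (Φ P))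
    (P : Place k K) : divDiff Φ u s P = ordDiff (Φ P) u s := by
  unfold divDiff
  rw [dif_pos (finite_support_ordDiff hK u s hs Φ hΦ)]
  rfl

/-- `[u ds] = [u] + [ds]` -/
theorem divDiff_eq_div_add (hK : IsFunctionField k K) {u : K} (hu : u ≠ 0) (s : K)
    (hs : KaehlerDifferential.D k K s ≠ 0)
    (Φ : Place k K → (K →ₐ[k] LaurentSeries k)) (hΦ : ∀ P, IsExpansionAt P.1 (Φ P)) :
    divDiff Φ u s = FunFld.div k u + divDiff Φ 1 s := by
  have hg := FG.isGeometric_of_perfectField k K hK.2
  ext P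
  rw [Finsupp.add_apply, divDiff_apply hK u s hs Φ hΦ, divDiff_apply hK 1 s hs Φ hΦ,
    FF.div_apply hK,
    ordDiff_eq_ord_add P (Φ P) (hΦ P) hu (D_expand_ne_zero hK hg P (Φ P) (hΦ P) hs)]

/-- `[ds] = [ds/dt] + [dt]` -/
theorem divDiff_change (hK : IsFunctionField k K) {s t h : K}
    (hh : KaehlerDifferential.D k K s = h • KaehlerDifferential.D k K t)
    (hs : KaehlerDifferential.D k K s ≠ 0)
    (Φ : Place k K → (K →ₐ[k] LaurentSeries k)) (hΦ : ∀ P, IsExpansionAt P.1 (Φ P)) :
    divDiff Φ 1 s = FunFld.div k h + divDiff Φ 1 t := by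
  have hg := FG.isGeometric_of_perfectField k K hK.2
  have ht : KaehlerDifferential.D k K t ≠ 0 := by
    intro h0
    rw [h0, smul_zero] at hh
    exact hs hh
  ext P
  rw [Finsupp.add_apply, divDiff_apply hK 1 s hs Φ hΦ, divDiff_apply hK 1 t ht Φ hΦ,
    FF.div_apply hK]
  have h1 : vDiff (Φ P) 1 s ≠ 0 := by
    rw [FDE.vDiff_one, ne_eq, map_eq_zero]
    exact D_expand_ne_zero hK hg P (Φ P) (hΦ P) hs
  exact (FDE.ordDiff_eq_add P (Φ P) (hΦ P) hh h1).2.2

end fs

end Groth.Agent.Lib.helper16.FDD
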