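import Groth.Agent.Lib.helper16.FFTrans

/-! Helper library (helper16): residue fields of places; finiteness; finite support of `ord`. -/

set_option autoImplicit false

namespace Groth.Agent.Lib.helper16.FF

open FunFld WithZero Polynomial
open scoped IntermediateField

variable {k K : Type*} [Field k] [Field K] [Algebra k K]

theorem residue_eq_zero_iff (P : Place k K) (y : P.O) :
    IsLocalRing.residue P.O y = 0 ↔ P.1 (y : K) < 1 := by
  rw [IsLocalRing.residue_eq_zero_iff, IsLocalRing.mem_maximalIdeal, mem_nonunits_iff,
    (Valuation.valuationSubring.integers P.1).isUnit_iff_valuation_eq_one]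
  have h : P.1 (y : K) ≤ 1 := y.2
  exact ⟨fun h' => lt_of_le_of_ne h h', fun h' => h'.ne⟩

theorem coe_smul_O (P : Place k K) (c : k) (y : P.O) : ((c • y : P.O) : K) = c • (y : K) := by
  rw [Algebra.smul_def, Algebra.smul_def]
  rfl

theorem residue_smul (P : Place k K) (c : k) (y : P.O) :
    IsLocalRing.residue P.O (c • y) = c • IsLocalRing.residue P.O y := by
  rw [Algebra.smul_def, Algebra.smul_def, map_mul]
  rfl

/-- The residue map as a `k`-linear map. -/
noncomputable def residueₗ (P : Place k K) : P.O →ₗ[k] IsLocalRing.ResidueField P.O where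
  toFun := IsLocalRing.residue P.O
  map_add' := map_add _
  map_smul' c y := residue_smul P c y

theorem residueₗ_apply (P : Place k K) (y : P.O) : residueₗ P y = IsLocalRing.residue P.O y := rfl

theorem residueₗ_surjective (P : Place k K) : Function.Surjective (residueₗ P) :=
  IsLocalRing.residue_surjective

theorem coe_sum_O (P : Place k K) {α : Type*} (s : Finset α) (f : α → P.O) :
    ((∑ a ∈ s, f a : P.O) : K) = ∑ a ∈ s, (f a : K) := by
  induction s using Finset.cons_induction with
  | empty => simp
  | cons a s ha ih => rw [Finset.sum_cons, Finset.sum_cons, ← ih]; rfl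

/-- a family in `O_P` whose residues are `k`-independent has at most `[K : k(x)] / ord_P x` elements -/
theorem card_mul_le_of_linearIndependent_residue (hK : IsFunctionField k K) (P : Place k K)
    {x : K} (hx0 : x ≠ 0) (e : ℕ) (he : P.1 x = exp (-(e : ℤ))) (he1 : 1 ≤ e)
    {A : Type*} [Fintype A] (s : A → P.O)
    (hs : LinearIndependent k (fun a => IsLocalRing.residue P.O (s a))) :
    haveI := finiteDimensional_of_transcendental hK (transcendental_of_not_mem_range hK
      (not_mem_range_of_val_lt_one P hx0 (by rw [he, ← exp_zero, exp_lt_exp]; omega)))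
    Fintype.card A * e ≤ Module.finrank k⟮x⟯ K := by
  classical
  haveI := finiteDimensional_of_transcendental hK (transcendental_of_not_mem_range hK
      (not_mem_range_of_val_lt_one P hx0 (by rw [he, ← exp_zero, exp_lt_exp]; omega)))
  have := fundamental_inequality (ι := Unit) (A := A) (fun _ => P)
    (fun _ _ _ => rfl) x (fun _ => e) (fun _ => he) (fun _ => ()) (fun a => (s a : K))
    (fun a => (s a).2) ?_
  · simpa using this
  · intro i c hc a _
    have h1 : (∑ a, if (fun _ : A => ()) a = i then c a • (s a : K) else 0) =
        ((∑ a, c a • s a : P.O) : K) := by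
      rw [coe_sum_O]
      apply Finset.sum_congr rfl
      intro a _
      rw [if_pos rfl, coe_smul_O]
    rw [h1, ← residue_eq_zero_iff, map_sum] at hc
    simp only [residue_smul] at hc
    exact Fintype.linearIndependent_iff.mp hs c hc a

theorem finiteDimensional_residueField (hK : IsFunctionField k K) (P : Place k K) :
    FiniteDimensional k (IsLocalRing.ResidueField P.O) := by
  classical
  obtain ⟨π, hπ⟩ := exists_uniformizer P
  have hπ0 : π ≠ 0 := by
    rintro rfl
    rw [map_zero] at hπ
    exact exp_ne_zero hπ.symm
  have hπlt : P.1 π < 1 := by rw [hπ, ← exp_zero, exp_lt_exp]; omega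
  haveI := finiteDimensional_of_transcendental hK (transcendental_of_not_mem_range hK
      (not_mem_range_of_val_lt_one P hπ0 hπlt))
  rw [FiniteDimensional, ← Module.rank_lt_aleph0_iff]
  refine lt_of_le_of_lt (rank_le (n := Module.finrank k⟮π⟯ K) ?_) Cardinal.natCast_lt_aleph0
  intro S hS
  have hsurj := IsLocalRing.residue_surjective (R := P.O)
  choose lift hlift using hsurj
  have := card_mul_le_of_linearIndependent_residue hK P hπ0 1 (by simpa using hπ) le_rfl
    (fun a : S => lift a.1) (by simpa only [hlift] using hS)
  simpa using this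

theorem ord_eq_zero_of_mem_range (P : Place k K) {x : K} (hx : x ∈ Set.range (algebraMap k K)) :
    P.ord x = 0 := by
  obtain ⟨c, rfl⟩ := hx
  by_cases hc : c = 0
  · subst hc; rw [map_zero]; exact ord_zero P
  · unfold Place.ord
    rw [val_algebraMap P hc]
    simp

/-- finitely many zeros, with the bound by the degree -/
theorem card_zeros_le (hK : IsFunctionField k K) {x : K}
    (hx : x ∉ Set.range (algebraMap k K)) (S : Finset (Place k K))
    (hS : ∀ P ∈ S, P.1 x < 1) :
    haveI := finiteDimensional_of_transcendental hK (transcendental_of_not_mem_range hK hx)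
    S.card ≤ Module.finrank k⟮x⟯ K := by
  classical
  have := finiteDimensional_of_transcendental hK (transcendental_of_not_mem_range hK hx)
  have hx0 : x ≠ 0 := by
    rintro rfl
    exact hx ⟨0, map_zero _⟩
  have hord : ∀ i : S, 0 < (i : Place k K).ord x := fun i =>
    (val_lt_one_iff _ hx0).mp (hS i.1 i.2)
  have := fundamental_inequality (ι := S) (A := S) (fun i => (i : Place k K))
    Subtype.val_injective x (fun i => ((i : Place k K).ord x).toNat) (fun i => by
      rw [val_eq_exp_neg_ord _ hx0]
      congr 2
      have := hord i
      omega) id (fun _ => 1) (fun a => by simp) ?_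
  · refine le_trans ?_ this
    have h1 : S.card = ∑ _a : S, 1 := by simp
    rw [h1]
    apply Finset.sum_le_sum
    intro i _
    have := hord i
    simp only [id_eq]
    omega
  · intro i c hc a hai
    simp only [id_eq] at hc hai
    subst hai
    rw [Finset.sum_eq_single a] at hc
    · rw [if_pos rfl] at hc
      by_contra hne
      rw [val_smul _ hne, map_one] at hc
      exact lt_irrefl _ hc
    · intro b _ hb
      rw [if_neg hb]
    · intro h; exact absurd (Finset.mem_univ _) h

theorem zeros_finite (hK : IsFunctionField k K) {x : K}
    (hx : x ∉ Set.range (algebraMap k K)) : {P : Place k K | P.1 x < 1}.Finite := by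
  classical
  by_contra hinf
  have hinf' : {P : Place k K | P.1 x < 1}.Infinite := hinf
  have := finiteDimensional_of_transcendental hK (transcendental_of_not_mem_range hK hx)
  obtain ⟨t, ht, hcard⟩ := hinf'.exists_subset_card_eq (Module.finrank k⟮x⟯ K + 1)
  have := card_zeros_le hK hx t (fun P hP => ht hP)
  omega

theorem inv_not_mem_range {x : K} (hx : x ∉ Set.range (algebraMap k K)) :
    x⁻¹ ∉ Set.range (algebraMap k K) := by
  rintro ⟨c, hc⟩
  apply hx
  refine ⟨c⁻¹, ?_⟩
  rw [map_inv₀, hc, inv_inv]

theorem poles_finite (hK : IsFunctionField k K) {x : K}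
    (hx : x ∉ Set.range (algebraMap k K)) : {P : Place k K | 1 < P.1 x}.Finite := by
  have := zeros_finite hK (inv_not_mem_range hx)
  refine this.subset ?_
  intro P hP
  have hx0 : x ≠ 0 := by
    rintro rfl
    exact hx ⟨0, map_zero _⟩
  simp only [Set.mem_ofPred_eq, map_inv₀] at hP ⊢
  exact inv_lt_one_of_one_lt₀ hP

theorem finite_support_ord (hK : IsFunctionField k K) (x : K) :
    (Function.support fun P : Place k K => P.ord x).Finite := by
  by_cases hx : x ∈ Set.range (algebraMap k K)
  · have : (Function.support fun P : Place k K => P.ord x) = ∅ := by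
      ext P
      simp [ord_eq_zero_of_mem_range P hx]
    rw [this]
    exact Set.finite_empty
  · refine ((zeros_finite hK hx).union (poles_finite hK hx)).subset ?_
    intro P hP
    simp only [Function.mem_support, ne_eq] at hP
    have hx0 : x ≠ 0 := by
      rintro rfl
      exact hx ⟨0, map_zero _⟩
    rcases lt_trichotomy (P.ord x) 0 with h | h | h
    · right; exact (one_lt_val_iff P hx0).mpr h
    · exact absurd h hP
    · left; exact (val_lt_one_iff P hx0).mpr h

theorem div_apply (hK : IsFunctionField k K) (x : K) (P : Place k K) :
    FunFld.div k x P = P.ord x := by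
  unfold FunFld.div
  rw [dif_pos (finite_support_ord hK x)]
  rfl

end Groth.Agent.Lib.helper16.FF

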