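import Groth.Agent.Lib.helper16.FHasseU

/-! Helper library (helper16): Hasse derivatives through a Laurent expansion. -/

set_option autoImplicit false

namespace Groth.Agent.Lib.helper16.FHs

open scoped IntermediateField
open PowerSeries

section laurent

variable {F : Type*} [Field F]

/-- the Taylor homomorphism from power series to power series over Laurent series -/
noncomputable def tayL₀ : PowerSeries F →+* PowerSeries (LaurentSeries F) :=
  (PowerSeries.map (HahnSeries.ofPowerSeries ℤ F)).comp taylorPS

theorem coeff_tayL₀ (n : ℕ) (g : PowerSeries F) :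
    PowerSeries.coeff n (tayL₀ g) = HahnSeries.ofPowerSeries ℤ F (psHasse n g) := by
  show PowerSeries.coeff n (PowerSeries.map (HahnSeries.ofPowerSeries ℤ F) (taylorPS g)) = _
  rw [PowerSeries.coeff_map, coeff_taylorPS]

theorem constantCoeff_tayL₀ (g : PowerSeries F) :
    PowerSeries.constantCoeff (tayL₀ g) = HahnSeries.ofPowerSeries ℤ F g := by
  rw [← PowerSeries.coeff_zero_eq_constantCoeff_apply, coeff_tayL₀, psHasse_zero]

theorem isUnit_tayL₀ (y : nonZeroDivisors (PowerSeries F)) : IsUnit (tayL₀ (y : PowerSeries F)) := by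
  rw [PowerSeries.isUnit_iff_constantCoeff, constantCoeff_tayL₀, isUnit_iff_ne_zero]
  have h0 : (y : PowerSeries F) ≠ 0 := nonZeroDivisors.ne_zero y.2
  intro h
  apply h0
  apply HahnSeries.ofPowerSeries_injective (Γ := ℤ)
  rw [h, map_zero]

/-- the Taylor homomorphism of Laurent series -/
noncomputable def tayL : LaurentSeries F →+* PowerSeries (LaurentSeries F) :=
  IsLocalization.lift (M := nonZeroDivisors (PowerSeries F)) (g := tayL₀) isUnit_tayL₀

theorem tayL_coe (g : PowerSeries F) : tayL (HahnSeries.ofPowerSeries ℤ F g) = tayL₀ g :=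
  IsLocalization.lift_eq (M := nonZeroDivisors (PowerSeries F)) isUnit_tayL₀ g

theorem constantCoeff_tayL (f : LaurentSeries F) : PowerSeries.constantCoeff (tayL f) = f := by
  have : (PowerSeries.constantCoeff (R := LaurentSeries F)).comp tayL = RingHom.id _ := by
    apply IsLocalization.ringHom_ext (nonZeroDivisors (PowerSeries F))
    apply RingHom.ext
    intro g
    show PowerSeries.constantCoeff (tayL (HahnSeries.ofPowerSeries ℤ F g)) =
      HahnSeries.ofPowerSeries ℤ F g
    rw [tayL_coe, constantCoeff_tayL₀]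
  exact RingHom.congr_fun this f

theorem hasseDeriv_coe (n : ℕ) (g : PowerSeries F) :
    LaurentSeries.hasseDeriv F n (HahnSeries.ofPowerSeries ℤ F g) =
      HahnSeries.ofPowerSeries ℤ F (psHasse n g) := by
  ext m
  rw [LaurentSeries.hasseDeriv_coeff]
  change _ = ((psHasse n g : PowerSeries F) : LaurentSeries F).coeff m
  change Ring.choose (m + n) n • ((g : PowerSeries F) : LaurentSeries F).coeff (m + n) = _
  rw [PowerSeries.coeff_coe, PowerSeries.coeff_coe]
  by_cases hm : m < 0
  · rw [if_pos hm]
    by_cases hmn : m + (n : ℤ) < 0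
    · rw [if_pos hmn, smul_zero]
    · rw [if_neg hmn]
      obtain ⟨b, hb⟩ := Int.eq_ofNat_of_zero_le (not_lt.mp hmn)
      rw [hb, Ring.choose_natCast, Nat.choose_eq_zero_of_lt (by omega), Nat.cast_zero, zero_smul]
  · rw [if_neg hm, if_neg (by omega)]
    obtain ⟨a, rfl⟩ := Int.eq_ofNat_of_zero_le (not_lt.mp hm)
    rw [coeff_psHasse, Int.natAbs_natCast]
    have : ((a : ℤ) + (n : ℤ)) = ((a + n : ℕ) : ℤ) := by push_cast; rfl
    rw [this, Ring.choose_natCast, Int.natAbs_natCast, zsmul_eq_mul]
    push_cast
    rfl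

theorem coeff_tayL_coe (n : ℕ) (g : PowerSeries F) :
    PowerSeries.coeff n (tayL (HahnSeries.ofPowerSeries ℤ F g)) =
      LaurentSeries.hasseDeriv F n (HahnSeries.ofPowerSeries ℤ F g) := by
  rw [tayL_coe, coeff_tayL₀, hasseDeriv_coe]

end laurent

section main

universe u v w

variable {k : Type u} {K : Type v} [Field k] [Field K] [Algebra k K] {F : Type w} [Field F]
  [Algebra k F]

open FunFld LocRes

/-- S12583 -/
theorem expansion_hasseD (hK : IsFunctionField k K) (hg : IsGeometric k K)
    (φ : K →ₐ[k] LaurentSeries F) (t : K) (ht : φ t = HahnSeries.single 1 1)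
    (H : K →ₐ[k] PowerSeries K) (hH : IsHasseFamily t H)
    (x : K) (hx : Valued.v (φ x) ≤ 1) (n : ℕ) :
    φ (hasseD H n x) = LaurentSeries.hasseDeriv F n (φ x) := by
  haveI := isSeparable_of_isHasseFamily hK hg hH
  let A : K →+* PowerSeries (LaurentSeries F) := (PowerSeries.map φ.toRingHom).comp H.toRingHom
  let B : K →+* PowerSeries (LaurentSeries F) := tayL.comp φ.toRingHom
  have hAB : A = B := by
    apply eq_of_agree (k := k) (PowerSeries.constantCoeff (R := LaurentSeries F)) A B _ _ t
    · show PowerSeries.map φ.toRingHom (H t) = tayL (φ t)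
      rw [hH.1, map_add, PowerSeries.map_C, PowerSeries.map_X, ht, ← HahnSeries.ofPowerSeries_X,
        tayL_coe]
      show _ = PowerSeries.map (HahnSeries.ofPowerSeries ℤ F) (taylorPS PowerSeries.X)
      rw [taylorPS_X, map_add, PowerSeries.map_C, PowerSeries.map_X]
      show PowerSeries.C (φ t) + PowerSeries.X = _
      rw [ht, HahnSeries.ofPowerSeries_X]
    · apply RingHom.ext
      intro y
      show PowerSeries.constantCoeff (PowerSeries.map φ.toRingHom (H y)) =
        PowerSeries.constantCoeff (tayL (φ y))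
      rw [constantCoeff_tayL, ← PowerSeries.coeff_zero_eq_constantCoeff_apply, PowerSeries.coeff_map,
        PowerSeries.coeff_zero_eq_constantCoeff_apply, hH.2]
      rfl
    · intro c
      show PowerSeries.map φ.toRingHom (H (algebraMap k K c)) = tayL (φ (algebraMap k K c))
      rw [H.commutes, PowerSeries.algebraMap_apply, PowerSeries.map_C, LocRes.map_algebraMap,
        ← HahnSeries.ofPowerSeries_C, tayL_coe]
      show _ = PowerSeries.map (HahnSeries.ofPowerSeries ℤ F) (taylorPS (PowerSeries.C _))
      rw [taylorPS_C, PowerSeries.map_C]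
      show PowerSeries.C (φ (algebraMap k K c)) = _
      rw [LocRes.map_algebraMap, HahnSeries.ofPowerSeries_C]
  obtain ⟨g, hg'⟩ := (LaurentSeries.val_le_one_iff_eq_coe F (φ x)).mp hx
  have h1 := congrArg (PowerSeries.coeff n) (RingHom.congr_fun hAB x)
  have hA : PowerSeries.coeff n (A x) = φ (hasseD H n x) := by
    show PowerSeries.coeff n (PowerSeries.map φ.toRingHom (H x)) = _
    rw [PowerSeries.coeff_map]
    rfl
  have hB : PowerSeries.coeff n (B x) = LaurentSeries.hasseDeriv F n (φ x) := by
    show PowerSeries.coeff n (tayL (φ x)) = _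
    rw [← hg']
    exact coeff_tayL_coe n g
  rw [← hA, ← hB, h1]

end main

end Groth.Agent.Lib.helper16.FHs
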