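import Groth.Agent.Lib.helper16.FHasseCV

/-! Helper library (helper16): the matrix of Hasse derivatives of a `k`-linearly independent tuple
has full rank; existence of the order sequence and nonvanishing of the Wronskian. -/

set_option autoImplicit false

namespace Groth.Agent.Lib.helper16.FHs

open scoped IntermediateField
open FunFld LocRes

section jumps

variable {R M : Type*} [Field R] [AddCommGroup M] [Module R M]

theorem linearIndependent_jumps (c : ℕ → M) :
    LinearIndependent R (fun j : {j // IsJump R c j} => c j) := by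
  classical
  rw [linearIndependent_iff']
  intro s g hsum
  by_contra hne
  push Not at hne
  obtain ⟨i₁, hi₁s, hi₁⟩ := hne
  have hne' : (s.filter fun i => g i ≠ 0).Nonempty := ⟨i₁, Finset.mem_filter.mpr ⟨hi₁s, hi₁⟩⟩
  obtain ⟨i₀, hi₀, hmax⟩ := Finset.exists_max_image _ (fun i : {j // IsJump R c j} => (i : ℕ)) hne'
  rw [Finset.mem_filter] at hi₀
  apply i₀.2
  have h1 : g i₀ • c i₀ = -∑ i ∈ s.erase i₀, g i • c i := by
    rw [eq_neg_iff_add_eq_zero, Finset.add_sum_erase s (fun i => g i • c i) hi₀.1]
    exact hsum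
  have h2 : c i₀ = (g i₀)⁻¹ • (-∑ i ∈ s.erase i₀, g i • c i) := by
    rw [← h1, smul_smul, inv_mul_cancel₀ hi₀.2, one_smul]
  rw [h2]
  apply Submodule.smul_mem
  apply Submodule.neg_mem
  apply Submodule.sum_mem
  intro i hi
  rw [Finset.mem_erase] at hi
  by_cases hgi : g i = 0
  · rw [hgi, zero_smul]
    exact Submodule.zero_mem _
  · apply Submodule.smul_mem
    apply Submodule.subset_span
    refine ⟨i, ?_, rfl⟩
    have hle := hmax i (Finset.mem_filter.mpr ⟨hi.2, hgi⟩)
    have hne2 : (i : ℕ) ≠ i₀ := fun h => hi.1 (Subtype.ext h)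
    exact lt_of_le_of_ne hle hne2

theorem span_range_eq_span_jumps (c : ℕ → M) :
    Submodule.span R (Set.range c) = Submodule.span R (c '' {j | IsJump R c j}) := by
  apply le_antisymm
  · rw [Submodule.span_le]
    rintro _ ⟨N, rfl⟩
    have h1 : c N ∈ Submodule.span R (c '' Set.Iio (N + 1)) :=
      Submodule.subset_span ⟨N, Nat.lt_succ_self N, rfl⟩
    rw [FW.span_image_Iio_eq_span_jumps] at h1
    refine Submodule.span_mono ?_ h1
    rintro _ ⟨j, hj, rfl⟩
    exact ⟨j, hj.2, rfl⟩
  · apply Submodule.span_mono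
    rintro _ ⟨j, _, rfl⟩
    exact ⟨j, rfl⟩

end jumps

section rank

universe u v

variable {k : Type u} {K : Type v} [Field k] [Field K] [Algebra k K]

theorem hasseD_zero {s : K} {H : K →ₐ[k] PowerSeries K} (hH : IsHasseFamily s H) (y : K) :
    hasseD H 0 y = y := by
  rw [hasseD_apply, PowerSeries.coeff_zero_eq_constantCoeff_apply, hH.2]

theorem hasseD_mul (H : K →ₐ[k] PowerSeries K) (m : ℕ) (a b : K) :
    hasseD H m (a * b) =
      ∑ p ∈ Finset.HasAntidiagonal.antidiagonal m, hasseD H p.1 a * hasseD H p.2 b := by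
  rw [hasseD_apply, map_mul, PowerSeries.coeff_mul]
  rfl

theorem hasseD_sum (H : K →ₐ[k] PowerSeries K) (m : ℕ) {ι : Type*} (t : Finset ι) (f : ι → K) :
    hasseD H m (∑ i ∈ t, f i) = ∑ i ∈ t, hasseD H m (f i) := by
  simp only [hasseD_apply, map_sum]

theorem hasseD_one_eq_zero (H : K →ₐ[k] PowerSeries K) {m : ℕ} (hm : m ≠ 0) :
    hasseD H m 1 = 0 := by
  rw [hasseD_apply, map_one, PowerSeries.coeff_one, if_neg hm]

/-- constants of a Hasse family lie in `k` -/
theorem mem_range_of_hasse_const (hK : IsFunctionField k K) {s : K} {H : K →ₐ[k] PowerSeries K}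
    (hH : IsHasseFamily s H) {a : K} (ha : H a = PowerSeries.C a) :
    a ∈ Set.range (algebraMap k K) := by
  apply hK.2
  by_contra hatr
  have hatr' : Transcendental k a := hatr
  have hfd : FiniteDimensional k⟮a⟯ K := FX.finiteDimensional_of_transcendental hK.1 hatr'
  have hk : ∀ c : k, H.toRingHom (algebraMap k K c) =
      (PowerSeries.C : K →+* PowerSeries K) (algebraMap k K c) := by
    intro c
    show H (algebraMap k K c) = _
    rw [H.commutes, PowerSeries.algebraMap_apply]
  have hle : k⟮a⟯ ≤ eqField H.toRingHom (PowerSeries.C : K →+* PowerSeries K) hk := by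
    rw [IntermediateField.adjoin_le_iff, Set.singleton_subset_iff]
    exact ha
  have hsalg : IsAlgebraic k⟮a⟯ s := Algebra.IsAlgebraic.isAlgebraic s
  obtain ⟨g, hg0, hgs⟩ := hsalg
  set G : Polynomial K := g.map (algebraMap k⟮a⟯ K) with hG
  have hG0 : G ≠ 0 := by
    rw [hG, Ne, Polynomial.map_eq_zero]
    exact hg0
  have hGs : Polynomial.eval s G = 0 := by
    rw [hG, Polynomial.eval_map, ← Polynomial.aeval_def]
    exact hgs
  -- apply `H`
  have h1 : Polynomial.eval₂ (PowerSeries.C : K →+* PowerSeries K)
      (PowerSeries.C s + PowerSeries.X) G = 0 := by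
    have h2 : H.toRingHom (Polynomial.eval s G) = 0 := by rw [hGs, map_zero]
    rw [hG, Polynomial.eval_map, Polynomial.hom_eval₂ g (algebraMap k⟮a⟯ K) H.toRingHom s] at h2
    rw [hG, Polynomial.eval₂_map]
    have h3 : H.toRingHom.comp (algebraMap k⟮a⟯ K) =
        (PowerSeries.C : K →+* PowerSeries K).comp (algebraMap k⟮a⟯ K) := by
      apply RingHom.ext
      intro c
      exact hle c.2
    rw [h3] at h2
    have h4 : H.toRingHom s = PowerSeries.C s + PowerSeries.X := hH.1
    rw [h4] at h2
    exact h2
  have h5 : ((G.comp (Polynomial.X + Polynomial.C s) : Polynomial K) : PowerSeries K) = 0 := by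
    rw [Polynomial.comp, ← Polynomial.coeToPowerSeries.ringHom_apply,
      Polynomial.hom_eval₂ G Polynomial.C Polynomial.coeToPowerSeries.ringHom]
    rw [Polynomial.coeToPowerSeries.ringHom_apply, Polynomial.coe_add, Polynomial.coe_X,
      Polynomial.coe_C, add_comm]
    have : (Polynomial.coeToPowerSeries.ringHom.comp Polynomial.C : K →+* PowerSeries K) =
        PowerSeries.C := by
      apply RingHom.ext
      intro c
      show ((Polynomial.C c : Polynomial K) : PowerSeries K) = PowerSeries.C c
      rw [Polynomial.coe_C]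
    rw [this]
    exact h1
  have h6 : G.comp (Polynomial.X + Polynomial.C s) = 0 := by
    apply Polynomial.coe_injective
    rw [h5, Polynomial.coe_zero]
  rw [← Polynomial.taylor_apply] at h6
  exact hG0 (Polynomial.taylor_injective s (by rw [h6, map_zero]))

/-- relations among the Hasse derivative rows are stable under Hasse derivatives of the
coefficients -/
theorem relation_stable (hK : IsFunctionField k K) (hg : IsGeometric k K) {s : K}
    {H : K →ₐ[k] PowerSeries K} (hH : IsHasseFamily s H) {ι : Type*} [Fintype ι] (φ : ι → K)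
    (a : ι → K) (ha : ∀ j, ∑ i, a i * hasseD H j (φ i) = 0) (m : ℕ) :
    ∀ l, ∑ i, hasseD H m (a i) * hasseD H l (φ i) = 0 := by
  induction m using Nat.strong_induction_on with
  | _ m ih =>
    intro l
    have h1 : hasseD H m (∑ i, a i * hasseD H l (φ i)) = 0 := by
      rw [ha l]
      simp only [hasseD_apply, map_zero]
    rw [hasseD_sum] at h1
    simp only [hasseD_mul, hasseD_hasseD hK hg hH] at h1
    rw [Finset.sum_comm] at h1
    have h2 : ∀ p ∈ Finset.HasAntidiagonal.antidiagonal m, p ≠ (m, 0) →
        ∑ i, hasseD H p.1 (a i) * (((p.2 + l).choose l : K) * hasseD H (p.2 + l) (φ i)) = 0 := by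
      intro p hp hne
      rw [Finset.HasAntidiagonal.mem_antidiagonal] at hp
      have hlt : p.1 < m := by
        rcases Nat.lt_or_ge p.1 m with h | h
        · exact h
        · exfalso
          apply hne
          ext
          · show p.1 = m
            omega
          · show p.2 = 0
            omega
      have := ih p.1 hlt (p.2 + l)
      calc ∑ i, hasseD H p.1 (a i) * (((p.2 + l).choose l : K) * hasseD H (p.2 + l) (φ i))
          = ((p.2 + l).choose l : K) * ∑ i, hasseD H p.1 (a i) * hasseD H (p.2 + l) (φ i) := by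
            rw [Finset.mul_sum]
            apply Finset.sum_congr rfl
            intro i _
            ring
        _ = 0 := by rw [this, mul_zero]
    rw [Finset.sum_eq_single_of_mem (m, 0)
      (by rw [Finset.HasAntidiagonal.mem_antidiagonal]; rfl) h2] at h1
    simp only [zero_add, Nat.choose_self, Nat.cast_one, one_mul] at h1
    exact h1

open scoped Classical in
/-- descent: a nontrivial `K`-relation among the rows `(D^(j) φ_i)_j` yields a nontrivial
`k`-relation among the `φ_i` -/
theorem exists_const_relation (hK : IsFunctionField k K) (hg : IsGeometric k K) {s : K}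
    {H : K →ₐ[k] PowerSeries K} (hH : IsHasseFamily s H) {ι : Type*} [Fintype ι] (φ : ι → K) :
    ∀ (N : ℕ) (a : ι → K), (Finset.univ.filter fun i => a i ≠ 0).card = N → a ≠ 0 →
      (∀ j, ∑ i, a i * hasseD H j (φ i) = 0) → ∃ b : ι → k, b ≠ 0 ∧ ∑ i, b i • φ i = 0 := by
  classical
  intro N
  induction N using Nat.strong_induction_on with
  | _ N ih =>
    intro a hcard ha0 ha
    obtain ⟨i₀, hi₀⟩ : ∃ i₀, a i₀ ≠ 0 := by
      by_contra h
      push Not at h
      exact ha0 (funext h)
    -- normalise
    set a' : ι → K := fun i => (a i₀)⁻¹ * a i with ha'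
    have ha'0 : a' i₀ = 1 := inv_mul_cancel₀ hi₀
    have ha'rel : ∀ j, ∑ i, a' i * hasseD H j (φ i) = 0 := by
      intro j
      have : ∑ i, a' i * hasseD H j (φ i) = (a i₀)⁻¹ * ∑ i, a i * hasseD H j (φ i) := by
        rw [Finset.mul_sum]
        apply Finset.sum_congr rfl
        intro i _
        rw [ha']
        ring
      rw [this, ha j, mul_zero]
    have hsupp : ∀ i, a' i ≠ 0 ↔ a i ≠ 0 := by
      intro i
      rw [ha']
      simp only [ne_eq, mul_eq_zero, inv_eq_zero, hi₀, false_or]
    by_cases hconst : ∀ i, H (a' i) = PowerSeries.C (a' i)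
    · have hmem : ∀ i, a' i ∈ Set.range (algebraMap k K) := fun i =>
        mem_range_of_hasse_const hK hH (hconst i)
      choose b hb using hmem
      refine ⟨b, ?_, ?_⟩
      · intro hb0
        have : a' i₀ = 0 := by rw [← hb i₀, hb0, Pi.zero_apply, map_zero]
        rw [ha'0] at this
        exact one_ne_zero this
      · have := ha'rel 0
        simp only [hasseD_zero hH] at this
        rw [← this]
        apply Finset.sum_congr rfl
        intro i _
        rw [Algebra.smul_def, hb i]
    · push Not at hconst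
      obtain ⟨i₁, hi₁⟩ := hconst
      obtain ⟨m, hm⟩ : ∃ m, PowerSeries.coeff m (H (a' i₁)) ≠ PowerSeries.coeff m (PowerSeries.C (a' i₁)) := by
        by_contra h
        push Not at h
        exact hi₁ (PowerSeries.ext h)
      have hm0 : m ≠ 0 := by
        rintro rfl
        apply hm
        rw [PowerSeries.coeff_zero_eq_constantCoeff_apply, hH.2, PowerSeries.coeff_zero_C]
      rw [PowerSeries.coeff_C, if_neg hm0] at hm
      set b : ι → K := fun i => hasseD H m (a' i) with hb
      have hb1 : b i₁ ≠ 0 := hm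
      have hb0 : b i₀ = 0 := by
        show hasseD H m (a' i₀) = 0
        rw [ha'0, hasseD_one_eq_zero H hm0]
      have hbrel : ∀ j, ∑ i, b i * hasseD H j (φ i) = 0 :=
        relation_stable hK hg hH φ a' ha'rel m
      have hsub : (Finset.univ.filter fun i => b i ≠ 0) ⊂ (Finset.univ.filter fun i => a i ≠ 0) := by
        rw [Finset.ssubset_iff_of_subset]
        · refine ⟨i₀, Finset.mem_filter.mpr ⟨Finset.mem_univ _, hi₀⟩, ?_⟩
          rw [Finset.mem_filter]
          intro h
          exact h.2 hb0
        · intro i hi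
          rw [Finset.mem_filter] at hi ⊢
          refine ⟨Finset.mem_univ _, ?_⟩
          rw [← hsupp]
          intro h0
          apply hi.2
          show hasseD H m (a' i) = 0
          rw [h0, hasseD_apply, map_zero, map_zero]
      have hlt := Finset.card_lt_card hsub
      rw [hcard] at hlt
      exact ih _ hlt b rfl (fun h => hb1 (by rw [h, Pi.zero_apply])) hbrel

/-- the columns of Hasse derivatives of a linearly independent tuple span everything -/
theorem span_hasse_cols_eq_top (hK : IsFunctionField k K) (hg : IsGeometric k K) {s : K}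
    {H : K →ₐ[k] PowerSeries K} (hH : IsHasseFamily s H) {n : ℕ} (φ : Fin n → K)
    (hφ : LinearIndependent k φ) :
    Submodule.span K (Set.range fun j : ℕ => fun i => hasseD H j (φ i)) = ⊤ := by
  classical
  by_contra hne
  obtain ⟨f, hf0, hle⟩ := Submodule.exists_le_ker_of_lt_top _ (lt_top_iff_ne_top.mpr hne)
  set a : Fin n → K := fun i => f (fun j => if i = j then 1 else 0) with ha
  have hfa : ∀ v : Fin n → K, f v = ∑ i, a i * v i := by
    intro v
    rw [LinearMap.pi_apply_eq_sum_univ f v]
    apply Finset.sum_congr rfl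
    intro i _
    rw [smul_eq_mul, mul_comm]
  have ha0 : a ≠ 0 := by
    intro h
    apply hf0
    apply LinearMap.ext
    intro v
    rw [hfa, h]
    simp
  have harel : ∀ j, ∑ i, a i * hasseD H j (φ i) = 0 := by
    intro j
    rw [← hfa (fun i => hasseD H j (φ i))]
    exact hle (Submodule.subset_span ⟨j, rfl⟩)
  obtain ⟨b, hb0, hb⟩ := exists_const_relation hK hg hH φ _ a rfl ha0 harel
  apply hb0
  funext i
  exact (Fintype.linearIndependent_iff.mp hφ) b hb i

end rank

section orders

universe u v

variable {k : Type u} {K : Type v} [Field k] [Field K] [Algebra k K]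

/-- S12600 -/
theorem exists_isOrders_det_ne_zero (hK : IsFunctionField k K) (hg : IsGeometric k K) {n : ℕ}
    (φ : Fin (n + 1) → K) (hφ : LinearIndependent k φ) (τ : K →ₐ[k] K) {s : K}
    {H : K →ₐ[k] PowerSeries K} (hH : IsHasseFamily s H) :
    ∃ J : Fin n → ℕ, IsOrders K (hcol τ H φ) J ∧ (wrMat τ H φ J).det ≠ 0 := by
  classical
  set c := hcol τ H φ with hc
  have hV : Submodule.span K (Set.range c) = ⊤ := by
    rw [eq_top_iff, ← span_hasse_cols_eq_top hK hg hH φ hφ]
    apply Submodule.span_mono
    rintro _ ⟨j, rfl⟩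
    exact ⟨j + 1, rfl⟩
  have li := linearIndependent_jumps (R := K) c
  haveI : Finite {j // IsJump K c j} := li.finite
  have hspan : Submodule.span K (Set.range fun j : {j // IsJump K c j} => c j) = ⊤ := by
    have : (Set.range fun j : {j // IsJump K c j} => c j) = c '' {j | IsJump K c j} := by
      ext v
      constructor
      · rintro ⟨j, rfl⟩
        exact ⟨j, j.2, rfl⟩
      · rintro ⟨j, hj, rfl⟩
        exact ⟨⟨j, hj⟩, rfl⟩
    rw [this, ← span_range_eq_span_jumps, hV]
  let b := Module.Basis.mk li (ge_of_eq hspan)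
  have hcardS : Nat.card {j // IsJump K c j} = n + 1 := by
    rw [← Module.finrank_eq_nat_card_basis b, Module.finrank_fin_fun]
  have hfin : {j | IsJump K c j}.Finite := Set.finite_coe_iff.mp this
  set Sf : Finset ℕ := hfin.toFinset with hSf
  have hSfcard : Sf.card = n + 1 := by
    rw [← hcardS, hSf, ← Set.ncard_eq_toFinset_card _ hfin]
    rfl
  have hmemSf : ∀ j, j ∈ Sf ↔ IsJump K c j := fun j => by
    rw [hSf, Set.Finite.mem_toFinset]
    rfl
  have h0 : (0 : ℕ) ∈ Sf := by
    rw [hmemSf]
    unfold IsJump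
    have : c '' Set.Iio 0 = ∅ := by
      ext v
      simp
    rw [this, Submodule.span_empty, Submodule.mem_bot]
    intro h
    have h1 : τ (φ 0) = 0 := congrFun h 0
    rw [map_eq_zero] at h1
    exact hφ.ne_zero 0 h1
  set S'f : Finset ℕ := (Sf.erase 0).image Nat.pred with hS'f
  have hmemS' : ∀ j, j ∈ S'f ↔ IsJump K c (j + 1) := by
    intro j
    rw [hS'f, Finset.mem_image, ← hmemSf]
    constructor
    · rintro ⟨i, hi, rfl⟩
      rw [Finset.mem_erase] at hi
      have : i.pred + 1 = i := Nat.succ_pred_eq_of_ne_zero hi.1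
      rw [this]
      exact hi.2
    · intro h
      exact ⟨j + 1, Finset.mem_erase.mpr ⟨Nat.succ_ne_zero j, h⟩, rfl⟩
  have hS'card : S'f.card = n := by
    rw [hS'f, Finset.card_image_of_injOn, Finset.card_erase_of_mem h0, hSfcard]
    · rfl
    · intro i hi i' hi' h
      rw [Finset.coe_erase] at hi hi'
      have h1 : i ≠ 0 := hi.2
      have h2 : i' ≠ 0 := hi'.2
      have h3 : i.pred = i'.pred := h
      rw [← Nat.succ_pred_eq_of_ne_zero h1, ← Nat.succ_pred_eq_of_ne_zero h2, h3]
  let J : Fin n → ℕ := S'f.orderEmbOfFin hS'card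
  have hJrange : ∀ j, j ∈ Set.range J ↔ IsJump K c (j + 1) := by
    intro j
    rw [← hmemS']
    show j ∈ Set.range (S'f.orderEmbOfFin hS'card) ↔ _
    rw [Finset.range_orderEmbOfFin]
    rfl
  have hJmono : StrictMono J := (S'f.orderEmbOfFin hS'card).strictMono
  refine ⟨J, ⟨hJmono, hJrange⟩, ?_⟩
  rw [FW.wrMat_eq, ← isUnit_iff_ne_zero, ← Matrix.isUnit_iff_isUnit_det,
    ← Matrix.linearIndependent_cols_iff_isUnit]
  have hjump : ∀ l' : Fin (n + 1), IsJump K c (FW.colIdx J l') := by
    intro l'
    refine Fin.cases ?_ (fun l => ?_) l'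
    · exact (hmemSf 0).mp h0
    · exact (hJrange (J l)).mp ⟨l, rfl⟩
  have hinj : Function.Injective (fun l' : Fin (n + 1) =>
      (⟨FW.colIdx J l', hjump l'⟩ : {j // IsJump K c j})) := by
    intro l₁ l₂ h
    have h' : FW.colIdx J l₁ = FW.colIdx J l₂ := congrArg Subtype.val h
    revert h'
    refine Fin.cases ?_ (fun a => ?_) l₁ <;> refine Fin.cases ?_ (fun b => ?_) l₂
    · intro _; rfl
    · intro h
      exact absurd h (Nat.succ_ne_zero _).symm
    · intro h
      exact absurd h (Nat.succ_ne_zero _)
    · intro h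
      have : J a = J b := Nat.succ_injective h
      rw [hJmono.injective this]
  have h2 : LinearIndependent K (fun l' : Fin (n + 1) => c (FW.colIdx J l')) := li.comp _ hinj
  exact h2

end orders

end Groth.Agent.Lib.helper16.FHs
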