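import Groth.Agent.Lib.helper16.FExpand
import Groth.Agent.Lib.helper16.FHasseL
import Groth.Agent.Lib.helper16.FHasseRank
import Groth.Agent.Lib.helper16.FFRes
import Groth.Agent.Lib.helper16.FFMapDiv
import Groth.Prelude.Def_W4bk4goldsch45p2

/-! Helper library (helper16): Hasse derivatives with respect to a local parameter at a place,
read through the Laurent expansion (algebraically closed constant field). -/

set_option autoImplicit false

namespace Groth.Agent.Lib.helper16.FHL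

open FunFld WithZero LocRes
open Groth.Agent.Lib.helper16

universe u v

variable {k : Type u} {K : Type v} [Field k] [Field K] [Algebra k K]

section basic

variable [IsAlgClosed k] (hK : IsFunctionField k K) (P : Place k K) {t : K}
  (ht : P.1 t = exp (-1))

include hK

theorem hres : ∀ z : K, P.1 z ≤ 1 → ∃ c : k, P.1 (z - algebraMap k K c) < 1 :=
  fun _ hz => FF.exists_sub_val_lt_one hK P hz

/-- the expansion at `P` in the local parameter `t` -/
noncomputable def Φ : K →ₐ[k] LaurentSeries k := FEx.expA (hres hK P) ht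

theorem isExp : IsExpansionAt P.1 (Φ hK P ht) := FEx.isExpansionAt_expA _ _

theorem Φ_t : Φ hK P ht t = HahnSeries.single 1 1 := FEx.expL_t _ _

theorem val_Φ (z : K) : Valued.v (Φ hK P ht z) = P.1 z := (isExp hK P ht).1 z

/-- the coefficient functionals of the expansion -/
noncomputable def cf (j : ℕ) : K →ₗ[k] k where
  toFun z := (Φ hK P ht z).coeff (j : ℤ)
  map_add' a b := by rw [map_add, HahnSeries.coeff_add]
  map_smul' c a := by
    rw [RingHom.id_apply, Algebra.smul_def, map_mul, LocRes.map_algebraMap,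
      HahnSeries.C_mul_eq_smul, HahnSeries.coeff_smul, Algebra.algebraMap_self, RingHom.id_apply]

theorem cf_apply (j : ℕ) (z : K) : cf hK P ht j z = (Φ hK P ht z).coeff (j : ℤ) := rfl

theorem coeff_neg_eq_zero {z : K} (hz : P.1 z ≤ 1) {n : ℤ} (hn : n < 0) :
    (Φ hK P ht z).coeff n = 0 := by
  have h1 : Valued.v (Φ hK P ht z) ≤ exp (-(0 : ℤ)) := by
    rw [val_Φ, neg_zero, exp_zero]; exact hz
  exact (LaurentSeries.valuation_le_iff_coeff_lt_eq_zero k).mp h1 n hn

theorem val_le_exp_iff_cf {z : K} (hz : P.1 z ≤ 1) (m : ℕ) :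
    P.1 z ≤ exp (-(m : ℤ)) ↔ ∀ n < m, cf hK P ht n z = 0 := by
  rw [← val_Φ hK P ht, LaurentSeries.valuation_le_iff_coeff_lt_eq_zero k]
  constructor
  · intro h n hn
    exact h n (by exact_mod_cast hn)
  · intro h n hn
    by_cases hn0 : n < 0
    · exact coeff_neg_eq_zero hK P ht hz hn0
    · obtain ⟨a, rfl⟩ := Int.eq_ofNat_of_zero_le (not_lt.mp hn0)
      exact h a (by exact_mod_cast hn)

theorem val_eq_exp_iff_cf {z : K} (hz : P.1 z ≤ 1) (m : ℕ) :
    P.1 z = exp (-(m : ℤ)) ↔ (∀ n < m, cf hK P ht n z = 0) ∧ cf hK P ht m z ≠ 0 := by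
  rw [← val_Φ hK P ht, FDE.val_eq_exp_iff]
  constructor
  · rintro ⟨h1, h2⟩
    exact ⟨fun n hn => h1 n (by exact_mod_cast hn), h2⟩
  · rintro ⟨h1, h2⟩
    refine ⟨fun n hn => ?_, h2⟩
    by_cases hn0 : n < 0
    · exact coeff_neg_eq_zero hK P ht hz hn0
    · obtain ⟨a, rfl⟩ := Int.eq_ofNat_of_zero_le (not_lt.mp hn0)
      exact h1 a (by exact_mod_cast hn)

theorem eq_zero_of_cf {z : K} (hz : P.1 z ≤ 1) (h : ∀ j, cf hK P ht j z = 0) : z = 0 := by
  by_contra hne
  have h1 := hz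
  rw [FF.val_le_one_iff P hne] at h1
  obtain ⟨m, hm⟩ := Int.eq_ofNat_of_zero_le h1
  have h2 : P.1 z = exp (-(m : ℤ)) := by rw [FF.val_eq_exp_neg_ord P hne, hm]
  exact ((val_eq_exp_iff_cf hK P ht hz m).mp h2).2 (h m)

theorem val_sub_cf_lt {z : K} (hz : P.1 z ≤ 1) :
    P.1 (z - algebraMap k K (cf hK P ht 0 z)) < 1 := by
  have hz' : P.1 (z - algebraMap k K (cf hK P ht 0 z)) ≤ 1 :=
    (Valuation.map_sub P.1 _ _).trans (max_le hz (FF.val_algebraMap_le P _))
  rw [FF.lt_one_iff_le_exp_neg_one]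
  have := (val_le_exp_iff_cf hK P ht hz' 1).mpr ?_
  · simpa using this
  · intro n hn
    have hn0 : n = 0 := by omega
    subst hn0
    rw [map_sub, sub_eq_zero, cf_apply, cf_apply, AlgHom.commutes, HahnSeries.algebraMap_apply',
      PowerSeries.algebraMap_apply, HahnSeries.ofPowerSeries_C, Algebra.algebraMap_self,
      RingHom.id_apply, HahnSeries.C_apply]
    simp

theorem evalP_eq {z : K} (hz : P.1 z ≤ 1) :
    evalP P z = algebraMap k (IsLocalRing.ResidueField P.O) (cf hK P ht 0 z) := by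
  unfold evalP
  rw [dif_pos hz]
  have h1 := val_sub_cf_lt hK P ht hz
  have h2 : IsLocalRing.residue P.O (⟨z, (Valuation.mem_valuationSubring_iff P.1 z).mpr hz⟩ -
      algebraMap k P.O (cf hK P ht 0 z)) = 0 := by
    rw [FF.residue_eq_zero_iff]
    exact h1
  rw [map_sub, sub_eq_zero] at h2
  rw [h2]
  rfl

theorem algebraMap_residue_bijective :
    Function.Bijective (algebraMap k (IsLocalRing.ResidueField P.O)) := by
  refine ⟨(algebraMap k (IsLocalRing.ResidueField P.O)).injective, fun y => ?_⟩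
  obtain ⟨z, rfl⟩ := IsLocalRing.residue_surjective y
  obtain ⟨c, hc⟩ := hres hK P (z : K) z.2
  refine ⟨c, ?_⟩
  have h2 : IsLocalRing.residue P.O (z - algebraMap k P.O c) = 0 := by
    rw [FF.residue_eq_zero_iff]
    exact hc
  rw [map_sub, sub_eq_zero] at h2
  rw [h2]
  rfl

end basic

section hasse

variable [IsAlgClosed k] (hK : IsFunctionField k K) (P : Place k K) {t : K}
  (ht : P.1 t = exp (-1)) {Ht : K →ₐ[k] PowerSeries K} (hHt : IsHasseFamily t Ht)

include hK ht hHt

theorem Φ_hasseD {z : K} (hz : P.1 z ≤ 1) (j : ℕ) :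
    Φ hK P ht (hasseD Ht j z) = LaurentSeries.hasseDeriv k j (Φ hK P ht z) :=
  FHs.expansion_hasseD hK (FG.isGeometric_of_perfectField k K hK.2) (Φ hK P ht) t (Φ_t hK P ht)
    Ht hHt z (by rw [val_Φ]; exact hz) j

theorem hasseD_le {z : K} (hz : P.1 z ≤ 1) (j : ℕ) : P.1 (hasseD Ht j z) ≤ 1 := by
  rw [← val_Φ hK P ht, Φ_hasseD hK P ht hHt hz, ← exp_zero, ← neg_zero,
    LaurentSeries.valuation_le_iff_coeff_lt_eq_zero k]
  intro n hn
  rw [LaurentSeries.hasseDeriv_coeff]
  by_cases hnj : n + (j : ℤ) < 0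
  · rw [coeff_neg_eq_zero hK P ht hz hnj, smul_zero]
  · obtain ⟨b, hb⟩ := Int.eq_ofNat_of_zero_le (not_lt.mp hnj)
    rw [hb, Ring.choose_natCast, Nat.choose_eq_zero_of_lt (by omega), Nat.cast_zero, zero_smul]

theorem cf_hasseD {z : K} (hz : P.1 z ≤ 1) (j m : ℕ) :
    cf hK P ht m (hasseD Ht j z) = ((m + j).choose j : k) * cf hK P ht (m + j) z := by
  rw [cf_apply, Φ_hasseD hK P ht hHt hz, LaurentSeries.hasseDeriv_coeff, cf_apply]
  have : ((m : ℤ) + (j : ℤ)) = ((m + j : ℕ) : ℤ) := by push_cast; rfl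
  rw [this, Ring.choose_natCast, zsmul_eq_mul]
  push_cast
  rfl

theorem evalP_hasseD {z : K} (hz : P.1 z ≤ 1) (j : ℕ) :
    evalP P (hasseD Ht j z) = algebraMap k (IsLocalRing.ResidueField P.O) (cf hK P ht j z) := by
  rw [evalP_eq hK P ht (hasseD_le hK P ht hHt hz j), cf_hasseD hK P ht hHt hz, zero_add,
    Nat.choose_self, Nat.cast_one, one_mul]

end hasse

section rows

variable [IsAlgClosed k] (hK : IsFunctionField k K) (P : Place k K) {t : K}
  (ht : P.1 t = exp (-1)) {Ht : K →ₐ[k] PowerSeries K} (hHt : IsHasseFamily t Ht)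

include hK ht hHt

/-- S12599 -/
theorem linearIndependent_evalP_hasseD {n : ℕ} (φ : Fin n → K) (hφ : LinearIndependent k φ)
    (hint : ∀ i, P.1 (φ i) ≤ 1) :
    LinearIndependent (IsLocalRing.ResidueField P.O)
      (fun i : Fin n => fun j : ℕ => evalP P (hasseD Ht j (φ i))) := by
  rw [Fintype.linearIndependent_iff]
  intro g hg i₀
  have hbij := algebraMap_residue_bijective hK P
  choose μ hμ using fun i => hbij.2 (g i)
  have hz : P.1 (∑ i, μ i • φ i) ≤ 1 := by
    apply Valuation.map_sum_le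
    intro i _
    exact (FF.val_smul_le P _ _).trans (hint i)
  have h0 : ∑ i, μ i • φ i = 0 := by
    apply eq_zero_of_cf hK P ht hz
    intro j
    apply hbij.1
    rw [map_zero, map_sum, map_sum]
    have := congrFun hg j
    rw [Finset.sum_apply, Pi.zero_apply] at this
    refine Eq.trans ?_ this
    apply Finset.sum_congr rfl
    intro i _
    rw [Pi.smul_apply, evalP_hasseD hK P ht hHt (hint i), ← hμ i, map_smul, smul_eq_mul, map_mul,
      smul_eq_mul]
  have h1 := (Fintype.linearIndependent_iff.mp hφ) μ h0 i₀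
  rw [← hμ i₀, h1, map_zero]

omit hHt ht in
/-- a function of order one in the span of a normalized effective nonsingular map -/
theorem exists_mem_span_val_eq {n : ℕ} (φ : Fin (n + 1) → K) (hφ : LinearIndependent k φ)
    (heff : (1 : K) ∈ Submodule.span k (Set.range φ)) (hnorm : ∀ i, P.1 (φ i) ≤ 1)
    (hns : IsNonsingularAt φ P) :
    ∃ f ∈ Submodule.span k (Set.range φ), P.1 f = exp (-1) := by
  classical
  have hφ0 : ∀ i, φ i ≠ 0 := fun i => hφ.ne_zero i
  have hW1 : ∀ f ∈ Submodule.span k (Set.range φ), P.1 f ≤ 1 := by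
    intro f hf
    induction hf using Submodule.span_induction with
    | mem x hx => obtain ⟨i, rfl⟩ := hx; exact hnorm i
    | zero => rw [map_zero]; exact zero_le
    | add x y _ _ hx hy => exact (Valuation.map_add P.1 _ _).trans (max_le hx hy)
    | smul c x _ hx => exact (FF.val_smul_le P c x).trans hx
  have hD0 : mapDiv k φ P = 0 := by
    obtain ⟨j, hj⟩ := FF.exists_ord_eq_neg_mapDiv hK φ P
    have h1 : ∀ i, 0 ≤ P.ord (φ i) := fun i => (FF.val_le_one_iff P (hφ0 i)).mp (hnorm i)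
    have h2 : mapDiv k φ P ≤ 0 := by
      have := h1 j
      omega
    have h3 : (1 : K) ∈ L (mapDiv k φ) := FF.span_le_L_mapDiv hK φ heff
    have h4 := h3 P
    rw [map_one, ← exp_zero, exp_le_exp] at h4
    omega
  set W := Submodule.span k (Set.range φ) with hW
  set D := mapDiv k φ with hD
  have hcod := FF.codim_two_of_isNonsingularAt hK φ hφ0 P hns P
  rw [← hW, ← hD] at hcod
  have hWL : W ≤ L D := FF.span_le_L_mapDiv hK φ
  have hWD : W ⊓ L D = W := inf_eq_left.mpr hWL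
  have hdeg : P.deg = 1 := FF.deg_eq_one_of_isAlgClosed hK P
  have hu1 := FF.finrank_inf_L_le_sub_single hK W D P
  have hu2 := FF.finrank_inf_L_le_sub_single hK W (D - Finsupp.single P 1) P
  rw [hWD, hdeg] at hu1
  rw [hdeg] at hu2
  have hlt : Module.finrank k ↥(W ⊓ L (D - Finsupp.single P 1 - Finsupp.single P 1)) <
      Module.finrank k ↥(W ⊓ L (D - Finsupp.single P 1)) := by omega
  obtain ⟨s, hsW, hs1, hs2⟩ := FF.exists_mem_inf_not_mem hK W hlt
  refine ⟨s, hsW, ?_⟩
  rw [FF.mem_L_sub_single_iff] at hs1 hs2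
  have h5 := hs1.2
  rw [hD0] at h5
  have h6 : ¬ P.1 s ≤ exp ((D - Finsupp.single P (1 : ℤ)) P - 1) := fun h => hs2 ⟨FF.mem_L_sub_single_iff.mpr hs1, h⟩
  rw [Finsupp.sub_apply, Finsupp.single_eq_same, hD0] at h6
  have hs0 : s ≠ 0 := by
    rintro rfl
    apply h6
    rw [map_zero]
    exact zero_le
  rw [FF.val_eq_exp_neg_ord P hs0, exp_le_exp] at h5 h6
  rw [FF.val_eq_exp_neg_ord P hs0]
  congr 1
  omega

/-- S12617 -/
theorem first_order_eq_one {n : ℕ} (hn : 0 < n) (φ : Fin (n + 1) → K)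
    (hφ : LinearIndependent k φ)
    (heff : (1 : K) ∈ Submodule.span k (Set.range φ)) (hnorm : ∀ i, P.1 (φ i) ≤ 1)
    (hns : IsNonsingularAt φ P)
    (J' : Fin n → ℕ) (hJ' : IsOrders (IsLocalRing.ResidueField P.O) (hcolAt P Ht φ) J') :
    J' ⟨0, hn⟩ = 1 := by
  classical
  obtain ⟨f, hfW, hf1⟩ := exists_mem_span_val_eq hK P φ hφ heff hnorm hns
  have hf1' : P.1 f = exp (-((1 : ℕ) : ℤ)) := by rw [hf1]; rfl
  have hfle : P.1 f ≤ 1 := by
    rw [hf1, ← exp_zero, exp_le_exp]; omega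
  obtain ⟨hcf0, hcf1⟩ := (val_eq_exp_iff_cf hK P ht hfle 1).mp hf1'
  have hcf0' := hcf0 0 one_pos
  obtain ⟨a, ha⟩ := (Submodule.mem_span_range_iff_exists_fun k).mp hfW
  set κ := IsLocalRing.ResidueField P.O with hκ
  set c := hcolAt P Ht φ with hc
  -- the functional
  let Lf : (Fin (n + 1) → κ) →ₗ[κ] κ :=
    ∑ i, algebraMap k κ (a i) • LinearMap.proj i
  have hLf : ∀ v, Lf v = ∑ i, algebraMap k κ (a i) * v i := by
    intro v
    simp only [Lf, LinearMap.sum_apply, LinearMap.smul_apply, LinearMap.proj_apply, smul_eq_mul]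
  have hLc : ∀ j, Lf (c (j + 1)) = algebraMap k κ (cf hK P ht j f) := by
    intro j
    rw [hLf, ← ha, map_sum, map_sum]
    apply Finset.sum_congr rfl
    intro i _
    show _ * evalP P (hasseD Ht j (φ i)) = _
    rw [evalP_hasseD hK P ht hHt (hnorm i), map_smul, smul_eq_mul, map_mul]
  have hc01 : c 0 = c 1 := by
    funext i
    show evalP P (φ i) = evalP P (hasseD Ht 0 (φ i))
    rw [FHs.hasseD_zero hHt]
  have hj2 : IsJump κ c 2 := by
    intro hmem
    have hle : Submodule.span κ (c '' Set.Iio 2) ≤ LinearMap.ker Lf := by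
      rw [Submodule.span_le]
      rintro _ ⟨j, hj, rfl⟩
      rw [Set.mem_Iio] at hj
      rw [SetLike.mem_coe, LinearMap.mem_ker]
      have : j = 0 ∨ j = 1 := by omega
      rcases this with rfl | rfl
      · rw [hc01, hLc 0, hcf0', map_zero]
      · rw [hLc 0, hcf0', map_zero]
    have h1 := hle hmem
    rw [LinearMap.mem_ker, hLc 1, map_eq_zero] at h1
    exact hcf1 h1
  have hj1 : ¬ IsJump κ c 1 := by
    intro h
    apply h
    apply Submodule.subset_span
    exact ⟨0, by simp, hc01⟩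
  obtain ⟨hmono, hiff⟩ := hJ'
  obtain ⟨l, hl⟩ := (hiff 1).mpr hj2
  have h0 : J' ⟨0, hn⟩ ≠ 0 := by
    intro h
    exact hj1 ((hiff 0).mp ⟨_, h⟩)
  have h1 : J' ⟨0, hn⟩ ≤ J' l := hmono.monotone (by rw [Fin.le_def]; exact Nat.zero_le _)
  omega

end rows

end Groth.Agent.Lib.helper16.FHL
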