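import Groth.Agent.Lib.helper16.FFPlane
import Mathlib.RingTheory.Valuation.LocalSubring

/-! Helper library (helper16): a local–global principle for subalgebras of a function field. -/

set_option autoImplicit false

namespace Groth.Agent.Lib.helper16.FPN

open FunFld WithZero Polynomial Module Groth.Agent.Lib.helper16.FF
open scoped IntermediateField

variable {k K : Type*} [Field k] [Field K] [Algebra k K]

theorem InLoc.mul {R : Subalgebra k K} {P : Place k K} {z z' : K} (hz : InLoc R P z)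
    (hz' : InLoc R P z') : InLoc R P (z * z') := by
  obtain ⟨u, hu, w, hw, hw1, h⟩ := hz
  obtain ⟨u', hu', w', hw', hw1', h'⟩ := hz'
  refine ⟨u * u', R.mul_mem hu hu', w * w', R.mul_mem hw hw', by rw [map_mul, hw1, hw1', one_mul], ?_⟩
  rw [← h, ← h']; ring

theorem InLoc.div {R : Subalgebra k K} {P : Place k K} {z z' : K} (hz : InLoc R P z)
    (hz' : InLoc R P z') (h1 : P.1 z' = 1) : InLoc R P (z / z') := by
  obtain ⟨u, hu, w, hw, hw1, h⟩ := hz
  obtain ⟨u', hu', w', hw', hw1', h'⟩ := hz'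
  have hz0 : z' ≠ 0 := by
    rintro rfl
    rw [map_zero] at h1
    exact zero_ne_one h1
  refine ⟨u * w', R.mul_mem hu hw', w * u', R.mul_mem hw hu', ?_, ?_⟩
  · rw [map_mul, hw1, one_mul, ← h', map_mul, h1, hw1', one_mul]
  · rw [← h, ← h']
    field_simp

theorem InLoc.of_adjoin {R : Subalgebra k K} {P : Place k K} {S : Set K}
    (hS : ∀ g ∈ S, InLoc R P g) {c : K} (hc : c ∈ Algebra.adjoin k S) : InLoc R P c := by
  refine Algebra.adjoin_induction (p := fun y _ => InLoc R P y) ?_ ?_ ?_ ?_ hc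
  · intro g hg
    exact hS g hg
  · intro c
    exact InLoc.of_mem (R.algebraMap_mem c)
  · intro a b _ _ ha hb
    exact InLoc.add ha hb
  · intro a b _ _ ha hb
    exact InLoc.mul ha hb

/-- the local ring of a projective map in terms of a subalgebra containing a chart -/
theorem inLoc_of_inLocRing' {ι : Type*} (φ : ι → K) (Q : Place k K) (R : Subalgebra k K) {v : K}
    (hv : v ≠ 0) (hR : ∀ i, φ i / v ∈ R)
    (hmax : ∀ j, (∀ i, Q.1 (φ i) ≤ Q.1 (φ j)) → Q.1 (φ j) = Q.1 v) {w : K}
    (hw : InLocRing φ Q w) : InLoc R Q w := by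
  obtain ⟨j, hj0, hj, a, ha, b, hb, hb1, hwb⟩ := hw
  have hjv := hmax j hj
  have hgen : ∀ g ∈ Set.range (fun i => φ i / φ j), InLoc R Q g := by
    rintro _ ⟨i, rfl⟩
    have h1 : φ i / φ j = (φ i / v) / (φ j / v) := by
      field_simp
    show InLoc R Q (φ i / φ j)
    rw [h1]
    refine InLoc.div (InLoc.of_mem (hR i)) (InLoc.of_mem (hR j)) ?_
    rw [map_div₀, hjv]
    exact div_self (val_ne_zero Q hv)
  have h2 : w = a / b := by
    have hb0 : b ≠ 0 := by
      rintro rfl
      rw [map_zero] at hb1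
      exact zero_ne_one hb1
    rw [← hwb]
    field_simp
  rw [h2]
  exact InLoc.div (InLoc.of_adjoin hgen ha) (InLoc.of_adjoin hgen hb) hb1

/-- **local–global principle**: an element lying in the localisation of `R` at the centre of
every place centred on `R` lies in `R` -/
theorem mem_of_forall_inLoc (hK : IsFunctionField k K) (R : Subalgebra k K) {w : K}
    (hQ₀ : ∃ Q₀ : Place k K, ∀ a ∈ R, Q₀.1 a ≤ 1)
    (h : ∀ Q : Place k K, (∀ a ∈ R, Q.1 a ≤ 1) → InLoc R Q w) : w ∈ R := by
  classical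
  let A : Subring K := R.toSubring
  let I : Ideal A :=
    { carrier := {r | (r : K) * w ∈ R}
      add_mem' := fun {a b} ha hb => by
        show ((a + b : A) : K) * w ∈ R
        rw [Subring.coe_add, add_mul]
        exact R.add_mem ha hb
      zero_mem' := by
        show ((0 : A) : K) * w ∈ R
        rw [Subring.coe_zero, zero_mul]
        exact R.zero_mem
      smul_mem' := fun c a ha => by
        show ((c • a : A) : K) * w ∈ R
        rw [smul_eq_mul, Subring.coe_mul, mul_assoc]
        exact R.mul_mem c.2 ha }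
  by_cases hI : I = ⊤
  · have h1 : (1 : A) ∈ I := by rw [hI]; exact Submodule.mem_top
    have h2 : ((1 : A) : K) * w ∈ R := h1
    rwa [Subring.coe_one, one_mul] at h2
  exfalso
  obtain ⟨B, hAB, hIB⟩ := Ideal.image_subset_nonunits_valuationSubring I hI
  have hkB : ∀ c : k, algebraMap k K c ∈ B := fun c => hAB (R.algebraMap_mem c)
  have hmemI : ∀ (Q : Place k K), (∀ a ∈ R, Q.1 a ≤ 1) →
      ∃ v : A, Q.1 (v : K) = 1 ∧ v ∈ I := by
    intro Q hQ
    obtain ⟨a, ha, v, hv, hv1, hwv⟩ := h Q hQ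
    refine ⟨⟨v, hv⟩, hv1, ?_⟩
    show v * w ∈ R
    rw [mul_comm, hwv]
    exact ha
  by_cases hB : B = ⊤
  · obtain ⟨Q₀, hQ₀⟩ := hQ₀
    obtain ⟨v, hv1, hvI⟩ := hmemI Q₀ hQ₀
    have h1 : (v : K) ∈ B.nonunits := hIB ⟨v, hvI, rfl⟩
    rw [ValuationSubring.mem_nonunits_iff_or] at h1
    rcases h1 with h1 | h1
    · rw [h1, map_zero] at hv1
      exact zero_ne_one hv1
    · apply h1
      rw [hB]
      exact ValuationSubring.mem_top _
  · obtain ⟨Q, hQ⟩ := exists_place_of_valuationSubring hK B hkB hB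
    have hRQ : ∀ a ∈ R, Q.1 a ≤ 1 := by
      intro a ha
      have : a ∈ Q.O := by rw [hQ]; exact hAB ha
      exact this
    obtain ⟨v, hv1, hvI⟩ := hmemI Q hRQ
    have h1 : (v : K) ∈ B.nonunits := hIB ⟨v, hvI, rfl⟩
    rw [ValuationSubring.mem_nonunits_iff_or] at h1
    rcases h1 with h1 | h1
    · rw [h1, map_zero] at hv1
      exact zero_ne_one hv1
    · apply h1
      rw [← hQ]
      show Q.1 v⁻¹ ≤ 1
      rw [map_inv₀, hv1, inv_one]

end Groth.Agent.Lib.helper16.FPN
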