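import Groth.Agent.Lib.helper16.FDual2
import Groth.Agent.Lib.helper16.FPlaneNS1
import Groth.Agent.Lib.helper16.FPlaneGen
import Groth.Agent.Lib.helper16.FDivDiff
import Groth.Agent.Lib.helper16.FHasseLoc

/-! Helper library (helper16): the local conductor exponent of a plane model — core affine
computation (towards S12613). -/

set_option autoImplicit false

namespace Groth.Agent.Lib.helper16.FAC

open FunFld WithZero Polynomial Module LocRes
open Groth.Agent.Lib.helper16 Groth.Agent.Lib.helper16.FF Groth.Agent.Lib.helper16.FX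
open scoped IntermediateField

universe u v

section rat

variable {k : Type u} {F : Type v} [Field k] [Field F] [Algebra k F]

/-- a polynomial not vanishing at `a` is a unit at the place `x₀ = a` -/
theorem val_aeval_eq_one (P : Place k F) {x₀ : F} {a : k}
    (ha : P.1 (x₀ - algebraMap k F a) < 1) {q : k[X]} (hq : q.eval a ≠ 0) :
    P.1 (aeval x₀ q) = 1 := by
  have hx1 : P.1 x₀ ≤ 1 := by
    have : x₀ = (x₀ - algebraMap k F a) + algebraMap k F a := by ring
    rw [this]
    exact le_trans (P.1.map_add _ _) (max_le ha.le (P.2.1 a))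
  obtain ⟨q', hq'⟩ := X_sub_C_dvd_sub_C_eval (a := a) (p := q)
  have h1 : aeval x₀ q = algebraMap k F (q.eval a) + (x₀ - algebraMap k F a) * aeval x₀ q' := by
    have := congrArg (aeval x₀) hq'
    rw [map_sub, aeval_C, map_mul, map_sub, aeval_X, aeval_C] at this
    rw [← this]; ring
  rw [h1, Valuation.map_add_eq_of_lt_left, val_algebraMap P hq]
  rw [val_algebraMap P hq, map_mul]
  calc P.1 (x₀ - algebraMap k F a) * P.1 (aeval x₀ q') ≤ P.1 (x₀ - algebraMap k F a) * 1 :=
        mul_le_mul_right (val_aeval_le_one P hx1 q') _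
    _ < 1 := by rw [mul_one]; exact ha

/-- a polynomial vanishing at `a` is a non-unit at the place `x₀ = a` -/
theorem val_aeval_lt_one (P : Place k F) {x₀ : F} {a : k}
    (ha : P.1 (x₀ - algebraMap k F a) < 1) {q : k[X]} (hq : q.eval a = 0) :
    P.1 (aeval x₀ q) < 1 := by
  have hx1 : P.1 x₀ ≤ 1 := by
    have : x₀ = (x₀ - algebraMap k F a) + algebraMap k F a := by ring
    rw [this]
    exact le_trans (P.1.map_add _ _) (max_le ha.le (P.2.1 a))
  obtain ⟨q', hq'⟩ := X_sub_C_dvd_sub_C_eval (a := a) (p := q)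
  rw [hq, map_zero, sub_zero] at hq'
  rw [hq', map_mul, map_sub, aeval_X, aeval_C, map_mul]
  calc P.1 (x₀ - algebraMap k F a) * P.1 (aeval x₀ q') ≤ P.1 (x₀ - algebraMap k F a) * 1 :=
        mul_le_mul_right (val_aeval_le_one P hx1 q') _
    _ < 1 := by rw [mul_one]; exact ha

/-- in `F = k(x₀)`, an element regular at the place `x₀ = a` is a quotient of polynomials in
`x₀` whose denominator is a unit there -/
theorem exists_poly_quot {x₀ : F} (hx₀ : k⟮x₀⟯ = ⊤) (P : Place k F) {a : k}
    (ha : P.1 (x₀ - algebraMap k F a) < 1) {r : F} (hr : P.1 r ≤ 1) :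
    ∃ p q : k[X], P.1 (aeval x₀ q) = 1 ∧ r * aeval x₀ q = aeval x₀ p := by
  have hmem : r ∈ k⟮x₀⟯ := by rw [hx₀]; exact IntermediateField.mem_top
  obtain ⟨p, q, hpq⟩ := (IntermediateField.mem_adjoin_simple_iff k r).mp hmem
  by_cases hq0 : aeval x₀ q = 0
  · refine ⟨0, 1, ?_, ?_⟩
    · rw [map_one, map_one]
    · rw [hpq, hq0, div_zero, zero_mul, map_zero]
  -- induction on the degree of the denominator
  suffices hsuff : ∀ (n : ℕ) (p q : k[X]), q.natDegree ≤ n → aeval x₀ q ≠ 0 →
      r = aeval x₀ p / aeval x₀ q →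
      ∃ p q : k[X], P.1 (aeval x₀ q) = 1 ∧ r * aeval x₀ q = aeval x₀ p from
    hsuff q.natDegree p q le_rfl hq0 hpq
  intro n
  induction n with
  | zero =>
    intro p q hn hq0 hpq
    have hqC : q = C (q.coeff 0) := eq_C_of_natDegree_le_zero hn
    have hc0 : q.coeff 0 ≠ 0 := by
      intro h0
      apply hq0
      rw [hqC, h0, map_zero, map_zero]
    refine ⟨p, q, ?_, ?_⟩
    · rw [hqC, aeval_C]
      exact val_algebraMap P hc0
    · rw [hpq, div_mul_cancel₀ _ hq0]
  | succ n ih =>
    intro p q hn hq0 hpq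
    by_cases hqa : q.eval a = 0
    · -- `q` vanishes at `a`; then so does `p`
      have hqlt := val_aeval_lt_one P ha hqa
      have hpa : p.eval a = 0 := by
        by_contra hpa
        have h1 := val_aeval_eq_one P ha hpa
        have h2 : P.1 r * P.1 (aeval x₀ q) = 1 := by
          rw [← map_mul, hpq, div_mul_cancel₀ _ hq0, h1]
        have h3 : P.1 r * P.1 (aeval x₀ q) < 1 :=
          lt_of_le_of_lt (mul_le_mul_left hr _) (by rw [one_mul]; exact hqlt)
        rw [h2] at h3
        exact lt_irrefl _ h3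
      obtain ⟨q', hq'⟩ := X_sub_C_dvd_sub_C_eval (a := a) (p := q)
      obtain ⟨p', hp'⟩ := X_sub_C_dvd_sub_C_eval (a := a) (p := p)
      rw [hqa, map_zero, sub_zero] at hq'
      rw [hpa, map_zero, sub_zero] at hp'
      have ht0 : aeval x₀ (X - C a : k[X]) ≠ 0 := by
        intro h0
        apply hq0
        rw [hq', map_mul, h0, zero_mul]
      have hq'0 : aeval x₀ q' ≠ 0 := by
        intro h0
        apply hq0
        rw [hq', map_mul, h0, mul_zero]
      have hq'ne : q' ≠ 0 := by
        rintro rfl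
        exact hq'0 (map_zero _)
      have hdeg : q'.natDegree ≤ n := by
        have h1 : q.natDegree = (X - C a : k[X]).natDegree + q'.natDegree := by
          rw [hq']
          exact natDegree_mul (X_sub_C_ne_zero a) hq'ne
        rw [natDegree_X_sub_C] at h1
        omega
      refine ih p' q' hdeg hq'0 ?_
      rw [hpq, hp', hq', map_mul, map_mul, mul_div_mul_left _ _ ht0]
    · refine ⟨p, q, val_aeval_eq_one P ha hqa, ?_⟩
      rw [hpq, div_mul_cancel₀ _ hq0]

end rat


section core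

variable {k : Type u} {F K : Type v} [Field k] [Field F] [Field K] [Algebra k F] [Algebra F K]
  [Algebra k K] [IsScalarTower k F K] [IsAlgClosed k] [FiniteDimensional F K]
  [Algebra.IsSeparable F K]

/-- **core computation**: for `K = F(y)` over the rational field `F = k(x₀)`, `y` regular wherever
`x₀` is, and a place `Q` where `x₀` is regular, `ord_Q g'(y) ≥ ord_Q(dx₀)` with equality exactly
when `O_Q` is the localisation of `k[x₀, y]` at `Q`. -/
theorem core (hK : IsFunctionField k K) (hF : IsFunctionField k F) {x₀ : F} (hx₀ : k⟮x₀⟯ = ⊤)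
    {y : K} (hFy : F⟮y⟯ = ⊤)
    (hyint : ∀ Q' : Place k K, Q'.1 (algebraMap F K x₀) ≤ 1 → Q'.1 y ≤ 1)
    (Q : Place k K) (hQx : Q.1 (algebraMap F K x₀) ≤ 1)
    (ΦQ : K →ₐ[k] LaurentSeries k) (hΦQ : IsExpansionAt Q.1 ΦQ)
    (hdx : vDiff ΦQ 1 (algebraMap F K x₀) ≠ 0) :
    ordDiff ΦQ 1 (algebraMap F K x₀) ≤ Q.ord (aeval y (derivative (minpoly F y))) ∧
    (Q.ord (aeval y (derivative (minpoly F y))) = ordDiff ΦQ 1 (algebraMap F K x₀) ↔
      ∀ z : K, Q.1 z ≤ 1 →
        InLoc (Algebra.adjoin k ({algebraMap F K x₀, y} : Set K)) Q z) := by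
  classical
  have hg : IsGeometric k F := FG.isGeometric_of_perfectField k F hF.2
  obtain ⟨P, e, he⟩ := exists_isOverWith (K' := K) hF.1 Q
  have he1 := isOverWith_pos he
  have hPx : P.1 x₀ ≤ 1 := by
    by_contra h
    rw [not_le] at h
    rw [he x₀] at hQx
    exact absurd hQx (not_le.mpr (one_lt_pow₀ h (by omega)))
  -- local parameter
  have hPP : IsOverWith P P 1 := fun z => by rw [pow_one]; rfl
  obtain ⟨a, ha⟩ := FPG.exists_sub_val_eq_exp_neg_one (K := F) hF hx₀ hPP hPx
  have htv : P.1 (x₀ - algebraMap k F a) = exp (-1) := ha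
  have htlt : P.1 (x₀ - algebraMap k F a) < 1 := by
    rw [htv, ← exp_zero, exp_lt_exp]; omega
  obtain ⟨φ, hφdef⟩ : ∃ φ : F →ₐ[k] LaurentSeries k, φ = FHL.Φ hF P htv := ⟨_, rfl⟩
  have hφ : IsExpansionAt P.1 φ := by rw [hφdef]; exact FHL.isExp hF P htv
  have hord0 : ordDiff φ 1 x₀ = 0 := FDD.ordDiff_eq_zero_of_sub P φ hφ htv
  have hx : vDiff φ 1 x₀ ≠ 0 := by
    rw [FDE.vDiff_one, ← FDD.D_sub_algebraMap φ x₀ a]
    have h1 : Valued.v (φ (x₀ - algebraMap k F a)) = exp (-(1 : ℤ)) := by rw [hφ.1, htv]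
    have h2 := (FDE.val_D_of_val_eq h1).1 (by simp)
    rw [h2]
    exact exp_ne_zero
  have hd : diffExp φ ΦQ e x₀ = ordDiff ΦQ 1 (algebraMap F K x₀) := by
    unfold diffExp
    rw [hord0, mul_zero, sub_zero]
  have hres : ∀ z : K, Q.1 z ≤ 1 → ∃ b : F, P.1 b ≤ 1 ∧ Q.1 (z - algebraMap F K b) < 1 := by
    intro z hz
    obtain ⟨c, hc⟩ := exists_sub_val_lt_one hK Q hz
    refine ⟨algebraMap k F c, P.2.1 c, ?_⟩
    rwa [← IsScalarTower.algebraMap_apply]
  have hdeg : Q.deg = P.deg := by
    rw [deg_eq_one_of_isAlgClosed hK Q, deg_eq_one_of_isAlgClosed hF P]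
  letI : Algebra P.O K := ((algebraMap F K).comp (algebraMap P.O F)).toAlgebra
  haveI : IsScalarTower P.O F K := IsScalarTower.of_algebraMap_eq (fun _ => rfl)
  have hyB : y ∈ semiLocal K P := by
    rintro Q' ⟨e', he'⟩
    apply hyint Q'
    rw [he' x₀]
    exact pow_le_one₀ zero_le hPx
  have hyi : IsIntegral P.O y := FCE.isIntegral_of_mem_semiLocal hF P hyB
  obtain ⟨h1, h2⟩ := FDu.main2 hF hg he hdeg hres φ hφ ΦQ hΦQ hx hdx hFy hyi
  rw [hd] at h1 h2
  obtain ⟨x, hxdef⟩ : ∃ x : K, x = algebraMap F K x₀ := ⟨_, rfl⟩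
  rw [← hxdef] at h1 h2 hQx hdx ⊢
  obtain ⟨R, hRdef⟩ : ∃ R : Subalgebra k K, R = Algebra.adjoin k ({x, y} : Set K) := ⟨_, rfl⟩
  rw [← hRdef]
  have hxR : x ∈ R := by rw [hRdef]; exact Algebra.subset_adjoin (by simp)
  have hyR : y ∈ R := by rw [hRdef]; exact Algebra.subset_adjoin (by simp)
  have hpolyR : ∀ p : k[X], algebraMap F K (aeval x₀ p) ∈ R := by
    intro p
    rw [← aeval_algebraMap_apply, ← hxdef, aeval_eq_sum_range]
    refine R.sum_mem (fun i _ => ?_)
    rw [Algebra.smul_def]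
    exact R.mul_mem (R.algebraMap_mem _) (R.pow_mem hxR i)
  refine ⟨h1, ⟨fun heq z hz => ?_, fun hns => ?_⟩⟩
  · -- equality gives the localisation
    have hR : ∀ a₁ ∈ Algebra.adjoin P.O ({y} : Set K), InLoc R Q a₁ := by
      intro a₁ ha₁
      refine Algebra.adjoin_induction (p := fun z _ => InLoc R Q z) ?_ ?_ ?_ ?_ ha₁
      · intro g hg'
        rw [Set.mem_singleton_iff] at hg'
        rw [hg']
        exact InLoc.of_mem hyR
      · intro r
        obtain ⟨p, q, hq1, hpq⟩ := exists_poly_quot hx₀ P htlt r.2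
        refine ⟨algebraMap F K (aeval x₀ p), hpolyR p, algebraMap F K (aeval x₀ q), hpolyR q,
          ?_, ?_⟩
        · rw [he, hq1, one_pow]
        · show algebraMap F K r.1 * _ = _
          rw [← map_mul, hpq]
      · intro a b _ _ ha hb
        exact InLoc.add ha hb
      · intro a b _ _ ha hb
        exact FPN.InLoc.mul ha hb
    obtain ⟨a₁, ha₁, b₁, hb₁, hb1, hzb⟩ := h2 heq z hz
    have hb0 : b₁ ≠ 0 := by
      rintro rfl
      rw [map_zero] at hb1
      exact zero_ne_one hb1
    have hz' : z = a₁ / b₁ := by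
      rw [← hzb, mul_div_cancel_right₀ _ hb0]
    rw [hz']
    exact FPN.InLoc.div (hR a₁ ha₁) (hR b₁ hb₁) hb1
  · -- the localisation gives equality
    apply le_antisymm _ h1
    obtain ⟨b, hbB, hb⟩ := exists_integral_basis (K' := K) hF P
    have hbQ : ∀ i, Q.1 (b i) ≤ 1 := fun i => hbB i Q ⟨e, he⟩
    choose u hu w' hw' hw1 hbw using fun i => hns (b i) (hbQ i)
    obtain ⟨c, hcdef⟩ : ∃ c : K, c = ∏ i, w' i := ⟨_, rfl⟩
    have hcQ : Q.1 c = 1 := by
      rw [hcdef, map_prod]
      exact Finset.prod_eq_one (fun i _ => hw1 i)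
    have hRsub : ∀ z ∈ R, z ∈ Algebra.adjoin P.O ({y} : Set K) := by
      intro z hz
      rw [hRdef] at hz
      refine Algebra.adjoin_induction (p := fun z _ => z ∈ Algebra.adjoin P.O ({y} : Set K))
        ?_ ?_ ?_ ?_ hz
      · intro g hg'
        rcases hg' with rfl | hg'
        · rw [hxdef]
          exact FDu.algebraMap_mem_adjoin y hPx
        · rw [Set.mem_singleton_iff] at hg'
          rw [hg']
          exact Algebra.self_mem_adjoin_singleton P.O y
      · intro c'
        rw [IsScalarTower.algebraMap_apply k F K]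
        exact FDu.algebraMap_mem_adjoin y (P.2.1 c')
      · intro a b _ _ ha hb
        exact Subalgebra.add_mem _ ha hb
      · intro a b _ _ ha hb
        exact Subalgebra.mul_mem _ ha hb
    have hcb : ∀ i, c * b i ∈ R := by
      intro i
      have h3 : c * b i = u i * ∏ j ∈ Finset.univ.erase i, w' j := by
        rw [hcdef, ← Finset.mul_prod_erase Finset.univ w' (Finset.mem_univ i), ← hbw i]
        ring
      rw [h3]
      exact R.mul_mem (hu i) (R.prod_mem (fun j _ => hw' j))
    have hcz : ∀ z ∈ semiLocal K P, c * z ∈ Algebra.adjoin P.O ({y} : Set K) := by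
      intro z hz
      rw [← sum_repr_basisOfIndep hb z, Finset.mul_sum]
      refine Subalgebra.sum_mem _ (fun i _ => ?_)
      have h3 : c * ((basisOfIndep hb).repr z i • b i) =
          algebraMap F K ((basisOfIndep hb).repr z i) * (c * b i) := by
        rw [Algebra.smul_def]; ring
      rw [h3]
      exact Subalgebra.mul_mem _ (FDu.algebraMap_mem_adjoin y (val_repr_le_one hb hz i))
        (hRsub _ (hcb i))
    have htop : Algebra.adjoin F ({y} : Set K) = ⊤ := by
      rw [← IntermediateField.adjoin_simple_toSubalgebra_of_isAlgebraic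
        (Algebra.IsAlgebraic.isAlgebraic y), hFy, IntermediateField.top_toSubalgebra]
    obtain ⟨w, hwdef⟩ : ∃ w : K, w = aeval y (derivative (minpoly F y)) := ⟨_, rfl⟩
    rw [← hwdef] at h1 ⊢
    have hw0 : w ≠ 0 := by
      rw [hwdef]
      exact (Algebra.IsSeparable.isSeparable F y).aeval_derivative_ne_zero (minpoly.aeval F y)
    obtain ⟨hA, -⟩ := FDu.main hF hg he hdeg hres φ hφ ΦQ hΦQ hx (by rw [← hxdef]; exact hdx)
    have h4 := hA (w⁻¹ * c) (fun z hz => by
      have hzB : z ∈ semiLocal K P := mem_semiLocal_of_isIntegral P hz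
      rw [mul_assoc, hwdef]
      exact FDu.dual_ge htop hyi (hcz z hzB))
    rw [map_mul, map_inv₀, hcQ, mul_one, val_eq_exp_neg_ord Q hw0, ← exp_neg, neg_neg, exp_le_exp,
      hd, ← hxdef] at h4
    exact h4

end core

end Groth.Agent.Lib.helper16.FAC
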