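import Groth.Agent.Lib.helper16.FAdjAsm

/-! Helper library (helper16): nonnegativity of the adjoint divisor and the nonsingularity
criterion (S12613). -/

set_option autoImplicit false

namespace Groth.Agent.Lib.helper16.FAF

open FunFld WithZero Module LocRes MvPolynomial
open Groth.Agent.Lib.helper16 Groth.Agent.Lib.helper16.FF
open scoped IntermediateField

universe u v

variable {k : Type u} {K : Type v} [Field k] [Field K] [Algebra k K]

/-- generic linear combinations have nonzero differential -/
theorem exists_D_ne_zero [Infinite k] (a b : K)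
    (h : KaehlerDifferential.D k K a ≠ 0 ∨ KaehlerDifferential.D k K b ≠ 0) (B : Finset k) :
    ∃ c : k, c ∉ B ∧ KaehlerDifferential.D k K (a - algebraMap k K c * b) ≠ 0 := by
  classical
  have hD : ∀ c : k, KaehlerDifferential.D k K (a - algebraMap k K c * b) =
      KaehlerDifferential.D k K a - c • KaehlerDifferential.D k K b := by
    intro c
    rw [map_sub, ← Algebra.smul_def, Derivation.map_smul]
  have hsub : {c : k | KaehlerDifferential.D k K a - c • KaehlerDifferential.D k K b = 0}.Subsingleton := by
    intro c₁ h₁ c₂ h₂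
    by_contra hne
    rw [Set.mem_ofPred_eq, sub_eq_zero] at h₁ h₂
    have h3 : (c₁ - c₂) • KaehlerDifferential.D k K b = 0 := by
      rw [sub_smul, ← h₁, ← h₂, sub_self]
    rcases smul_eq_zero.mp h3 with h4 | h4
    · exact hne (sub_eq_zero.mp h4)
    · rw [h4, smul_zero] at h₁
      rcases h with h | h
      · exact h h₁
      · exact h h4
  obtain ⟨c, hc⟩ := Infinite.exists_notMem_finset (hsub.finite.toFinset ∪ B)
  rw [Finset.mem_union, not_or, Set.Finite.mem_toFinset, Set.mem_ofPred_eq] at hc
  exact ⟨c, hc.2, by rw [hD]; exact hc.1⟩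

theorem D_inv_ne_zero {x : K} (hdx : KaehlerDifferential.D k K x ≠ 0) :
    KaehlerDifferential.D k K (1 / x) ≠ 0 := by
  have hx0 : x ≠ 0 := by
    rintro rfl
    exact hdx (map_zero _)
  intro h
  rw [one_div, Derivation.leibniz_inv] at h
  rcases smul_eq_zero.mp h with h1 | h1
  · rw [neg_eq_zero] at h1
    exact pow_ne_zero 2 (inv_ne_zero hx0) h1
  · exact hdx h1

variable [IsAlgClosed k]

/-- **S12613** -/
theorem main (hK : IsFunctionField k K) (x y : K)
    (hxy : IntermediateField.adjoin k ({x, y} : Set K) = ⊤)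
    (f : MvPolynomial (Fin 2) k) (hf : Irreducible f) (hfxy : aeval ![x, y] f = 0)
    (Q : Place k K) (ΦQ : K →ₐ[k] LaurentSeries k) (hΦQ : IsExpansionAt Q.1 ΦQ)
    (hne : vDiff ΦQ (aeval ![x, y] (pderiv 1 f))⁻¹ x ≠ 0) :
    0 ≤ ((mapDiv k ![(1 : K), x, y]).deg - 3) * mapDiv k ![(1 : K), x, y] Q -
        ordDiff ΦQ (aeval ![x, y] (pderiv 1 f))⁻¹ x ∧
    (((mapDiv k ![(1 : K), x, y]).deg - 3) * mapDiv k ![(1 : K), x, y] Q -
        ordDiff ΦQ (aeval ![x, y] (pderiv 1 f))⁻¹ x = 0 ↔
      IsNonsingularAt ![(1 : K), x, y] Q) := by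
  classical
  have hD : LocRes.D k (ΦQ x) ≠ 0 := by
    intro h0
    apply hne
    unfold vDiff
    rw [h0, mul_zero, map_zero]
  have hdx : KaehlerDifferential.D k K x ≠ 0 := FDE.kaehler_ne_zero_of_D_ne_zero ΦQ hD
  have hx0 : x ≠ 0 := by
    rintro rfl
    exact hdx (map_zero _)
  by_cases h0 : Q.1 x ≤ 1 ∧ Q.1 y ≤ 1
  · -- the place is at finite distance
    have htop := FPD.topPoly_ne_zero hf.ne_zero
    obtain ⟨t, htB, htD⟩ := exists_D_ne_zero y x (Or.inr hdx) (FPD.topPoly f).roots.toFinset
    refine FAS.of_coord hK x y hxy f hf hfxy Q ΦQ hΦQ hne !![1, 0, 0; 0, 0, 1; 0, 1, t] ?_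
      ![1, y - algebraMap k K t * x, x] ?_ ?_ ?_ ?_ ?_
    · rw [Matrix.det_fin_three]
      simp
    · intro i
      fin_cases i <;> simp [Fin.sum_univ_three]
    · show (1 : K) ≠ 0
      exact one_ne_zero
    · intro l
      show Q.1 _ ≤ Q.1 (1 : K)
      rw [map_one]
      fin_cases l
      · show Q.1 (1 : K) ≤ 1
        rw [map_one]
      · show Q.1 (y - algebraMap k K t * x) ≤ 1
        refine le_trans (Valuation.map_sub _ _ _) (max_le h0.2 ?_)
        rw [map_mul]
        exact mul_le_one' (Q.2.1 t) h0.1
      · exact h0.1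
    · show KaehlerDifferential.D k K ((y - algebraMap k K t * x) / 1) ≠ 0
      rw [div_one]
      exact htD
    · have hcol : (fun i => (!![1, 0, 0; 0, 0, 1; 0, 1, t] : Matrix (Fin 3) (Fin 3) k) i 2) =
          ![(0 : k), 1, t] := by
        funext i
        fin_cases i <;> rfl
      rw [hcol, FAH.aeval_hom_top]
      intro h
      apply htB
      rw [Multiset.mem_toFinset, Polynomial.mem_roots htop]
      exact h
  · by_cases h1 : Q.1 y ≤ Q.1 x
    · -- `x` has a pole of largest order
      have hx1 : 1 < Q.1 x := by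
        by_contra hle
        rw [not_lt] at hle
        exact h0 ⟨hle, h1.trans hle⟩
      have hs := FAH.spec_ne_zero hf ![x, y] hfxy (j := 1) (j' := 0) (by decide) hx0
      obtain ⟨c, hcB, hcD⟩ := exists_D_ne_zero (y / x) (1 / x) (Or.inr (D_inv_ne_zero hdx))
        (FAH.spec 1 f).roots.toFinset
      refine FAS.of_coord hK x y hxy f hf hfxy Q ΦQ hΦQ hne !![0, 0, 1; 1, 0, 0; 0, 1, c] ?_
        ![x, y - algebraMap k K c, 1] ?_ ?_ ?_ ?_ ?_
      · rw [Matrix.det_fin_three]
        simp
      · intro i
        fin_cases i <;> simp [Fin.sum_univ_three]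
      · exact hx0
      · intro l
        show Q.1 _ ≤ Q.1 x
        fin_cases l
        · exact le_rfl
        · show Q.1 (y - algebraMap k K c) ≤ Q.1 x
          exact le_trans (Valuation.map_sub _ _ _) (max_le h1 ((Q.2.1 c).trans hx1.le))
        · show Q.1 (1 : K) ≤ Q.1 x
          rw [map_one]
          exact hx1.le
      · show KaehlerDifferential.D k K ((y - algebraMap k K c) / x) ≠ 0
        have e1 : (y - algebraMap k K c) / x = y / x - algebraMap k K c * (1 / x) := by
          field_simp
        rw [e1]
        exact hcD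
      · have hcol : (fun i => (!![0, 0, 1; 1, 0, 0; 0, 1, c] : Matrix (Fin 3) (Fin 3) k) i 2) =
            ![(1 : k), 0, c] := by
          funext i
          fin_cases i <;> rfl
        have hsp : (fun l : Fin 2 => if l = 1 then c else (0 : k)) = ![0, c] := by
          funext l
          fin_cases l <;> simp
        rw [hcol, FAH.aeval_hom, ← hsp, ← FAH.eval_spec]
        intro h
        apply hcB
        rw [Multiset.mem_toFinset, Polynomial.mem_roots hs]
        exact h
    · -- `y` has a pole of largest order
      rw [not_le] at h1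
      have hy1 : 1 < Q.1 y := by
        by_contra hle
        rw [not_lt] at hle
        exact h0 ⟨(h1.le).trans hle, hle⟩
      have hy0 : y ≠ 0 := by
        rintro rfl
        rw [map_zero] at hy1
        exact absurd hy1 (not_lt.mpr zero_le)
      have hs := FAH.spec_ne_zero hf ![x, y] hfxy (j := 0) (j' := 1) (by decide) hy0
      have hab : KaehlerDifferential.D k K (x / y) ≠ 0 ∨ KaehlerDifferential.D k K (1 / y) ≠ 0 := by
        by_cases hdy : KaehlerDifferential.D k K y = 0
        · left
          rw [Derivation.leibniz_div, hdy, smul_zero, sub_zero]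
          intro h
          rcases smul_eq_zero.mp h with h2 | h2
          · exact pow_ne_zero 2 (inv_ne_zero hy0) h2
          · rcases smul_eq_zero.mp h2 with h3 | h3
            · exact hy0 h3
            · exact hdx h3
        · right
          exact D_inv_ne_zero hdy
      obtain ⟨c, hcB, hcD⟩ := exists_D_ne_zero (x / y) (1 / y) hab (FAH.spec 0 f).roots.toFinset
      refine FAS.of_coord hK x y hxy f hf hfxy Q ΦQ hΦQ hne !![0, 0, 1; 0, 1, c; 1, 0, 0] ?_
        ![y, x - algebraMap k K c, 1] ?_ ?_ ?_ ?_ ?_
      · rw [Matrix.det_fin_three]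
        simp
      · intro i
        fin_cases i <;> simp [Fin.sum_univ_three]
      · exact hy0
      · intro l
        show Q.1 _ ≤ Q.1 y
        fin_cases l
        · exact le_rfl
        · show Q.1 (x - algebraMap k K c) ≤ Q.1 y
          exact le_trans (Valuation.map_sub _ _ _) (max_le h1.le ((Q.2.1 c).trans hy1.le))
        · show Q.1 (1 : K) ≤ Q.1 y
          rw [map_one]
          exact hy1.le
      · show KaehlerDifferential.D k K ((x - algebraMap k K c) / y) ≠ 0
        have e1 : (x - algebraMap k K c) / y = x / y - algebraMap k K c * (1 / y) := by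
          field_simp
        rw [e1]
        exact hcD
      · have hcol : (fun i => (!![0, 0, 1; 0, 1, c; 1, 0, 0] : Matrix (Fin 3) (Fin 3) k) i 2) =
            ![(1 : k), c, 0] := by
          funext i
          fin_cases i <;> rfl
        have hsp : (fun l : Fin 2 => if l = 0 then c else (0 : k)) = ![c, 0] := by
          funext l
          fin_cases l <;> simp
        rw [hcol, FAH.aeval_hom, ← hsp, ← FAH.eval_spec]
        intro h
        apply hcB
        rw [Multiset.mem_toFinset, Polynomial.mem_roots hs]
        exact h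

end Groth.Agent.Lib.helper16.FAF
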