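import Groth.Agent.Lib.helper16.FAdjCore
import Groth.Agent.Lib.helper16.FKaehlerPlane
import Groth.Agent.Lib.helper16.FTangent

/-! Helper library (helper16): homogeneous ternary forms monic in the last variable — valuation
bounds and the minimal polynomial (towards S12613). -/

set_option autoImplicit false

namespace Groth.Agent.Lib.helper16.FAM

open FunFld WithZero Module
open Groth.Agent.Lib.helper16 Groth.Agent.Lib.helper16.FF
open scoped IntermediateField

section deg

variable {k : Type*} [Field k]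

theorem deg3 {G : MvPolynomial (Fin 3) k} {e : ℕ} (hG : G.IsHomogeneous e) {m : Fin 3 →₀ ℕ}
    (hm : m ∈ G.support) : m 0 + m 1 + m 2 = e := by
  have h1 := hG.degree_eq_sum_deg_support hm
  have h2 : ∑ i ∈ m.support, m i = ∑ i, m i :=
    Finset.sum_subset (Finset.subset_univ _) (fun i _ hi => by simpa using hi)
  rw [h2, Fin.sum_univ_three] at h1
  exact h1.symm

theorem eq_single_of_two_ge {G : MvPolynomial (Fin 3) k} {e : ℕ} (hG : G.IsHomogeneous e)
    {m : Fin 3 →₀ ℕ} (hm : m ∈ G.support) (h2 : e ≤ m 2) : m = Finsupp.single 2 e := by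
  have h1 := deg3 hG hm
  ext i
  fin_cases i
  · show m 0 = (Finsupp.single (2 : Fin 3) e) 0
    rw [Finsupp.single_apply, if_neg (by decide)]
    omega
  · show m 1 = (Finsupp.single (2 : Fin 3) e) 1
    rw [Finsupp.single_apply, if_neg (by decide)]
    omega
  · show m 2 = (Finsupp.single (2 : Fin 3) e) 2
    rw [Finsupp.single_apply, if_pos rfl]
    omega

end deg

section val

variable {k K : Type*} [Field k] [Field K] [Algebra k K]

/-- **valuation bound**: a homogeneous form monic in `X₂` vanishing at `(a₀, a₁, a₂)` with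
`a₀`, `a₁` integral at `P` forces `a₂` integral at `P` -/
theorem val_le_one_of_monic {G : MvPolynomial (Fin 3) k} {e : ℕ} (hG : G.IsHomogeneous e)
    (hc : G.coeff (Finsupp.single 2 e) ≠ 0) (P : Place k K) (a : Fin 3 → K)
    (h0 : P.1 (a 0) ≤ 1) (h1 : P.1 (a 1) ≤ 1) (hGa : MvPolynomial.aeval a G = 0) :
    P.1 (a 2) ≤ 1 := by
  classical
  by_contra hV
  rw [not_le] at hV
  set m₀ : Fin 3 →₀ ℕ := Finsupp.single 2 e with hm₀
  have hm₀s : m₀ ∈ G.support := MvPolynomial.mem_support_iff.mpr hc
  rw [MvPolynomial.aeval_def, MvPolynomial.eval₂_eq', ← Finset.add_sum_erase _ _ hm₀s] at hGa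
  have hT : P.1 (algebraMap k K (G.coeff m₀) * ∏ i, a i ^ m₀ i) = P.1 (a 2) ^ e := by
    rw [map_mul, val_algebraMap P hc, one_mul, Fin.prod_univ_three, hm₀]
    simp
  have hVe : P.1 (a 2) ^ e ≠ 0 := pow_ne_zero _ (ne_of_gt (lt_trans zero_lt_one hV))
  have hS : P.1 (∑ m ∈ G.support.erase m₀, algebraMap k K (G.coeff m) * ∏ i, a i ^ m i) <
      P.1 (a 2) ^ e := by
    apply Valuation.map_sum_lt _ hVe
    intro m hm
    rw [Finset.mem_erase] at hm
    have hd := deg3 hG hm.2
    have hlt : m 2 < e := by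
      by_contra hge
      rw [not_lt] at hge
      exact hm.1 (eq_single_of_two_ge hG hm.2 hge)
    rw [map_mul, Fin.prod_univ_three, map_mul, map_mul, map_pow, map_pow, map_pow]
    calc P.1 (algebraMap k K (G.coeff m)) * (P.1 (a 0) ^ m 0 * P.1 (a 1) ^ m 1 * P.1 (a 2) ^ m 2)
        ≤ 1 * (1 * 1 * P.1 (a 2) ^ m 2) := by
          refine mul_le_mul' (P.2.1 _) (mul_le_mul' (mul_le_mul' ?_ ?_) le_rfl)
          · exact pow_le_one₀ zero_le h0
          · exact pow_le_one₀ zero_le h1
      _ = P.1 (a 2) ^ m 2 := by rw [one_mul, one_mul, one_mul]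
      _ < P.1 (a 2) ^ e := pow_lt_pow_right₀ hV hlt
  have h3 : algebraMap k K (G.coeff m₀) * ∏ i, a i ^ m₀ i =
      -∑ m ∈ G.support.erase m₀, algebraMap k K (G.coeff m) * ∏ i, a i ^ m i :=
    eq_neg_of_add_eq_zero_left hGa
  rw [h3, Valuation.map_neg] at hT
  rw [hT] at hS
  exact lt_irrefl _ hS

end val

section minpoly

open Polynomial

variable {k F K : Type*} [Field k] [Field F] [Field K] [Algebra k F] [Algebra F K] [Algebra k K]
  [IsScalarTower k F K]

/-- the univariate polynomial `G(1, x₀, Y)` over `F` -/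
noncomputable def uni (G : MvPolynomial (Fin 3) k) (x₀ : F) : F[X] :=
  MvPolynomial.aeval ![(C 1 : F[X]), C x₀, X] G

theorem aeval_uni (G : MvPolynomial (Fin 3) k) (x₀ : F) (y : K) :
    aeval y (uni G x₀) = MvPolynomial.aeval ![(1 : K), algebraMap F K x₀, y] G := by
  unfold uni
  have h := MvPolynomial.comp_aeval (R := k) ![(C 1 : F[X]), C x₀, X]
    ((aeval y : F[X] →ₐ[F] K).restrictScalars k)
  have h2 := DFunLike.congr_fun h G
  rw [AlgHom.comp_apply, AlgHom.restrictScalars_apply] at h2
  rw [h2]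
  have h3 : (fun i => (AlgHom.restrictScalars k (aeval y : F[X] →ₐ[F] K))
      (![(C 1 : F[X]), C x₀, X] i)) = ![(1 : K), algebraMap F K x₀, y] := by
    funext i
    fin_cases i <;> simp
  rw [h3]

theorem derivative_uni (G : MvPolynomial (Fin 3) k) (x₀ : F) :
    derivative (uni G x₀) = uni (MvPolynomial.pderiv 2 G) x₀ := by
  unfold uni
  have h := FKP.derivation_aeval
    ((Polynomial.derivative' : Derivation F F[X] F[X]).restrictScalars k)
    ![(C 1 : F[X]), C x₀, X] G
  rw [Fin.sum_univ_three] at h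
  simpa using h


theorem uni_eq_sum (G : MvPolynomial (Fin 3) k) (x₀ : F) :
    uni G x₀ = ∑ m ∈ G.support, C (algebraMap k F (G.coeff m) * x₀ ^ m 1) * X ^ m 2 := by
  unfold uni
  rw [MvPolynomial.aeval_def, MvPolynomial.eval₂_eq']
  apply Finset.sum_congr rfl
  intro m _
  rw [Fin.prod_univ_three, Polynomial.algebraMap_apply]
  simp only [Matrix.cons_val_zero, Matrix.cons_val_one, Matrix.cons_val_two, Matrix.head_cons,
    Matrix.tail_cons, map_one, one_pow, mul_one]
  rw [← C_pow, ← mul_assoc, one_mul, ← C_mul]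

theorem natDegree_uni_le {G : MvPolynomial (Fin 3) k} {e : ℕ} (hG : G.IsHomogeneous e) (x₀ : F) :
    (uni G x₀).natDegree ≤ e := by
  rw [uni_eq_sum]
  apply natDegree_sum_le_of_forall_le
  intro m hm
  refine (natDegree_C_mul_X_pow_le _ _).trans ?_
  have := deg3 hG hm
  omega

theorem coeff_uni {G : MvPolynomial (Fin 3) k} {e : ℕ} (hG : G.IsHomogeneous e) (x₀ : F) :
    (uni G x₀).coeff e = algebraMap k F (G.coeff (Finsupp.single 2 e)) := by
  classical
  rw [uni_eq_sum, finsetSum_coeff]
  simp_rw [coeff_C_mul_X_pow]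
  rw [Finset.sum_eq_single (Finsupp.single 2 e)]
  · rw [Finsupp.single_apply, if_pos rfl, if_pos rfl, Finsupp.single_apply, if_neg (by decide),
      pow_zero, mul_one]
  · intro m hm hne
    rw [if_neg]
    intro h
    exact hne (eq_single_of_two_ge hG hm h.le)
  · intro hns
    rw [MvPolynomial.notMem_support_iff.mp hns, map_zero, zero_mul]
    simp

/-- **the minimal polynomial**: for a form of degree `e = [K : F]` monic in `X₂`, `G(1, x₀, Y)` is
a constant multiple of the minimal polynomial of `y` -/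
theorem aeval_pderiv_eq [FiniteDimensional F K] {G : MvPolynomial (Fin 3) k} {e : ℕ}
    (hG : G.IsHomogeneous e) (hc : G.coeff (Finsupp.single 2 e) ≠ 0) (x₀ : F) {y : K}
    (hFy : F⟮y⟯ = ⊤) (hrank : finrank F K = e)
    (hGy : MvPolynomial.aeval ![(1 : K), algebraMap F K x₀, y] G = 0) :
    MvPolynomial.aeval ![(1 : K), algebraMap F K x₀, y] (MvPolynomial.pderiv 2 G) =
      algebraMap k K (G.coeff (Finsupp.single 2 e)) * aeval y (derivative (minpoly F y)) := by
  have hint : IsIntegral F y := Algebra.IsIntegral.isIntegral y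
  have hdegmin : (minpoly F y).natDegree = e := by
    rw [← IntermediateField.adjoin.finrank hint, hFy, IntermediateField.finrank_top', hrank]
  obtain ⟨a, hadef⟩ : ∃ a : F, a = algebraMap k F (G.coeff (Finsupp.single 2 e)) := ⟨_, rfl⟩
  have ha0 : a ≠ 0 := by
    rw [hadef, Ne, map_eq_zero_iff _ (algebraMap k F).injective]
    exact hc
  have hcoeff : (uni G x₀).coeff e = a := by rw [coeff_uni hG, hadef]
  have hnat : (uni G x₀).natDegree = e :=
    natDegree_eq_of_le_of_coeff_ne_zero (natDegree_uni_le hG x₀) (by rw [hcoeff]; exact ha0)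
  have hlead : (uni G x₀).leadingCoeff = a := by
    rw [leadingCoeff, hnat, hcoeff]
  have hmonic : (C a⁻¹ * uni G x₀).Monic :=
    monic_C_mul_of_mul_leadingCoeff_eq_one (by rw [hlead, inv_mul_cancel₀ ha0])
  have hdvd : minpoly F y ∣ C a⁻¹ * uni G x₀ := by
    apply minpoly.dvd
    rw [map_mul, aeval_uni, hGy, mul_zero]
  have hq : C a⁻¹ * uni G x₀ = minpoly F y :=
    eq_of_monic_of_dvd_of_natDegree_le (minpoly.monic hint) hmonic hdvd
      (by rw [hdegmin]; exact (natDegree_C_mul_le _ _).trans (natDegree_uni_le hG x₀))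
  have huni : uni G x₀ = C a * minpoly F y := by
    rw [← hq, ← mul_assoc, ← C_mul, mul_inv_cancel₀ ha0, C_1, one_mul]
  rw [← aeval_uni, ← derivative_uni, huni, derivative_C_mul, map_mul, aeval_C, hadef,
    ← IsScalarTower.algebraMap_apply]

end minpoly

end Groth.Agent.Lib.helper16.FAM
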