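import Groth.Agent.Lib.helper16.FHyperPl

/-! Helper library (helper16): places of Artin–Schreier extensions `y² + y = f(x)` in
characteristic two. -/

set_option autoImplicit false

namespace Groth.Agent.Lib.helper16.FA

open FunFld WithZero Polynomial Module Groth.Agent.Lib.helper16.FF Groth.Agent.Lib.helper16.FX
  Groth.Agent.Lib.helper16.FR
open scoped IntermediateField

variable {k K : Type*} [Field k] [Field K] [Algebra k K] [Algebra (RatFunc k) K]
  [IsScalarTower k (RatFunc k) K]

/-- at a pole of `f`, `2 ord y = ord f` -/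
theorem two_mul_ord_y {y : K} {f : RatFunc k} (heq : y ^ 2 + y = algebraMap (RatFunc k) K f)
    {Q : Place k K} {P₀ : Place k (RatFunc k)} {e : ℕ} (h : IsOverWith Q P₀ e)
    (he : 1 ≤ e) (hpole : P₀.ord f < 0) :
    2 * Q.ord y = e * P₀.ord f := by
  have hf0 : f ≠ 0 := by
    rintro rfl
    rw [ord_zero] at hpole
    exact lt_irrefl _ hpole
  have hf0' : algebraMap (RatFunc k) K f ≠ 0 := by rwa [Ne, map_eq_zero]
  have h1 := isOverWith_ord h f
  have h2 : Q.ord (algebraMap (RatFunc k) K f) < 0 := by
    rw [h1]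
    exact mul_neg_of_pos_of_neg (by exact_mod_cast he) hpole
  have h3 : 1 < Q.1 (algebraMap (RatFunc k) K f) := (one_lt_val_iff Q hf0').mpr h2
  have hy1 : 1 < Q.1 y := by
    by_contra hle
    rw [not_lt] at hle
    have : Q.1 (y ^ 2 + y) ≤ 1 := by
      refine le_trans (Q.1.map_add _ _) (max_le ?_ hle)
      rw [map_pow]
      exact pow_le_one₀ zero_le hle
    rw [heq] at this
    exact absurd h3 (not_lt.mpr this)
  have hy0 : y ≠ 0 := by
    rintro rfl
    rw [map_zero] at hy1
    exact absurd hy1 (not_lt.mpr zero_le)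
  have h4 : Q.1 (y ^ 2 + y) = Q.1 (y ^ 2) := by
    apply Valuation.map_add_eq_of_lt_left
    rw [map_pow, pow_two]
    calc Q.1 y = 1 * Q.1 y := (one_mul _).symm
      _ < Q.1 y * Q.1 y := by
        apply mul_lt_mul_of_pos_right hy1
        exact lt_trans zero_lt_one hy1
  have h5 : Q.ord (y ^ 2 + y) = Q.ord (y ^ 2) := by
    unfold Place.ord
    rw [h4]
  rw [← h1, ← heq, h5, ord_pow]
  push_cast
  ring

/-- S12519 (ramified part) -/
theorem unique_over_of_odd_pole (hdeg : finrank (RatFunc k) K = 2) {y : K} {f : RatFunc k}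
    (heq : y ^ 2 + y = algebraMap (RatFunc k) K f) (P₀ : Place k (RatFunc k))
    (hpole : P₀.ord f < 0) (hodd : Odd (P₀.ord f)) :
    (∃! Q : Place k K, IsOver Q P₀) ∧
    ∀ Q : Place k K, IsOver Q P₀ → IsOverWith Q P₀ 2 ∧ Q.deg = P₀.deg := by
  have hfin : FiniteDimensional (RatFunc k) K := Module.finite_of_finrank_pos (by omega)
  apply unique_of_ramified isFunctionField_ratFunc hdeg P₀
  intro Q hQ
  have he := isOverWith_ramIdx hQ
  have hpos := isOverWith_pos he
  have h1 := two_mul_ord_y heq he hpos hpole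
  by_contra hlt
  have he1 : ramIdx Q P₀ = 1 := by omega
  rw [he1] at h1
  obtain ⟨m, hm⟩ := hodd
  rw [hm] at h1
  push_cast at h1
  omega

/-- S12519 (unramified part) -/
theorem unramified_of_no_pole [CharP k 2] (hdeg : finrank (RatFunc k) K = 2) {y : K}
    (hy : y ∉ Set.range (algebraMap (RatFunc k) K)) {f : RatFunc k}
    (heq : y ^ 2 + y = algebraMap (RatFunc k) K f) (P₀ : Place k (RatFunc k))
    (hf : 0 ≤ P₀.ord f) {Q : Place k K} (hQ : IsOver Q P₀) : ramIdx Q P₀ = 1 := by
  have hfin : FiniteDimensional (RatFunc k) K := Module.finite_of_finrank_pos (by omega)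
  have hK := isFunctionField_ratFunc (k := k)
  have hcharF : CharP (RatFunc k) 2 :=
    charP_of_injective_algebraMap (algebraMap k (RatFunc k)).injective 2
  have hcharK : CharP K 2 :=
    charP_of_injective_algebraMap (algebraMap (RatFunc k) K).injective 2
  have h2F : (2 : RatFunc k) = 0 := by
    have := CharP.cast_eq_zero (RatFunc k) 2
    exact_mod_cast this
  have hPf : P₀.1 f ≤ 1 := by
    by_cases hf0 : f = 0
    · rw [hf0, map_zero]
      exact zero_le
    · exact (val_le_one_iff P₀ hf0).mpr hf
  have hint : IsIntegral (RatFunc k) y := Algebra.IsIntegral.isIntegral y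
  have hmin : minpoly (RatFunc k) y = X ^ 2 + X - C f := by
    have hdvd : minpoly (RatFunc k) y ∣ X ^ 2 + X - C f := by
      apply minpoly.dvd
      rw [map_sub, map_add, map_pow, aeval_X, aeval_C, heq]
      exact sub_self _
    have hnd : (X ^ 2 + X - C f : (RatFunc k)[X]).natDegree = 2 := by
      compute_degree!
    have hmonic : (X ^ 2 + X - C f : (RatFunc k)[X]).Monic := by
      monicity!
    have h3 : 2 ≤ (minpoly (RatFunc k) y).natDegree :=
      (minpoly.two_le_natDegree_iff hint).mpr hy
    symm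
    apply Polynomial.eq_of_monic_of_dvd_of_natDegree_le (minpoly.monic hint) hmonic hdvd
    rw [hnd]
    exact h3
  have htry : Algebra.trace (RatFunc k) K y = -1 := by
    rw [trace_eq_finrank_mul_minpoly_nextCoeff, hmin]
    have hnc : (X ^ 2 + X - C f : (RatFunc k)[X]).nextCoeff = 1 := by
      have hnd : (X ^ 2 + X - C f : (RatFunc k)[X]).natDegree = 2 := by
        compute_degree!
      rw [nextCoeff_of_natDegree_pos (by rw [hnd]; norm_num), hnd]
      simp [coeff_X_pow, coeff_X]
    have htop : (RatFunc k)⟮y⟯ = ⊤ := (FQ.exists_quadratic hdeg y hy).1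
    rw [hnc, htop, IntermediateField.finrank_top]
    simp
  let e : Fin (finrank (RatFunc k) K) ≃ Fin 2 := finCongr hdeg
  let c : Fin (finrank (RatFunc k) K) → K := fun i => ![1, y] (e i)
  have hdisc : Algebra.discr (RatFunc k) c = -1 := by
    have h1 : Algebra.traceMatrix (RatFunc k) c =
        (Algebra.traceMatrix (RatFunc k) ![(1 : K), y]).submatrix e e := rfl
    rw [Algebra.discr_def, h1, Matrix.det_submatrix_equiv_self, Matrix.det_fin_two]
    simp only [Algebra.traceMatrix_apply, Algebra.traceForm_apply, Matrix.cons_val_zero,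
      Matrix.cons_val_one, one_mul, mul_one, htry]
    have h3 : Algebra.trace (RatFunc k) K 1 = 0 := by
      rw [← (algebraMap (RatFunc k) K).map_one, Algebra.trace_algebraMap, hdeg]
      simp [h2F]
    rw [h3]
    ring
  have hcB : ∀ i, c i ∈ semiLocal K P₀ := by
    intro i
    have h1 : ∀ j : Fin 2, ![(1 : K), y] j ∈ semiLocal K P₀ := by
      intro j
      fin_cases j
      · exact (semiLocal K P₀).one_mem
      · show y ∈ semiLocal K P₀
        intro Q' hQ'
        by_contra hlt
        rw [not_le] at hlt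
        have h4 : Q'.1 (y ^ 2 + y) = Q'.1 (y ^ 2) := by
          apply Valuation.map_add_eq_of_lt_left
          rw [map_pow, pow_two]
          calc Q'.1 y = 1 * Q'.1 y := (one_mul _).symm
            _ < Q'.1 y * Q'.1 y := by
              apply mul_lt_mul_of_pos_right hlt
              exact lt_trans zero_lt_one hlt
        have h5 : 1 < Q'.1 (y ^ 2) := by
          rw [map_pow]
          exact one_lt_pow₀ hlt two_ne_zero
        rw [← h4, heq, isOverWith_ramIdx hQ' f] at h5
        exact absurd h5 (not_lt.mpr (pow_le_one₀ zero_le hPf))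
    exact h1 (e i)
  have hc : P₀.1 (Algebra.discr (RatFunc k) c) = 1 := by
    rw [hdisc, Valuation.map_neg, map_one]
  exact ramIdx_eq_one_of_discr hK P₀ c hcB hc hQ

end Groth.Agent.Lib.helper16.FA
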