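import Groth.Agent.Lib.helper16.FArtSch
import Groth.Agent.Lib.helper16.FFRat

/-! Helper library (helper16): prescribing leading coefficients (one-step surjectivity);
Artin–Schreier generators with odd poles. -/

set_option autoImplicit false

namespace Groth.Agent.Lib.helper16.FA

open FunFld WithZero Polynomial Module Groth.Agent.Lib.helper16.FF Groth.Agent.Lib.helper16.FX
  Groth.Agent.Lib.helper16.FR
open scoped IntermediateField

section surj

variable {k K : Type*} [Field k] [Field K] [Algebra k K]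

/-- if `ℓ(D + P) = ℓ(D) + deg P`, every leading coefficient at `P` is realised in `L(D + P)` -/
theorem exists_mem_L_residue_eq (hK : IsFunctionField k K) (D : Divisor k K) (P : Place k K)
    (t : K) (ht : P.1 t = exp ((D + Finsupp.single P 1 : Divisor k K) P))
    (hell : ell (D + Finsupp.single P 1) = ell D + P.deg)
    (r : IsLocalRing.ResidueField P.O) :
    ∃ z ∈ L (D + Finsupp.single P 1), ∃ h : P.1 (z * t⁻¹) ≤ 1,
      IsLocalRing.residue P.O ⟨z * t⁻¹, h⟩ = r := by
  classical
  have ht0 : t ≠ 0 := by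
    rintro rfl
    rw [map_zero] at ht
    exact exp_ne_zero ht.symm
  have hmem : ∀ x : L (D + Finsupp.single P 1), P.1 ((x : K) * t⁻¹) ≤ 1 := by
    intro x
    rw [map_mul, map_inv₀, ht]
    have := x.2 P
    rw [← div_eq_mul_inv]
    exact div_le_one_of_le₀ this zero_le
  let ψ : L (D + Finsupp.single P 1) →ₗ[k] P.O :=
    { toFun := fun x => ⟨(x : K) * t⁻¹, hmem x⟩
      map_add' := fun x y => Subtype.ext (by
        change ((x + y : L _) : K) * t⁻¹ = (x : K) * t⁻¹ + (y : K) * t⁻¹
        rw [Submodule.coe_add, add_mul])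
      map_smul' := fun c x => Subtype.ext (by
        rw [RingHom.id_apply, coe_smul_O]
        change ((c • x : L _) : K) * t⁻¹ = c • ((x : K) * t⁻¹)
        rw [Submodule.coe_smul, smul_mul_assoc]) }
  have hker : LinearMap.ker ((residueₗ P).comp ψ) =
      (L D).comap (L (D + Finsupp.single P 1)).subtype := by
    ext x
    rw [LinearMap.mem_ker, LinearMap.comp_apply, residueₗ_apply, residue_eq_zero_iff,
      Submodule.mem_comap, Submodule.subtype_apply]
    change P.1 ((x : K) * t⁻¹) < 1 ↔ _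
    rw [map_mul, map_inv₀, ht, ← div_eq_mul_inv, div_lt_one₀ (zero_lt_iff.mpr exp_ne_zero)]
    constructor
    · intro h Q
      by_cases hQ : Q = P
      · subst hQ
        by_cases hx0 : (x : K) = 0
        · rw [hx0, map_zero]; exact zero_le
        · rw [val_lt_exp_iff Q hx0] at h
          rw [val_le_exp_iff Q hx0]
          simp only [Finsupp.add_apply, Finsupp.single_eq_same] at h
          omega
      · have := x.2 Q
        simp only [Finsupp.add_apply, Finsupp.single_apply, if_neg (Ne.symm hQ), add_zero] at this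
        exact this
    · intro h
      refine lt_of_le_of_lt (h P) ?_
      rw [exp_lt_exp]
      simp
  have hfd1 := finiteDimensional_L hK D
  have hfd2 := finiteDimensional_L hK (D + Finsupp.single P 1)
  have hfd3 := FF.finiteDimensional_residueField hK P
  have hle : L D ≤ L (D + Finsupp.single P 1) := by
    apply L_mono
    intro Q
    simp only [Finsupp.add_apply]
    have : (0 : ℤ) ≤ (Finsupp.single P (1 : ℤ)) Q := by
      rw [Finsupp.single_apply]
      split_ifs <;> norm_num
    omega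
  have hk : finrank k (LinearMap.ker ((residueₗ P).comp ψ)) = ell D := by
    rw [hker]
    exact (Submodule.comapSubtypeEquivOfLe hle).finrank_eq
  have hrn := LinearMap.finrank_range_add_finrank_ker ((residueₗ P).comp ψ)
  rw [hk] at hrn
  have hrange : LinearMap.range ((residueₗ P).comp ψ) = ⊤ := by
    apply Submodule.eq_top_of_finrank_eq
    unfold ell at hell hrn
    unfold Place.deg at hell
    omega
  have hr : r ∈ LinearMap.range ((residueₗ P).comp ψ) := by rw [hrange]; trivial
  obtain ⟨x, hx⟩ := hr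
  exact ⟨x, x.2, hmem x, hx⟩

end surj

section ratfunc

variable {k : Type*} [Field k]

theorem ell_single_ratFunc (P₀ : Place k (RatFunc k)) (n : ℕ) :
    (ell (Finsupp.single P₀ (n : ℤ)) : ℤ) = n * P₀.deg + 1 := by
  have hK := isFunctionField_ratFunc (k := k)
  have hg : genus k (RatFunc k) = 0 := genus_eq_zero_of_adjoin_eq_top hK RatFunc.adjoin_X
  have h1 : 2 * (genus k (RatFunc k) : ℤ) - 1 ≤
      Divisor.deg (Finsupp.single P₀ (n : ℤ) : Divisor k (RatFunc k)) := by
    rw [hg, deg_single]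
    have : (0 : ℤ) ≤ n * P₀.deg := by positivity
    simp only [Nat.cast_zero, mul_zero, zero_sub]
    omega
  rw [ell_eq_of_deg_ge hK h1, hg, deg_single]
  simp

/-- an even-order pole of `f` can be lowered by an Artin–Schreier substitution `f + z² + z`
with `z` having its only pole at that place -/
theorem exists_kill_even_pole [PerfectField k] [CharP k 2] (P₀ : Place k (RatFunc k))
    (f : RatFunc k) (m : ℕ) (hm : 1 ≤ m) (hf : P₀.ord f = -(2 * m : ℤ)) :
    ∃ z : RatFunc k, z ∈ L (Finsupp.single P₀ (m : ℤ)) ∧ P₀.1 (f + z ^ 2) < exp (2 * m : ℤ) := by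
  have hK := isFunctionField_ratFunc (k := k)
  have hcharF : CharP (RatFunc k) 2 :=
    charP_of_injective_algebraMap (algebraMap k (RatFunc k)).injective 2
  have hf0 : f ≠ 0 := by
    rintro rfl
    rw [ord_zero] at hf
    omega
  obtain ⟨π, hπ⟩ := exists_uniformizer P₀
  have hπ0 : π ≠ 0 := by
    rintro rfl
    rw [map_zero] at hπ
    exact exp_ne_zero hπ.symm
  -- the unit `u = f π^{2m}`
  have hu : P₀.1 (f * π ^ (2 * m)) = 1 := by
    rw [map_mul, map_pow, hπ, val_eq_exp_neg_ord P₀ hf0, hf, ← exp_nsmul, ← exp_add, ← exp_zero]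
    congr 1
    simp
  -- residue field: perfect of characteristic two
  have hfdF := FF.finiteDimensional_residueField hK P₀
  have hcharR : CharP (IsLocalRing.ResidueField P₀.O) 2 :=
    charP_of_injective_algebraMap (algebraMap k (IsLocalRing.ResidueField P₀.O)).injective 2
  have halg : Algebra.IsAlgebraic k (IsLocalRing.ResidueField P₀.O) :=
    @Algebra.IsAlgebraic.of_finite k (IsLocalRing.ResidueField P₀.O) _ _ _ _ hfdF
  have hperf : PerfectField (IsLocalRing.ResidueField P₀.O) :=
    Algebra.IsAlgebraic.perfectField (K := k)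
  obtain ⟨d, hd⟩ := surjective_frobenius (IsLocalRing.ResidueField P₀.O) 2
    (IsLocalRing.residue P₀.O ⟨f * π ^ (2 * m), hu.le⟩)
  rw [frobenius_def] at hd
  -- realise `d` as a leading coefficient
  have ht : P₀.1 (π⁻¹ ^ m) = exp ((Finsupp.single P₀ ((m : ℤ) - 1) + Finsupp.single P₀ 1 :
      Divisor k (RatFunc k)) P₀) := by
    rw [map_pow, map_inv₀, hπ, ← exp_neg, ← exp_nsmul]
    congr 1
    simp
  have hsum : (Finsupp.single P₀ ((m : ℤ) - 1) + Finsupp.single P₀ 1 : Divisor k (RatFunc k)) =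
      Finsupp.single P₀ (m : ℤ) := by
    rw [← Finsupp.single_add]
    congr 1
    ring
  have hell : ell (Finsupp.single P₀ ((m : ℤ) - 1) + Finsupp.single P₀ 1 :
      Divisor k (RatFunc k)) = ell (Finsupp.single P₀ ((m : ℤ) - 1)) + P₀.deg := by
    have h1 := ell_single_ratFunc P₀ m
    have h2 := ell_single_ratFunc P₀ (m - 1)
    have h3 : ((m - 1 : ℕ) : ℤ) = (m : ℤ) - 1 := by omega
    rw [h3] at h2
    rw [hsum]
    have : (ell (Finsupp.single P₀ (m : ℤ)) : ℤ) =
        ell (Finsupp.single P₀ ((m : ℤ) - 1)) + P₀.deg := by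
      rw [h1, h2]
      ring
    exact_mod_cast this
  obtain ⟨z, hzL, hz1, hzr⟩ := exists_mem_L_residue_eq hK _ P₀ _ ht hell d
  rw [hsum] at hzL
  refine ⟨z, hzL, ?_⟩
  have hzt : z * (π⁻¹ ^ m)⁻¹ = z * π ^ m := by
    rw [inv_pow, inv_inv]
  -- compare residues
  have h1 : IsLocalRing.residue P₀.O (⟨f * π ^ (2 * m), hu.le⟩ - ⟨z * (π⁻¹ ^ m)⁻¹, hz1⟩ ^ 2) = 0 := by
    rw [map_sub, map_pow, hzr, hd, sub_self]
  rw [FF.residue_eq_zero_iff] at h1
  have h2 : ((⟨f * π ^ (2 * m), hu.le⟩ - ⟨z * (π⁻¹ ^ m)⁻¹, hz1⟩ ^ 2 : P₀.O) : RatFunc k) =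
      (f + z ^ 2) * π ^ (2 * m) := by
    show f * π ^ (2 * m) - (z * (π⁻¹ ^ m)⁻¹) ^ 2 = _
    rw [hzt, CharTwo.sub_eq_add]
    ring
  rw [h2, map_mul, map_pow, hπ, ← exp_nsmul] at h1
  have h3 : exp ((2 * m) • (-1 : ℤ)) = (exp (2 * m : ℤ))⁻¹ := by
    rw [← exp_neg]
    congr 1
    simp
  rw [h3, ← div_eq_mul_inv, div_lt_one₀ (zero_lt_iff.mpr exp_ne_zero)] at h1
  exact h1

end ratfunc

section main

variable {k K : Type*} [Field k] [Field K] [Algebra k K] [Algebra (RatFunc k) K]
  [IsScalarTower k (RatFunc k) K]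

theorem poleDiv_le_of_val_le {P : Place k (RatFunc k)} {g : RatFunc k} {N : ℤ} (hN : 0 ≤ N)
    (h : P.1 g ≤ exp N) : poleDiv k g P ≤ N := by
  have hK := isFunctionField_ratFunc (k := k)
  rw [poleDiv_apply hK.1]
  by_cases hg : g = 0
  · rw [hg, ord_zero]
    simpa using hN
  · rw [val_le_exp_iff P hg] at h
    exact max_le (by omega) hN

theorem poleDiv_lt_of_val_lt {P : Place k (RatFunc k)} {g : RatFunc k} {N : ℤ} (hN : 0 < N)
    (h : P.1 g < exp N) : poleDiv k g P < N := by
  have hK := isFunctionField_ratFunc (k := k)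
  rw [poleDiv_apply hK.1]
  by_cases hg : g = 0
  · rw [hg, ord_zero]
    simpa using hN
  · rw [val_lt_exp_iff P hg] at h
    exact max_lt (by omega) hN

omit [Algebra k K] [IsScalarTower k (RatFunc k) K] in
/-- S12518 -/
theorem exists_odd_poles [PerfectField k] [CharP k 2] (hdeg : finrank (RatFunc k) K = 2)
    [Algebra.IsSeparable (RatFunc k) K] :
    ∃ (y : K) (f : RatFunc k), y ^ 2 + y = algebraMap (RatFunc k) K f ∧
      (RatFunc k)⟮y⟯ = ⊤ ∧
      ∀ P : Place k (RatFunc k), P.ord f < 0 → Odd (P.ord f) := by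
  classical
  have hK := isFunctionField_ratFunc (k := k)
  have hcharF : CharP (RatFunc k) 2 :=
    charP_of_injective_algebraMap (algebraMap k (RatFunc k)).injective 2
  have hcharK : CharP K 2 :=
    charP_of_injective_algebraMap (algebraMap (RatFunc k) K).injective 2
  have h2K : (2 : K) = 0 := by
    have := CharP.cast_eq_zero K 2
    exact_mod_cast this
  have hfin : FiniteDimensional (RatFunc k) K := Module.finite_of_finrank_pos (by omega)
  have hex : ∃ n : ℕ, ∃ (y : K) (f : RatFunc k), y ^ 2 + y = algebraMap (RatFunc k) K f ∧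
      (RatFunc k)⟮y⟯ = ⊤ ∧ (poleDiv k f).deg.toNat = n := by
    obtain ⟨y, f, h1, h2⟩ := FQ.exists_artinSchreier (F := RatFunc k) (K := K) hdeg
    exact ⟨_, y, f, h1, h2, rfl⟩
  obtain ⟨y, f, heq, htop, hn⟩ := Nat.find_spec hex
  have hmin := fun m (hm : m < Nat.find hex) => Nat.find_min hex hm
  refine ⟨y, f, heq, htop, ?_⟩
  intro P₀ hpole
  by_contra hnodd
  rw [Int.not_odd_iff_even] at hnodd
  obtain ⟨a, ha⟩ := hnodd
  -- `ord f = -2m`
  have hm1 : 1 ≤ (-a).toNat := by omega
  have hfm : P₀.ord f = -(2 * ((-a).toNat : ℕ) : ℤ) := by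
    rw [Int.toNat_of_nonneg (by omega)]
    omega
  obtain ⟨z, hzL, hz⟩ := exists_kill_even_pole P₀ f (-a).toNat hm1 hfm
  obtain ⟨m, hm⟩ : ∃ m : ℕ, m = (-a).toNat := ⟨_, rfl⟩
  rw [← hm] at hm1 hfm hzL hz
  -- the new pair
  have hy : y ∉ Set.range (algebraMap (RatFunc k) K) := by
    rintro ⟨c, rfl⟩
    have : (RatFunc k)⟮algebraMap (RatFunc k) K c⟯ = ⊥ :=
      IntermediateField.adjoin_simple_eq_bot_iff.mpr (IntermediateField.algebraMap_mem _ c)
    rw [this] at htop
    have h1 : finrank (RatFunc k) (⊥ : IntermediateField (RatFunc k) K) = 1 :=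
      IntermediateField.finrank_bot
    rw [htop, IntermediateField.finrank_top', hdeg] at h1
    omega
  have hy₁ : y + algebraMap (RatFunc k) K z ∉ Set.range (algebraMap (RatFunc k) K) := by
    rintro ⟨c, hc⟩
    apply hy
    refine ⟨c - z, ?_⟩
    rw [map_sub, hc]
    ring
  have heq₁ : (y + algebraMap (RatFunc k) K z) ^ 2 + (y + algebraMap (RatFunc k) K z) =
      algebraMap (RatFunc k) K (f + z ^ 2 + z) := by
    rw [map_add, map_add, map_pow, ← heq]
    linear_combination (y * algebraMap (RatFunc k) K z) * h2K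
  have htop₁ := (FQ.exists_quadratic hdeg _ hy₁).1
  -- the measure drops
  have hpd : poleDiv k (f + z ^ 2 + z) + Finsupp.single P₀ 1 ≤ poleDiv k f := by
    intro Q
    rw [Finsupp.add_apply]
    by_cases hQ : Q = P₀
    · subst hQ
      rw [Finsupp.single_eq_same]
      have h1 : Q.1 (f + z ^ 2 + z) < exp (2 * m : ℤ) := by
        refine lt_of_le_of_lt (Q.1.map_add _ _) (max_lt hz ?_)
        have := hzL Q
        rw [Finsupp.single_eq_same] at this
        refine lt_of_le_of_lt this ?_
        rw [exp_lt_exp]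
        omega
      have h2 := poleDiv_lt_of_val_lt (by omega) h1
      have h3 : poleDiv k f Q = 2 * m := by
        rw [poleDiv_apply hK.1, hfm]
        simp
      omega
    · rw [Finsupp.single_eq_of_ne hQ, add_zero]
      have hz1 : Q.1 z ≤ 1 := by
        have := hzL Q
        rwa [Finsupp.single_eq_of_ne hQ, exp_zero] at this
      have h0 : (0 : ℤ) ≤ poleDiv k f Q := by
        rw [poleDiv_apply hK.1]
        exact le_max_right _ _
      apply poleDiv_le_of_val_le h0
      refine le_trans (Q.1.map_add _ _) (max_le ?_ ?_)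
      · refine le_trans (Q.1.map_add _ _) (max_le (val_le_exp_poleDiv hK.1 f Q) ?_)
        rw [map_pow]
        refine le_trans (pow_le_one₀ zero_le hz1) ?_
        rw [← exp_zero, exp_le_exp]
        exact h0
      · refine le_trans hz1 ?_
        rw [← exp_zero, exp_le_exp]
        exact h0
  have hdeg1 := deg_mono hpd
  rw [deg_add, deg_single] at hdeg1
  have hP₀ := FX.deg_pos hK.1 P₀
  have hnn : (0 : ℤ) ≤ (poleDiv k (f + z ^ 2 + z)).deg := by
    apply deg_nonneg
    intro Q
    rw [poleDiv_apply hK.1]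
    exact le_max_right _ _
  have hlt : (poleDiv k (f + z ^ 2 + z)).deg.toNat < Nat.find hex := by
    rw [← hn]
    have : (1 : ℤ) ≤ P₀.deg := by exact_mod_cast hP₀
    omega
  exact hmin _ hlt ⟨_, _, heq₁, htop₁, rfl⟩

end main

end Groth.Agent.Lib.helper16.FA
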