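import Groth.Agent.Lib.helper16.FHypDiff
import Groth.Agent.Lib.helper16.FArtSch

/-! Helper library (helper16): the different exponent at a wildly ramified place of an
Artin–Schreier extension in characteristic two (S12588). -/

set_option autoImplicit false

namespace Groth.Agent.Lib.helper16.FASD

open FunFld WithZero Polynomial Module LocRes
open Groth.Agent.Lib.helper16 Groth.Agent.Lib.helper16.FF Groth.Agent.Lib.helper16.FX
  Groth.Agent.Lib.helper16.FR Groth.Agent.Lib.helper16.FA Groth.Agent.Lib.helper16.FHD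
open scoped IntermediateField LaurentSeries

universe u v w

section

variable {k : Type u} [Field k]

theorem exists_kaehler_ratFunc {π : RatFunc k}
    (hπ : KaehlerDifferential.D k (RatFunc k) π ≠ 0) (r : RatFunc k) :
    ∃ h : RatFunc k, KaehlerDifferential.D k (RatFunc k) r =
      h • KaehlerDifferential.D k (RatFunc k) π := by
  have h1 : finrank (RatFunc k) (Ω[RatFunc k⁄k]) = 1 := by
    rw [Module.finrank_eq_card_basis (FS.ratFuncBasis k), Fintype.card_unit]
  obtain ⟨c, hc⟩ := (finrank_eq_one_iff_of_nonzero' _ hπ).mp h1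
    (KaehlerDifferential.D k (RatFunc k) r)
  exact ⟨c, hc.symm⟩

theorem intCast_ne_zero_of_odd {F : Type*} [Field F] [CharP F 2] {n : ℤ} (hn : Odd n) :
    (n : F) ≠ 0 := by
  obtain ⟨j, rfl⟩ := hn
  have h2 : (2 : F) = 0 := by
    have := CharP.cast_eq_zero F 2
    exact_mod_cast this
  push_cast
  rw [h2, zero_mul, zero_add]
  exact one_ne_zero

end

section main

variable {k : Type u} {K : Type v} [Field k] [Field K] [Algebra k K] [Algebra (RatFunc k) K]
  [IsScalarTower k (RatFunc k) K]

/-- S12588 -/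
theorem diffExp_artinSchreier [CharP k 2] (hdeg : finrank (RatFunc k) K = 2)
    (y : K) (f : RatFunc k) (heq : y ^ 2 + y = algebraMap (RatFunc k) K f)
    (p : Place k (RatFunc k)) (hp : 1 < p.1 f) (hodd : Odd (p.ord f))
    (P : Place k K) (e : ℕ) (he : IsOverWith P p e)
    (F F' : Type w) [Field F] [Algebra k F] [Field F'] [Algebra k F']
    (φ : RatFunc k →ₐ[k] LaurentSeries F) (hφ : IsExpansionAt p.1 φ)
    (ψ : K →ₐ[k] LaurentSeries F') (hψ : IsExpansionAt P.1 ψ)
    (z : RatFunc k) (hz : vDiff φ 1 z ≠ 0) (hz' : vDiff ψ 1 (algebraMap (RatFunc k) K z) ≠ 0) :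
    diffExp φ ψ e z = 1 - p.ord f := by
  have hfin : FiniteDimensional (RatFunc k) K := Module.finite_of_finrank_pos (by omega)
  haveI : CharP F 2 := charP_of_injective_algebraMap (algebraMap k F).injective 2
  haveI : CharP F' 2 := charP_of_injective_algebraMap (algebraMap k F').injective 2
  haveI : CharP K 2 := charP_of_injective_algebraMap (algebraMap k K).injective 2
  have hf0 : f ≠ 0 := by
    rintro rfl
    rw [map_zero] at hp
    exact absurd hp (not_lt.mpr zero_le)
  have hpole : p.ord f < 0 := (one_lt_val_iff p hf0).mp hp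
  -- ramification
  obtain ⟨h3, -⟩ := (unique_over_of_odd_pole hdeg heq p hpole hodd).2 P ⟨e, he⟩
  have he2 : e = 2 := (isOverWith_unique he h3).2
  subst he2
  have hyord : P.ord y = p.ord f := by
    have := two_mul_ord_y heq he (by norm_num) hpole
    push_cast at this
    omega
  have hy0 : y ≠ 0 := by
    rintro rfl
    rw [ord_zero] at hyord
    omega
  -- a uniformizer below
  obtain ⟨π, hπ⟩ := exists_uniformizer p
  have hπ0 : π ≠ 0 := by
    rintro rfl
    rw [map_zero] at hπ
    exact exp_ne_zero hπ.symm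
  have hπo : p.ord π = 1 := by
    unfold Place.ord
    rw [hπ, log_exp]
    ring
  obtain ⟨hDπ, hoπ⟩ := D_ne_zero_of_ord hφ hπ0 hπo (by simp)
  have hDπK : KaehlerDifferential.D k (RatFunc k) π ≠ 0 :=
    FDE.kaehler_ne_zero_of_D_ne_zero φ hDπ
  -- reduce to `z = π`
  obtain ⟨hz₁, hhz⟩ := exists_kaehler_ratFunc hDπK z
  obtain ⟨-, hψπ, hred⟩ := FDE.diffExp_eq_of_kaehler he φ hφ ψ hψ hhz hz hz'
  rw [hred]
  unfold diffExp
  rw [hoπ]
  -- the derivative of `f`
  obtain ⟨hDf, hof⟩ := D_ne_zero_of_ord hφ hf0 rfl (intCast_ne_zero_of_odd hodd)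
  obtain ⟨c₀, hc₀⟩ := exists_kaehler_ratFunc hDπK f
  obtain ⟨hc₀0, -, hchainf⟩ := ordDiff_chain hφ hc₀ hDf
  have hc₀ord : p.ord c₀ = p.ord f - 1 := by
    rw [hof, hoπ] at hchainf
    omega
  -- the differential of `y`
  have hDy : KaehlerDifferential.D k K y =
      algebraMap (RatFunc k) K c₀ • KaehlerDifferential.D k K (algebraMap (RatFunc k) K π) := by
    rw [← FDE.kaehler_map hc₀, ← heq, map_add, Derivation.leibniz_pow]
    have h2K : (2 : K) = 0 := by
      have := CharP.cast_eq_zero K 2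
      exact_mod_cast this
    have : (2 : ℕ) • y ^ (2 - 1) • KaehlerDifferential.D k K y = 0 := by
      rw [← Nat.cast_smul_eq_nsmul K]
      push_cast
      rw [h2K, zero_smul]
    rw [this, zero_add]
  -- the uniformizer above
  set πK : K := algebraMap (RatFunc k) K π with hπK
  have hπK0 : πK ≠ 0 := by
    rw [hπK, Ne, map_eq_zero]
    exact hπ0
  have hπKo : P.ord πK = 2 := by
    rw [hπK, isOverWith_ord he, hπo]
    rfl
  obtain ⟨j, hj⟩ := hodd
  have hjneg : j < 0 := by omega
  obtain ⟨d, hd⟩ : ∃ d : ℕ, (d : ℤ) = -j := ⟨(-j).toNat, Int.toNat_of_nonneg (by omega)⟩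
  have hd1 : 1 ≤ d := by omega
  set t : K := πK ^ d * y with ht
  have ht0 : t ≠ 0 := mul_ne_zero (pow_ne_zero _ hπK0) hy0
  have hto : P.ord t = 1 := by
    rw [ht, ord_mul P (pow_ne_zero _ hπK0) hy0, ord_pow, hπKo, hyord, hj]
    omega
  obtain ⟨hDt, hot⟩ := D_ne_zero_of_ord hψ ht0 hto (by simp)
  have hDtK : KaehlerDifferential.D k K t =
      (πK ^ d * algebraMap (RatFunc k) K c₀ + y * ((d : K) * πK ^ (d - 1))) •
        KaehlerDifferential.D k K πK := by
    rw [ht, Derivation.leibniz, hDy, Derivation.leibniz_pow, add_smul, smul_smul, mul_smul,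
      ← Nat.cast_smul_eq_nsmul K, smul_smul]
    congr 1
    simp only [mul_smul]
  obtain ⟨hH0, -, hchain⟩ := ordDiff_chain hψ hDtK hDt
  -- the order of the factor
  have hc₀K0 : algebraMap (RatFunc k) K c₀ ≠ 0 := by
    rw [Ne, map_eq_zero]
    exact hc₀0
  have hBord : P.ord (πK ^ d * algebraMap (RatFunc k) K c₀) = p.ord f - 1 := by
    rw [ord_mul P (pow_ne_zero _ hπK0) hc₀K0, ord_pow, hπKo, isOverWith_ord he, hc₀ord, hj]
    push_cast
    omega
  have hB0 : πK ^ d * algebraMap (RatFunc k) K c₀ ≠ 0 := mul_ne_zero (pow_ne_zero _ hπK0) hc₀K0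
  have hHord : P.ord (πK ^ d * algebraMap (RatFunc k) K c₀ + y * ((d : K) * πK ^ (d - 1))) =
      p.ord f - 1 := by
    by_cases hdK : (d : K) = 0
    · rw [hdK, zero_mul, mul_zero, add_zero, hBord]
    · have hdk : (d : k) ≠ 0 := by
        intro h0
        apply hdK
        have : (d : K) = algebraMap k K (d : k) := by rw [map_natCast]
        rw [this, h0, map_zero]
      have hdo : P.ord (d : K) = 0 := by
        have : (d : K) = algebraMap k K (d : k) := by rw [map_natCast]
        unfold Place.ord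
        rw [this, val_algebraMap P hdk, log_one, neg_zero]
      have hA0 : y * ((d : K) * πK ^ (d - 1)) ≠ 0 :=
        mul_ne_zero hy0 (mul_ne_zero hdK (pow_ne_zero _ hπK0))
      have hAord : P.ord (y * ((d : K) * πK ^ (d - 1))) = p.ord f + 2 * ((d : ℤ) - 1) := by
        rw [ord_mul P hy0 (mul_ne_zero hdK (pow_ne_zero _ hπK0)),
          ord_mul P hdK (pow_ne_zero _ hπK0), ord_pow, hπKo, hyord, hdo]
        push_cast [hd1]
        ring
      have hlt : P.1 (y * ((d : K) * πK ^ (d - 1))) <
          P.1 (πK ^ d * algebraMap (RatFunc k) K c₀) := by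
        rw [val_eq_exp_neg_ord P hA0, val_eq_exp_neg_ord P hB0, exp_lt_exp, hAord, hBord]
        omega
      unfold Place.ord
      rw [Valuation.map_add_eq_of_lt_left _ hlt]
      exact hBord
  rw [hot, hHord] at hchain
  push_cast
  omega

end main

end Groth.Agent.Lib.helper16.FASD
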