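import Groth.Agent.Lib.helper16.FAdeleAS2

set_option autoImplicit false

namespace Groth.Agent.Lib.helper16.FAPF

open FunFld WithZero Polynomial Module
open Groth.Agent.Lib.helper16 Groth.Agent.Lib.helper16.FF Groth.Agent.Lib.helper16.FX
  Groth.Agent.Lib.helper16.FR Groth.Agent.Lib.helper16.FA Groth.Agent.Lib.helper16.FHD
  Groth.Agent.Lib.helper16.FAA
open scoped IntermediateField

universe u v w

section ratplaces

variable {k : Type u} [Field k]

theorem ord_X_sub_C_of_lt (p : Place k (RatFunc k)) (α : k)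
    (h : p.1 ((RatFunc.X : RatFunc k) - RatFunc.C α) < 1) :
    p.ord ((RatFunc.X : RatFunc k) - RatFunc.C α) = 1 := by
  rw [← alg_X_sub_C]
  exact ord_alg_irreducible p (irreducible_X_sub_C α) (by rw [alg_X_sub_C]; exact h)

theorem val_X_sub_C_le_one (p : Place k (RatFunc k)) (α : k) (hX : p.1 RatFunc.X ≤ 1) :
    p.1 ((RatFunc.X : RatFunc k) - RatFunc.C α) ≤ 1 := by
  rw [← alg_X_sub_C]
  exact val_alg_le_one p hX _

theorem ord_X_sub_C_of_not_lt (p : Place k (RatFunc k)) (α : k) (hX : p.1 RatFunc.X ≤ 1)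
    (h : ¬ p.1 ((RatFunc.X : RatFunc k) - RatFunc.C α) < 1) :
    p.ord ((RatFunc.X : RatFunc k) - RatFunc.C α) = 0 := by
  rw [not_lt] at h
  have h1 := le_antisymm (val_X_sub_C_le_one p α hX) h
  unfold Place.ord
  rw [h1, log_one, neg_zero]

theorem ord_X_sub_C_of_pole (p : Place k (RatFunc k)) (α : k)
    (hinf : p.ord (RatFunc.X : RatFunc k) < 0) :
    p.ord ((RatFunc.X : RatFunc k) - RatFunc.C α) = -1 := by
  have h1 : 1 < p.1 (RatFunc.X : RatFunc k) := (one_lt_val_iff p RatFunc.X_ne_zero).mpr hinf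
  have h2 := val_sub_const_of_pole p α h1
  have hC : algebraMap k (RatFunc k) α = RatFunc.C α := by rw [RatFunc.algebraMap_eq_C]
  rw [hC] at h2
  unfold Place.ord
  rw [h2]
  exact ord_X_of_pole p hinf

theorem X_sub_C_ne_zero (α : k) : (RatFunc.X : RatFunc k) - RatFunc.C α ≠ 0 := by
  rw [← alg_X_sub_C]
  exact alg_ne_zero (Polynomial.X_sub_C_ne_zero α)

theorem val_X_sub_C_of_ne (p : Place k (RatFunc k)) {α β : k} (hβα : β ≠ α)
    (h : p.1 ((RatFunc.X : RatFunc k) - RatFunc.C β) < 1) :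
    p.1 ((RatFunc.X : RatFunc k) - RatFunc.C α) = 1 := by
  have hC : ∀ c : k, algebraMap k (RatFunc k) c = RatFunc.C c := fun c => by
    rw [RatFunc.algebraMap_eq_C]
  have := val_sub_const_of_lt p (x := (RatFunc.X : RatFunc k)) hβα (by rw [hC]; exact h)
  rwa [hC] at this

theorem X_eq : (RatFunc.X : RatFunc k) = RatFunc.X - RatFunc.C 0 := by
  rw [map_zero, sub_zero]

theorem exists_place_X_sub_C (α : k) :
    ∃ p : Place k (RatFunc k), p.1 ((RatFunc.X : RatFunc k) - RatFunc.C α) < 1 := by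
  have hK := isFunctionField_ratFunc (k := k)
  apply exists_place_lt_one hK
  rintro ⟨c, hc⟩
  have h1 : (RatFunc.X : RatFunc k) = algebraMap k (RatFunc k) (c + α) := by
    rw [map_add, hc]
    have hC : algebraMap k (RatFunc k) α = RatFunc.C α := by rw [RatFunc.algebraMap_eq_C]
    rw [hC]; ring
  exact RatFunc.transcendental_X (K := k) (by rw [h1]; exact isAlgebraic_algebraMap _)

end ratplaces

section dominance

variable {k : Type u} {F : Type v} [Field k] [Field F] [Algebra k F]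

/-- a term that dominates all others at a place has coefficient zero in a vanishing
combination -/
theorem coeff_eq_zero_of_dominant {ι : Type*} [DecidableEq ι] (p : Place k F) (s : Finset ι)
    (l : ι → k) (z : ι → F) {i₀ : ι} (hi₀ : i₀ ∈ s) (w : F) (h1 : p.1 (w * z i₀ - 1) < 1)
    (h2 : ∀ i ∈ s, i ≠ i₀ → p.1 (w * z i) < 1) (hsum : ∑ i ∈ s, l i • z i = 0) :
    l i₀ = 0 := by
  by_contra hne
  have hsm : ∀ (c : k) (u : F), p.1 u < 1 → p.1 (c • u) < 1 := by
    intro c u hu
    rw [Algebra.smul_def, map_mul]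
    exact lt_of_le_of_lt (mul_le_of_le_one_left' (p.2.1 c)) hu
  have h3 : w * ∑ i ∈ s, l i • z i = 0 := by rw [hsum, mul_zero]
  rw [Finset.mul_sum, ← Finset.add_sum_erase s _ hi₀] at h3
  have h4 : algebraMap k F (l i₀) =
      -(l i₀ • (w * z i₀ - 1) + ∑ i ∈ s.erase i₀, l i • (w * z i)) := by
    rw [eq_neg_iff_add_eq_zero, ← h3]
    have : ∀ i, w * l i • z i = l i • (w * z i) := fun i => by rw [mul_smul_comm]
    simp only [this]
    rw [Algebra.smul_def, Algebra.smul_def]
    ring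
  have h5 : p.1 (algebraMap k F (l i₀)) < 1 := by
    rw [h4, Valuation.map_neg]
    refine lt_of_le_of_lt (p.1.map_add _ _) (max_lt (hsm _ _ h1) ?_)
    apply Valuation.map_sum_lt _ one_ne_zero
    intro i hi
    exact hsm _ _ (h2 i (Finset.mem_of_mem_erase hi) (Finset.ne_of_mem_erase hi))
  rw [val_algebraMap p hne] at h5
  exact lt_irrefl _ h5

end dominance

section family

variable {k : Type u} [Field k] (B : Finset k) (d : k → ℕ)

/-- the partial-fraction family -/
noncomputable def fam :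
    {a : ↥B × ℕ // 1 ≤ a.2 ∧ 2 * a.2 + 1 ≤ d (a.1 : k)} ⊕ {b : ↥B // (b : k) ≠ 0} → RatFunc k :=
  Sum.elim (fun a => ((RatFunc.X : RatFunc k) - RatFunc.C (a.1.1 : k))⁻¹ ^ (a.1.2 + 1))
    (fun b => RatFunc.C (b.1 : k) / ((RatFunc.X : RatFunc k) *
      ((RatFunc.X : RatFunc k) - RatFunc.C (b.1 : k))))

/-- the pole of a member -/
def al : {a : ↥B × ℕ // 1 ≤ a.2 ∧ 2 * a.2 + 1 ≤ d (a.1 : k)} ⊕ {b : ↥B // (b : k) ≠ 0} → k :=
  Sum.elim (fun a => (a.1.1 : k)) (fun b => (b.1 : k))

/-- the pole order of a member -/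
def po : {a : ↥B × ℕ // 1 ≤ a.2 ∧ 2 * a.2 + 1 ≤ d (a.1 : k)} ⊕ {b : ↥B // (b : k) ≠ 0} → ℕ :=
  Sum.elim (fun a => a.1.2 + 1) (fun _ => 1)

variable {B d}

theorem one_le_po (i) : 1 ≤ po B d i := by
  rcases i with a | b
  · exact Nat.le_add_left 1 _
  · exact le_refl 1

theorem al_po_injective {i i'} (h1 : al B d i = al B d i') (h2 : po B d i = po B d i') :
    i = i' := by
  rcases i with a | b <;> rcases i' with a' | b'
  · congr 1
    apply Subtype.ext
    apply Prod.ext
    · exact Subtype.ext h1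
    · exact Nat.add_right_cancel h2
  · exfalso
    have := a.2.1
    change a.1.2 + 1 = 1 at h2
    omega
  · exfalso
    have := a'.2.1
    change 1 = a'.1.2 + 1 at h2
    omega
  · congr 1
    apply Subtype.ext
    exact Subtype.ext h1

theorem fam_dom (p : Place k (RatFunc k)) (i)
    (h : p.1 ((RatFunc.X : RatFunc k) - RatFunc.C (al B d i)) < 1) :
    p.1 (((RatFunc.X : RatFunc k) - RatFunc.C (al B d i)) ^ (po B d i) * fam B d i - 1) < 1 := by
  rcases i with a | b
  · change p.1 (((RatFunc.X : RatFunc k) - RatFunc.C (a.1.1 : k)) ^ (a.1.2 + 1) *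
      ((RatFunc.X : RatFunc k) - RatFunc.C (a.1.1 : k))⁻¹ ^ (a.1.2 + 1) - 1) < 1
    rw [← mul_pow, mul_inv_cancel₀ (X_sub_C_ne_zero _), one_pow, sub_self, map_zero]
    exact zero_lt_one
  · change p.1 ((RatFunc.X : RatFunc k) - RatFunc.C (b.1 : k)) < 1 at h
    change p.1 (((RatFunc.X : RatFunc k) - RatFunc.C (b.1 : k)) ^ 1 *
      (RatFunc.C (b.1 : k) / ((RatFunc.X : RatFunc k) *
        ((RatFunc.X : RatFunc k) - RatFunc.C (b.1 : k)))) - 1) < 1
    have hX0 : (RatFunc.X : RatFunc k) ≠ 0 := RatFunc.X_ne_zero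
    have h1 : ((RatFunc.X : RatFunc k) - RatFunc.C (b.1 : k)) ^ 1 *
      (RatFunc.C (b.1 : k) / ((RatFunc.X : RatFunc k) *
        ((RatFunc.X : RatFunc k) - RatFunc.C (b.1 : k)))) - 1 =
        -(((RatFunc.X : RatFunc k) - RatFunc.C (b.1 : k)) / RatFunc.X) := by
      have := X_sub_C_ne_zero (k := k) (b.1 : k)
      field_simp
      ring
    have hX1 : p.1 (RatFunc.X : RatFunc k) = 1 := by
      have := val_X_sub_C_of_ne p (α := 0) b.2 h
      rwa [← X_eq] at this
    rw [h1, Valuation.map_neg, map_div₀, hX1, div_one]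
    exact h

theorem fam_int (p : Place k (RatFunc k)) (i) {α : k} (hα0 : α ≠ 0)
    (h : p.1 ((RatFunc.X : RatFunc k) - RatFunc.C α) < 1) (hne : al B d i ≠ α) :
    p.1 (fam B d i) ≤ 1 := by
  have hX1 : p.1 (RatFunc.X : RatFunc k) = 1 := by
    have := val_X_sub_C_of_ne p (α := 0) hα0 h
    rwa [← X_eq] at this
  rcases i with a | b
  · change p.1 (((RatFunc.X : RatFunc k) - RatFunc.C (a.1.1 : k))⁻¹ ^ (a.1.2 + 1)) ≤ 1
    have h5 : p.1 ((RatFunc.X : RatFunc k) - RatFunc.C (a.1.1 : k)) = 1 :=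
      val_X_sub_C_of_ne p (Ne.symm hne) h
    rw [map_pow, map_inv₀, h5, inv_one, one_pow]
  · change p.1 (RatFunc.C (b.1 : k) / ((RatFunc.X : RatFunc k) *
        ((RatFunc.X : RatFunc k) - RatFunc.C (b.1 : k)))) ≤ 1
    have h5 : p.1 ((RatFunc.X : RatFunc k) - RatFunc.C (b.1 : k)) = 1 :=
      val_X_sub_C_of_ne p (Ne.symm hne) h
    rw [map_div₀, map_mul, hX1, h5, one_mul, div_one]
    have hC : RatFunc.C (b.1 : k) = algebraMap k (RatFunc k) (b.1 : k) := by
      rw [RatFunc.algebraMap_eq_C]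
    rw [hC]
    exact p.2.1 _

theorem linearIndependent_fam : LinearIndependent k (fam B d) := by
  classical
  rw [linearIndependent_iff']
  intro s g hsum
  by_contra hcon
  push Not at hcon
  obtain ⟨j₀, hj₀s, hj₀⟩ := hcon
  set s' := s.filter (fun i => g i ≠ 0) with hs'
  have hne : s'.Nonempty := ⟨j₀, Finset.mem_filter.mpr ⟨hj₀s, hj₀⟩⟩
  have hsum' : ∑ i ∈ s', g i • fam B d i = 0 := by
    rw [hs', ← hsum]
    apply Finset.sum_filter_of_ne
    intro i _ hi hgi
    apply hi
    rw [hgi, zero_smul]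
  set N : ℕ := 1 + s'.sup (po B d) with hN
  set w : _ → ℕ := fun i => (if al B d i ≠ 0 then N else 0) + po B d i with hw
  obtain ⟨i₀, hi₀, hmax⟩ := Finset.exists_max_image s' w hne
  obtain ⟨p, hp⟩ := exists_place_X_sub_C (al B d i₀)
  have hpoN : ∀ i ∈ s', po B d i < N := by
    intro i hi
    have := Finset.le_sup (f := po B d) hi
    omega
  have hg0 := coeff_eq_zero_of_dominant p s' g (fam B d) hi₀
    (((RatFunc.X : RatFunc k) - RatFunc.C (al B d i₀)) ^ (po B d i₀)) (fam_dom p i₀ hp) ?_ hsum'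
  · exact (Finset.mem_filter.mp hi₀).2 hg0
  · intro i hi hii₀
    have hwi := hmax i hi
    by_cases hal : al B d i = al B d i₀
    · have hpo : po B d i ≠ po B d i₀ := fun h => hii₀ (al_po_injective hal h)
      have hlt : po B d i < po B d i₀ := by
        simp only [hw, hal] at hwi
        omega
      have h1 := fam_dom p i (by rw [hal]; exact hp)
      rw [hal] at h1
      have h2 : p.1 (((RatFunc.X : RatFunc k) - RatFunc.C (al B d i₀)) ^ (po B d i) *
          fam B d i) = 1 := by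
        have : ((RatFunc.X : RatFunc k) - RatFunc.C (al B d i₀)) ^ (po B d i) * fam B d i =
            1 + (((RatFunc.X : RatFunc k) - RatFunc.C (al B d i₀)) ^ (po B d i) *
              fam B d i - 1) := by ring
        rw [this, Valuation.map_add_eq_of_lt_left _ (by rw [map_one]; exact h1), map_one]
      have h3 : ((RatFunc.X : RatFunc k) - RatFunc.C (al B d i₀)) ^ (po B d i₀) * fam B d i =
          ((RatFunc.X : RatFunc k) - RatFunc.C (al B d i₀)) ^ (po B d i₀ - po B d i) *
            (((RatFunc.X : RatFunc k) - RatFunc.C (al B d i₀)) ^ (po B d i) * fam B d i) := by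
        rw [← mul_assoc, ← pow_add, Nat.sub_add_cancel hlt.le]
      rw [h3, map_mul, h2, mul_one, map_pow]
      exact pow_lt_one₀ zero_le hp (by omega)
    · by_cases hα0 : al B d i₀ = 0
      · exfalso
        have h1 : al B d i ≠ 0 := by rw [← hα0]; exact hal
        simp only [hw] at hwi
        rw [if_pos h1, if_neg (not_not.mpr hα0)] at hwi
        have := hpoN i₀ hi₀
        omega
      · have h1 := fam_int p i hα0 hp hal
        rw [map_mul, map_pow]
        have h2 : p.1 ((RatFunc.X : RatFunc k) - RatFunc.C (al B d i₀)) ^ (po B d i₀) < 1 :=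
          pow_lt_one₀ zero_le hp (by have := one_le_po (B := B) (d := d) i₀; omega)
        exact lt_of_le_of_lt (mul_le_of_le_one_right' h1) h2

end family

end Groth.Agent.Lib.helper16.FAPF
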