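import Groth.Agent.Lib.helper16.FArtSchPF

set_option autoImplicit false

namespace Groth.Agent.Lib.helper16.FAPF

open FunFld WithZero Polynomial Module LocRes
open Groth.Agent.Lib.helper16 Groth.Agent.Lib.helper16.FF Groth.Agent.Lib.helper16.FX
  Groth.Agent.Lib.helper16.FR Groth.Agent.Lib.helper16.FA Groth.Agent.Lib.helper16.FHD
  Groth.Agent.Lib.helper16.FAA Groth.Agent.Lib.helper16.FRW Groth.Agent.Lib.helper16.FH
open scoped IntermediateField LaurentSeries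

universe u v w

section count

variable {k : Type u} [Field k] (B : Finset k) (d : k → ℕ)

/-- the first index set as a sigma type -/
def equivSigma : {a : ↥B × ℕ // 1 ≤ a.2 ∧ 2 * a.2 + 1 ≤ d (a.1 : k)} ≃
    Σ α : ↥B, Fin ((d (α : k) - 1) / 2) where
  toFun a := ⟨a.1.1, ⟨a.1.2 - 1, by have := a.2; omega⟩⟩
  invFun s := ⟨(s.1, s.2.1 + 1), by
    have := s.2.2
    show 1 ≤ s.2.1 + 1 ∧ 2 * (s.2.1 + 1) + 1 ≤ d (s.1 : k)
    constructor <;> omega⟩
  left_inv a := by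
    apply Subtype.ext
    apply Prod.ext
    · rfl
    · have := a.2.1
      show a.1.2 - 1 + 1 = a.1.2
      omega
  right_inv s := by
    rcases s with ⟨α, j, hj⟩
    rfl

instance : Finite {a : ↥B × ℕ // 1 ≤ a.2 ∧ 2 * a.2 + 1 ≤ d (a.1 : k)} :=
  Finite.of_equiv _ (equivSigma B d).symm

theorem card_I1 : Nat.card {a : ↥B × ℕ // 1 ≤ a.2 ∧ 2 * a.2 + 1 ≤ d (a.1 : k)} =
    ∑ α ∈ B, (d α - 1) / 2 := by
  rw [Nat.card_congr (equivSigma B d), Nat.card_sigma]
  simp only [Nat.card_fin]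
  exact Finset.sum_coe_sort B (fun α => (d α - 1) / 2)

theorem card_I2 (h0 : (0 : k) ∈ B) : Nat.card {b : ↥B // (b : k) ≠ 0} = B.card - 1 := by
  classical
  haveI : Unique {b : ↥B // (b : k) = 0} :=
    { default := ⟨⟨0, h0⟩, rfl⟩
      uniq := fun b => Subtype.ext (Subtype.ext b.2) }
  rw [Nat.card_eq_fintype_card]
  have := Fintype.card_subtype_compl (fun b : ↥B => (b : k) = 0)
  have h1 : Fintype.card {b : ↥B // (b : k) = 0} = 1 := Fintype.card_unique
  rw [h1, Fintype.card_coe] at this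
  exact this

/-- the denominator -/
noncomputable def qpoly : k[X] := ∏ α ∈ B, (X - C α) ^ ((d α + 1) / 2)

theorem qpoly_ne_zero : qpoly B d ≠ 0 := by
  unfold qpoly
  rw [Finset.prod_ne_zero_iff]
  intro α _
  exact pow_ne_zero _ (Polynomial.X_sub_C_ne_zero α)

theorem natDegree_qpoly : (qpoly B d).natDegree = ∑ α ∈ B, (d α + 1) / 2 := by
  unfold qpoly
  rw [natDegree_prod_of_monic _ _ (fun α _ => (monic_X_sub_C α).pow _)]
  apply Finset.sum_congr rfl
  intro α _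
  rw [natDegree_pow, natDegree_X_sub_C, mul_one]

theorem card_index (h0 : (0 : k) ∈ B) (hd : ∀ β ∈ B, Odd (d β)) :
    Nat.card ({a : ↥B × ℕ // 1 ≤ a.2 ∧ 2 * a.2 + 1 ≤ d (a.1 : k)} ⊕ {b : ↥B // (b : k) ≠ 0}) + 1 =
      (qpoly B d).natDegree := by
  rw [Nat.card_sum, card_I1, card_I2 B h0, natDegree_qpoly]
  have h1 : ∑ α ∈ B, (d α + 1) / 2 = ∑ α ∈ B, ((d α - 1) / 2 + 1) := by
    apply Finset.sum_congr rfl
    intro α hα
    obtain ⟨m, hm⟩ := hd α hα
    omega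
  rw [h1, Finset.sum_add_distrib, Finset.sum_const, smul_eq_mul, mul_one]
  have : 1 ≤ B.card := Finset.card_pos.mpr ⟨0, h0⟩
  omega

theorem alg_qpoly : algebraMap k[X] (RatFunc k) (qpoly B d) =
    ∏ α ∈ B, ((RatFunc.X : RatFunc k) - RatFunc.C α) ^ ((d α + 1) / 2) := by
  unfold qpoly
  rw [map_prod]
  apply Finset.prod_congr rfl
  intro α _
  rw [map_pow, alg_X_sub_C]

theorem ord_qpoly_of_lt (p : Place k (RatFunc k)) {α₀ : k} (hα₀ : α₀ ∈ B)
    (h : p.1 ((RatFunc.X : RatFunc k) - RatFunc.C α₀) < 1) :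
    p.ord (algebraMap k[X] (RatFunc k) (qpoly B d)) = ((d α₀ + 1) / 2 : ℕ) := by
  unfold Place.ord
  rw [alg_qpoly, map_prod, Finset.prod_eq_single α₀]
  · rw [map_pow, val_eq_exp_neg_ord p (X_sub_C_ne_zero α₀), ord_X_sub_C_of_lt p α₀ h,
      ← exp_nsmul, log_exp]
    simp
  · intro β _ hβ
    rw [map_pow, val_X_sub_C_of_ne p hβ.symm h, one_pow]
  · intro h1
    exact absurd hα₀ h1

theorem ord_qpoly_of_not (p : Place k (RatFunc k)) (hX : p.1 RatFunc.X ≤ 1)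
    (h : ∀ β ∈ B, 1 ≤ p.1 ((RatFunc.X : RatFunc k) - RatFunc.C β)) :
    p.ord (algebraMap k[X] (RatFunc k) (qpoly B d)) = 0 := by
  unfold Place.ord
  rw [alg_qpoly, map_prod, Finset.prod_eq_one]
  · rw [log_one, neg_zero]
  · intro β hβ
    rw [map_pow, le_antisymm (val_X_sub_C_le_one p β hX) (h β hβ), one_pow]

end count

end Groth.Agent.Lib.helper16.FAPF
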