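import Groth.Agent.Lib.helper16.FArtSchPF2

set_option autoImplicit false

namespace Groth.Agent.Lib.helper16.FAPF

open FunFld WithZero Polynomial Module LocRes
open Groth.Agent.Lib.helper16 Groth.Agent.Lib.helper16.FF Groth.Agent.Lib.helper16.FX
  Groth.Agent.Lib.helper16.FR Groth.Agent.Lib.helper16.FA Groth.Agent.Lib.helper16.FHD
  Groth.Agent.Lib.helper16.FAA Groth.Agent.Lib.helper16.FRW Groth.Agent.Lib.helper16.FH
open scoped IntermediateField LaurentSeries

universe u v w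

section hyp

variable {k : Type u} [Field k] {f : RatFunc k}
  (B : Finset k) (d : k → ℕ) (hd : ∀ β ∈ B, Odd (d β))
  (hpole : ∀ (p : Place k (RatFunc k)) (β : k), β ∈ B →
      p.1 ((RatFunc.X : RatFunc k) - RatFunc.C β) < 1 → p.ord f = -(d β : ℤ))
  (hint : ∀ p : Place k (RatFunc k),
    (∀ β ∈ B, 1 ≤ p.1 ((RatFunc.X : RatFunc k) - RatFunc.C β)) → p.1 f ≤ 1)

include hd hpole hint in
theorem odd_of_pole (p : Place k (RatFunc k)) (hp : 1 < p.1 f) : Odd (p.ord f) := by
  by_cases hex : ∃ β ∈ B, p.1 ((RatFunc.X : RatFunc k) - RatFunc.C β) < 1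
  · obtain ⟨β, hβ, hlt⟩ := hex
    rw [hpole p β hβ hlt]
    exact ((Int.odd_coe_nat (d β)).mpr (hd β hβ)).neg
  · push Not at hex
    exact absurd hp (not_lt.mpr (hint p hex))

include hd hpole hint in
theorem ord_qpoly (p : Place k (RatFunc k)) (hX : p.1 RatFunc.X ≤ 1) :
    p.ord (algebraMap k[X] (RatFunc k) (qpoly B d)) =
      if 1 < p.1 f then (1 - p.ord f) / 2 else 0 := by
  by_cases hex : ∃ β ∈ B, p.1 ((RatFunc.X : RatFunc k) - RatFunc.C β) < 1
  · obtain ⟨β, hβ, hlt⟩ := hex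
    have hf := hpole p β hβ hlt
    have hdpos := (hd β hβ).pos
    have hf0 : f ≠ 0 := by
      rintro rfl
      rw [ord_zero] at hf
      omega
    have h1 : 1 < p.1 f := (one_lt_val_iff p hf0).mpr (by rw [hf]; omega)
    rw [if_pos h1, ord_qpoly_of_lt B d p hβ hlt, hf]
    omega
  · push Not at hex
    rw [if_neg (not_lt.mpr (hint p hex)), ord_qpoly_of_not B d p hX hex]

end hyp

section main

variable {k : Type u} {K : Type v} [Field k] [PerfectField k] [CharP k 2] [Field K] [Algebra k K]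
  [Algebra (RatFunc k) K] [IsScalarTower k (RatFunc k) K] [Algebra.IsSeparable (RatFunc k) K]
  (hK : IsFunctionField k K) (hdeg : finrank (RatFunc k) K = 2) {y : K}
  (hy : y ∉ Set.range (algebraMap (RatFunc k) K)) {f : RatFunc k}
  (heq : y ^ 2 + y = algebraMap (RatFunc k) K f)
  (B : Finset k) (h0 : (0 : k) ∈ B) (d : k → ℕ) (hd : ∀ β ∈ B, Odd (d β))
  (hpole : ∀ (p : Place k (RatFunc k)) (β : k), β ∈ B →
      p.1 ((RatFunc.X : RatFunc k) - RatFunc.C β) < 1 → p.ord f = -(d β : ℤ))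
  (hint : ∀ p : Place k (RatFunc k),
    (∀ β ∈ B, 1 ≤ p.1 ((RatFunc.X : RatFunc k) - RatFunc.C β)) → p.1 f ≤ 1)
  (F : Place k K → Type w) [∀ P, Field (F P)] [∀ P, Algebra k (F P)]
  [∀ P, FiniteDimensional k (F P)]
  (φ : ∀ P, K →ₐ[k] LaurentSeries (F P)) (hφ : ∀ P, IsExpansionAt P.1 (φ P))

include hK hdeg hy heq hd hpole hint hφ in
/-- the canonical divisor of `dx` -/
theorem exists_canon_data : ∃ C : Divisor k K, IsCanonical k K C ∧
    (∀ z : K, (∀ P, vDiff (φ P) z (xK k K) ≤ 1) ↔ z ∈ L C) ∧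
    (∀ Q : Place k K, Q.1 (xK k K) ≤ 1 → C Q = Q.ord (polyK K (qpoly B d))) ∧
    (∀ Q : Place k K, 1 < Q.1 (xK k K) → Q.ord (xK k K) = -1 ∧ C Q = -2 ∧
      Q.ord (polyK K (qpoly B d)) = -((qpoly B d).natDegree : ℤ)) := by
  obtain ⟨C, hCcan, hC, hC3⟩ := FASR.exists_canon'' hK F φ hφ
  refine ⟨C, hCcan, ?_, ?_, ?_⟩
  · intro z
    constructor
    · intro h P
      have h1 := h P
      rw [hC3 P z] at h1
      have h2' := (mul_exp_le_iff P z (C P) 0).mp (by rwa [neg_zero, exp_zero])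
      rwa [sub_zero] at h2'
    · intro h P
      rw [hC3 P z]
      have h1 := (mul_exp_le_iff P z (C P) 0).mpr (by rw [sub_zero]; exact h P)
      rwa [neg_zero, exp_zero] at h1
  · intro Q hQ
    rw [hC Q]
    exact FASR.ordDiff_x_of_finite' (hφ Q) hdeg hy heq (odd_of_pole B d hd hpole hint)
      (ord_qpoly B d hd hpole hint) hQ
  · intro Q hQ
    obtain ⟨P₀, e, he, hinf, hf⟩ := infinity_data hdeg B hint hQ
    have hfo : 0 ≤ P₀.ord f := by
      by_cases hf0 : f = 0
      · rw [hf0, ord_zero]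
      · exact (val_le_one_iff P₀ hf0).mp hf
    obtain ⟨h3, h4, h5⟩ := FASR.pole_unram (hφ Q) hdeg hy heq (qpoly_ne_zero B d) hinf hfo hQ
    exact ⟨h3, by rw [hC Q, h4], h5⟩

include hK hdeg in
theorem genus_eq {C : Divisor k K} (hCcan : IsCanonical k K C)
    (hfinC : ∀ Q : Place k K, Q.1 (xK k K) ≤ 1 → C Q = Q.ord (polyK K (qpoly B d)))
    (hinfC : ∀ Q : Place k K, 1 < Q.1 (xK k K) → Q.ord (xK k K) = -1 ∧ C Q = -2 ∧
      Q.ord (polyK K (qpoly B d)) = -((qpoly B d).natDegree : ℤ)) :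
    (genus k K : ℤ) = (qpoly B d).natDegree - 1 := by
  obtain ⟨hell, hCdeg⟩ := isCanonical_ell_deg hK hCcan
  have hdegE : (C - FunFld.div k (polyK K (qpoly B d))).deg = 2 * (genus k K : ℤ) - 2 := by
    rw [deg_sub, deg_div_eq_zero hK, sub_zero, hCdeg]
  have hE : C - FunFld.div k (polyK K (qpoly B d)) =
      (((qpoly B d).natDegree : ℤ) - 2) • poleDiv k (xK k K) := by
    ext Q
    rw [Finsupp.sub_apply, div_apply hK, Finsupp.smul_apply, poleDiv_apply hK, smul_eq_mul]
    by_cases hQ : Q.1 (xK k K) ≤ 1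
    · have h4 : 0 ≤ Q.ord (xK k K) := (val_le_one_iff Q xK_ne_zero).mp hQ
      rw [hfinC Q hQ, sub_self, max_eq_right (by omega), mul_zero]
    · rw [not_le] at hQ
      obtain ⟨h3, h4, h5⟩ := hinfC Q hQ
      rw [h4, h3, h5, neg_neg, max_eq_left (by omega), mul_one]
      ring
  have hdegp : (poleDiv k (xK k K)).deg = 2 := by
    rw [deg_poleDiv_eq hK xK_not_mem_range, finrank_adjoin, hdeg]
    rfl
  rw [hE, deg_zsmul, hdegp] at hdegE
  omega

omit [PerfectField k] [CharP k 2] [Algebra.IsSeparable (RatFunc k) K] in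
include hdeg in
/-- a function of `k(x)` with the right orders gives a regular differential -/
theorem alg_mem_L {C : Divisor k K}
    (hfinC : ∀ Q : Place k K, Q.1 (xK k K) ≤ 1 → C Q = Q.ord (polyK K (qpoly B d)))
    (hinfC : ∀ Q : Place k K, 1 < Q.1 (xK k K) → Q.ord (xK k K) = -1 ∧ C Q = -2 ∧
      Q.ord (polyK K (qpoly B d)) = -((qpoly B d).natDegree : ℤ))
    {r : RatFunc k} (hr0 : r ≠ 0)
    (hfin : ∀ p : Place k (RatFunc k), p.1 RatFunc.X ≤ 1 →
      0 ≤ p.ord r + p.ord (algebraMap k[X] (RatFunc k) (qpoly B d)))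
    (hinf : ∀ p : Place k (RatFunc k), p.ord (RatFunc.X : RatFunc k) < 0 → 2 ≤ p.ord r) :
    algebraMap (RatFunc k) K r ∈ L C := by
  have hfd : FiniteDimensional (RatFunc k) K := Module.finite_of_finrank_pos (by omega)
  have hKr := isFunctionField_ratFunc (k := k)
  intro Q
  have hz0 : algebraMap (RatFunc k) K r ≠ 0 := by
    rw [Ne, map_eq_zero]
    exact hr0
  rw [val_le_exp_iff Q hz0]
  obtain ⟨p, e, he⟩ := exists_isOverWith (K' := K) hKr.1 Q
  have hepos := isOverWith_pos he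
  by_cases hQ : Q.1 (xK k K) ≤ 1
  · have hX : p.1 RatFunc.X ≤ 1 := by
      by_contra hlt
      rw [not_le] at hlt
      have : 1 < Q.1 (xK k K) := by
        unfold xK
        rw [he]
        exact one_lt_pow₀ hlt (by omega)
      exact absurd hQ (not_le.mpr this)
    rw [hfinC Q hQ]
    unfold polyK
    rw [isOverWith_ord he, isOverWith_ord he]
    have := hfin p hX
    have h2 : (0 : ℤ) ≤ e * (p.ord r + p.ord (algebraMap k[X] (RatFunc k) (qpoly B d))) :=
      mul_nonneg (by positivity) this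
    rw [mul_add] at h2
    omega
  · rw [not_le] at hQ
    obtain ⟨h3, h4, h5⟩ := hinfC Q hQ
    have hpinf : p.ord (RatFunc.X : RatFunc k) < 0 := by
      have : Q.ord (xK k K) = e * p.ord (RatFunc.X : RatFunc k) := by
        unfold xK
        rw [isOverWith_ord he]
      rw [h3] at this
      by_contra hge
      rw [not_lt] at hge
      have : (0 : ℤ) ≤ e * p.ord (RatFunc.X : RatFunc k) := mul_nonneg (by positivity) hge
      omega
    have he1 : e = 1 := by
      have : Q.ord (xK k K) = e * p.ord (RatFunc.X : RatFunc k) := by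
        unfold xK
        rw [isOverWith_ord he]
      rw [h3, ord_X_of_pole p hpinf] at this
      have : (e : ℤ) = 1 := by omega
      exact_mod_cast this
    rw [h4, isOverWith_ord he, he1]
    have := hinf p hpinf
    push_cast
    omega

end main

section famord

variable {k : Type u} [Field k] (B : Finset k) (d : k → ℕ)

theorem fam_ne_zero (i) : fam B d i ≠ 0 := by
  rcases i with a | b
  · exact pow_ne_zero _ (inv_ne_zero (X_sub_C_ne_zero _))
  · refine div_ne_zero ?_ (mul_ne_zero RatFunc.X_ne_zero (X_sub_C_ne_zero _))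
    rw [Ne, map_eq_zero_iff _ RatFunc.C_injective]
    exact b.2

theorem ord_fam_inl (p : Place k (RatFunc k)) (a) :
    p.ord (fam B d (Sum.inl a)) =
      -(((a.1.2 + 1 : ℕ) : ℤ) * p.ord ((RatFunc.X : RatFunc k) - RatFunc.C (a.1.1 : k))) := by
  change p.ord (((RatFunc.X : RatFunc k) - RatFunc.C (a.1.1 : k))⁻¹ ^ (a.1.2 + 1)) = _
  rw [ord_pow, ord_inv]
  ring

theorem ord_fam_inr (p : Place k (RatFunc k)) (b) :
    p.ord (fam B d (Sum.inr b)) =
      -p.ord (RatFunc.X : RatFunc k) - p.ord ((RatFunc.X : RatFunc k) - RatFunc.C (b.1 : k)) := by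
  change p.ord (RatFunc.C (b.1 : k) / ((RatFunc.X : RatFunc k) *
      ((RatFunc.X : RatFunc k) - RatFunc.C (b.1 : k)))) = _
  have hC0 : RatFunc.C (b.1 : k) ≠ (0 : RatFunc k) := by
    rw [Ne, map_eq_zero_iff _ RatFunc.C_injective]
    exact b.2
  have hCo : p.ord (RatFunc.C (b.1 : k) : RatFunc k) = 0 := by
    have hC : RatFunc.C (b.1 : k) = algebraMap k (RatFunc k) (b.1 : k) := by
      rw [RatFunc.algebraMap_eq_C]
    unfold Place.ord
    rw [hC, val_algebraMap p b.2, log_one, neg_zero]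
  rw [div_eq_mul_inv, ord_mul p hC0 (inv_ne_zero (mul_ne_zero RatFunc.X_ne_zero
    (X_sub_C_ne_zero _))), ord_inv, ord_mul p RatFunc.X_ne_zero (X_sub_C_ne_zero _), hCo]
  ring

variable (h0 : (0 : k) ∈ B) (hd : ∀ β ∈ B, Odd (d β))

include h0 hd in
theorem fam_finite (i) (p : Place k (RatFunc k)) (hX : p.1 RatFunc.X ≤ 1) :
    0 ≤ p.ord (fam B d i) + p.ord (algebraMap k[X] (RatFunc k) (qpoly B d)) := by
  have hqnn : 0 ≤ p.ord (algebraMap k[X] (RatFunc k) (qpoly B d)) :=
    (val_le_one_iff p (alg_ne_zero (qpoly_ne_zero B d))).mp (val_alg_le_one p hX _)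
  rcases i with a | b
  · rw [ord_fam_inl]
    by_cases hlt : p.1 ((RatFunc.X : RatFunc k) - RatFunc.C (a.1.1 : k)) < 1
    · rw [ord_X_sub_C_of_lt p _ hlt, ord_qpoly_of_lt B d p a.1.1.2 hlt]
      have := a.2.2
      push_cast
      omega
    · rw [ord_X_sub_C_of_not_lt p _ hX hlt, mul_zero, neg_zero, zero_add]
      exact hqnn
  · rw [ord_fam_inr]
    have hb0 : (b.1 : k) ≠ 0 := b.2
    by_cases hlt0 : p.1 (RatFunc.X : RatFunc k) < 1
    · have hlt0' : p.1 ((RatFunc.X : RatFunc k) - RatFunc.C 0) < 1 := by rwa [← X_eq]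
      have h1 : p.ord (RatFunc.X : RatFunc k) = 1 := by
        have := ord_X_sub_C_of_lt p 0 hlt0'
        rwa [← X_eq] at this
      have h2 : p.ord ((RatFunc.X : RatFunc k) - RatFunc.C (b.1 : k)) = 0 := by
        unfold Place.ord
        rw [val_X_sub_C_of_ne p (Ne.symm hb0) hlt0', log_one, neg_zero]
      have h3 := ord_qpoly_of_lt B d p h0 hlt0'
      have := (hd 0 h0).pos
      rw [h1, h2, h3]
      push_cast
      omega
    · have h1 : p.ord (RatFunc.X : RatFunc k) = 0 := by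
        have := ord_X_sub_C_of_not_lt p 0 hX (by rwa [← X_eq])
        rwa [← X_eq] at this
      by_cases hlt : p.1 ((RatFunc.X : RatFunc k) - RatFunc.C (b.1 : k)) < 1
      · have h3 := ord_qpoly_of_lt B d p b.1.2 hlt
        have := (hd _ b.1.2).pos
        rw [h1, ord_X_sub_C_of_lt p _ hlt, h3]
        push_cast
        omega
      · rw [h1, ord_X_sub_C_of_not_lt p _ hX hlt]
        omega

theorem fam_infinite (i) (p : Place k (RatFunc k)) (hinf : p.ord (RatFunc.X : RatFunc k) < 0) :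
    2 ≤ p.ord (fam B d i) := by
  rcases i with a | b
  · rw [ord_fam_inl, ord_X_sub_C_of_pole p _ hinf]
    have := a.2.1
    push_cast
    omega
  · rw [ord_fam_inr, ord_X_sub_C_of_pole p _ hinf, ord_X_of_pole p hinf]
    omega

end famord

section final

variable {k : Type u} {K : Type v} [Field k] [PerfectField k] [CharP k 2] [Field K] [Algebra k K]
  [Algebra (RatFunc k) K] [IsScalarTower k (RatFunc k) K] [Algebra.IsSeparable (RatFunc k) K]
  (hK : IsFunctionField k K) (hdeg : finrank (RatFunc k) K = 2) {y : K}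
  (hy : y ∉ Set.range (algebraMap (RatFunc k) K)) {f : RatFunc k}
  (heq : y ^ 2 + y = algebraMap (RatFunc k) K f)
  (B : Finset k) (h0 : (0 : k) ∈ B) (d : k → ℕ) (hd : ∀ β ∈ B, Odd (d β))
  (hpole : ∀ (p : Place k (RatFunc k)) (β : k), β ∈ B →
      p.1 ((RatFunc.X : RatFunc k) - RatFunc.C β) < 1 → p.ord f = -(d β : ℤ))
  (hint : ∀ p : Place k (RatFunc k),
    (∀ β ∈ B, 1 ≤ p.1 ((RatFunc.X : RatFunc k) - RatFunc.C β)) → p.1 f ≤ 1)
  (F : Place k K → Type w) [∀ P, Field (F P)] [∀ P, Algebra k (F P)]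
  [∀ P, FiniteDimensional k (F P)]
  (φ : ∀ P, K →ₐ[k] LaurentSeries (F P)) (hφ : ∀ P, IsExpansionAt P.1 (φ P))

include hK hdeg hy heq h0 hd hpole hint hφ in
/-- S19044 -/
theorem main :
    (∀ i P, vDiff (φ P) (algebraMap (RatFunc k) K (fam B d i)) (xK k K) ≤ 1) ∧
    LinearIndependent k (fun i => algebraMap (RatFunc k) K (fam B d i)) ∧
    ∀ z : K, (∀ P, vDiff (φ P) z (xK k K) ≤ 1) →
      z ∈ Submodule.span k (Set.range (fun i => algebraMap (RatFunc k) K (fam B d i))) := by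
  classical
  obtain ⟨C, hCcan, hmem, hfinC, hinfC⟩ :=
    exists_canon_data hK hdeg hy heq B d hd hpole hint F φ hφ
  obtain ⟨hell, -⟩ := isCanonical_ell_deg hK hCcan
  have hg := genus_eq hK hdeg B d hCcan hfinC hinfC
  have hmemL : ∀ i, algebraMap (RatFunc k) K (fam B d i) ∈ L C := fun i =>
    alg_mem_L hdeg B d hfinC hinfC (fam_ne_zero B d i) (fam_finite B d h0 hd i)
      (fam_infinite B d i)
  have hli : LinearIndependent k (fun i => algebraMap (RatFunc k) K (fam B d i)) := by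
    have := (linearIndependent_fam (B := B) (d := d)).map'
      (IsScalarTower.toAlgHom k (RatFunc k) K).toLinearMap
      (LinearMap.ker_eq_bot.mpr (algebraMap (RatFunc k) K).injective)
    exact this
  refine ⟨fun i => (hmem _).mpr (hmemL i), hli, ?_⟩
  intro z hz
  have hzL := (hmem z).mp hz
  haveI := finiteDimensional_L hK C
  letI : Fintype ({a : ↥B × ℕ // 1 ≤ a.2 ∧ 2 * a.2 + 1 ≤ d (a.1 : k)} ⊕
      {b : ↥B // (b : k) ≠ 0}) := Fintype.ofFinite _
  let b : ({a : ↥B × ℕ // 1 ≤ a.2 ∧ 2 * a.2 + 1 ≤ d (a.1 : k)} ⊕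
      {b : ↥B // (b : k) ≠ 0}) → L C := fun i => ⟨_, hmemL i⟩
  have hbli : LinearIndependent k b := by
    apply LinearIndependent.of_comp (L C).subtype
    exact hli
  have hcard : Fintype.card ({a : ↥B × ℕ // 1 ≤ a.2 ∧ 2 * a.2 + 1 ≤ d (a.1 : k)} ⊕
      {b : ↥B // (b : k) ≠ 0}) = finrank k (L C) := by
    have h1 := card_index B d h0 hd
    rw [Nat.card_eq_fintype_card] at h1
    have h2 : finrank k (L C) = genus k K := hell
    rw [h2]
    omega
  have hspan := hbli.span_eq_top_of_card_eq_finrank' hcard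
  have h3 : (⟨z, hzL⟩ : L C) ∈ Submodule.span k (Set.range b) := by
    rw [hspan]; exact Submodule.mem_top
  have h4 := Submodule.mem_map_of_mem (f := (L C).subtype) h3
  rw [Submodule.map_span, ← Set.range_comp] at h4
  exact h4

end final

end Groth.Agent.Lib.helper16.FAPF
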