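import Groth.Agent.Lib.helper16.FASR1

set_option autoImplicit false

namespace Groth.Agent.Lib.helper16.FASR

open FunFld WithZero Polynomial Module LocRes
open Groth.Agent.Lib.helper16 Groth.Agent.Lib.helper16.FF Groth.Agent.Lib.helper16.FX
  Groth.Agent.Lib.helper16.FR Groth.Agent.Lib.helper16.FA Groth.Agent.Lib.helper16.FHD
  Groth.Agent.Lib.helper16.FRW Groth.Agent.Lib.helper16.FH
open scoped IntermediateField LaurentSeries

universe u v w

section local'

variable {k : Type u} {K : Type v} [Field k] [Field K] [Algebra k K] [Algebra (RatFunc k) K]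
  [IsScalarTower k (RatFunc k) K] [Algebra.IsSeparable (RatFunc k) K]
  {F : Type w} [Field F] [Algebra k F] {P : Place k K} {φ : K →ₐ[k] F⸨X⸩}
  (hφ : IsExpansionAt P.1 φ)

include hφ in
/-- the differential of `x` does not vanish through any expansion -/
theorem D_xK_expand_ne_zero' : LocRes.D F (φ (xK k K)) ≠ 0 := by
  obtain ⟨t, ht⟩ := exists_uniformizer P
  have ht0 : t ≠ 0 := by
    rintro rfl
    rw [map_zero] at ht
    exact exp_ne_zero ht.symm
  have hto : P.ord t = 1 := by
    unfold Place.ord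
    rw [ht, log_exp]
    ring
  obtain ⟨hDt, -⟩ := D_ne_zero_of_ord hφ ht0 hto (by simp)
  obtain ⟨h, hh⟩ := exists_kaehler_smul' (k := k) t
  exact (ordDiff_chain hφ hh hDt).2.1

variable [PerfectField k] [CharP k 2] (hdeg : finrank (RatFunc k) K = 2) {y : K}
  (hy : y ∉ Set.range (algebraMap (RatFunc k) K)) {f : RatFunc k}
  (heq : y ^ 2 + y = algebraMap (RatFunc k) K f)
  (hodd : ∀ p : Place k (RatFunc k), 1 < p.1 f → Odd (p.ord f))
  {q : k[X]}
  (hq : ∀ p : Place k (RatFunc k), p.1 RatFunc.X ≤ 1 →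
      p.ord (algebraMap k[X] (RatFunc k) q) = if 1 < p.1 f then (1 - p.ord f) / 2 else 0)

include hφ hdeg hy heq hodd hq in
/-- at a finite place the order of `dx` is the order of `q` -/
theorem ordDiff_x_of_finite' (hx : P.1 (xK k K) ≤ 1) :
    ordDiff φ 1 (xK k K) = P.ord (polyK K q) := by
  have hfin : FiniteDimensional (RatFunc k) K := Module.finite_of_finrank_pos (by omega)
  have hKr := isFunctionField_ratFunc (k := k)
  haveI : CharP K 2 := charP_of_injective_algebraMap (algebraMap k K).injective 2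
  obtain ⟨P₀, e, he⟩ := exists_isOverWith (K' := K) hKr.1 P
  have hepos := isOverWith_pos he
  have hX : P₀.1 RatFunc.X ≤ 1 := by
    by_contra hlt
    rw [not_le] at hlt
    have : 1 < P.1 (xK k K) := by
      unfold xK
      rw [he]
      exact one_lt_pow₀ hlt (by omega)
    exact absurd hx (not_le.mpr this)
  obtain ⟨π, hπ, hπ1⟩ := exists_irreducible_of_finite P₀ hX
  have hint : ∀ g : k[X], P.1 (polyK K g) ≤ 1 := by
    intro g
    unfold polyK
    rw [he]
    exact pow_le_one' (val_alg_le_one P₀ hX g) e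
  have hDx := D_xK_expand_ne_zero' (k := k) hφ
  have hxnn : 0 ≤ ordDiff φ 1 (xK k K) := ordDiff_nonneg' hφ hDx hx
  have hπord : P.ord (polyK K π) = e := by
    unfold polyK
    rw [isOverWith_ord he, ord_alg_irreducible P₀ hπ hπ1, mul_one]
  have hπ0 : polyK K π ≠ 0 := by
    unfold polyK
    rw [Ne, map_eq_zero]
    exact alg_ne_zero hπ.ne_zero
  have hqord : P.ord (polyK K q) = e * P₀.ord (algebraMap k[X] (RatFunc k) q) := by
    unfold polyK
    rw [isOverWith_ord he]
  by_cases hpf : 1 < P₀.1 f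
  · -- ramified
    have hf0 : f ≠ 0 := by
      rintro rfl
      rw [map_zero] at hpf
      exact absurd hpf (not_lt.mpr zero_le)
    have hpole : P₀.ord f < 0 := (one_lt_val_iff P₀ hf0).mp hpf
    have hoddp := hodd P₀ hpf
    obtain ⟨h3, -⟩ := (unique_over_of_odd_pole hdeg heq P₀ hpole hoddp).2 P ⟨e, he⟩
    have he2 : e = 2 := (isOverWith_unique he h3).2
    subst he2
    have hyord : P.ord y = P₀.ord f := by
      have := two_mul_ord_y heq he (by norm_num) hpole
      push_cast at this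
      omega
    have hy0 : y ≠ 0 := by
      rintro rfl
      rw [ord_zero] at hyord
      omega
    rw [hqord, hq P₀ hX, if_pos hpf]
    -- derivative of f
    obtain ⟨c₀, hc₀⟩ := FASD.exists_kaehler_ratFunc (k := k) D_X_ne_zero f
    have hc₀ord : P₀.ord c₀ = P₀.ord f - 1 :=
      ord_deriv_of_pole P₀ hX hpole (FASD.intCast_ne_zero_of_odd hoddp) hc₀
    have hc₀0 : c₀ ≠ 0 := by
      rintro rfl
      rw [ord_zero] at hc₀ord
      omega
    have hDy : KaehlerDifferential.D k K y =
        algebraMap (RatFunc k) K c₀ • KaehlerDifferential.D k K (xK k K) := by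
      unfold xK
      rw [← FDE.kaehler_map hc₀, ← heq, map_add, Derivation.leibniz_pow]
      have h2K : (2 : K) = 0 := by
        have := CharP.cast_eq_zero K 2
        exact_mod_cast this
      have : (2 : ℕ) • y ^ (2 - 1) • KaehlerDifferential.D k K y = 0 := by
        rw [← Nat.cast_smul_eq_nsmul K]
        push_cast
        rw [h2K, zero_smul]
      rw [this, zero_add]
    set πK : K := polyK K π with hπK
    have hπKo : P.ord πK = 2 := by rw [hπord]; rfl
    obtain ⟨j, hj⟩ := hoddp
    have hjneg : j < 0 := by omega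
    obtain ⟨d, hd⟩ : ∃ d : ℕ, (d : ℤ) = -j := ⟨(-j).toNat, Int.toNat_of_nonneg (by omega)⟩
    have hd1 : 1 ≤ d := by omega
    set t : K := πK ^ d * y with ht
    have ht0 : t ≠ 0 := mul_ne_zero (pow_ne_zero _ hπ0) hy0
    have hto : P.ord t = 1 := by
      rw [ht, ord_mul P (pow_ne_zero _ hπ0) hy0, ord_pow, hπKo, hyord, hj]
      omega
    obtain ⟨hDt, hot⟩ := D_ne_zero_of_ord hφ ht0 hto (by simp)
    have hDtK : KaehlerDifferential.D k K t =
        (πK ^ d * algebraMap (RatFunc k) K c₀ +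
          y * ((d : K) * πK ^ (d - 1) * polyK K (derivative π))) •
          KaehlerDifferential.D k K (xK k K) := by
      rw [ht, Derivation.leibniz, hDy, Derivation.leibniz_pow, hπK, kaehler_polyK, add_smul,
        smul_smul, ← Nat.cast_smul_eq_nsmul K, smul_smul, smul_smul, smul_smul]
      congr 2
      ring
    obtain ⟨hH0, -, hchain⟩ := ordDiff_chain hφ hDtK hDt
    have hc₀K0 : algebraMap (RatFunc k) K c₀ ≠ 0 := by
      rw [Ne, map_eq_zero]
      exact hc₀0
    have hBord : P.ord (πK ^ d * algebraMap (RatFunc k) K c₀) = P₀.ord f - 1 := by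
      rw [ord_mul P (pow_ne_zero _ hπ0) hc₀K0, ord_pow, hπKo, isOverWith_ord he, hc₀ord, hj]
      push_cast
      omega
    have hB0 : πK ^ d * algebraMap (RatFunc k) K c₀ ≠ 0 :=
      mul_ne_zero (pow_ne_zero _ hπ0) hc₀K0
    have hπ'1 : P.1 (polyK K (derivative π)) = 1 := by
      unfold polyK
      rw [he, val_deriv_irreducible P₀ hπ hπ1, one_pow]
    have hπ'0 : polyK K (derivative π) ≠ 0 := by
      intro h0
      rw [h0, map_zero] at hπ'1
      exact zero_ne_one hπ'1
    have hπ'o : P.ord (polyK K (derivative π)) = 0 := by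
      unfold Place.ord
      rw [hπ'1, log_one, neg_zero]
    have hHord : P.ord (πK ^ d * algebraMap (RatFunc k) K c₀ +
          y * ((d : K) * πK ^ (d - 1) * polyK K (derivative π))) = P₀.ord f - 1 := by
      by_cases hdK : (d : K) = 0
      · rw [hdK, zero_mul, zero_mul, mul_zero, add_zero, hBord]
      · have hdk : (d : k) ≠ 0 := by
          intro h0
          apply hdK
          have : (d : K) = algebraMap k K (d : k) := by rw [map_natCast]
          rw [this, h0, map_zero]
        have hdo : P.ord (d : K) = 0 := by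
          have : (d : K) = algebraMap k K (d : k) := by rw [map_natCast]
          unfold Place.ord
          rw [this, val_algebraMap P hdk, log_one, neg_zero]
        have hA0 : y * ((d : K) * πK ^ (d - 1) * polyK K (derivative π)) ≠ 0 :=
          mul_ne_zero hy0 (mul_ne_zero (mul_ne_zero hdK (pow_ne_zero _ hπ0)) hπ'0)
        have hAord : P.ord (y * ((d : K) * πK ^ (d - 1) * polyK K (derivative π))) =
            P₀.ord f + 2 * ((d : ℤ) - 1) := by
          rw [ord_mul P hy0 (mul_ne_zero (mul_ne_zero hdK (pow_ne_zero _ hπ0)) hπ'0),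
            ord_mul P (mul_ne_zero hdK (pow_ne_zero _ hπ0)) hπ'0,
            ord_mul P hdK (pow_ne_zero _ hπ0), ord_pow, hπKo, hyord, hdo, hπ'o]
          push_cast [hd1]
          ring
        have hlt : P.1 (y * ((d : K) * πK ^ (d - 1) * polyK K (derivative π))) <
            P.1 (πK ^ d * algebraMap (RatFunc k) K c₀) := by
          rw [val_eq_exp_neg_ord P hA0, val_eq_exp_neg_ord P hB0, exp_lt_exp, hAord, hBord]
          omega
        unfold Place.ord
        rw [Valuation.map_add_eq_of_lt_left _ hlt]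
        exact hBord
    rw [hot, hHord] at hchain
    push_cast
    omega
  · -- unramified
    have hfo : 0 ≤ P₀.ord f := by
      by_cases hf0 : f = 0
      · rw [hf0, ord_zero]
      · rw [not_lt] at hpf
        exact (val_le_one_iff P₀ hf0).mp hpf
    have he1 : e = 1 := by
      have := unramified_of_no_pole hdeg hy heq P₀ hfo ⟨e, he⟩
      rwa [ramIdx_eq he] at this
    rw [hqord, hq P₀ hX, if_neg hpf, mul_zero]
    have hπord1 : P.ord (polyK K π) = 1 := by rw [hπord, he1]; rfl
    obtain ⟨hDπ, hoπ⟩ := D_ne_zero_of_ord hφ hπ0 hπord1 (by simp)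
    obtain ⟨hh0, -, hchain⟩ := ordDiff_chain hφ (kaehler_polyK (k := k) π) hDπ
    have : 0 ≤ P.ord (polyK K (derivative π)) := (val_le_one_iff P hh0).mp (hint _)
    omega

end local'

section infinite

variable {k : Type u} {K : Type v} [Field k] [Field K] [Algebra k K] [Algebra (RatFunc k) K]
  [IsScalarTower k (RatFunc k) K]
  {F : Type w} [Field F] [Algebra k F] {P : Place k K} {φ : K →ₐ[k] F⸨X⸩}
  (hφ : IsExpansionAt P.1 φ)
  [CharP k 2] (hdeg : finrank (RatFunc k) K = 2) {y : K}
  (hy : y ∉ Set.range (algebraMap (RatFunc k) K)) {f : RatFunc k}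
  (heq : y ^ 2 + y = algebraMap (RatFunc k) K f) {q : k[X]} (hq0 : q ≠ 0)

include hφ hdeg hy heq hq0 in
theorem pole_unram {P₀ : Place k (RatFunc k)} (hinf : P₀.ord (RatFunc.X : RatFunc k) < 0)
    (hf : 0 ≤ P₀.ord f) (hx : 1 < P.1 (xK k K)) :
    P.ord (xK k K) = -1 ∧ ordDiff φ 1 (xK k K) = -2 ∧
      P.ord (polyK K q) = -(q.natDegree : ℤ) := by
  have hfin : FiniteDimensional (RatFunc k) K := Module.finite_of_finrank_pos (by omega)
  obtain ⟨P₀', e, he, hinf'⟩ := exists_isOverWith_pole hdeg hx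
  have h5 : P₀' = P₀ := eq_of_pole P₀' P₀ hinf' hinf
  rw [h5] at he
  have he1 : e = 1 := by
    have := unramified_of_no_pole hdeg hy heq P₀ hf ⟨e, he⟩
    rwa [ramIdx_eq he] at this
  have hxo : P.ord (xK k K) = -1 := by
    unfold xK
    rw [isOverWith_ord he, ord_X_of_pole P₀ hinf, he1]
    rfl
  obtain ⟨-, hod⟩ := D_ne_zero_of_ord hφ xK_ne_zero hxo (by simp)
  refine ⟨hxo, by rw [hod]; rfl, ?_⟩
  unfold polyK
  rw [isOverWith_ord he, ord_alg_of_pole P₀ hinf hq0, ord_X_of_pole P₀ hinf, he1]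
  push_cast
  ring

include hdeg heq hq0 in
theorem pole_ram {P₀ : Place k (RatFunc k)} (hinf : P₀.ord (RatFunc.X : RatFunc k) < 0)
    (hpole : P₀.ord f < 0) (hodd : Odd (P₀.ord f)) (hx : 1 < P.1 (xK k K)) :
    P.ord (xK k K) = -2 ∧ P.ord (polyK K q) = -(2 * (q.natDegree : ℤ)) ∧ P.deg = 1 ∧
      ∀ P' : Place k K, 1 < P'.1 (xK k K) → P' = P := by
  have hfin : FiniteDimensional (RatFunc k) K := Module.finite_of_finrank_pos (by omega)
  obtain ⟨P₀', e, he, hinf'⟩ := exists_isOverWith_pole hdeg hx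
  have h5 : P₀' = P₀ := eq_of_pole P₀' P₀ hinf' hinf
  rw [h5] at he
  obtain ⟨huniq, hall⟩ := unique_over_of_odd_pole hdeg heq P₀ hpole hodd
  obtain ⟨h3, h4⟩ := hall P ⟨e, he⟩
  have he2 : e = 2 := (isOverWith_unique he h3).2
  refine ⟨?_, ?_, ?_, ?_⟩
  · unfold xK
    rw [isOverWith_ord he, ord_X_of_pole P₀ hinf, he2]
    rfl
  · unfold polyK
    rw [isOverWith_ord he, ord_alg_of_pole P₀ hinf hq0, ord_X_of_pole P₀ hinf, he2]
    push_cast
    ring
  · rw [h4, deg_of_pole P₀ hinf]
  · intro P' hP'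
    obtain ⟨P₀'', e', he', hinf''⟩ := exists_isOverWith_pole hdeg hP'
    have h6 : P₀'' = P₀ := eq_of_pole P₀'' P₀ hinf'' hinf
    rw [h6] at he'
    exact huniq.unique ⟨e', he'⟩ ⟨e, he⟩

end infinite

section global

variable {k : Type u} {K : Type v} [Field k] [Field K] [Algebra k K] [Algebra (RatFunc k) K]
  [IsScalarTower k (RatFunc k) K] [Algebra.IsSeparable (RatFunc k) K]
  (hK : IsFunctionField k K)
  (F : Place k K → Type w) [∀ P, Field (F P)] [∀ P, Algebra k (F P)]
  [∀ P, FiniteDimensional k (F P)]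
  (φ : ∀ P, K →ₐ[k] LaurentSeries (F P)) (hφ : ∀ P, IsExpansionAt P.1 (φ P))

include hK hφ in
theorem exists_canon'' : ∃ C : Divisor k K, IsCanonical k K C ∧
    (∀ P, C P = ordDiff (φ P) 1 (xK k K)) ∧
    ∀ (P : Place k K) (z : K), vDiff (φ P) z (xK k K) = P.1 z * exp (-(C P)) := by
  have hser : ∀ P, ser (φ P) 1 (xK k K) ≠ 0 := by
    intro P
    unfold ser
    rw [map_one, one_mul]
    exact D_xK_expand_ne_zero' (k := k) (hφ P)
  have hsep : ∃ P : Place k K, Algebra.IsSeparable k (IsLocalRing.ResidueField P.O) :=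
    (FSPl.main' hK (xK k K) transcendental_xK isSeparable_adjoin).nonempty
  obtain ⟨C, hCdiv, hC⟩ := exists_isDivOf_omega' hK F φ hφ hser hsep
  refine ⟨C, ⟨_, omega_ne_zero' hK F φ hφ hser hsep, hCdiv⟩, hC, ?_⟩
  intro P z
  have h1 := val_ser (φ P) (hser P)
  rw [← hC P] at h1
  rw [← h1, ← (hφ P).1 z, ← map_mul]
  unfold vDiff ser
  rw [map_one, one_mul]

variable [PerfectField k] [CharP k 2] (hdeg : finrank (RatFunc k) K = 2) {y : K}
  (hy : y ∉ Set.range (algebraMap (RatFunc k) K)) {f : RatFunc k}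
  (heq : y ^ 2 + y = algebraMap (RatFunc k) K f)
  (hodd : ∀ p : Place k (RatFunc k), 1 < p.1 f → Odd (p.ord f))
  {q : k[X]} (hq0 : q ≠ 0)
  (hq : ∀ p : Place k (RatFunc k), p.1 RatFunc.X ≤ 1 →
      p.ord (algebraMap k[X] (RatFunc k) q) = if 1 < p.1 f then (1 - p.ord f) / 2 else 0)

include hK hφ hdeg hy heq hodd hq0 hq in
theorem ord_add_nonneg' {C : Divisor k K} (hC : ∀ P, C P = ordDiff (φ P) 1 (xK k K))
    (hCdeg : C.deg = 2 * (genus k K : ℤ) - 2) (i : ℕ) (hi : i < genus k K) (P : Place k K) :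
    0 ≤ (i : ℤ) * P.ord (xK k K) - P.ord (polyK K q) + C P := by
  have hfin : FiniteDimensional (RatFunc k) K := Module.finite_of_finrank_pos (by omega)
  have hdegE : (C - FunFld.div k (polyK K q)).deg = 2 * (genus k K : ℤ) - 2 := by
    rw [deg_sub, deg_div_eq_zero hK, sub_zero, hCdeg]
  have hfinite : ∀ Q : Place k K, Q.1 (xK k K) ≤ 1 →
      C Q = Q.ord (polyK K q) ∧ 0 ≤ Q.ord (xK k K) := by
    intro Q hQ
    exact ⟨by rw [hC Q]; exact ordDiff_x_of_finite' (hφ Q) hdeg hy heq hodd hq hQ,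
      (val_le_one_iff Q xK_ne_zero).mp hQ⟩
  obtain ⟨Pinf, hPinf⟩ := exists_place_one_lt hK (xK_not_mem_range (k := k) (K := K))
  obtain ⟨P₀, e₀, he₀, hinf⟩ := exists_isOverWith_pole hdeg hPinf
  by_cases hpf : 1 < P₀.1 f
  · have hf0 : f ≠ 0 := by
      rintro rfl
      rw [map_zero] at hpf
      exact absurd hpf (not_lt.mpr zero_le)
    have hpole : P₀.ord f < 0 := (one_lt_val_iff P₀ hf0).mp hpf
    obtain ⟨h3, h4, h5, h6⟩ := pole_ram hdeg heq hq0 hinf hpole (hodd P₀ hpf) hPinf
    have hE : C - FunFld.div k (polyK K q) =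
        Finsupp.single Pinf (C Pinf - Pinf.ord (polyK K q)) := by
      ext Q
      rw [Finsupp.sub_apply, div_apply hK]
      by_cases hQ : Q = Pinf
      · rw [hQ, Finsupp.single_eq_same]
      · rw [Finsupp.single_eq_of_ne hQ]
        have hQ1 : Q.1 (xK k K) ≤ 1 := by
          by_contra hlt
          rw [not_le] at hlt
          exact hQ (h6 Q hlt)
        rw [(hfinite Q hQ1).1, sub_self]
    rw [hE, deg_single, h5] at hdegE
    by_cases hQ : P.1 (xK k K) ≤ 1
    · obtain ⟨h7, h8⟩ := hfinite P hQ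
      rw [h7]
      have : 0 ≤ (i : ℤ) * P.ord (xK k K) := mul_nonneg (by exact_mod_cast Nat.zero_le i) h8
      omega
    · rw [not_le] at hQ
      have hPP : P = Pinf := h6 P hQ
      rw [hPP, h3]
      have hi' : (i : ℤ) < genus k K := by exact_mod_cast hi
      push_cast at hdegE
      omega
  · have hfo : 0 ≤ P₀.ord f := by
      by_cases hf0 : f = 0
      · rw [hf0, ord_zero]
      · rw [not_lt] at hpf
        exact (val_le_one_iff P₀ hf0).mp hpf
    have hE : C - FunFld.div k (polyK K q) =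
        ((q.natDegree : ℤ) - 2) • poleDiv k (xK k K) := by
      ext Q
      rw [Finsupp.sub_apply, div_apply hK, Finsupp.smul_apply, poleDiv_apply hK, smul_eq_mul]
      by_cases hQ : Q.1 (xK k K) ≤ 1
      · obtain ⟨h3, h4⟩ := hfinite Q hQ
        rw [h3, sub_self, max_eq_right (by omega), mul_zero]
      · rw [not_le] at hQ
        obtain ⟨h3, h4, h5⟩ := pole_unram (hφ Q) hdeg hy heq hq0 hinf hfo hQ
        rw [hC Q, h4, h3, h5, neg_neg, max_eq_left (by omega), mul_one]
        ring
    have hdegp : (poleDiv k (xK k K)).deg = 2 := by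
      rw [deg_poleDiv_eq hK xK_not_mem_range, finrank_adjoin, hdeg]
      rfl
    rw [hE, deg_zsmul, hdegp] at hdegE
    by_cases hQ : P.1 (xK k K) ≤ 1
    · obtain ⟨h3, h4⟩ := hfinite P hQ
      rw [h3]
      have : 0 ≤ (i : ℤ) * P.ord (xK k K) := mul_nonneg (by exact_mod_cast Nat.zero_le i) h4
      omega
    · rw [not_le] at hQ
      obtain ⟨h3, h4, h5⟩ := pole_unram (hφ P) hdeg hy heq hq0 hinf hfo hQ
      rw [hC P, h4, h3, h5]
      have hi' : (i : ℤ) < genus k K := by exact_mod_cast hi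
      omega

include hK hφ hdeg hy heq hodd hq0 hq in
/-- S12587 -/
theorem main :
    (∀ i : ℕ, i < genus k K → ∀ P, vDiff (φ P) (xK k K ^ i / polyK K q) (xK k K) ≤ 1) ∧
    ∀ z : K, (∀ P, vDiff (φ P) z (xK k K) ≤ 1) →
      ∃ a : k[X], a.degree < (genus k K : WithBot ℕ) ∧ z = polyK K a / polyK K q := by
  obtain ⟨C, hCcan, hC, hC3⟩ := exists_canon'' hK F φ hφ
  obtain ⟨hell, hCdeg⟩ := isCanonical_ell_deg hK hCcan
  have hy0 : polyK K q ≠ 0 := by
    unfold polyK
    rw [Ne, map_eq_zero]
    exact alg_ne_zero hq0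
  have hmem : ∀ z : K, (∀ P, vDiff (φ P) z (xK k K) ≤ 1) ↔ z ∈ L C := by
    intro z
    constructor
    · intro h P
      have h1 := h P
      rw [hC3 P z] at h1
      have h2' := (mul_exp_le_iff P z (C P) 0).mp (by rwa [neg_zero, exp_zero])
      rwa [sub_zero] at h2'
    · intro h P
      rw [hC3 P z]
      have h1 := (mul_exp_le_iff P z (C P) 0).mpr (by rw [sub_zero]; exact h P)
      rwa [neg_zero, exp_zero] at h1
  have hpart1 : ∀ i, i < genus k K → xK k K ^ i / polyK K q ∈ L C := by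
    intro i hi P
    have hz0 : xK k K ^ i / polyK K q ≠ 0 := div_ne_zero (pow_ne_zero _ xK_ne_zero) hy0
    rw [val_le_exp_iff P hz0]
    have h1 := ord_add_nonneg' hK F φ hφ hdeg hy heq hodd hq0 hq hC hCdeg i hi P
    rw [div_eq_mul_inv, ord_mul P (pow_ne_zero _ xK_ne_zero) (inv_ne_zero hy0), ord_inv, ord_pow]
    omega
  refine ⟨fun i hi => (hmem _).mpr (hpart1 i hi), ?_⟩
  intro z hz
  have hzL := (hmem z).mp hz
  have hΨmem : ∀ a ∈ degreeLT k (genus k K), polyK K a / polyK K q ∈ L C := by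
    intro a ha
    by_cases ha0 : a = 0
    · rw [ha0]
      unfold polyK
      rw [map_zero, map_zero, zero_div]
      exact Submodule.zero_mem _
    have hdeg' : a.natDegree < genus k K := by
      rw [mem_degreeLT] at ha
      exact (natDegree_lt_iff_degree_lt ha0).mpr ha
    rw [polyK_eq_aeval a, aeval_eq_sum_range' hdeg', Finset.sum_div]
    apply Submodule.sum_mem
    intro i hi
    rw [smul_div_assoc]
    exact Submodule.smul_mem _ _ (hpart1 i (Finset.mem_range.mp hi))
  let Ψ : degreeLT k (genus k K) →ₗ[k] L C :=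
    { toFun := fun a => ⟨polyK K a.1 / polyK K q, hΨmem a.1 a.2⟩
      map_add' := fun a b => by
        apply Subtype.ext
        show polyK K (a.1 + b.1) / polyK K q = polyK K a.1 / polyK K q + polyK K b.1 / polyK K q
        rw [polyK_eq_aeval (a.1 + b.1), polyK_eq_aeval a.1, polyK_eq_aeval b.1, map_add, add_div]
      map_smul' := fun c a => by
        apply Subtype.ext
        show polyK K (c • a.1) / polyK K q = c • (polyK K a.1 / polyK K q)
        rw [polyK_eq_aeval (c • a.1), polyK_eq_aeval a.1, map_smul, smul_div_assoc] }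
  have hΨinj : Function.Injective Ψ := by
    rw [← LinearMap.ker_eq_bot, LinearMap.ker_eq_bot']
    intro a ha
    have h1 : polyK K a.1 / polyK K q = 0 := congrArg Subtype.val ha
    rw [div_eq_zero_iff] at h1
    rcases h1 with h1 | h1
    · apply Subtype.ext
      unfold polyK at h1
      rw [map_eq_zero, map_eq_zero_iff _ (RatFunc.algebraMap_injective k)] at h1
      exact h1
    · exact absurd h1 hy0
  haveI := finiteDimensional_L hK C
  have hsurj : Function.Surjective Ψ :=
    (LinearMap.injective_iff_surjective_of_finrank_eq_finrank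
      (by rw [FHG.finrank_degreeLT]; exact hell.symm)).mp hΨinj
  obtain ⟨a, ha⟩ := hsurj ⟨z, hzL⟩
  exact ⟨a.1, mem_degreeLT.mp a.2, (congrArg Subtype.val ha).symm⟩

end global

end Groth.Agent.Lib.helper16.FASR
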