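import Groth.Agent.Lib.helper16.FWeierPts2

/-! Helper library (helper16): finiteness of the automorphism group in genus `> 1` (S11048). -/

set_option autoImplicit false

namespace Groth.Agent.Lib.helper16.FAF

open FunFld WithZero LocRes Module
open scoped IntermediateField
open Groth.Agent.Lib.helper16

universe u v

variable {k : Type u} {K : Type v} [Field k] [Field K] [Algebra k K]

theorem comapPlace_inj (σ : K ≃ₐ[k] K) {P Q : Place k K}
    (h : FF.comapPlace σ P = FF.comapPlace σ Q) : P = Q := by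
  have := congrArg (FF.comapPlace σ.symm) h
  rwa [FF.comapPlace_symm_comapPlace, FF.comapPlace_symm_comapPlace] at this

/-- `L(m·σ^*P)` is the preimage of `L(m·P)` under `σ` -/
theorem mem_L_single_comapPlace (σ : K ≃ₐ[k] K) (P : Place k K) (m : ℤ) (x : K) :
    x ∈ L (Finsupp.single (FF.comapPlace σ P) m : Divisor k K) ↔
      σ x ∈ L (Finsupp.single P m : Divisor k K) := by
  classical
  constructor
  · intro h Q
    have h1 := h (FF.comapPlace σ Q)
    rw [FF.comapPlace_val] at h1
    by_cases hQ : Q = P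
    · rw [hQ, Finsupp.single_eq_same] at h1
      rw [hQ, Finsupp.single_eq_same]
      exact h1
    · have hne : FF.comapPlace σ Q ≠ FF.comapPlace σ P := fun he => hQ (comapPlace_inj σ he)
      rw [Finsupp.single_eq_of_ne hne] at h1
      rw [Finsupp.single_eq_of_ne hQ]
      exact h1
  · intro h Q'
    have h1 := h (FF.comapPlace σ.symm Q')
    rw [FF.comapPlace_val, σ.symm_apply_apply] at h1
    by_cases hQ : Q' = FF.comapPlace σ P
    · rw [hQ, FF.comapPlace_symm_comapPlace, Finsupp.single_eq_same] at h1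
      rw [hQ, Finsupp.single_eq_same]
      exact h1
    · have hne : FF.comapPlace σ.symm Q' ≠ P := by
        intro he
        apply hQ
        rw [← he, FF.comapPlace_comapPlace_symm]
      rw [Finsupp.single_eq_of_ne hne] at h1
      rw [Finsupp.single_eq_of_ne hQ]
      exact h1

theorem gap_comapPlace (σ : K ≃ₐ[k] K) (P : Place k K) (m m' : ℤ)
    (h : L (Finsupp.single P m : Divisor k K) = L (Finsupp.single P m')) :
    L (Finsupp.single (FF.comapPlace σ P) m : Divisor k K) =
      L (Finsupp.single (FF.comapPlace σ P) m') := by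
  ext x
  rw [mem_L_single_comapPlace, mem_L_single_comapPlace, h]

/-- the automorphisms fixing a function `x` with `[K : k(x)] = 2` form a finite set -/
theorem finite_fixing (x : K) (hx : Module.finrank k⟮x⟯ K = 2) :
    {σ : K ≃ₐ[k] K | σ x = x}.Finite := by
  have hfd : FiniteDimensional k⟮x⟯ K := Module.finite_of_finrank_pos (by omega)
  let f : ↥{σ : K ≃ₐ[k] K | σ x = x} → (K ≃ₐ[k⟮x⟯] K) := fun σ =>
    { (σ.1 : K ≃+* K) with commutes' := fun z => FWPts.fixes_adjoin σ.1 σ.2 z.2 }
  have hf : Function.Injective f := by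
    intro σ τ h
    apply Subtype.ext
    ext z
    exact congrArg (fun e : K ≃ₐ[k⟮x⟯] K => e z) h
  exact Set.finite_coe_iff.mp (Finite.of_injective f hf)

section main

variable [IsAlgClosed k]
variable (hK : IsFunctionField k K) (hg : 1 < genus k K)
  (hchar : ringChar k = 0 ∨ 2 * genus k K - 2 < ringChar k)
  {C : Divisor k K} (hC : IsCanonical k K C)
  {n : ℕ} (φ : Fin (n + 1) → K) (hφ : LinearIndependent k φ)
  (hspan : Submodule.span k (Set.range φ) = L C)
  {s : K} {H : K →ₐ[k] PowerSeries K} (hH : IsHasseFamily s H)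
  (J : Fin n → ℕ) (hJ : IsOrders K (hcol (AlgHom.id k K) H φ) J)
  (Φ : Place k K → (K →ₐ[k] LaurentSeries k))
  (hΦ : ∀ P : Place k K, IsExpansionAt P.1 (Φ P))

include hK hg hchar hC hφ hspan hH hJ hΦ

/-- the Weierstrass points are the places where some `j + 1`, `1 ≤ j < g`, is not a gap -/
theorem wDiv_ne_zero_iff (P : Place k K) :
    wDiv (AlgHom.id k K) H Φ s φ J P ≠ 0 ↔
      ∃ j : ℕ, 1 ≤ j ∧ j ≤ n ∧
        L (Finsupp.single P ((j : ℤ) + 1) : Divisor k K) ≠ L (Finsupp.single P (j : ℤ)) := by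
  classical
  obtain ⟨J', hmono, hpos, hgap, hW⟩ :=
    FWPts.weight_at hK hg hchar hC φ hφ hspan P hH J hJ Φ hΦ
  have hge : ∀ (m : ℕ) (h : m < n), m + 1 ≤ J' ⟨m, h⟩ := by
    intro m
    induction m with
    | zero => intro h; exact hpos _
    | succ m ih =>
      intro h
      have h1 := ih (by omega)
      have h2 : J' ⟨m, by omega⟩ < J' ⟨m + 1, h⟩ := hmono (by simp [Fin.lt_def])
      omega
  rw [hW]
  constructor
  · intro hne
    by_contra hall
    push Not at hall
    apply hne
    have hJ'eq : ∀ (m : ℕ) (h : m < n), J' ⟨m, h⟩ = m + 1 := by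
      intro m
      induction m using Nat.strong_induction_on with
      | _ m ih =>
        intro h
        have h1 : m + 1 ∈ Set.range J' := by
          rw [hgap (m + 1) (by omega)]
          have := hall (m + 1) (by omega) (by omega)
          exact_mod_cast this
        obtain ⟨⟨l, hl⟩, hl'⟩ := h1
        have h2 := hge m h
        rcases lt_or_ge l m with hlt | hle
        · have := ih l hlt hl
          omega
        · have h3 : J' ⟨m, h⟩ ≤ J' ⟨l, hl⟩ := hmono.monotone (by simp [Fin.le_def]; exact hle)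
          omega
    apply Finset.sum_eq_zero
    intro l _
    rw [show l = ⟨l.1, l.2⟩ from rfl, hJ'eq l.1 l.2]
    push_cast
    ring
  · rintro ⟨j, hj1, hjn, hne⟩ hsum
    have hnn : ∀ l ∈ Finset.univ, (0 : ℤ) ≤ (J' l : ℤ) - (((l : ℕ) : ℤ) + 1) := by
      intro l _
      have := hge l.1 l.2
      have h1 : ((l.1 : ℤ) + 1) ≤ (J' ⟨l.1, l.2⟩ : ℤ) := by exact_mod_cast this
      have h2 : (⟨l.1, l.2⟩ : Fin n) = l := rfl
      rw [h2] at h1
      linarith
    have hall := (Finset.sum_eq_zero_iff_of_nonneg hnn).mp hsum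
    apply hne
    apply (hgap j hj1).mp
    refine ⟨⟨j - 1, by omega⟩, ?_⟩
    have h1 := hall ⟨j - 1, by omega⟩ (Finset.mem_univ _)
    have h2 : (J' ⟨j - 1, by omega⟩ : ℤ) = ((j - 1 : ℕ) : ℤ) + 1 := by
      simp only at h1
      linarith
    have h3 : J' ⟨j - 1, by omega⟩ = (j - 1) + 1 := by exact_mod_cast h2
    rw [h3]
    omega

/-- the set of Weierstrass points is stable under automorphisms -/
theorem wDiv_comapPlace_ne_zero (σ : K ≃ₐ[k] K) (P : Place k K)
    (hP : wDiv (AlgHom.id k K) H Φ s φ J P ≠ 0) :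
    wDiv (AlgHom.id k K) H Φ s φ J (FF.comapPlace σ P) ≠ 0 := by
  rw [wDiv_ne_zero_iff hK hg hchar hC φ hφ hspan hH J hJ Φ hΦ] at hP ⊢
  obtain ⟨j, h1, h2, h3⟩ := hP
  refine ⟨j, h1, h2, fun heq => h3 ?_⟩
  have := gap_comapPlace σ.symm (FF.comapPlace σ P) _ _ heq
  rwa [FF.comapPlace_symm_comapPlace] at this

/-- finiteness of the automorphism group, given Weierstrass data -/
theorem finite_aut_aux : Finite (K ≃ₐ[k] K) := by
  classical
  set W := wDiv (AlgHom.id k K) H Φ s φ J with hW
  -- the kernel of the action on Weierstrass points is finite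
  have hker : {σ : K ≃ₐ[k] K | ∀ P : Place k K, W P ≠ 0 →
      IsFixedPt (σ : K →ₐ[k] K) P}.Finite := by
    rcases FWPts.dichotomy hK hg hchar hC φ hφ hspan hH J hJ Φ hΦ with ⟨-, h1⟩ | ⟨-, x, hx, h2⟩
    · apply (Set.finite_singleton (AlgEquiv.refl : K ≃ₐ[k] K)).subset
      intro σ hσ
      exact h1 σ hσ
    · apply (finite_fixing x hx).subset
      intro σ hσ
      exact (h2 σ).mp hσ
  -- the action
  let ρ : (K ≃ₐ[k] K) → (W.support → W.support) := fun σ P =>
    ⟨FF.comapPlace σ P.1, Finsupp.mem_support_iff.mpr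
      (wDiv_comapPlace_ne_zero hK hg hchar hC φ hφ hspan hH J hJ Φ hΦ σ P.1
        (Finsupp.mem_support_iff.mp P.2))⟩
  rw [← Set.finite_univ_iff]
  apply Set.Finite.of_finite_fibers ρ (Set.toFinite _)
  rintro f ⟨σ₀, -, rfl⟩
  apply (hker.image (fun τ => σ₀.trans τ)).subset
  rintro σ ⟨-, hσ⟩
  have hσ' : ρ σ = ρ σ₀ := hσ
  refine ⟨σ₀.symm.trans σ, ?_, ?_⟩
  · intro P hP z hz
    have h1 : FF.comapPlace σ P = FF.comapPlace σ₀ P :=
      congrArg Subtype.val (congrFun hσ' ⟨P, Finsupp.mem_support_iff.mpr hP⟩)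
    show P.1 (σ (σ₀.symm z)) < 1
    rw [← FF.comapPlace_val σ P, h1, FF.comapPlace_val, σ₀.apply_symm_apply]
    exact hz
  · ext z
    show σ (σ₀.symm (σ₀ z)) = σ z
    rw [σ₀.symm_apply_apply]

end main

/-- S11048 -/
theorem finite_aut [IsAlgClosed k] (hK : IsFunctionField k K) (hg : 1 < genus k K)
    (hp : ringChar k = 0 ∨ 2 * genus k K - 2 < ringChar k) : Finite (K ≃ₐ[k] K) := by
  classical
  have hgeo := FG.isGeometric_of_perfectField k K hK.2
  obtain ⟨P₀⟩ := FF.nonempty_place hK
  obtain ⟨t, ht⟩ := FF.exists_uniformizer P₀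
  have hDt := FWP.D_ne_zero_of_uniformizer hK P₀ ht
  have hsep := FHs.isSeparable_of_D_ne_zero hK hgeo hDt
  have htr : Transcendental k t := FS.transcendental_of_isSeparable hK hsep
  obtain ⟨Ht, hHt⟩ := FHE.exists_isHasseFamily_of_isSeparable t htr
  obtain ⟨C, hC⟩ := FF.exists_isCanonical hK
  obtain ⟨hell, -⟩ := FF.isCanonical_ell_deg hK hC
  obtain ⟨n, hn⟩ : ∃ n, genus k K = n + 1 := ⟨genus k K - 1, by omega⟩
  have hfd := FF.finiteDimensional_L hK C
  have hell' : Module.finrank k (L C) = n + 1 := by rw [← hn]; exact hell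
  let b := Module.finBasisOfFinrankEq k (L C) hell'
  set φ : Fin (n + 1) → K := fun i => (b i : K) with hφdef
  have hφ : LinearIndependent k φ :=
    b.linearIndependent.map' (L C).subtype (Submodule.ker_subtype _)
  have hspan : Submodule.span k (Set.range φ) = L C := by
    have h1 : Set.range φ = (L C).subtype '' Set.range b := by
      rw [← Set.range_comp]
      rfl
    rw [h1, Submodule.span_image, b.span_eq, Submodule.map_subtype_top]
  obtain ⟨J, hJ, -⟩ := FHs.exists_isOrders_det_ne_zero hK hgeo φ hφ (AlgHom.id k K) hHt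
  set Φ : Place k K → (K →ₐ[k] LaurentSeries k) := fun P => FHL.Φ hK P (FRG.htP P) with hΦdef
  have hΦ : ∀ P : Place k K, IsExpansionAt P.1 (Φ P) := fun P => FHL.isExp hK P (FRG.htP P)
  exact finite_aut_aux hK hg hp hC φ hφ hspan hHt J hJ Φ hΦ

end Groth.Agent.Lib.helper16.FAF
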