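import Groth.Agent.Lib.helper16.FWDivPos
import Groth.Agent.Lib.helper16.FFAdele

/-! Helper library (helper16): classical orders in characteristic `0` or `> deg φ` (S12611). -/

set_option autoImplicit false

namespace Groth.Agent.Lib.helper16.FCl

open FunFld WithZero LocRes
open Groth.Agent.Lib.helper16

universe u v

section binom

variable {k : Type u} [Field k]

/-- `∏ j! · det (C(x_i, j)) = Vandermonde determinant of the x_i` -/
theorem prod_factorial_mul_det_choose {n : ℕ} (x : Fin n → ℕ) :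
    (∏ j : Fin n, (((j : ℕ).factorial : ℕ) : k)) *
        (Matrix.of fun i j : Fin n => (((x i).choose j : ℕ) : k)).det =
      (Matrix.vandermonde fun i => (x i : k)).det := by
  rw [Matrix.det_eval_matrixOfPolynomials_eq_det_vandermonde (fun i => (x i : k))
    (fun j => descPochhammer k j) (fun j => descPochhammer_natDegree k j)
    (fun j => monic_descPochhammer k j), ← Matrix.det_mul_row]
  congr 1
  ext i j
  simp only [Matrix.of_apply]
  rw [descPochhammer_eval_eq_descFactorial, Nat.descFactorial_eq_factorial_mul_choose]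
  push_cast
  rfl

theorem natCast_injOn_of_char {d : ℕ} (hchar : ringChar k = 0 ∨ d < ringChar k) {a b : ℕ}
    (ha : a ≤ d) (hb : b ≤ d) (hab : (a : k) = (b : k)) : a = b := by
  haveI := ringChar.charP k
  rw [CharP.natCast_eq_natCast k (ringChar k)] at hab
  rcases hchar with h | h
  · rw [h] at hab
    exact Nat.modEq_zero_iff.mp hab
  · exact Nat.ModEq.eq_of_lt_of_lt hab (by omega) (by omega)

/-- the determinant of binomial coefficients `C(x_i, j)`, `j < n`, for distinct small `x_i` -/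
theorem det_choose_ne_zero {n : ℕ} (x : Fin n → ℕ) (hx : Function.Injective x) {d : ℕ}
    (hchar : ringChar k = 0 ∨ d < ringChar k) (hd : ∀ i, x i ≤ d) :
    (Matrix.of fun i j : Fin n => (((x i).choose j : ℕ) : k)).det ≠ 0 := by
  intro h0
  have h1 := prod_factorial_mul_det_choose (k := k) x
  rw [h0, mul_zero] at h1
  have h2 : (Matrix.vandermonde fun i => (x i : k)).det ≠ 0 := by
    rw [Matrix.det_vandermonde_ne_zero_iff]
    intro i j hij
    exact hx (natCast_injOn_of_char hchar (hd i) (hd j) hij)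
  exact h2 h1.symm

/-- the same with the columns `1, …, n` -/
theorem det_choose_succ_ne_zero {n : ℕ} (x : Fin n → ℕ) (hx : Function.Injective x)
    (hpos : ∀ i, 1 ≤ x i) {d : ℕ}
    (hchar : ringChar k = 0 ∨ d < ringChar k) (hd : ∀ i, x i ≤ d) :
    (Matrix.of fun i j : Fin n => (((x i).choose ((j : ℕ) + 1) : ℕ) : k)).det ≠ 0 := by
  let x' : Fin (n + 1) → ℕ := Fin.cases 0 x
  have hx' : Function.Injective x' := by
    intro a b
    refine Fin.cases ?_ (fun a' => ?_) a <;> refine Fin.cases ?_ (fun b' => ?_) b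
    · intro _; rfl
    · intro h
      have h1 : 0 = x b' := h
      have := hpos b'
      omega
    · intro h
      have h1 : x a' = 0 := h
      have := hpos a'
      omega
    · intro h
      have h1 : x a' = x b' := h
      rw [hx h1]
  have hd' : ∀ i, x' i ≤ d := by
    intro i
    refine Fin.cases ?_ (fun a => ?_) i
    · exact Nat.zero_le _
    · exact hd a
  have h1 := det_choose_ne_zero (k := k) x' hx' hchar hd'
  rw [Matrix.det_succ_row_zero, Finset.sum_eq_single 0] at h1
  · have hsub : (Matrix.of fun i j : Fin (n + 1) => (((x' i).choose j : ℕ) : k)).submatrix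
        Fin.succ (Fin.succAbove 0) =
        Matrix.of fun i j : Fin n => (((x i).choose ((j : ℕ) + 1) : ℕ) : k) := by
      ext a b
      simp only [Matrix.submatrix_apply, Matrix.of_apply, Fin.succAbove_zero, Fin.val_succ]
      rfl
    rw [hsub] at h1
    intro h0
    apply h1
    rw [h0, mul_zero]
  · intro j _ hj
    obtain ⟨l, rfl⟩ := Fin.exists_succ_eq.mpr hj
    have : (Matrix.of fun i j : Fin (n + 1) => (((x' i).choose j : ℕ) : k)) 0 l.succ = 0 := by
      simp only [Matrix.of_apply, Fin.val_succ]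
      show (((0 : ℕ).choose ((l : ℕ) + 1) : ℕ) : k) = 0
      rw [Nat.choose_zero_succ, Nat.cast_zero]
    rw [this, mul_zero, zero_mul]
  · intro h
    exact absurd (Finset.mem_univ _) h

end binom

section geom

variable {k : Type u} {K : Type v} [Field k] [Field K] [Algebra k K]

theorem apply_mul_deg_le_deg {E : Divisor k K} (hE : 0 ≤ E) (P : Place k K) :
    E P * (P.deg : ℤ) ≤ E.deg := by
  classical
  have h1 : Finsupp.single P (E P) ≤ E := by
    intro Q
    by_cases hQ : Q = P
    · subst hQ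
      rw [Finsupp.single_eq_same]
    · rw [Finsupp.single_eq_of_ne hQ]
      exact hE Q
  have h2 := FF.deg_mono h1
  rwa [FF.deg_single] at h2

variable [IsAlgClosed k]

/-- the orders at a place are bounded by the degree of the map -/
theorem isOrdersAt_le_deg (hK : IsFunctionField k K) (P : Place k K) {t : K}
    (ht : P.1 t = exp (-1)) {Ht : K →ₐ[k] PowerSeries K} (hHt : IsHasseFamily t Ht) {n : ℕ}
    (φ : Fin (n + 1) → K) (hφ : LinearIndependent k φ)
    (heff : (1 : K) ∈ Submodule.span k (Set.range φ)) (hnorm : ∀ i, P.1 (φ i) ≤ 1)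
    (J' : Fin n → ℕ) (hJ' : IsOrders (IsLocalRing.ResidueField P.O) (hcolAt P Ht φ) J')
    (l : Fin n) : (J' l : ℤ) ≤ (mapDiv k φ).deg := by
  obtain ⟨-, hiff⟩ := FHL.exists_adapted_basis hK P ht hHt φ hφ heff hnorm J' hJ'
  obtain ⟨f, hf, hPf⟩ := (hiff (J' l)).mp (Or.inr ⟨l, rfl⟩)
  have hf0 : f ≠ 0 := by
    rintro rfl
    rw [map_zero] at hPf
    exact exp_ne_zero hPf.symm
  have hfL : f ∈ L (mapDiv k φ) := FF.span_le_L_mapDiv hK φ hf
  set E : Divisor k K := FunFld.div k f + mapDiv k φ with hE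
  have hE0 : 0 ≤ E := by
    intro Q
    rw [hE, Finsupp.add_apply, FF.div_apply hK]
    have := hfL Q
    rw [FF.val_le_exp_iff Q hf0] at this
    show (0 : ℤ) ≤ _
    omega
  have hEP : E P = J' l := by
    rw [hE, Finsupp.add_apply, FF.div_apply hK,
      FHL.mapDiv_eq_zero_of_norm_eff hK P φ (fun i => hφ.ne_zero i) heff hnorm, add_zero]
    rw [FF.val_eq_exp_neg_ord P hf0, exp_inj] at hPf
    omega
  have h1 := apply_mul_deg_le_deg hE0 P
  rw [hEP, FF.deg_eq_one_of_isAlgClosed hK P, hE, FF.deg_add, FF.deg_div_eq_zero hK] at h1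
  simpa using h1

/-- the common argument: the orders are the lexicographically smallest admissible sequence -/
theorem isOrders_of_binom (hK : IsFunctionField k K) {n : ℕ} (φ : Fin (n + 1) → K)
    (hφ : LinearIndependent k φ) (τ : K →ₐ[k] K) {s : K} {H : K →ₐ[k] PowerSeries K}
    (hH : IsHasseFamily s H) (P : Place k K) (hP : IsFixedPt τ P) (I : Fin n → ℕ)
    (hImono : StrictMono I) (hcond : (∀ l, 0 < I l) ∨ IsStrongFixedPt τ P)
    (hbin : ∀ J' : Fin n → ℕ, StrictMono J' → (∀ l, 1 ≤ J' l) →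
      (∀ l, (J' l : ℤ) ≤ (mapDiv k φ).deg) → (binomMat k J' I).det ≠ 0)
    (hlow : ∀ J : Fin n → ℕ, IsOrders K (hcol τ H φ) J → ∀ l, I l ≤ J l) :
    IsOrders K (hcol τ H φ) I := by
  classical
  have hg := FG.isGeometric_of_perfectField k K hK.2
  obtain ⟨t, ht⟩ := FF.exists_uniformizer P
  obtain ⟨Ht, hHt⟩ := FWP.exists_isHasseFamily_of_D_ne_zero hK hg hH
    (FWP.D_ne_zero_of_uniformizer hK P ht)
  have hφ0 : ∀ i, φ i ≠ 0 := fun i => hφ.ne_zero i
  obtain ⟨j₀, -, hj₀⟩ := Finset.exists_max_image Finset.univ (fun i => P.1 (φ i))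
    ⟨0, Finset.mem_univ _⟩
  set y := (φ j₀)⁻¹ with hy
  have hy0 : y ≠ 0 := inv_ne_zero (hφ0 j₀)
  set φ'' : Fin (n + 1) → K := y • φ with hφ''
  have hφ''i : ∀ i, φ'' i = y * φ i := fun i => rfl
  have hφ''li : LinearIndependent k φ'' := by
    rw [Fintype.linearIndependent_iff]
    intro g hg0
    apply Fintype.linearIndependent_iff.mp hφ g
    have h1 : ∑ i, g i • φ'' i = y * ∑ i, g i • φ i := by
      rw [Finset.mul_sum]
      apply Finset.sum_congr rfl
      intro i _
      rw [hφ''i, mul_smul_comm]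
    rw [h1] at hg0
    exact (mul_eq_zero.mp hg0).resolve_left hy0
  have heff : (1 : K) ∈ Submodule.span k (Set.range φ'') := by
    apply Submodule.subset_span
    refine ⟨j₀, ?_⟩
    rw [hφ''i, hy, inv_mul_cancel₀ (hφ0 j₀)]
  have hnorm : ∀ i, P.1 (φ'' i) ≤ 1 := by
    intro i
    rw [hφ''i, hy, map_mul, map_inv₀, inv_mul_le_iff₀ (zero_lt_iff.mpr
      ((Valuation.ne_zero_iff _).mpr (hφ0 j₀))), mul_one]
    exact hj₀ i (Finset.mem_univ _)
  have hdeg : (mapDiv k φ'').deg = (mapDiv k φ).deg := by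
    rw [hφ'', FWI.mapDiv_smul hK φ hy0 hφ0, FF.deg_sub, FF.deg_div_eq_zero hK, sub_zero]
  have htrans : ∀ J : Fin n → ℕ, IsOrders K (hcol τ Ht φ'') J ↔ IsOrders K (hcol τ H φ) J :=
    fun J => (FW.isOrders_hcol_smul τ Ht hHt hy0 φ J).trans
      ((FHs.isOrders_change_variable hK hg φ τ hH hHt).1 J)
  obtain ⟨J₀, hJ₀, -⟩ := FHs.exists_isOrders_det_ne_zero hK hg φ hφ τ hH
  have hJ₀'' : IsOrders K (hcol τ Ht φ'') J₀ := (htrans J₀).mpr hJ₀
  obtain ⟨J', hJ'⟩ := FWP.exists_isOrdersAt hK P ht hHt φ'' hφ''li heff hnorm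
  have hJ'pos : ∀ l, 1 ≤ J' l := fun l => FHL.one_le_of_isOrders P hHt φ'' hJ' l
  have hJ'deg : ∀ l, (J' l : ℤ) ≤ (mapDiv k φ).deg := fun l => by
    rw [← hdeg]
    exact isOrdersAt_le_deg hK P ht hHt φ'' hφ''li heff hnorm J' hJ' l
  have hdetI : (wrMat τ Ht φ'' I).det ≠ 0 := by
    have h1 := (FHL.val_det_wrMat_le_and_eq_iff hK P ht hHt τ hP φ'' hφ''li heff hnorm J' hJ'
      I).2 hcond
    have h2 := h1.mpr (hbin J' hJ'.1 hJ'pos hJ'deg)
    intro h0
    rw [h0, map_zero] at h2
    exact exp_ne_zero h2.symm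
  have hle : ∀ l, J₀ l ≤ I l := by
    apply FHL.le_of_linearIndependent_cols (hcol τ Ht φ'') hJ₀'' hImono
    have h1 : IsUnit (wrMat τ Ht φ'' I) :=
      (Matrix.isUnit_iff_isUnit_det _).mpr (isUnit_iff_ne_zero.mpr hdetI)
    rw [FW.wrMat_eq, ← Matrix.linearIndependent_cols_iff_isUnit] at h1
    exact h1
  have hJI : J₀ = I := funext fun l => le_antisymm (hle l) (hlow J₀ hJ₀ l)
  rw [← hJI]
  exact hJ₀

/-- a strictly increasing sequence of naturals dominates the identity -/
theorem le_of_strictMono {n : ℕ} {J : Fin n → ℕ} (hJ : StrictMono J) (l : Fin n) : (l : ℕ) ≤ J l := by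
  obtain ⟨l, hl⟩ := l
  induction l with
  | zero => exact Nat.zero_le _
  | succ m ih =>
    have h1 := ih (by omega)
    have h2 : J ⟨m, by omega⟩ < J ⟨m + 1, hl⟩ := hJ (by simp [Fin.lt_def])
    show m + 1 ≤ J ⟨m + 1, hl⟩
    simp only at h1
    omega

/-- S12611 -/
theorem isOrders_classical_of_char (hK : IsFunctionField k K) {n : ℕ} (φ : Fin (n + 1) → K)
    (hφ : LinearIndependent k φ)
    (hchar : ringChar k = 0 ∨ (mapDiv k φ).deg < ringChar k)
    (τ : K →ₐ[k] K) {s : K} {H : K →ₐ[k] PowerSeries K} (hH : IsHasseFamily s H) :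
    (τ = AlgHom.id k K → IsOrders K (hcol τ H φ) (fun l : Fin n => (l : ℕ) + 1)) ∧
    (τ ≠ AlgHom.id k K → (∃ P : Place k K, IsStrongFixedPt τ P) →
      IsOrders K (hcol τ H φ) (fun l : Fin n => (l : ℕ))) := by
  classical
  -- the characteristic condition in natural numbers
  have hchar' : ∀ J' : Fin n → ℕ, (∀ l, (J' l : ℤ) ≤ (mapDiv k φ).deg) →
      ∃ d : ℕ, (ringChar k = 0 ∨ d < ringChar k) ∧ ∀ l, J' l ≤ d := by
    intro J' hJ'
    by_cases hn : n = 0
    · subst hn
      exact ⟨0, by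
        rcases hchar with h | h
        · exact Or.inl h
        · by_cases h0 : ringChar k = 0
          · exact Or.inl h0
          · exact Or.inr (Nat.pos_of_ne_zero h0), fun l => l.elim0⟩
    · have hnpos : 0 < n := Nat.pos_of_ne_zero hn
      have hdeg0 : 0 ≤ (mapDiv k φ).deg := le_trans (by positivity) (hJ' ⟨0, hnpos⟩)
      refine ⟨(mapDiv k φ).deg.toNat, ?_, fun l => ?_⟩
      · rcases hchar with h | h
        · exact Or.inl h
        · right
          omega
      · have := hJ' l
        omega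
  constructor
  · rintro rfl
    obtain ⟨P⟩ := FF.nonempty_place hK
    apply isOrders_of_binom hK φ hφ (AlgHom.id k K) hH P (fun z hz => hz)
      (fun l : Fin n => (l : ℕ) + 1)
      (fun a b hab => Nat.succ_lt_succ hab) (Or.inl fun l => Nat.succ_pos _)
    · intro J' hJ'mono hJ'pos hJ'deg
      obtain ⟨d, hd1, hd2⟩ := hchar' J' hJ'deg
      exact det_choose_succ_ne_zero J' hJ'mono.injective hJ'pos hd1 hd2
    · intro J hJ l
      have h1 := le_of_strictMono hJ.1 l
      have hn : 0 < n := l.pos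
      have h2 : 0 < J ⟨0, hn⟩ := FHL.pos_of_isOrders_id hH φ hJ ⟨0, hn⟩
      -- shift by one
      have h3 : ∀ m (hm : m < n), m + 1 ≤ J ⟨m, hm⟩ := by
        intro m
        induction m with
        | zero => intro hm; exact h2
        | succ m ih =>
          intro hm
          have := ih (by omega)
          have h4 : J ⟨m, by omega⟩ < J ⟨m + 1, hm⟩ := hJ.1 (by simp [Fin.lt_def])
          omega
      exact h3 l l.2
  · intro _ ⟨P, hS⟩
    have hPf : IsFixedPt τ P := fun z hz =>
      (hS z hz).trans_lt (by rw [← exp_zero, exp_lt_exp]; omega)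
    apply isOrders_of_binom hK φ hφ τ hH P hPf (fun l : Fin n => (l : ℕ))
      (fun a b hab => hab) (Or.inr hS)
    · intro J' hJ'mono _ hJ'deg
      obtain ⟨d, hd1, hd2⟩ := hchar' J' hJ'deg
      exact det_choose_ne_zero J' hJ'mono.injective hd1 hd2
    · intro J hJ l
      exact le_of_strictMono hJ.1 l

end geom

end Groth.Agent.Lib.helper16.FCl
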