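import Groth.Agent.Lib.helper16.FNonsing3

set_option autoImplicit false
set_option linter.style.haveILetI false

/-! Helper library (helper16): the conductor of `O_P[k']` in the integral closure. -/

namespace Groth.Agent.Lib.helper16.FCE

open FunFld TensorProduct Module Polynomial WithZero Groth.Agent.Lib.helper16.FX
  Groth.Agent.Lib.helper16.FF

section truncation

variable {k K : Type*} [Field k] [Field K] [Algebra k K]

/-- `O_P / t^m O_P` is finite-dimensional: a finite-dimensional space of representatives -/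
theorem exists_truncation_space (hK : IsFF1 k K) (P : Place k K) (m : ℕ) :
    ∃ W : Submodule k K, FiniteDimensional k W ∧
      ∀ y : K, P.1 y ≤ 1 → ∃ w ∈ W, P.1 (y - w) ≤ exp (-(m : ℤ)) := by
  induction m with
  | zero =>
    refine ⟨⊥, inferInstance, fun y hy => ⟨0, Submodule.zero_mem _, ?_⟩⟩
    rw [sub_zero]
    simpa using hy
  | succ m ih =>
    obtain ⟨W, hW, hWy⟩ := ih
    obtain ⟨s, hs1, -, hs3⟩ := exists_residue_basis_lift hK P
    obtain ⟨t, ht⟩ := exists_uniformizer P
    have ht0 : t ≠ 0 := by
      rintro rfl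
      rw [map_zero] at ht
      exact exp_ne_zero ht.symm
    have htm : P.1 (t ^ m) = exp (-(m : ℤ)) := by
      rw [map_pow, ht, ← exp_nsmul]
      simp
    refine ⟨W ⊔ Submodule.span k (Set.range fun a => t ^ m * s a), ?_, ?_⟩
    · haveI : FiniteDimensional k (Submodule.span k (Set.range fun a => t ^ m * s a)) :=
        FiniteDimensional.span_of_finite k (Set.finite_range _)
      infer_instance
    · intro y hy
      obtain ⟨w, hwW, hw⟩ := hWy y hy
      have hy' : P.1 ((y - w) / t ^ m) ≤ 1 := by
        rw [map_div₀, htm]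
        exact div_le_one_of_le₀ hw zero_le
      obtain ⟨μ, hμ⟩ := hs3 _ hy'
      refine ⟨w + ∑ a, μ a • (t ^ m * s a), ?_, ?_⟩
      · refine Submodule.add_mem _ (Submodule.mem_sup_left hwW) (Submodule.mem_sup_right ?_)
        exact Submodule.sum_mem _ fun a _ =>
          Submodule.smul_mem _ _ (Submodule.subset_span ⟨a, rfl⟩)
      · have e1 : y - (w + ∑ a, μ a • (t ^ m * s a)) =
            t ^ m * ((y - w) / t ^ m - ∑ a, μ a • s a) := by
          rw [mul_sub, mul_div_cancel₀ _ (pow_ne_zero m ht0), Finset.mul_sum]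
          rw [sub_add_eq_sub_sub]
          congr 1
          apply Finset.sum_congr rfl
          intro a _
          rw [mul_smul_comm]
        rw [e1, map_mul, htm]
        calc exp (-(m : ℤ)) * P.1 ((y - w) / t ^ m - ∑ a, μ a • s a)
            ≤ exp (-(m : ℤ)) * exp (-1) := by
              gcongr
              exact lt_one_iff_le_exp_neg_one.mp hμ
          _ = exp (-((m + 1 : ℕ) : ℤ)) := by
              rw [← exp_add]
              congr 1
              push_cast
              ring

end truncation

section conductor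

universe u v

variable {k k' : Type u} {K K' : Type v} [Field k] [Field k'] [Field K] [Field K']
    [Algebra k k'] [Algebra k K] [Algebra K K'] [Algebra k' K'] [Algebra k K']
    [IsScalarTower k k' K'] [IsScalarTower k K K']

theorem conductor_const
    (h : Function.Bijective (Algebra.TensorProduct.productMap
      (IsScalarTower.toAlgHom k k' K') (IsScalarTower.toAlgHom k K K')))
    [FiniteDimensional k k'] (hK : IsFunctionField k K)
    (P : Place k K) [Algebra P.O K'] [IsScalarTower P.O K K'] :
    (∃ V : Submodule k K', FiniteDimensional k V ∧ ∀ r ∈ integralClosure P.O K',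
        ∃ s ∈ Algebra.adjoin P.O (Set.range (algebraMap k' K')), r - s ∈ V) ∧
    (∃ c ∈ integralClosure P.O K', c ≠ 0 ∧ ∀ r ∈ integralClosure P.O K',
        c * r ∈ Algebra.adjoin P.O (Set.range (algebraMap k' K'))) := by
  classical
  haveI hfin : Module.Finite K K' := finite_of_surjective k k' K K' h.2
  have hn : finrank K K' = finrank k k' := finrank_const h
  obtain ⟨b₀, -⟩ : ∃ b₀ : Basis (Fin (finrank K K')) k k', b₀ = b₀ :=
    ⟨(Module.finBasis k k').reindex (finCongr hn.symm), rfl⟩
  obtain ⟨c, hcdef⟩ : ∃ c : Fin (finrank K K') → K', c = fun i => algebraMap k' K' (b₀ i) :=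
    ⟨_, rfl⟩
  have hconst : ∀ (y : k') (Q' : Place k K'), Q'.1 (algebraMap k' K' y) ≤ 1 := by
    intro y Q'
    exact val_le_one_of_isAlgebraic Q' (Algebra.IsAlgebraic.isAlgebraic y).algebraMap
  have hcB : ∀ i, c i ∈ semiLocal K' P := by
    intro i Q' _
    rw [hcdef]
    exact hconst _ Q'
  obtain ⟨b, hbB, hb⟩ := exists_integral_basis (K' := K') hK P
  obtain ⟨M, hMdef⟩ : ∃ M : Matrix (Fin (finrank K K')) (Fin (finrank K K')) K,
    M = fun i j => (basisOfIndep hb).repr (c i) j := ⟨_, rfl⟩
  have hM : ∀ i j, P.1 (M i j) ≤ 1 := fun i j => by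
    rw [hMdef]; exact val_repr_le_one hb (hcB i) j
  have hcM : c = Matrix.mulVec (M.map (algebraMap K K')) b := by
    ext i
    rw [← sum_repr_basisOfIndep hb (c i)]
    simp only [Matrix.mulVec, dotProduct, Matrix.map_apply, hMdef, Algebra.smul_def]
  obtain ⟨d, hd⟩ : ∃ d, d = M.det := ⟨_, rfl⟩
  have hd1 : P.1 d ≤ 1 := hd ▸ val_det_le_one P M hM
  have hd0 : d ≠ 0 := by
    have h1 : IsUnit ((basisOfIndep hb).det (constBasis h b₀)) := Basis.isUnit_det _ _
    rw [Basis.det_apply] at h1
    have h2 : (basisOfIndep hb).toMatrix (constBasis h b₀) = M.transpose := by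
      ext i j
      rw [Basis.toMatrix_apply, Matrix.transpose_apply, hMdef, constBasis_apply, hcdef]
    rw [h2, Matrix.det_transpose, ← hd] at h1
    exact h1.ne_zero
  have hadj : ∀ j, d • b j = ∑ i, M.adjugate j i • c i := by
    intro j
    have h1 : Matrix.mulVec (M.adjugate.map (algebraMap K K')) c = d • b := by
      rw [hcM, Matrix.mulVec_mulVec, ← Matrix.map_mul, Matrix.adjugate_mul, ← hd]
      ext i
      rw [Pi.smul_apply]
      simp only [Matrix.mulVec, dotProduct, Matrix.map_apply, Matrix.smul_apply,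
        Matrix.one_apply, smul_eq_mul]
      rw [Finset.sum_eq_single i]
      · rw [if_pos rfl, mul_one, Algebra.smul_def]
      · intro x _ hx
        rw [if_neg (Ne.symm hx), mul_zero, map_zero, zero_mul]
      · intro hi
        exact absurd (Finset.mem_univ i) hi
    have h2 := congrFun h1 j
    rw [Pi.smul_apply] at h2
    rw [← h2]
    simp only [Matrix.mulVec, dotProduct, Matrix.map_apply, Algebra.smul_def]
  have hsmulA : ∀ σ : K, P.1 σ ≤ 1 → ∀ x ∈ Algebra.adjoin P.O (Set.range (algebraMap k' K')),
      σ • x ∈ Algebra.adjoin P.O (Set.range (algebraMap k' K')) := by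
    intro σ hσ x hx
    have : σ • x = algebraMap P.O K' ⟨σ, hσ⟩ * x := by
      rw [Algebra.smul_def, IsScalarTower.algebraMap_apply P.O K K']
      rfl
    rw [this]
    exact Subalgebra.mul_mem _ (Subalgebra.algebraMap_mem _ _) hx
  have hdb : ∀ j, d • b j ∈ Algebra.adjoin P.O (Set.range (algebraMap k' K')) := by
    intro j
    rw [hadj]
    refine Subalgebra.sum_mem _ fun i _ => ?_
    refine hsmulA _ (val_adjugate_le_one P M hM j i) _ (Algebra.subset_adjoin ?_)
    rw [hcdef]
    exact ⟨b₀ i, rfl⟩
  refine ⟨?_, ?_⟩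
  · obtain ⟨m, hm⟩ : ∃ m : ℕ, P.1 d = exp (-(m : ℤ)) := by
      refine ⟨(P.ord d).toNat, ?_⟩
      rw [val_eq_exp_neg_ord P hd0]
      congr 2
      have := (val_le_one_iff P hd0).mp hd1
      omega
    obtain ⟨W, hWfd, hW⟩ := exists_truncation_space hK.1 P m
    let φ : Fin (finrank K K') → K →ₗ[k] K' := fun j =>
      { toFun := fun w => w • b j
        map_add' := fun x y => add_smul x y _
        map_smul' := fun a w => by
          simp only [RingHom.id_apply]
          rw [smul_assoc] }
    refine ⟨⨆ j, W.map (φ j), inferInstance, ?_⟩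
    intro r hr
    have hrB : r ∈ semiLocal K' P := mem_semiLocal_of_isIntegral P hr
    obtain ⟨ρ, hρdef⟩ : ∃ ρ : Fin (finrank K K') → K,
      ρ = fun j => (basisOfIndep hb).repr r j := ⟨_, rfl⟩
    have hρ : ∀ j, P.1 (ρ j) ≤ 1 := fun j => by
      rw [hρdef]; exact val_repr_le_one hb hrB j
    have hrsum : ∑ j, ρ j • b j = r := by
      rw [hρdef]; exact sum_repr_basisOfIndep hb r
    choose w hwW hw using fun j => hW _ (hρ j)
    have hσ : ∀ j, P.1 ((ρ j - w j) / d) ≤ 1 := by
      intro j
      rw [map_div₀, hm]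
      exact div_le_one_of_le₀ (hw j) zero_le
    refine ⟨∑ j, ((ρ j - w j) / d) • (d • b j), ?_, ?_⟩
    · exact Subalgebra.sum_mem _ fun j _ => hsmulA _ (hσ j) _ (hdb j)
    · have e1 : r - ∑ j, ((ρ j - w j) / d) • (d • b j) =
          ∑ j, φ j (w j) := by
        rw [← hrsum, ← Finset.sum_sub_distrib]
        apply Finset.sum_congr rfl
        intro j _
        show _ = w j • b j
        rw [smul_smul, div_mul_cancel₀ _ hd0, sub_smul]
        abel
      rw [e1]
      refine Submodule.sum_mem _ fun j _ => ?_
      exact (le_iSup (fun j => W.map (φ j)) j) (Submodule.mem_map_of_mem (hwW j))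
  · refine ⟨algebraMap K K' d, ?_, ?_, ?_⟩
    · have : algebraMap K K' d = algebraMap P.O K' ⟨d, hd1⟩ := by
        rw [IsScalarTower.algebraMap_apply P.O K K']
        rfl
      rw [this]
      exact isIntegral_algebraMap
    · rwa [Ne, map_eq_zero_iff _ (algebraMap K K').injective]
    · intro r hr
      have hrB : r ∈ semiLocal K' P := mem_semiLocal_of_isIntegral P hr
      have e1 : algebraMap K K' d * r = ∑ j, (basisOfIndep hb).repr r j • (d • b j) := by
        conv_lhs => rw [← sum_repr_basisOfIndep hb r]
        rw [Finset.mul_sum]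
        apply Finset.sum_congr rfl
        intro j _
        rw [smul_comm, Algebra.smul_def d]
      rw [e1]
      exact Subalgebra.sum_mem _ fun j _ => hsmulA _ (val_repr_le_one hb hrB j) _ (hdb j)

end conductor

end Groth.Agent.Lib.helper16.FCE
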