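import Groth.Agent.Lib.helper16.FXDisc
import Groth.Agent.Lib.helper16.FConstExt

set_option autoImplicit false
set_option linter.style.haveILetI false

namespace Groth.Agent.Lib.helper16.FX

open FunFld WithZero Polynomial Module Groth.Agent.Lib.helper16.FF
open scoped IntermediateField

section disc

variable {k K K' : Type*} [Field k] [Field K] [Field K'] [Algebra k K] [Algebra K K']
  [Algebra k K'] [IsScalarTower k K K'] [FiniteDimensional K K']

/-- a basis of `K'/K` inside `B_P` with unit discriminant spans `B_P` over `O_P` -/
theorem exists_coeff_of_discr (hK : IsFunctionField k K) {P : Place k K}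
    (c : Fin (finrank K K') → K') (hcB : ∀ i, c i ∈ semiLocal K' P)
    (hc : P.1 (Algebra.discr K c) = 1) {x : K'} (hx : x ∈ semiLocal K' P) :
    ∃ a : Fin (finrank K K') → K, (∀ i, P.1 (a i) ≤ 1) ∧ ∑ i, a i • c i = x := by
  classical
  obtain ⟨b, hbB, hb⟩ := exists_integral_basis (K' := K') hK P
  let M : Matrix (Fin (finrank K K')) (Fin (finrank K K')) K :=
    fun i j => (basisOfIndep hb).repr (c i) j
  have hM : ∀ i j, P.1 (M i j) ≤ 1 := fun i j => val_repr_le_one hb (hcB i) j
  have hcM : c = Matrix.mulVec (M.map (algebraMap K K')) b := by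
    ext i
    rw [← sum_repr_basisOfIndep hb (c i)]
    simp only [Matrix.mulVec, dotProduct, Matrix.map_apply, M, Algebra.smul_def]
  have hc' := hc
  rw [hcM, Algebra.discr_of_matrix_mulVec, map_mul, map_pow] at hc'
  have hdet : P.1 M.det = 1 := by
    apply le_antisymm (val_det_le_one P M hM)
    by_contra hlt
    rw [not_le] at hlt
    have h1 : P.1 M.det ^ 2 * P.1 (Algebra.discr K b) < 1 := by
      calc P.1 M.det ^ 2 * P.1 (Algebra.discr K b) ≤ P.1 M.det ^ 2 * 1 := by
            gcongr
            exact val_discr_le_one hb hbB
        _ = P.1 M.det ^ 2 := mul_one _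
        _ ≤ P.1 M.det := pow_le_of_le_one zero_le hlt.le (by norm_num)
        _ < 1 := hlt
    rw [hc'] at h1
    exact lt_irrefl _ h1
  have hdet0 : M.det ≠ 0 := by
    intro h0
    rw [h0, map_zero] at hdet
    exact zero_ne_one hdet
  have hunit : IsUnit M.det := isUnit_iff_ne_zero.mpr hdet0
  have hMinv : ∀ i j, P.1 (M⁻¹ i j) ≤ 1 := by
    intro i j
    rw [Matrix.inv_def, Matrix.smul_apply, Ring.inverse_eq_inv', smul_eq_mul, map_mul, map_inv₀,
      hdet, inv_one, one_mul]
    exact val_adjugate_le_one P M hM i j
  have hbM : b = Matrix.mulVec (M⁻¹.map (algebraMap K K')) c := by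
    rw [hcM, Matrix.mulVec_mulVec, ← Matrix.map_mul, Matrix.nonsing_inv_mul _ hunit,
      Matrix.map_one _ (map_zero _) (map_one _), Matrix.one_mulVec]
  refine ⟨fun i => ∑ j, (basisOfIndep hb).repr x j * M⁻¹ j i, fun i => ?_, ?_⟩
  · apply Valuation.map_sum_le
    intro j _
    rw [map_mul]
    exact mul_le_one' (val_repr_le_one hb hx j) (hMinv j i)
  · conv_rhs => rw [← sum_repr_basisOfIndep hb x]
    have hbj : ∀ j, b j = ∑ i, M⁻¹ j i • c i := by
      intro j
      conv_lhs => rw [hbM]
      simp only [Matrix.mulVec, dotProduct, Matrix.map_apply, Algebra.smul_def]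
    simp only [hbj, Finset.smul_sum, Finset.sum_smul, mul_smul]
    exact Finset.sum_comm

end disc

end Groth.Agent.Lib.helper16.FX

namespace Groth.Agent.Lib.helper16.FCE

open FunFld TensorProduct Module Groth.Agent.Lib.helper16.FX

universe u v

section
variable (k k' : Type u) (K K' : Type v) [Field k] [Field k'] [Field K] [Field K']
    [Algebra k k'] [Algebra k K] [Algebra K K'] [Algebra k' K'] [Algebra k K']
    [IsScalarTower k k' K'] [IsScalarTower k K K']

/-- the `K`-linear equivalence `K ⊗[k] k' ≃ K'` -/
noncomputable def rightEquiv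
    (h : Function.Bijective (Algebra.TensorProduct.productMap
      (IsScalarTower.toAlgHom k k' K') (IsScalarTower.toAlgHom k K K'))) :
    K ⊗[k] k' ≃ₐ[K] K' :=
  AlgEquiv.ofBijective
    (Algebra.TensorProduct.productLeftAlgHom (Algebra.ofId K K') (IsScalarTower.toAlgHom k k' K'))
    (by
      have hfun : ∀ t : K ⊗[k] k',
          Algebra.TensorProduct.productLeftAlgHom (Algebra.ofId K K')
            (IsScalarTower.toAlgHom k k' K') t =
          Algebra.TensorProduct.productMap (IsScalarTower.toAlgHom k k' K')
            (IsScalarTower.toAlgHom k K K') (Algebra.TensorProduct.comm k K k' t) := by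
        intro t
        induction t using TensorProduct.induction_on with
        | zero => simp
        | tmul a b =>
          simp only [Algebra.TensorProduct.comm_tmul, Algebra.TensorProduct.productMap_apply_tmul]
          show algebraMap K K' a * algebraMap k' K' b = algebraMap k' K' b * algebraMap K K' a
          exact mul_comm _ _
        | add x y hx hy => rw [map_add, map_add, map_add, hx, hy]
      constructor
      · intro s t hst
        rw [hfun, hfun] at hst
        exact (Algebra.TensorProduct.comm k K k').injective (h.1 hst)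
      · intro y
        obtain ⟨t, ht⟩ := h.2 y
        refine ⟨(Algebra.TensorProduct.comm k K k').symm t, ?_⟩
        rw [hfun, AlgEquiv.apply_symm_apply, ht])

theorem rightEquiv_tmul
    (h : Function.Bijective (Algebra.TensorProduct.productMap
      (IsScalarTower.toAlgHom k k' K') (IsScalarTower.toAlgHom k K K'))) (a : K) (b : k') :
    rightEquiv k k' K K' h (a ⊗ₜ b) = algebraMap K K' a * algebraMap k' K' b := rfl

variable {k k' K K'}

/-- a `k`-basis of `k'` gives a `K`-basis of `K'` -/
noncomputable def constBasis
    (h : Function.Bijective (Algebra.TensorProduct.productMap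
      (IsScalarTower.toAlgHom k k' K') (IsScalarTower.toAlgHom k K K')))
    {ι : Type*} (b : Basis ι k k') : Basis ι K K' :=
  (Algebra.TensorProduct.basis K b).map (rightEquiv k k' K K' h).toLinearEquiv

theorem constBasis_apply
    (h : Function.Bijective (Algebra.TensorProduct.productMap
      (IsScalarTower.toAlgHom k k' K') (IsScalarTower.toAlgHom k K K')))
    {ι : Type*} (b : Basis ι k k') (i : ι) : constBasis h b i = algebraMap k' K' (b i) := by
  rw [constBasis, Basis.map_apply, Algebra.TensorProduct.basis_apply]
  show rightEquiv k k' K K' h (1 ⊗ₜ b i) = _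
  rw [rightEquiv_tmul, map_one, one_mul]

theorem constBasis_repr
    (h : Function.Bijective (Algebra.TensorProduct.productMap
      (IsScalarTower.toAlgHom k k' K') (IsScalarTower.toAlgHom k K K')))
    {ι : Type*} (b : Basis ι k k') (x : k') (i : ι) :
    (constBasis h b).repr (algebraMap k' K' x) i = algebraMap k K (b.repr x i) := by
  have h1 : (rightEquiv k k' K K' h).toLinearEquiv.symm (algebraMap k' K' x) = 1 ⊗ₜ x := by
    rw [LinearEquiv.symm_apply_eq]
    show _ = rightEquiv k k' K K' h (1 ⊗ₜ x)
    rw [rightEquiv_tmul, map_one, one_mul]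
  rw [constBasis, Basis.map_repr, LinearEquiv.trans_apply, h1,
    Algebra.TensorProduct.basis_repr_tmul, one_smul, Finsupp.mapRange_apply]

theorem trace_const
    (h : Function.Bijective (Algebra.TensorProduct.productMap
      (IsScalarTower.toAlgHom k k' K') (IsScalarTower.toAlgHom k K K')))
    [FiniteDimensional k k'] (x : k') :
    Algebra.trace K K' (algebraMap k' K' x) = algebraMap k K (Algebra.trace k k' x) := by
  classical
  let b := Module.finBasis k k'
  rw [Algebra.trace_eq_matrix_trace b, Algebra.trace_eq_matrix_trace (constBasis h b),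
    Matrix.trace, Matrix.trace, map_sum]
  apply Finset.sum_congr rfl
  intro i _
  rw [Matrix.diag_apply, Matrix.diag_apply, Algebra.leftMulMatrix_eq_repr_mul,
    Algebra.leftMulMatrix_eq_repr_mul, constBasis_apply, ← map_mul, constBasis_repr]

theorem discr_const
    (h : Function.Bijective (Algebra.TensorProduct.productMap
      (IsScalarTower.toAlgHom k k' K') (IsScalarTower.toAlgHom k K K')))
    [FiniteDimensional k k'] {ι : Type*} [Fintype ι] [DecidableEq ι] (c : ι → k') :
    Algebra.discr K (fun i => algebraMap k' K' (c i)) = algebraMap k K (Algebra.discr k c) := by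
  rw [Algebra.discr_def, Algebra.discr_def, RingHom.map_det]
  congr 1
  ext i j
  rw [RingHom.mapMatrix_apply, Matrix.map_apply, Algebra.traceMatrix_apply,
    Algebra.traceMatrix_apply, Algebra.traceForm_apply, Algebra.traceForm_apply, ← map_mul,
    trace_const h]

theorem finrank_const
    (h : Function.Bijective (Algebra.TensorProduct.productMap
      (IsScalarTower.toAlgHom k k' K') (IsScalarTower.toAlgHom k K K')))
    [FiniteDimensional k k'] : finrank K K' = finrank k k' := by
  rw [Module.finrank_eq_card_basis (constBasis h (Module.finBasis k k')), Fintype.card_fin]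

/-- **finite separable constant field extensions are unramified**, and the integral closure of
`O_P` is generated by the constants -/
theorem unramified_const
    (h : Function.Bijective (Algebra.TensorProduct.productMap
      (IsScalarTower.toAlgHom k k' K') (IsScalarTower.toAlgHom k K K')))
    [FiniteDimensional k k'] [Algebra.IsSeparable k k'] (hK : IsFunctionField k K)
    (P : Place k K) [Algebra P.O K'] [IsScalarTower P.O K K']
    (Q : Place k K') (hQ : IsOver Q P) :
    (integralClosure P.O K').toSubring =
      (Algebra.adjoin P.O (Set.range (algebraMap k' K'))).toSubring ∧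
    IsOverWith Q P 1 := by
  classical
  haveI hfin : Module.Finite K K' := finite_of_surjective k k' K K' h.2
  have hn : finrank K K' = finrank k k' := finrank_const h
  obtain ⟨b, -⟩ : ∃ b : Basis (Fin (finrank K K')) k k', b = b :=
    ⟨(Module.finBasis k k').reindex (finCongr hn.symm), rfl⟩
  obtain ⟨c, hcdef⟩ : ∃ c : Fin (finrank K K') → K', c = fun i => algebraMap k' K' (b i) :=
    ⟨_, rfl⟩
  have hconst : ∀ (y : k') (Q' : Place k K'), Q'.1 (algebraMap k' K' y) ≤ 1 := by
    intro y Q'
    exact val_le_one_of_isAlgebraic Q' (Algebra.IsAlgebraic.isAlgebraic y).algebraMap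
  have hcB : ∀ i, c i ∈ semiLocal K' P := by
    intro i Q' _
    rw [hcdef]
    exact hconst _ Q'
  have hc : P.1 (Algebra.discr K c) = 1 := by
    rw [hcdef, discr_const h]
    exact Groth.Agent.Lib.helper16.FF.val_algebraMap P (Algebra.discr_not_zero_of_basis k b)
  refine ⟨?_, ?_⟩
  · haveI : IsScalarTower k P.O K' := IsScalarTower.of_algebraMap_eq fun a => by
      rw [IsScalarTower.algebraMap_apply P.O K K', IsScalarTower.algebraMap_apply k K K']
      rfl
    congr 1
    apply le_antisymm
    · intro x hx
      obtain ⟨a, ha, hax⟩ := exists_coeff_of_discr hK c hcB hc (mem_semiLocal_of_isIntegral P hx)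
      rw [← hax]
      refine Subalgebra.sum_mem _ fun i _ => ?_
      have h1 : a i • c i = algebraMap P.O K' ⟨a i, ha i⟩ * c i := by
        rw [Algebra.smul_def, IsScalarTower.algebraMap_apply P.O K K']
        rfl
      rw [h1]
      refine Subalgebra.mul_mem _ (Subalgebra.algebraMap_mem _ _) (Algebra.subset_adjoin ?_)
      rw [hcdef]
      exact ⟨b i, rfl⟩
    · apply Algebra.adjoin_le
      rintro _ ⟨y, rfl⟩
      have h1 : IsIntegral k (algebraMap k' K' y) :=
        (Algebra.IsIntegral.isIntegral y).map (IsScalarTower.toAlgHom k k' K')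
      exact h1.tower_top
  · have h1 := ramIdx_eq_one_of_discr hK P c hcB hc hQ
    have h2 := isOverWith_ramIdx hQ
    rwa [h1] at h2

end

end Groth.Agent.Lib.helper16.FCE
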