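import Groth.Prelude.Def_W4bk4goldsch23FF
import Mathlib

/-! Helper library (helper16): basic facts on places of function fields, weak approximation. -/

set_option autoImplicit false

namespace Groth.Agent.Lib.helper16.FF

open FunFld WithZero

variable {k K : Type*} [Field k] [Field K] [Algebra k K]

/-- nonzero constants have valuation one -/
theorem val_algebraMap (P : Place k K) {c : k} (hc : c ≠ 0) : P.1 (algebraMap k K c) = 1 := by
  apply le_antisymm (P.2.1 c)
  have h1 := P.2.1 c⁻¹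
  have h2 : P.1 (algebraMap k K c) * P.1 (algebraMap k K c⁻¹) = 1 := by
    rw [← map_mul, ← map_mul, mul_inv_cancel₀ hc, map_one, map_one]
  have hne : P.1 (algebraMap k K c) ≠ 0 := by
    intro h; rw [h, zero_mul] at h2; exact zero_ne_one h2
  calc (1 : ℤᵐ⁰) = P.1 (algebraMap k K c) * P.1 (algebraMap k K c⁻¹) := h2.symm
    _ ≤ P.1 (algebraMap k K c) * 1 := by gcongr
    _ = _ := mul_one _

theorem val_algebraMap_le (P : Place k K) (c : k) : P.1 (algebraMap k K c) ≤ 1 := P.2.1 c

theorem val_smul (P : Place k K) {c : k} (hc : c ≠ 0) (x : K) : P.1 (c • x) = P.1 x := by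
  rw [Algebra.smul_def, map_mul, val_algebraMap P hc, one_mul]

theorem val_smul_le (P : Place k K) (c : k) (x : K) : P.1 (c • x) ≤ P.1 x := by
  rw [Algebra.smul_def, map_mul]
  calc _ ≤ 1 * P.1 x := by gcongr; exact P.2.1 c
    _ = _ := one_mul _

theorem exists_uniformizer (P : Place k K) : ∃ t : K, P.1 t = exp (-1) := P.2.2 _

theorem exists_val_eq_exp (P : Place k K) (n : ℤ) : ∃ t : K, P.1 t = exp n := P.2.2 _

theorem val_eq_exp_neg_ord (P : Place k K) {x : K} (hx : x ≠ 0) : P.1 x = exp (-(P.ord x)) := by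
  unfold Place.ord
  rw [neg_neg, exp_log]
  exact (Valuation.ne_zero_iff _).mpr hx

theorem val_ne_zero (P : Place k K) {x : K} (hx : x ≠ 0) : P.1 x ≠ 0 :=
  (Valuation.ne_zero_iff _).mpr hx

theorem ord_mul (P : Place k K) {x y : K} (hx : x ≠ 0) (hy : y ≠ 0) :
    P.ord (x * y) = P.ord x + P.ord y := by
  unfold Place.ord
  rw [map_mul, log_mul (val_ne_zero P hx) (val_ne_zero P hy)]
  ring

theorem ord_inv (P : Place k K) (x : K) : P.ord x⁻¹ = - P.ord x := by
  unfold Place.ord
  rw [map_inv₀, log_inv]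

theorem ord_pow (P : Place k K) (x : K) (n : ℕ) : P.ord (x ^ n) = n * P.ord x := by
  unfold Place.ord
  rw [map_pow, log_pow]
  simp

theorem ord_one (P : Place k K) : P.ord (1 : K) = 0 := by
  unfold Place.ord; simp

theorem ord_zero (P : Place k K) : P.ord (0 : K) = 0 := by
  unfold Place.ord; simp

theorem val_le_exp_iff (P : Place k K) {x : K} (hx : x ≠ 0) (m : ℤ) :
    P.1 x ≤ exp m ↔ -m ≤ P.ord x := by
  unfold Place.ord
  rw [← log_le_iff_le_exp (val_ne_zero P hx)]
  constructor <;> intro h <;> linarith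

theorem val_lt_exp_iff (P : Place k K) {x : K} (hx : x ≠ 0) (m : ℤ) :
    P.1 x < exp m ↔ -m < P.ord x := by
  unfold Place.ord
  rw [← log_lt_iff_lt_exp (val_ne_zero P hx)]
  constructor <;> intro h <;> linarith

theorem val_le_one_iff (P : Place k K) {x : K} (hx : x ≠ 0) : P.1 x ≤ 1 ↔ 0 ≤ P.ord x := by
  have := val_le_exp_iff P hx 0
  simpa using this

theorem val_lt_one_iff (P : Place k K) {x : K} (hx : x ≠ 0) : P.1 x < 1 ↔ 0 < P.ord x := by
  have := val_lt_exp_iff P hx 0
  simpa using this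

theorem one_lt_val_iff (P : Place k K) {x : K} (hx : x ≠ 0) : 1 < P.1 x ↔ P.ord x < 0 := by
  rw [← not_le, val_le_one_iff P hx, not_le]

theorem lt_one_iff_le_exp_neg_one {a : ℤᵐ⁰} : a < 1 ↔ a ≤ exp (-1) := by
  rcases eq_or_ne a 0 with rfl | ha
  · simp
  · rw [← exp_zero, ← log_lt_iff_lt_exp ha, ← log_le_iff_le_exp ha]
    omega

theorem one_lt_iff_exp_one_le {a : ℤᵐ⁰} : 1 < a ↔ exp 1 ≤ a := by
  rcases eq_or_ne a 0 with rfl | ha
  · simp
  · rw [← exp_zero, ← lt_log_iff_exp_lt ha, ← le_log_iff_exp_le ha]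
    omega

/-- If `O_P ⊆ O_Q` then `P = Q`. -/
theorem eq_of_valuationRing_le (P Q : Place k K) (h : ∀ y : K, P.1 y ≤ 1 → Q.1 y ≤ 1) : P = Q := by
  obtain ⟨t, ht⟩ := exists_uniformizer P
  have ht0 : t ≠ 0 := by
    rintro rfl; rw [map_zero] at ht; exact exp_ne_zero ht.symm
  have hunit : ∀ u : K, P.1 u = 1 → Q.1 u = 1 := by
    intro u hu
    have hu0 : u ≠ 0 := by rintro rfl; simp at hu
    apply le_antisymm (h u hu.le)
    have h1 : Q.1 u⁻¹ ≤ 1 := h _ (by rw [map_inv₀, hu, inv_one])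
    rw [map_inv₀] at h1
    exact (inv_le_one₀ (pos_iff_ne_zero.mpr (val_ne_zero Q hu0))).mp h1
  have hQt : Q.1 t ≤ 1 := h t (by rw [ht]; exact exp_le_exp.mpr (by norm_num) |>.trans_eq exp_zero)
  -- every nonzero `x` is `t ^ n * u`
  have hform : ∀ x : K, x ≠ 0 → Q.1 x = Q.1 t ^ (P.ord x) := by
    intro x hx
    have hu : P.1 (x / t ^ (P.ord x)) = 1 := by
      rw [map_div₀, map_zpow₀, ht, val_eq_exp_neg_ord P hx, ← exp_zsmul, ← exp_sub]
      simp
    have := hunit _ hu
    rw [map_div₀, map_zpow₀, div_eq_one_iff_eq (zpow_ne_zero _ (val_ne_zero Q ht0))] at this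
    exact this
  obtain ⟨x, hx⟩ := exists_uniformizer Q
  have hx0 : x ≠ 0 := by rintro rfl; rw [map_zero] at hx; exact exp_ne_zero hx.symm
  have hQt' : Q.1 t = exp (-(Q.ord t)) := val_eq_exp_neg_ord Q ht0
  have ha : 0 ≤ Q.ord t := (val_le_one_iff Q ht0).mp hQt
  have h1 := hform x hx0
  rw [hx, hQt', ← exp_zsmul, exp_inj] at h1
  have h2 : Q.ord t * P.ord x = 1 := by
    simp only [smul_eq_mul] at h1; linarith
  have ha1 : Q.ord t = 1 := by
    rcases Int.eq_one_or_neg_one_of_mul_eq_one h2 with h | h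
    · exact h
    · omega
  have hval : ∀ x : K, P.1 x = Q.1 x := by
    intro x
    rcases eq_or_ne x 0 with rfl | hx
    · simp
    · rw [hform x hx, hQt', ha1, val_eq_exp_neg_ord P hx, ← exp_zsmul]
      simp
  apply Subtype.ext
  ext x
  exact hval x

/-- incomparability of distinct places -/
theorem exists_val_le_one_lt (P Q : Place k K) (h : P ≠ Q) : ∃ y : K, P.1 y ≤ 1 ∧ 1 < Q.1 y := by
  by_contra hcon
  push Not at hcon
  exact h (eq_of_valuationRing_le P Q hcon)

theorem exists_val_lt_one_lt (P Q : Place k K) (h : P ≠ Q) : ∃ u : K, P.1 u < 1 ∧ 1 < Q.1 u := by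
  obtain ⟨y₁, h1, h2⟩ := exists_val_le_one_lt P Q h
  obtain ⟨y₂, h3, h4⟩ := exists_val_le_one_lt Q P (Ne.symm h)
  have hy₂ : y₂ ≠ 0 := by rintro rfl; simp at h4
  refine ⟨y₁ / y₂, ?_, ?_⟩
  · rw [map_div₀, div_lt_one₀ (pos_iff_ne_zero.mpr (val_ne_zero P hy₂))]
    exact lt_of_le_of_lt h1 h4
  · rw [map_div₀, one_lt_div₀ (pos_iff_ne_zero.mpr (val_ne_zero Q hy₂))]
    exact lt_of_le_of_lt h3 h2

/-- Separation: an element small at `P` and large at finitely many other places. -/
theorem exists_val_lt_one_forall_one_lt (P : Place k K) (S : Finset (Place k K)) (hPS : P ∉ S) :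
    ∃ u : K, P.1 u < 1 ∧ ∀ Q ∈ S, 1 < Q.1 u := by
  classical
  induction S using Finset.induction_on with
  | empty => exact ⟨0, by simp, by simp⟩
  | insert Q₀ S hQ₀ ih =>
    rw [Finset.mem_insert, not_or] at hPS
    obtain ⟨y, hyP, hyS⟩ := ih hPS.2
    by_cases hy0 : 1 < Q₀.1 y
    · refine ⟨y, hyP, ?_⟩
      intro Q hQ
      rcases Finset.mem_insert.mp hQ with rfl | hQ
      · exact hy0
      · exact hyS Q hQ
    · rw [not_lt] at hy0
      obtain ⟨z, hzP, hzQ₀⟩ := exists_val_lt_one_lt P Q₀ hPS.1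
      -- choose `r` large
      let M : ℕ := S.sup (fun Q => (log (Q.1 y)).toNat)
      let r : ℕ := M + 1
      have hr1 : 1 ≤ r := Nat.le_add_left 1 M
      have hPzr : P.1 (z ^ r) < 1 := by
        rw [map_pow]
        exact pow_lt_one₀ zero_le' hzP (by omega)
      have hQ₀zr : 1 < Q₀.1 (z ^ r) := by
        rw [map_pow]
        exact one_lt_pow₀ hzQ₀ (by omega)
      refine ⟨y + z ^ r, ?_, ?_⟩
      · exact lt_of_le_of_lt (P.1.map_add _ _) (max_lt hyP hPzr)
      · intro Q hQ
        rcases Finset.mem_insert.mp hQ with rfl | hQ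
        · rw [Valuation.map_add_eq_of_lt_right _ (lt_of_le_of_lt hy0 hQ₀zr)]
          exact hQ₀zr
        · have hyQ := hyS Q hQ
          by_cases hzQ : Q.1 z ≤ 1
          · have : Q.1 (z ^ r) < Q.1 y := by
              rw [map_pow]
              exact lt_of_le_of_lt (pow_le_one₀ zero_le' hzQ) hyQ
            rw [Valuation.map_add_eq_of_lt_left _ this]
            exact hyQ
          · rw [not_le] at hzQ
            have hy_ne : Q.1 y ≠ 0 := ne_of_gt (lt_trans zero_lt_one hyQ)
            have h1 : Q.1 y < Q.1 (z ^ r) := by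
              rw [map_pow]
              have hle : exp (1 : ℤ) ^ r ≤ Q.1 z ^ r :=
                pow_le_pow_left₀ zero_le' (one_lt_iff_exp_one_le.mp hzQ) r
              refine lt_of_lt_of_le ?_ hle
              rw [← exp_nsmul, ← log_lt_iff_lt_exp hy_ne]
              have hM : (log (Q.1 y)).toNat ≤ M :=
                Finset.le_sup (f := fun Q => (log (Q.1 y)).toNat) hQ
              have := Int.self_le_toNat (log (Q.1 y))
              simp only [nsmul_eq_mul, mul_one, r]
              push_cast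
              omega
            rw [Valuation.map_add_eq_of_lt_right _ h1]
            exact lt_trans hyQ h1

/-- An element close to `1` at `P` and close to `0` at finitely many other places. -/
theorem exists_val_sub_one_le_forall_le (P : Place k K) (S : Finset (Place k K)) (hPS : P ∉ S)
    (N : ℕ) : ∃ w : K, P.1 (w - 1) ≤ exp (-(N : ℤ)) ∧ ∀ Q ∈ S, Q.1 w ≤ exp (-(N : ℤ)) := by
  obtain ⟨u, huP, huS⟩ := exists_val_lt_one_forall_one_lt P S hPS
  let s : ℕ := N + 1
  have hPus : P.1 (u ^ s) < 1 := by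
    rw [map_pow]
    exact pow_lt_one₀ zero_le' huP (by omega)
  have hP1 : P.1 (1 + u ^ s) = 1 := by
    rw [Valuation.map_add_eq_of_lt_left _ (by rw [map_one]; exact hPus), map_one]
  have hne : 1 + u ^ s ≠ 0 := by
    intro h; rw [h, map_zero] at hP1; exact zero_ne_one hP1
  refine ⟨(1 + u ^ s)⁻¹, ?_, ?_⟩
  · have : (1 + u ^ s)⁻¹ - 1 = -(u ^ s) * (1 + u ^ s)⁻¹ := by
      field_simp
      ring
    rw [this, map_mul, Valuation.map_neg, map_inv₀, hP1, inv_one, mul_one, map_pow]
    calc P.1 u ^ s ≤ exp (-1) ^ s := pow_le_pow_left₀ zero_le' (lt_one_iff_le_exp_neg_one.mp huP) s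
      _ = exp (-(s : ℤ)) := by rw [← exp_nsmul]; simp
      _ ≤ exp (-(N : ℤ)) := by rw [exp_le_exp]; simp [s]
  · intro Q hQ
    have huQ := huS Q hQ
    have hQus : 1 < Q.1 (u ^ s) := by
      rw [map_pow]
      exact one_lt_pow₀ huQ (by omega)
    have hQ1 : Q.1 (1 + u ^ s) = Q.1 (u ^ s) := by
      rw [Valuation.map_add_eq_of_lt_right _ (by rw [map_one]; exact hQus)]
    rw [map_inv₀, hQ1, map_pow]
    have hge : exp (1 : ℤ) ^ s ≤ Q.1 u ^ s :=
      pow_le_pow_left₀ zero_le' (one_lt_iff_exp_one_le.mp huQ) s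
    have hpos : (0 : ℤᵐ⁰) < exp (1 : ℤ) ^ s := pow_pos exp_pos s
    calc (Q.1 u ^ s)⁻¹ ≤ (exp (1 : ℤ) ^ s)⁻¹ := inv_anti₀ hpos hge
      _ = exp (-(s : ℤ)) := by rw [← exp_nsmul, ← exp_neg]; simp
      _ ≤ exp (-(N : ℤ)) := by rw [exp_le_exp]; simp [s]

/-- Weak approximation. -/
theorem weak_approximation {ι : Type*} [Fintype ι] [DecidableEq ι] (P : ι → Place k K)
    (hP : Function.Injective P) (x : ι → K) (N : ℤ) :
    ∃ y : K, ∀ i, (P i).1 (y - x i) ≤ exp (-N) := by
  classical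
  -- a bound for all `v_i (x_j)`
  let C : ℕ := Finset.univ.sup (fun i : ι => Finset.univ.sup (fun j : ι => (log ((P i).1 (x j))).toNat))
  have hC : ∀ i j, (P i).1 (x j) ≤ exp (C : ℤ) := by
    intro i j
    apply le_exp_of_log_le
    have h1 : (log ((P i).1 (x j))).toNat ≤ C := by
      refine le_trans ?_ (Finset.le_sup (f := fun i : ι =>
        Finset.univ.sup (fun j : ι => (log ((P i).1 (x j))).toNat)) (Finset.mem_univ i))
      exact Finset.le_sup (f := fun j : ι => (log ((P i).1 (x j))).toNat) (Finset.mem_univ j)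
    have := Int.self_le_toNat (log ((P i).1 (x j)))
    omega
  let N' : ℕ := (N + C).toNat
  have hN' : N + C ≤ N' := Int.self_le_toNat _
  have hw : ∀ i : ι, ∃ w : K, (P i).1 (w - 1) ≤ exp (-(N' : ℤ)) ∧
      ∀ j, j ≠ i → (P j).1 w ≤ exp (-(N' : ℤ)) := by
    intro i
    obtain ⟨w, hw1, hw2⟩ := exists_val_sub_one_le_forall_le (P i)
      ((Finset.univ.erase i).image P) (by
        intro h
        obtain ⟨j, hj, hji⟩ := Finset.mem_image.mp h
        exact (Finset.mem_erase.mp hj).1 (hP hji)) N'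
    refine ⟨w, hw1, fun j hj => hw2 _ (Finset.mem_image.mpr ⟨j, Finset.mem_erase.mpr ⟨hj, Finset.mem_univ j⟩, rfl⟩)⟩
  choose w hw1 hw2 using hw
  refine ⟨∑ j, w j * x j, fun i => ?_⟩
  have hsplit : ∑ j, w j * x j - x i = ∑ j, (if j = i then (w j - 1) * x j else w j * x j) := by
    rw [← Finset.sum_erase_add _ _ (Finset.mem_univ i), ← Finset.sum_erase_add (s := Finset.univ) (a := i) _ (Finset.mem_univ i)]
    simp only [if_true]
    have : ∑ j ∈ Finset.univ.erase i, (if j = i then (w j - 1) * x j else w j * x j) =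
        ∑ j ∈ Finset.univ.erase i, w j * x j := by
      apply Finset.sum_congr rfl
      intro j hj
      rw [if_neg (Finset.mem_erase.mp hj).1]
    rw [this]
    ring
  rw [hsplit]
  apply Valuation.map_sum_le
  intro j _
  have hbound : exp (-(N' : ℤ)) * exp (C : ℤ) ≤ exp (-N) := by
    rw [← exp_add, exp_le_exp]; omega
  by_cases hji : j = i
  · subst hji
    rw [if_pos rfl, map_mul]
    exact le_trans (mul_le_mul' (hw1 j) (hC j j)) hbound
  · rw [if_neg hji, map_mul]
    exact le_trans (mul_le_mul' (hw2 j i (Ne.symm hji)) (hC i j)) hbound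

end Groth.Agent.Lib.helper16.FF
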