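import Groth.Agent.Lib.helper16.FSepPlaces
import Groth.Agent.Lib.helper16.FFBasic
import Mathlib.RingTheory.TensorProduct.Maps

/-! Helper library (helper16): places of the constant extension to an algebraic closure are
defined over a finite extension (S12593). -/

set_option autoImplicit false
set_option linter.style.haveILetI false

universe u v

namespace Groth.Agent.Lib.helper16.FDefFin

open FunFld WithZero TensorProduct IntermediateField
open Groth.Agent.Lib.helper16 Groth.Agent.Lib.helper16.FF

section

variable {k kbar : Type u} {K Kbar : Type v} [Field k] [Field kbar] [Field K] [Field Kbar]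
    [Algebra k kbar] [Algebra k K] [Algebra K Kbar] [Algebra kbar Kbar]
    [Algebra k Kbar] [IsScalarTower k kbar Kbar] [IsScalarTower k K Kbar]

/-- every element of `K̄` is a polynomial over `K` in finitely many constants -/
theorem exists_finset_mem_adjoin
    (h : Function.Surjective (Algebra.TensorProduct.productMap
      (IsScalarTower.toAlgHom k kbar Kbar) (IsScalarTower.toAlgHom k K Kbar))) (z : Kbar) :
    ∃ s : Finset kbar, z ∈ Algebra.adjoin K (algebraMap kbar Kbar '' (s : Set kbar)) := by
  classical
  obtain ⟨t, rfl⟩ := h z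
  induction t using TensorProduct.induction_on with
  | zero => exact ⟨∅, by rw [map_zero]; exact Subalgebra.zero_mem _⟩
  | tmul c y =>
    refine ⟨{c}, ?_⟩
    rw [Algebra.TensorProduct.productMap_apply_tmul]
    refine Subalgebra.mul_mem _ (Algebra.subset_adjoin ⟨c, by simp, rfl⟩) ?_
    exact Subalgebra.algebraMap_mem _ y
  | add a b ha hb =>
    obtain ⟨s₁, h₁⟩ := ha
    obtain ⟨s₂, h₂⟩ := hb
    refine ⟨s₁ ∪ s₂, ?_⟩
    rw [map_add]
    refine Subalgebra.add_mem _ (Algebra.adjoin_mono ?_ h₁) (Algebra.adjoin_mono ?_ h₂)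
    · apply Set.image_mono
      rw [Finset.coe_union]
      exact Set.subset_union_left
    · apply Set.image_mono
      rw [Finset.coe_union]
      exact Set.subset_union_right

/-- the constant extension to an algebraic closure is a function field -/
theorem isFunctionField_algClosure [IsAlgClosed kbar] [Algebra.IsAlgebraic k kbar]
    (h : Function.Surjective (Algebra.TensorProduct.productMap
      (IsScalarTower.toAlgHom k kbar Kbar) (IsScalarTower.toAlgHom k K Kbar)))
    (hK : IsFunctionField k K) : IsFunctionField kbar Kbar := by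
  classical
  refine ⟨?_, ?_⟩
  · obtain ⟨x, hx, hfd⟩ := hK.1
    refine ⟨algebraMap K Kbar x, ?_, ?_⟩
    · intro halg
      have h1 : IsAlgebraic k (algebraMap K Kbar x) := halg.restrictScalars k
      rw [isAlgebraic_algebraMap_iff (algebraMap K Kbar).injective] at h1
      exact hx h1
    · obtain ⟨x', hx'def⟩ : ∃ x' : Kbar, x' = algebraMap K Kbar x := ⟨_, rfl⟩
      rw [← hx'def]
      let B := Module.finBasis k⟮x⟯ K
      -- the image of `k(x)` lies in `k̄(x)`
      have hsub : ∀ r : K, r ∈ k⟮x⟯ → algebraMap K Kbar r ∈ kbar⟮x'⟯ := by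
        let L : IntermediateField k K :=
          ((kbar⟮x'⟯).restrictScalars k).comap (IsScalarTower.toAlgHom k K Kbar)
        have hle : k⟮x⟯ ≤ L := by
          rw [IntermediateField.adjoin_le_iff]
          intro y hy
          rw [Set.mem_singleton_iff.mp hy]
          show algebraMap K Kbar x ∈ kbar⟮x'⟯
          rw [← hx'def]
          exact IntermediateField.mem_adjoin_simple_self kbar x'
        intro r hr
        exact hle hr
      have hspan : ∀ z : Kbar, z ∈ Submodule.span kbar⟮x'⟯
          (Set.range fun i => algebraMap K Kbar (B i)) := by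
        intro z
        obtain ⟨t, rfl⟩ := h z
        induction t using TensorProduct.induction_on with
        | zero => rw [map_zero]; exact Submodule.zero_mem _
        | tmul c y =>
          rw [Algebra.TensorProduct.productMap_apply_tmul]
          have hy : y = ∑ i, ((B.repr y i : k⟮x⟯) : K) * B i := by
            conv_lhs => rw [← B.sum_repr y]
            apply Finset.sum_congr rfl
            intro i _
            rfl
          show algebraMap kbar Kbar c * algebraMap K Kbar y ∈ _
          rw [hy, map_sum, Finset.mul_sum]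
          refine Submodule.sum_mem _ ?_
          intro i _
          have hmem : algebraMap kbar Kbar c * algebraMap K Kbar ((B.repr y i : k⟮x⟯) : K) ∈
              kbar⟮x'⟯ :=
            mul_mem (IntermediateField.algebraMap_mem _ c) (hsub _ (B.repr y i).2)
          have e1 : algebraMap kbar Kbar c * algebraMap K Kbar (((B.repr y i : k⟮x⟯) : K) * B i) =
              (⟨_, hmem⟩ : kbar⟮x'⟯) • algebraMap K Kbar (B i) := by
            rw [map_mul, ← mul_assoc]
            rfl
          rw [e1]
          exact Submodule.smul_mem _ _ (Submodule.subset_span ⟨i, rfl⟩)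
        | add a b ha hb => rw [map_add]; exact Submodule.add_mem _ ha hb
      refine Module.finite_def.mpr ?_
      have htop : Submodule.span kbar⟮x'⟯ (Set.range fun i => algebraMap K Kbar (B i)) = ⊤ :=
        Submodule.eq_top_iff'.mpr hspan
      rw [← htop]
      exact Submodule.fg_span (Set.finite_range _)
  · intro y hy
    have hint : IsIntegral kbar y := hy.isIntegral
    have hdeg1 : (minpoly kbar y).degree = 1 :=
      IsAlgClosed.degree_eq_one_of_irreducible kbar (minpoly.irreducible hint)
    obtain ⟨α, hα⟩ := minpoly.mem_range_of_degree_eq_one kbar y hdeg1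
    exact ⟨α, hα⟩

/-- **S12593** -/
theorem main [IsAlgClosure k kbar]
    (h : Function.Bijective (Algebra.TensorProduct.productMap
      (IsScalarTower.toAlgHom k kbar Kbar) (IsScalarTower.toAlgHom k K Kbar)))
    (hK : IsFunctionField k K) (Q : Place kbar Kbar) :
    ∃ k' : IntermediateField k kbar, FiniteDimensional k k' ∧
      (∃ z ∈ Algebra.adjoin K (Set.range fun c : k' => algebraMap kbar Kbar c),
        Q.1 z = WithZero.exp (-1)) ∧
      ∀ Q' : Place kbar Kbar,
        (∃ e : ℕ, ∀ z ∈ Algebra.adjoin K (Set.range fun c : k' => algebraMap kbar Kbar c),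
          Q'.1 z = Q.1 z ^ e) → Q' = Q := by
  classical
  haveI : IsAlgClosed kbar := IsAlgClosure.isAlgClosed k
  haveI : Algebra.IsAlgebraic k kbar := IsAlgClosure.isAlgebraic
  have hKb : IsFunctionField kbar Kbar := isFunctionField_algClosure h.2 hK
  obtain ⟨π, hπ⟩ := exists_uniformizer Q
  have hπ0 : π ≠ 0 := by
    rintro rfl
    rw [map_zero] at hπ
    exact exp_ne_zero hπ.symm
  have hfin := FSPl.finite_val_ne_one hKb hπ0
  obtain ⟨S, hSdef⟩ : ∃ S : Finset (Place kbar Kbar), S = hfin.toFinset.erase Q := ⟨_, rfl⟩
  have hQS : Q ∉ S := by rw [hSdef]; exact Finset.notMem_erase _ _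
  obtain ⟨t, htQ, htS⟩ := exists_val_lt_one_forall_one_lt Q S hQS
  obtain ⟨s₁, hs₁⟩ := exists_finset_mem_adjoin h.2 π
  obtain ⟨s₂, hs₂⟩ := exists_finset_mem_adjoin h.2 t
  haveI hfd : FiniteDimensional k (IntermediateField.adjoin k ((s₁ ∪ s₂ : Finset kbar) : Set kbar)) :=
    IntermediateField.finiteDimensional_adjoin (fun x _ => Algebra.IsIntegral.isIntegral x)
  refine ⟨IntermediateField.adjoin k ((s₁ ∪ s₂ : Finset kbar) : Set kbar), hfd, ?_, ?_⟩
  · refine ⟨π, Algebra.adjoin_mono ?_ hs₁, hπ⟩
    rintro _ ⟨c, hc, rfl⟩
    refine ⟨⟨c, IntermediateField.subset_adjoin k _ ?_⟩, rfl⟩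
    rw [Finset.coe_union]
    exact Or.inl hc
  · rintro Q' ⟨e, he⟩
    have hπA : π ∈ Algebra.adjoin K (Set.range fun c : IntermediateField.adjoin k
        ((s₁ ∪ s₂ : Finset kbar) : Set kbar) => algebraMap kbar Kbar c) := by
      refine Algebra.adjoin_mono ?_ hs₁
      rintro _ ⟨c, hc, rfl⟩
      refine ⟨⟨c, IntermediateField.subset_adjoin k _ ?_⟩, rfl⟩
      rw [Finset.coe_union]
      exact Or.inl hc
    have htA : t ∈ Algebra.adjoin K (Set.range fun c : IntermediateField.adjoin k
        ((s₁ ∪ s₂ : Finset kbar) : Set kbar) => algebraMap kbar Kbar c) := by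
      refine Algebra.adjoin_mono ?_ hs₂
      rintro _ ⟨c, hc, rfl⟩
      refine ⟨⟨c, IntermediateField.subset_adjoin k _ ?_⟩, rfl⟩
      rw [Finset.coe_union]
      exact Or.inr hc
    have he0 : e ≠ 0 := by
      rintro rfl
      have := he 0 (Subalgebra.zero_mem _)
      rw [map_zero, pow_zero] at this
      exact zero_ne_one this
    have h1 : Q'.1 π < 1 := by
      rw [he π hπA, hπ, ← exp_nsmul, ← exp_zero, exp_lt_exp]
      have : 0 < (e : ℤ) := by omega
      simp only [nsmul_eq_mul]
      omega
    have h2 : Q'.1 t < 1 := by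
      rw [he t htA]
      exact pow_lt_one₀ zero_le htQ he0
    by_contra hne
    have hmem : Q' ∈ S := by
      rw [hSdef, Finset.mem_erase, Set.Finite.mem_toFinset]
      exact ⟨hne, ne_of_lt h1⟩
    exact absurd (htS Q' hmem) (not_lt.mpr (le_of_lt h2))

end

end Groth.Agent.Lib.helper16.FDefFin
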