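import Groth.Agent.Lib.helper16.FAdjHom

/-! Helper library (helper16): dehomogenisation of an irreducible ternary form
(towards S11072). -/

set_option autoImplicit false

namespace Groth.Agent.Lib.helper16.FDH

open MvPolynomial
open Groth.Agent.Lib.helper16

variable {k : Type*} [Field k] [Infinite k]

/-- dehomogenisation `X₀ ↦ 1` -/
noncomputable def dehom : MvPolynomial (Fin 3) k →ₐ[k] MvPolynomial (Fin 2) k :=
  aeval ![(1 : MvPolynomial (Fin 2) k), X 0, X 1]

omit [Infinite k] in
theorem dehom_hom (g : MvPolynomial (Fin 2) k) : dehom (FAH.hom g) = g := by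
  unfold dehom
  rw [FAH.aeval_hom]
  have : (![X 0, X 1] : Fin 2 → MvPolynomial (Fin 2) k) = X := by
    funext i; fin_cases i <;> rfl
  rw [this, aeval_X_left_apply]

omit [Infinite k] in
theorem aeval_dehom {B : Type*} [CommRing B] [Algebra k B] (H : MvPolynomial (Fin 3) k)
    (a b : B) : aeval ![a, b] (dehom H) = aeval ![1, a, b] H := by
  unfold dehom
  rw [comp_aeval_apply]
  congr 2
  funext i
  fin_cases i <;> simp

/-- dehomogenisation is injective on forms of a given degree -/
theorem eq_zero_of_dehom_eq_zero {H : MvPolynomial (Fin 3) k} {d : ℕ} (hH : H.IsHomogeneous d)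
    (h0 : dehom H = 0) : H = 0 := by
  have h1 : X 0 * H = 0 := by
    apply MvPolynomial.funext
    intro w
    rw [map_mul, eval_X, map_zero]
    by_cases hw : w 0 = 0
    · rw [hw, zero_mul]
    · have e1 : w = fun i => w 0 * ![(1 : k), w 1 / w 0, w 2 / w 0] i := by
        funext i
        fin_cases i
        · show w 0 = w 0 * 1
          rw [mul_one]
        · show w 1 = w 0 * (w 1 / w 0)
          rw [mul_div_cancel₀ _ hw]
        · show w 2 = w 0 * (w 2 / w 0)
          rw [mul_div_cancel₀ _ hw]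
      have e2 : eval w H = aeval w H := rfl
      rw [e2, e1, FT.aeval_mul_of_isHomogeneous hH, ← aeval_dehom, h0, map_zero, mul_zero,
        mul_zero]
  rcases mul_eq_zero.mp h1 with h | h
  · exact absurd h (X_ne_zero 0)
  · exact h

theorem eq_of_dehom_eq {H H' : MvPolynomial (Fin 3) k} {d : ℕ} (hH : H.IsHomogeneous d)
    (hH' : H'.IsHomogeneous d) (h : dehom H = dehom H') : H = H' := by
  have := eq_zero_of_dehom_eq_zero (hH.sub hH') (by rw [map_sub, h, sub_self])
  exact sub_eq_zero.mp this

omit [Infinite k] in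
theorem totalDegree_dehom_le (H : MvPolynomial (Fin 3) k) {d : ℕ} (hH : H.IsHomogeneous d) :
    (dehom H).totalDegree ≤ d := by
  unfold dehom
  rw [aeval_def, eval₂_eq']
  apply totalDegree_finsetSum_le
  intro m hm
  have hd := FAM.deg3 hH hm
  rw [Fin.prod_univ_three]
  refine le_trans (totalDegree_mul _ _) ?_
  rw [show (algebraMap k (MvPolynomial (Fin 2) k)) (coeff m H) = C (coeff m H) from rfl,
    totalDegree_C, zero_add]
  refine le_trans (totalDegree_mul _ _) ?_
  have h1 : ((![(1 : MvPolynomial (Fin 2) k), X 0, X 1] 0) ^ m 0 *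
      (![(1 : MvPolynomial (Fin 2) k), X 0, X 1] 1) ^ m 1).totalDegree ≤ m 1 := by
    refine le_trans (totalDegree_mul _ _) ?_
    have h2 : ((![(1 : MvPolynomial (Fin 2) k), X 0, X 1] 0) ^ m 0).totalDegree = 0 := by
      show ((1 : MvPolynomial (Fin 2) k) ^ m 0).totalDegree = 0
      rw [one_pow, totalDegree_one]
    have h3 : ((![(1 : MvPolynomial (Fin 2) k), X 0, X 1] 1) ^ m 1).totalDegree = m 1 := by
      show ((X 0 : MvPolynomial (Fin 2) k) ^ m 1).totalDegree = m 1
      exact totalDegree_X_pow 0 _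
    rw [h2, h3, zero_add]
  have h4 : ((![(1 : MvPolynomial (Fin 2) k), X 0, X 1] 2) ^ m 2).totalDegree = m 2 := by
    show ((X 1 : MvPolynomial (Fin 2) k) ^ m 2).totalDegree = m 2
    exact totalDegree_X_pow 1 _
  rw [h4]
  omega

/-- an irreducible form not divisible by `X₀` is the homogenisation of its dehomogenisation -/
theorem hom_dehom {F : MvPolynomial (Fin 3) k} (hhom : F.IsHomogeneous F.totalDegree)
    (hX : ¬ X 0 ∣ F) : FAH.hom (dehom F) = F ∧ (dehom F).totalDegree = F.totalDegree := by
  obtain ⟨e, hedef⟩ : ∃ e : ℕ, e = F.totalDegree := ⟨_, rfl⟩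
  obtain ⟨d, hddef⟩ : ∃ d : ℕ, d = (dehom F).totalDegree := ⟨_, rfl⟩
  rw [← hedef] at hhom ⊢
  have hde : d ≤ e := by rw [hddef]; exact totalDegree_dehom_le F hhom
  have h1 : (X 0 ^ (e - d) * FAH.hom (dehom F)).IsHomogeneous e := by
    have := (isHomogeneous_X_pow (R := k) (0 : Fin 3) (e - d)).mul (FAH.hom_isHomogeneous (dehom F))
    rw [← hddef] at this
    have h2 : e - d + d = e := by omega
    rwa [h2] at this
  have h3 : X 0 ^ (e - d) * FAH.hom (dehom F) = F := by
    apply eq_of_dehom_eq h1 hhom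
    rw [map_mul, map_pow, dehom_hom]
    have : dehom (X 0 : MvPolynomial (Fin 3) k) = 1 := by
      unfold dehom
      rw [aeval_X]
      rfl
    rw [this, one_pow, one_mul]
  have h4 : e - d = 0 := by
    by_contra hne
    apply hX
    rw [← h3]
    exact Dvd.dvd.mul_right (dvd_pow_self _ hne) _
  rw [h4, pow_zero, one_mul] at h3
  refine ⟨h3, ?_⟩
  rw [← hddef]
  omega

/-- the dehomogenisation of an irreducible form not divisible by `X₀` is irreducible -/
theorem irreducible_dehom {F : MvPolynomial (Fin 3) k} (hF : Irreducible F)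
    (hhom : F.IsHomogeneous F.totalDegree) (hX : ¬ X 0 ∣ F) : Irreducible (dehom F) := by
  obtain ⟨hFhom, hdeg⟩ := hom_dehom hhom hX
  obtain ⟨f, hfdef⟩ : ∃ f : MvPolynomial (Fin 2) k, f = dehom F := ⟨_, rfl⟩
  rw [← hfdef] at hFhom hdeg ⊢
  have hf0 : f ≠ 0 := by
    rintro rfl
    apply hF.ne_zero
    rw [← hFhom]
    unfold FAH.hom
    rw [support_zero, Finset.sum_empty]
  refine ⟨?_, ?_⟩
  · intro hu
    rw [isUnit_iff_totalDegree_of_isReduced] at hu
    rw [hu.2] at hdeg
    rw [← hdeg, ← totalDegree_zero_iff_isHomogeneous, ← hdeg] at hhom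
    have h1 := totalDegree_eq_zero_iff_eq_C.mp hdeg.symm
    apply hF.not_isUnit
    rw [h1]
    apply IsUnit.map
    rw [isUnit_iff_ne_zero]
    intro h0
    apply hF.ne_zero
    rw [h1, h0, map_zero]
  · intro g h hgh
    have hg0 : g ≠ 0 := by
      rintro rfl
      exact hf0 (by rw [hgh, zero_mul])
    have hh0 : h ≠ 0 := by
      rintro rfl
      exact hf0 (by rw [hgh, mul_zero])
    have hdeg' : g.totalDegree + h.totalDegree = F.totalDegree := by
      rw [← hdeg, hgh, totalDegree_mul_of_isDomain hg0 hh0]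
    have h1 : (FAH.hom g * FAH.hom h).IsHomogeneous F.totalDegree := by
      have := (FAH.hom_isHomogeneous g).mul (FAH.hom_isHomogeneous h)
      rwa [hdeg'] at this
    have h2 : FAH.hom g * FAH.hom h = F := by
      apply eq_of_dehom_eq h1 hhom
      rw [map_mul, dehom_hom, dehom_hom, ← hgh, hfdef]
    rcases hF.isUnit_or_isUnit h2.symm with hu | hu
    · left
      have := hu.map dehom
      rwa [dehom_hom] at this
    · right
      have := hu.map dehom
      rwa [dehom_hom] at this

end Groth.Agent.Lib.helper16.FDH
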