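import Groth.Agent.Lib.helper16.FSepK
import Groth.Agent.Lib.helper16.FXExt
import Groth.Prelude.Def_LocRes

/-! Helper library (helper16): different exponents read through Laurent expansions. -/

set_option autoImplicit false

namespace Groth.Agent.Lib.helper16.FDE

open FunFld WithZero Module Groth.Agent.Lib.helper16.FF Groth.Agent.Lib.helper16.FX
open scoped LaurentSeries

section laurent

variable {F : Type*} [Field F]

theorem val_eq_exp_iff {f : F⸨X⸩} {D : ℤ} :
    Valued.v f = exp (-D) ↔ (∀ n : ℤ, n < D → f.coeff n = 0) ∧ f.coeff D ≠ 0 := by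
  constructor
  · intro h
    refine ⟨(LaurentSeries.valuation_le_iff_coeff_lt_eq_zero F).mp h.le, fun h0 => ?_⟩
    have h1 : Valued.v f ≤ exp (-(D + 1)) := by
      rw [LaurentSeries.valuation_le_iff_coeff_lt_eq_zero F]
      intro n hn
      rcases (show n < D ∨ n = D by omega) with h2 | h2
      · exact (LaurentSeries.valuation_le_iff_coeff_lt_eq_zero F).mp h.le n h2
      · rw [h2]; exact h0
    rw [h, exp_le_exp] at h1
    omega
  · rintro ⟨h1, h2⟩
    have h3 : Valued.v f ≤ exp (-D) := (LaurentSeries.valuation_le_iff_coeff_lt_eq_zero F).mpr h1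
    have h4 : ¬ Valued.v f ≤ exp (-(D + 1)) := by
      intro h
      exact h2 ((LaurentSeries.valuation_le_iff_coeff_lt_eq_zero F).mp h D (by omega))
    have h5 : Valued.v f ≠ 0 := by
      intro h0
      apply h4
      rw [h0]
      exact zero_le
    obtain ⟨m, hm⟩ : ∃ m : ℤ, Valued.v f = exp m := ⟨log (Valued.v f), (exp_log h5).symm⟩
    rw [hm, exp_le_exp] at h3 h4
    rw [hm]
    congr 1
    omega

/-- order of the derivative of a Laurent series of order `n` -/
theorem val_D_of_val_eq {f : F⸨X⸩} {n : ℤ} (hf : Valued.v f = exp (-n)) :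
    ((n : F) ≠ 0 → Valued.v (LocRes.D F f) = exp (-(n - 1))) ∧
    ((n : F) = 0 → Valued.v (LocRes.D F f) ≤ exp (-n)) := by
  obtain ⟨h1, h2⟩ := val_eq_exp_iff.mp hf
  constructor
  · intro hn
    rw [val_eq_exp_iff]
    constructor
    · intro m hm
      rw [LocRes.D_coeff, h1 (m + 1) (by omega), smul_zero]
    · rw [LocRes.D_coeff, sub_add_cancel, zsmul_eq_mul]
      exact mul_ne_zero hn h2
  · intro hn
    rw [LaurentSeries.valuation_le_iff_coeff_lt_eq_zero F]
    intro m hm
    rw [LocRes.D_coeff]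
    rcases (show m + 1 < n ∨ m + 1 = n by omega) with h3 | h3
    · rw [h1 (m + 1) h3, smul_zero]
    · rw [h3, zsmul_eq_mul, hn, zero_mul]

end laurent

section deriv

variable {k : Type*} {K : Type*} {F : Type*} [Field k] [Field K] [Field F] [Algebra k K]
  [Algebra k F]

/-- the expansion derivation factors through Kähler differentials -/
theorem D_eq_of_kaehler (φ : K →ₐ[k] F⸨X⸩) {x x' h : K}
    (hh : KaehlerDifferential.D k K x = h • KaehlerDifferential.D k K x') :
    LocRes.D F (φ x) = φ h * LocRes.D F (φ x') := by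
  letI := φ.toRingHom.toAlgebra
  haveI : IsScalarTower k K F⸨X⸩ := LocRes.isScalarTower_exp φ
  have := congrArg (LocRes.dExp φ).liftKaehlerDifferential hh
  rw [map_smul, Derivation.liftKaehlerDifferential_comp_D,
    Derivation.liftKaehlerDifferential_comp_D] at this
  exact this

theorem kaehler_ne_zero_of_D_ne_zero (φ : K →ₐ[k] F⸨X⸩) {x : K} (hx : LocRes.D F (φ x) ≠ 0) :
    KaehlerDifferential.D k K x ≠ 0 := by
  intro h0
  apply hx
  have h1 : KaehlerDifferential.D k K x = (0 : K) • KaehlerDifferential.D k K x := by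
    rw [h0, smul_zero]
  rw [D_eq_of_kaehler φ h1, map_zero, zero_mul]

theorem vDiff_one (φ : K →ₐ[k] F⸨X⸩) (x : K) :
    LocRes.vDiff φ 1 x = Valued.v (LocRes.D F (φ x)) := by
  unfold LocRes.vDiff
  rw [map_one, one_mul]

theorem ordDiff_eq_add (P : Place k K) (φ : K →ₐ[k] F⸨X⸩) (hφ : LocRes.IsExpansionAt P.1 φ)
    {x x' h : K} (hh : KaehlerDifferential.D k K x = h • KaehlerDifferential.D k K x')
    (hx : LocRes.vDiff φ 1 x ≠ 0) :
    LocRes.vDiff φ 1 x' ≠ 0 ∧ h ≠ 0 ∧
      LocRes.ordDiff φ 1 x = P.ord h + LocRes.ordDiff φ 1 x' := by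
  have h1 : LocRes.vDiff φ 1 x = P.1 h * LocRes.vDiff φ 1 x' := by
    rw [vDiff_one, vDiff_one, D_eq_of_kaehler φ hh, map_mul, hφ.1 h]
  have h2 : P.1 h ≠ 0 := by
    intro h0
    rw [h0, zero_mul] at h1
    exact hx h1
  have h3 : LocRes.vDiff φ 1 x' ≠ 0 := by
    intro h0
    rw [h0, mul_zero] at h1
    exact hx h1
  refine ⟨h3, fun h0 => h2 (by rw [h0, map_zero]), ?_⟩
  unfold LocRes.ordDiff Place.ord
  rw [h1, log_mul h2 h3]
  ring

end deriv

section ext

variable {k : Type*} {K K' : Type*} [Field k] [Field K] [Field K'] [Algebra k K] [Algebra K K']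
  [Algebra k K'] [IsScalarTower k K K']

theorem kaehler_map {x x' h : K}
    (hh : KaehlerDifferential.D k K x = h • KaehlerDifferential.D k K x') :
    KaehlerDifferential.D k K' (algebraMap K K' x) =
      algebraMap K K' h • KaehlerDifferential.D k K' (algebraMap K K' x') := by
  have := congrArg (KaehlerDifferential.map k k K K') hh
  rw [map_smul, KaehlerDifferential.map_D, KaehlerDifferential.map_D, ← algebraMap_smul K'] at this
  exact this

variable {F F' : Type*} [Field F] [Algebra k F] [Field F'] [Algebra k F']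

/-- the different exponent transforms trivially under change of differential -/
theorem diffExp_eq_of_kaehler {P : Place k K} {Q : Place k K'} {e : ℕ} (he : IsOverWith Q P e)
    (φ : K →ₐ[k] F⸨X⸩) (hφ : LocRes.IsExpansionAt P.1 φ)
    (ψ : K' →ₐ[k] F'⸨X⸩) (hψ : LocRes.IsExpansionAt Q.1 ψ)
    {x x' h : K} (hh : KaehlerDifferential.D k K x = h • KaehlerDifferential.D k K x')
    (hx : LocRes.vDiff φ 1 x ≠ 0) (hx' : LocRes.vDiff ψ 1 (algebraMap K K' x) ≠ 0) :
    LocRes.vDiff φ 1 x' ≠ 0 ∧ LocRes.vDiff ψ 1 (algebraMap K K' x') ≠ 0 ∧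
      LocRes.diffExp φ ψ e x = LocRes.diffExp φ ψ e x' := by
  obtain ⟨h1, h0, h2⟩ := ordDiff_eq_add P φ hφ hh hx
  obtain ⟨h3, -, h4⟩ := ordDiff_eq_add Q ψ hψ (kaehler_map hh) hx'
  refine ⟨h1, h3, ?_⟩
  unfold LocRes.diffExp
  rw [h2, h4, isOverWith_ord he]
  ring

end ext

section main

universe u v w

variable {k : Type u} {K K' : Type v} [Field k] [Field K] [Field K'] [Algebra k K] [Algebra K K']
  [Algebra k K'] [IsScalarTower k K K'] {F F' : Type w} [Field F] [Algebra k F] [Field F']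
  [Algebra k F']

theorem exists_kaehler_smul (hK : IsFunctionField k K) (hg : IsGeometric k K) (x : K) {x' : K}
    (hx' : KaehlerDifferential.D k K x' ≠ 0) :
    ∃ h : K, KaehlerDifferential.D k K x = h • KaehlerDifferential.D k K x' := by
  have h1 := Groth.Agent.Lib.helper16.FS.finrank_kaehler hK hg
  obtain ⟨c, hc⟩ := (finrank_eq_one_iff_of_nonzero' _ hx').mp h1 (KaehlerDifferential.D k K x)
  exact ⟨c, hc.symm⟩

/-- S12571 -/
theorem diffExp_eq_diffExp (hK : IsFunctionField k K) (hg : IsGeometric k K)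
    {P : Place k K} {Q : Place k K'} {e : ℕ} (he : IsOverWith Q P e)
    (φ : K →ₐ[k] F⸨X⸩) (hφ : LocRes.IsExpansionAt P.1 φ)
    (ψ : K' →ₐ[k] F'⸨X⸩) (hψ : LocRes.IsExpansionAt Q.1 ψ)
    {x : K} (hx : LocRes.vDiff φ 1 x ≠ 0) (hx' : LocRes.vDiff ψ 1 (algebraMap K K' x) ≠ 0)
    {x' : K} (hx2 : LocRes.vDiff φ 1 x' ≠ 0) :
    LocRes.diffExp φ ψ e x = LocRes.diffExp φ ψ e x' := by
  have h1 : KaehlerDifferential.D k K x' ≠ 0 := by
    apply kaehler_ne_zero_of_D_ne_zero φ
    intro h0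
    apply hx2
    rw [vDiff_one, h0, map_zero]
  obtain ⟨h, hh⟩ := exists_kaehler_smul hK hg x h1
  exact (diffExp_eq_of_kaehler he φ hφ ψ hψ hh hx hx').2.2

/-- S12570 -/
theorem diffExp_tame_wild (hK : IsFunctionField k K) (hg : IsGeometric k K)
    {P : Place k K} {Q : Place k K'} {e : ℕ} (he : IsOverWith Q P e)
    (φ : K →ₐ[k] F⸨X⸩) (hφ : LocRes.IsExpansionAt P.1 φ)
    (ψ : K' →ₐ[k] F'⸨X⸩) (hψ : LocRes.IsExpansionAt Q.1 ψ)
    {x : K} (hx : LocRes.vDiff φ 1 x ≠ 0) (hx' : LocRes.vDiff ψ 1 (algebraMap K K' x) ≠ 0) :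
    (¬ (ringChar K ∣ e) → LocRes.diffExp φ ψ e x = (e : ℤ) - 1) ∧
    (ringChar K ∣ e → (e : ℤ) ≤ LocRes.diffExp φ ψ e x) := by
  obtain ⟨t, ht⟩ := exists_uniformizer P
  -- the differential of `t` below
  have h1 : Valued.v (φ t) = exp (-(1 : ℤ)) := by rw [hφ.1 t, ht]
  have h2 : Valued.v (LocRes.D F (φ t)) = 1 := by
    have := (val_D_of_val_eq h1).1 (by rw [Int.cast_one]; exact one_ne_zero)
    rw [this, sub_self, neg_zero, exp_zero]
  have h3 : LocRes.vDiff φ 1 t ≠ 0 := by
    rw [vDiff_one, h2]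
    exact one_ne_zero
  have h4 : LocRes.ordDiff φ 1 t = 0 := by
    unfold LocRes.ordDiff
    rw [vDiff_one, h2, log_one, neg_zero]
  -- transfer to `t`
  have h5 : KaehlerDifferential.D k K t ≠ 0 := by
    apply kaehler_ne_zero_of_D_ne_zero φ
    intro h0
    rw [h0, map_zero] at h2
    exact zero_ne_one h2
  obtain ⟨h, hh⟩ := exists_kaehler_smul hK hg x h5
  obtain ⟨-, h6, h7⟩ := diffExp_eq_of_kaehler he φ hφ ψ hψ hh hx hx'
  rw [h7]
  -- the differential of `t` above
  have h8 : Valued.v (ψ (algebraMap K K' t)) = exp (-(e : ℤ)) := by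
    rw [hψ.1, he t, ht, ← exp_nsmul]
    congr 1
    simp
  have hchar : ((e : ℤ) : F') = 0 ↔ ringChar K ∣ e := by
    rw [Int.cast_natCast, ringChar.spec F', ← Algebra.ringChar_eq k F', Algebra.ringChar_eq k K]
  obtain ⟨h9, h10⟩ := val_D_of_val_eq h8
  unfold LocRes.diffExp
  rw [h4, mul_zero, sub_zero]
  constructor
  · intro hne
    have := h9 (fun h0 => hne (hchar.mp h0))
    unfold LocRes.ordDiff
    rw [vDiff_one, this, log_exp]
    ring
  · intro hdvd
    have := h10 (hchar.mpr hdvd)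
    unfold LocRes.ordDiff
    rw [vDiff_one] at h6 ⊢
    have h11 := (log_le_iff_le_exp h6).mpr this
    omega

end main

end Groth.Agent.Lib.helper16.FDE
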