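import Groth.Agent.Lib.helper16.FNorm3
import Groth.Agent.Lib.helper16.FDiffExp
import Groth.Agent.Lib.helper16.FNonsing

/-! Helper library (helper16): the different exponent at a place of residue degree one is the
order of `f'(s)` for the minimal polynomial `f` of a suitable uniformizer `s`. -/

set_option autoImplicit false

namespace Groth.Agent.Lib.helper16.FDM

open FunFld WithZero Polynomial Module Groth.Agent.Lib.helper16.FF Groth.Agent.Lib.helper16.FX
open scoped IntermediateField LaurentSeries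

section laurent

variable {F : Type*} [Field F]

theorem val_D_le_one {f : F⸨X⸩} (hf : Valued.v f ≤ 1) : Valued.v (LocRes.D F f) ≤ 1 := by
  have h1 : (1 : ℤᵐ⁰) = exp (-(0 : ℤ)) := by rw [neg_zero, exp_zero]
  rw [h1, LaurentSeries.valuation_le_iff_coeff_lt_eq_zero F] at hf ⊢
  intro n hn
  rw [LocRes.D_coeff]
  rcases (show n + 1 < 0 ∨ n + 1 = 0 by omega) with h | h
  · rw [hf (n + 1) h, smul_zero]
  · rw [h, zero_smul]

theorem val_D_of_val_eq_exp_neg_one {f : F⸨X⸩} (hf : Valued.v f = exp (-1)) :
    Valued.v (LocRes.D F f) = 1 := by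
  have h1 := (FDE.val_D_of_val_eq (n := 1) hf).1 (by rw [Int.cast_one]; exact one_ne_zero)
  rw [h1, sub_self, neg_zero, exp_zero]

end laurent

universe u v w

variable {k : Type u} {K K' : Type v} [Field k] [Field K] [Field K'] [Algebra k K] [Algebra K K']
  [Algebra k K'] [IsScalarTower k K K']

/-- differentiating `p(s)` in `Ω_{K'/k}` -/
theorem exists_poly_deriv (hK : IsFunctionField k K) (hg : IsGeometric k K) {t : K}
    (ht : KaehlerDifferential.D k K t ≠ 0) (s : K') (p : K[X]) :
    ∃ g : K[X], (∀ i, KaehlerDifferential.D k K (p.coeff i) =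
        g.coeff i • KaehlerDifferential.D k K t) ∧
      KaehlerDifferential.D k K' (aeval s p) =
        aeval s g • KaehlerDifferential.D k K' (algebraMap K K' t) +
          aeval s (derivative p) • KaehlerDifferential.D k K' s := by
  induction p using Polynomial.induction_on' with
  | add p q hp hq =>
    obtain ⟨gp, hp1, hp2⟩ := hp
    obtain ⟨gq, hq1, hq2⟩ := hq
    refine ⟨gp + gq, fun i => ?_, ?_⟩
    · rw [coeff_add, coeff_add, map_add, hp1, hq1, add_smul]
    · rw [map_add, map_add, hp2, hq2, map_add, map_add, map_add, add_smul, add_smul]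
      abel
  | monomial n a =>
    obtain ⟨c, hc⟩ := FDE.exists_kaehler_smul hK hg a ht
    refine ⟨monomial n c, fun i => ?_, ?_⟩
    · rw [coeff_monomial, coeff_monomial]
      split_ifs
      · exact hc
      · rw [map_zero, zero_smul]
    · rw [aeval_monomial, aeval_monomial, derivative_monomial, aeval_monomial,
        Derivation.leibniz, Derivation.leibniz_pow, FDE.kaehler_map hc, map_mul, map_natCast]
      rw [← Nat.cast_smul_eq_nsmul K', smul_smul, smul_smul, smul_smul, add_comm]
      congr 2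
      ring

variable [FiniteDimensional K K']

/-- valuation of `g(s)` for `g` integral with constant coefficient `1` and `v_Q(s) < 1` -/
theorem val_aeval_eq_one {P : Place k K} {Q : Place k K'} {e : ℕ} (he : IsOverWith Q P e)
    {s : K'} (hs : Q.1 s < 1) (g : K[X]) (hg0 : g.coeff 0 = 1)
    (hg : ∀ i, P.1 (g.coeff i) ≤ 1) : Q.1 (aeval s g) = 1 := by
  rw [aeval_eq_sum_range, Finset.sum_range_succ', hg0, pow_zero, one_smul, add_comm,
    Valuation.map_add_eq_of_lt_left, map_one]
  rw [map_one]
  apply Valuation.map_sum_lt _ one_ne_zero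
  intro i _
  rw [Algebra.smul_def, map_mul, he, map_pow]
  calc P.1 (g.coeff (i + 1)) ^ e * Q.1 s ^ (i + 1) ≤ 1 * Q.1 s ^ (i + 1) := by
        gcongr
        exact pow_le_one₀ zero_le (hg _)
    _ = Q.1 s ^ (i + 1) := one_mul _
    _ < 1 := pow_lt_one₀ zero_le hs (by omega)

/-- a surjection between residue fields gives equal degrees -/
theorem deg_eq_of_surjective (P : Place k K) (Q : Place k K') [P.1.HasExtension Q.1]
    (hf : Function.Surjective
      (algebraMap (IsLocalRing.ResidueField P.O) (IsLocalRing.ResidueField Q.O))) :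
    Q.deg = P.deg := by
  let ρ := algebraMap (IsLocalRing.ResidueField P.O) (IsLocalRing.ResidueField Q.O)
  have hρk : ∀ (c : k) (z : IsLocalRing.ResidueField P.O), ρ (c • z) = c • ρ z := by
    intro c z
    rw [Algebra.smul_def, Algebra.smul_def, map_mul]
    congr 1
    show ρ (IsLocalRing.residue P.O (algebraMap k P.O c)) =
      IsLocalRing.residue Q.O (algebraMap k Q.O c)
    rw [Valuation.HasExtension.algebraMap_residue_eq_residue_algebraMap]
    congr 1
    apply Subtype.ext
    show algebraMap K K' (algebraMap k K c) = algebraMap k K' c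
    rw [← IsScalarTower.algebraMap_apply]
  let L : IsLocalRing.ResidueField P.O →ₗ[k] IsLocalRing.ResidueField Q.O :=
    { toFun := ρ
      map_add' := map_add ρ
      map_smul' := hρk }
  have hbij : Function.Bijective L := ⟨ρ.injective, hf⟩
  exact (LinearEquiv.ofBijective L hbij).finrank_eq.symm

variable {F F' : Type w} [Field F] [Algebra k F] [Field F'] [Algebra k F']

/-- **S12572** -/
theorem main [Algebra.IsSeparable K K'] (hK : IsFunctionField k K) (hg : IsGeometric k K)
    {P : Place k K} {Q : Place k K'} {e : ℕ} (he : IsOverWith Q P e) (hdeg : Q.deg = P.deg)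
    (φ : K →ₐ[k] F⸨X⸩) (hφ : LocRes.IsExpansionAt P.1 φ)
    (ψ : K' →ₐ[k] F'⸨X⸩) (hψ : LocRes.IsExpansionAt Q.1 ψ)
    {x : K} (hx : LocRes.vDiff φ 1 x ≠ 0) (hx' : LocRes.vDiff ψ 1 (algebraMap K K' x) ≠ 0)
    {s : K'} (hs : Q.1 s = exp (-1))
    (hs' : ∀ Q' : Place k K', IsOver Q' P → Q' ≠ Q → Q'.1 s = 1) :
    IntermediateField.adjoin K ({s} : Set K') = ⊤ ∧
    Q.ord (aeval s (derivative (minpoly K s))) = LocRes.diffExp φ ψ e x := by
  classical
  have hQ : IsOver Q P := ⟨e, he⟩
  have hs0 : s ≠ 0 := by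
    rintro rfl
    rw [map_zero] at hs
    exact exp_ne_zero hs.symm
  -- the norm of `s`
  have hfin := finite_isOver (K' := K') hK.1 P
  have hnorm := FNm.main hK P s hfin.toFinset (fun _ => hfin.mem_toFinset)
  have hsum : ∑ Q' ∈ hfin.toFinset, (Q'.deg : ℤ) * Q'.ord s = (P.deg : ℤ) := by
    rw [Finset.sum_eq_single Q]
    · rw [FNm.ord_eq_one_of_val Q hs, mul_one, hdeg]
    · intro Q' hQ' hne
      rw [FNm.ord_eq_zero_of_val Q' (hs' Q' (hfin.mem_toFinset.mp hQ') hne), mul_zero]
    · intro h
      exact absurd (hfin.mem_toFinset.mpr hQ) h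
  have hdegpos : (0 : ℤ) < P.deg := by exact_mod_cast deg_pos hK.1 P
  have hN1 : P.ord (Algebra.norm K s) = 1 := by
    rw [hsum] at hnorm
    have : (P.deg : ℤ) * P.ord (Algebra.norm K s) = (P.deg : ℤ) * 1 := by rw [hnorm, mul_one]
    exact mul_left_cancel₀ hdegpos.ne' this
  have hint : IsIntegral K s := Algebra.IsIntegral.isIntegral s
  have hNgen : Algebra.norm K (IntermediateField.AdjoinSimple.gen K s) =
      (-1) ^ (minpoly K s).natDegree * (minpoly K s).coeff 0 := by
    rw [← IntermediateField.adjoin.powerBasis_gen hint,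
      Algebra.PowerBasis.norm_gen_eq_coeff_zero_minpoly, IntermediateField.adjoin.powerBasis_gen,
      IntermediateField.minpoly_gen, IntermediateField.adjoin.powerBasis_dim]
  have hN2 := Algebra.norm_eq_norm_adjoin K s
  rw [hN2, ord_pow] at hN1
  rcases Int.mul_eq_one_iff_eq_one_or_neg_one.mp hN1 with ⟨hm, ho⟩ | ⟨hm, -⟩
  swap
  · omega
  have hm' : finrank K⟮s⟯ K' = 1 := by exact_mod_cast hm
  have htop : K⟮s⟯ = ⊤ := IntermediateField.finrank_eq_one_iff_eq_top.mp hm'
  refine ⟨htop, ?_⟩
  set f := minpoly K s with hf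
  set t := f.coeff 0 with ht
  have hvt : P.1 t = exp (-1) := by
    have h0 : Algebra.norm K (IntermediateField.AdjoinSimple.gen K s) ≠ 0 := by
      intro h0
      rw [h0, ord_zero] at ho
      exact zero_ne_one ho
    have h1 := val_eq_exp_neg_ord P h0
    rw [ho, hNgen, map_mul, map_pow, Valuation.map_neg, map_one, one_pow, one_mul] at h1
    exact h1
  -- the differential of `t`
  have hDφt : Valued.v (LocRes.D F (φ t)) = 1 :=
    val_D_of_val_eq_exp_neg_one (by rw [hφ.1, hvt])
  have hDφt0 : LocRes.D F (φ t) ≠ 0 := by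
    intro h
    rw [h, map_zero] at hDφt
    exact zero_ne_one hDφt
  have hDt : KaehlerDifferential.D k K t ≠ 0 := FDE.kaehler_ne_zero_of_D_ne_zero φ hDφt0
  -- integrality of the coefficients
  have hcoef : ∀ i, P.1 (f.coeff i) ≤ 1 := by
    letI : Algebra P.O K' := ((algebraMap K K').comp (algebraMap P.O K)).toAlgebra
    haveI : IsScalarTower P.O K K' := IsScalarTower.of_algebraMap_eq (fun _ => rfl)
    have hsB : s ∈ semiLocal K' P := by
      intro Q' hQ'
      by_cases h : Q' = Q
      · rw [h, hs, ← exp_zero, exp_le_exp]; omega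
      · exact (hs' Q' hQ' h).le
    have hsint : IsIntegral P.O s := Groth.Agent.Lib.helper16.FCE.isIntegral_of_mem_semiLocal hK P hsB
    have hmin := minpoly.isIntegrallyClosed_eq_field_fractions' K hsint
    intro i
    rw [hf, hmin, coeff_map]
    exact ((minpoly P.O s).coeff i).2
  -- the Kähler computation
  obtain ⟨g, hg1, hg2⟩ := exists_poly_deriv hK hg hDt s f
  rw [hf, minpoly.aeval, map_zero] at hg2
  have hg0 : g.coeff 0 = 1 := by
    have h1 := hg1 0
    rw [← ht] at h1
    have h2 : (1 - g.coeff 0) • KaehlerDifferential.D k K t = 0 := by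
      rw [sub_smul, one_smul, ← h1, sub_self]
    rcases smul_eq_zero.mp h2 with h | h
    · exact (sub_eq_zero.mp h).symm
    · exact absurd h hDt
  have hgint : ∀ i, P.1 (g.coeff i) ≤ 1 := by
    intro i
    have h1 := FDE.D_eq_of_kaehler φ (hg1 i)
    have h2 := congrArg Valued.v h1
    rw [map_mul, hDφt, mul_one, hφ.1] at h2
    rw [← h2]
    exact val_D_le_one (by rw [hφ.1]; exact hcoef i)
  have hslt : Q.1 s < 1 := by rw [hs, ← exp_zero, exp_lt_exp]; omega
  have hu : Q.1 (aeval s g) = 1 := val_aeval_eq_one he hslt g hg0 hgint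
  set u := aeval s g with hu_def
  set w := aeval s (derivative f) with hw_def
  have hw0 : w ≠ 0 :=
    (Algebra.IsSeparable.isSeparable K s).aeval_derivative_ne_zero (minpoly.aeval K s)
  have hds : KaehlerDifferential.D k K' s =
      (-(u / w)) • KaehlerDifferential.D k K' (algebraMap K K' t) := by
    have h1 : w • KaehlerDifferential.D k K' s =
        -(u • KaehlerDifferential.D k K' (algebraMap K K' t)) := by
      rw [eq_neg_iff_add_eq_zero, add_comm]
      exact hg2.symm
    have h2 : KaehlerDifferential.D k K' s = w⁻¹ • (w • KaehlerDifferential.D k K' s) := by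
      rw [smul_smul, inv_mul_cancel₀ hw0, one_smul]
    rw [h2, h1, smul_neg, smul_smul, neg_smul]
    congr 2
    rw [div_eq_mul_inv, mul_comm]
  have h3 := congrArg Valued.v (FDE.D_eq_of_kaehler ψ hds)
  rw [val_D_of_val_eq_exp_neg_one (by rw [hψ.1, hs]), map_mul, hψ.1, Valuation.map_neg,
    map_div₀, hu, one_div] at h3
  have hw : Q.1 w = LocRes.vDiff ψ 1 (algebraMap K K' t) := by
    rw [FDE.vDiff_one]
    have hne : Q.1 w ≠ 0 := val_ne_zero Q hw0
    rw [eq_comm, inv_mul_eq_one₀ hne] at h3
    exact h3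
  have hvt1 : LocRes.vDiff φ 1 t = 1 := by rw [FDE.vDiff_one, hDφt]
  have hvt2 : LocRes.vDiff φ 1 t ≠ 0 := by rw [hvt1]; exact one_ne_zero
  have hde : LocRes.diffExp φ ψ e x = LocRes.diffExp φ ψ e t :=
    FDE.diffExp_eq_diffExp hK hg he φ hφ ψ hψ hx hx' hvt2
  rw [hde]
  have h5 : LocRes.ordDiff φ 1 t = 0 := by
    unfold LocRes.ordDiff
    rw [hvt1, log_one, neg_zero]
  have h6 : Q.ord w = LocRes.ordDiff ψ 1 (algebraMap K K' t) := by
    unfold LocRes.ordDiff Place.ord
    rw [hw]
  unfold LocRes.diffExp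
  rw [h5, h6, mul_zero, sub_zero]

end Groth.Agent.Lib.helper16.FDM
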