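import Groth.Agent.Lib.helper16.FDiffMin

/-! Helper library (helper16): the trace dual of the integral closure at a place of residue
degree one has minimal valuation `-d(Q|P)`. -/

set_option autoImplicit false

namespace Groth.Agent.Lib.helper16.FDu

open FunFld WithZero Polynomial Module Groth.Agent.Lib.helper16.FF Groth.Agent.Lib.helper16.FX
open scoped IntermediateField LaurentSeries Pointwise

universe u v w

variable {k : Type u} {K K' : Type v} [Field k] [Field K] [Field K'] [Algebra k K] [Algebra K K']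
  [Algebra k K'] [IsScalarTower k K K'] [FiniteDimensional K K']

/-- a uniformizer at `Q` which is a unit at the other places over `P` -/
theorem exists_unif (hK : IsFunctionField k K) (P : Place k K) {Q : Place k K'}
    (hQ : IsOver Q P) :
    ∃ s : K', Q.1 s = exp (-1) ∧ ∀ Q' : Place k K', IsOver Q' P → Q' ≠ Q → Q'.1 s = 1 := by
  classical
  have hfin := finite_isOver (K' := K') hK.1 P
  let ι := ↥hfin.toFinset
  let Qf : ι → Place k K' := fun i => i.1
  have hQinj : Function.Injective Qf := Subtype.val_injective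
  let i₀ : ι := ⟨Q, hfin.mem_toFinset.mpr hQ⟩
  obtain ⟨π, hπ⟩ := exists_uniformizer Q
  obtain ⟨y, hy⟩ := weak_approximation Qf hQinj (fun j => if j = i₀ then π else 1) 2
  refine ⟨y, ?_, ?_⟩
  · have h1 := hy i₀
    simp only [if_true] at h1
    have h2 : y = π + (y - π) := by ring
    rw [h2, Valuation.map_add_eq_of_lt_left, hπ]
    rw [hπ]
    refine lt_of_le_of_lt h1 ?_
    rw [exp_lt_exp]; omega
  · intro Q' hQ' hne
    let j : ι := ⟨Q', hfin.mem_toFinset.mpr hQ'⟩
    have hji : j ≠ i₀ := fun h => hne (congrArg Subtype.val h)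
    have h1 := hy j
    rw [if_neg hji] at h1
    have h2 : y = 1 + (y - 1) := by ring
    rw [h2]
    show (Qf j).1 (1 + (y - 1)) = 1
    rw [Valuation.map_add_eq_of_lt_left, map_one]
    rw [map_one]
    refine lt_of_le_of_lt h1 ?_
    rw [← exp_zero, exp_lt_exp]; omega

/-- residue degree one, via `Valuation.HasExtension` -/
theorem exists_approx_of_surjective (P : Place k K) (Q : Place k K') [P.1.HasExtension Q.1]
    (hf : Function.Surjective
      (algebraMap (IsLocalRing.ResidueField P.O) (IsLocalRing.ResidueField Q.O)))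
    (z : K') (hz : Q.1 z ≤ 1) :
    ∃ a : K, P.1 a ≤ 1 ∧ Q.1 (z - algebraMap K K' a) < 1 := by
  let z' : Q.O := ⟨z, hz⟩
  obtain ⟨abar, habar⟩ := hf (IsLocalRing.residue Q.O z')
  obtain ⟨a, rfl⟩ := IsLocalRing.residue_surjective abar
  rw [Valuation.HasExtension.algebraMap_residue_eq_residue_algebraMap] at habar
  refine ⟨a.1, a.2, ?_⟩
  have h1 : IsLocalRing.residue Q.O (z' - algebraMap P.O Q.O a) = 0 := by
    rw [map_sub, habar, sub_self]
  rw [IsLocalRing.residue_eq_zero_iff] at h1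
  exact (Valuation.mem_maximalIdeal_iff _ _).mp h1

variable [Algebra.IsSeparable K K'] {P : Place k K} [Algebra P.O K'] [IsScalarTower P.O K K']

/-- elements of the trace dual of the integral closure lie in `f'(s)⁻¹ O_P[s]` -/
theorem dual_le {s : K'} (htop : Algebra.adjoin K ({s} : Set K') = ⊤) (hsint : IsIntegral P.O s)
    {y : K'} (hy : ∀ z : K', IsIntegral P.O z → P.1 (Algebra.trace K K' (y * z)) ≤ 1) :
    ∃ a ∈ Algebra.adjoin P.O ({s} : Set K'),
      y = (aeval s (derivative (minpoly K s)))⁻¹ * a := by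
  have h1 : y ∈ (Algebra.traceForm K K').dualSubmodule
      (Subalgebra.toSubmodule (Algebra.adjoin P.O ({s} : Set K'))) := by
    rw [LinearMap.BilinForm.mem_dualSubmodule]
    intro a ha
    have haint : IsIntegral P.O a := adjoin_le_integralClosure hsint ha
    rw [Algebra.traceForm_apply, Submodule.mem_one]
    exact ⟨⟨_, hy a haint⟩, rfl⟩
  rw [traceForm_dualSubmodule_adjoin P.O K htop hsint,
    Submodule.mem_smul_pointwise_iff_exists] at h1
  obtain ⟨b, hb, hby⟩ := h1
  exact ⟨b, hb, by rw [← hby, smul_eq_mul]⟩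

/-- elements of `f'(s)⁻¹ O_P[s]` have integral trace -/
theorem dual_ge {s : K'} (htop : Algebra.adjoin K ({s} : Set K') = ⊤) (hsint : IsIntegral P.O s)
    {a : K'} (ha : a ∈ Algebra.adjoin P.O ({s} : Set K')) :
    P.1 (Algebra.trace K K' ((aeval s (derivative (minpoly K s)))⁻¹ * a)) ≤ 1 := by
  have h1 : (aeval s (derivative (minpoly K s)))⁻¹ • a ∈ (Algebra.traceForm K K').dualSubmodule
      (Subalgebra.toSubmodule (Algebra.adjoin P.O ({s} : Set K'))) := by
    rw [traceForm_dualSubmodule_adjoin P.O K htop hsint]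
    exact Submodule.smul_mem_pointwise_smul _ _ _ ha
  rw [LinearMap.BilinForm.mem_dualSubmodule] at h1
  have h2 := h1 1 (Subalgebra.one_mem _)
  rw [Algebra.traceForm_apply, mul_one, Submodule.mem_one] at h2
  obtain ⟨c, hc⟩ := h2
  rw [smul_eq_mul] at hc
  rw [← hc]
  exact c.2

omit [Algebra.IsSeparable K K'] in
theorem algebraMap_mem_adjoin (s : K') {c : K} (hc : P.1 c ≤ 1) :
    algebraMap K K' c ∈ Algebra.adjoin P.O ({s} : Set K') := by
  have : algebraMap K K' c = algebraMap P.O K' ⟨c, hc⟩ := by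
    rw [IsScalarTower.algebraMap_apply P.O K K']
    rfl
  rw [this]
  exact Subalgebra.algebraMap_mem _ _

omit [Algebra.IsSeparable K K'] in
/-- `B_P = O_P[s] + s ^ m B_P` -/
theorem decomp {Q : Place k K'} {s : K'} (hs : Q.1 s = exp (-1))
    (hs' : ∀ Q' : Place k K', IsOver Q' P → Q' ≠ Q → Q'.1 s = 1)
    (hres : ∀ z : K', Q.1 z ≤ 1 → ∃ a : K, P.1 a ≤ 1 ∧ Q.1 (z - algebraMap K K' a) < 1)
    (hQ : IsOver Q P) (m : ℕ) :
    ∀ z ∈ semiLocal K' P, ∃ a ∈ Algebra.adjoin P.O ({s} : Set K'), ∃ r ∈ semiLocal K' P,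
      z = a + s ^ m * r := by
  have hs0 : s ≠ 0 := by
    rintro rfl
    rw [map_zero] at hs
    exact exp_ne_zero hs.symm
  induction m with
  | zero =>
    intro z hz
    exact ⟨0, Subalgebra.zero_mem _, z, hz, by rw [pow_zero, one_mul, zero_add]⟩
  | succ m ih =>
    intro z hz
    obtain ⟨a, ha, r, hr, hzr⟩ := ih z hz
    obtain ⟨a₀, ha₀, hra⟩ := hres r (hr Q hQ)
    have ha₀B : algebraMap K K' a₀ ∈ semiLocal K' P := algebraMap_mem_semiLocal ha₀
    refine ⟨a + s ^ m * algebraMap K K' a₀, ?_, (r - algebraMap K K' a₀) / s, ?_, ?_⟩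
    · exact Subalgebra.add_mem _ ha (Subalgebra.mul_mem _
        (Subalgebra.pow_mem _ (Algebra.self_mem_adjoin_singleton P.O s) m) (algebraMap_mem_adjoin s ha₀))
    · intro Q' hQ'
      rw [map_div₀]
      by_cases h : Q' = Q
      · rw [h, hs]
        rw [lt_one_iff_le_exp_neg_one] at hra
        calc Q.1 (r - algebraMap K K' a₀) / exp (-1 : ℤ) ≤ exp (-1 : ℤ) / exp (-1 : ℤ) := by
              rw [div_eq_mul_inv, div_eq_mul_inv]
              exact mul_le_mul_left hra _
          _ = 1 := div_self exp_ne_zero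
      · rw [hs' Q' hQ' h, div_one]
        exact (semiLocal K' P).sub_mem hr ha₀B Q' hQ'
    · rw [hzr]
      have e1 : s ^ (m + 1) * ((r - algebraMap K K' a₀) / s) = s ^ m * (r - algebraMap K K' a₀) := by
        rw [pow_succ, mul_assoc, mul_div_cancel₀ _ hs0]
      rw [e1]
      ring

omit [Algebra.IsSeparable K K'] in
/-- clearing denominators of a polynomial expression in `s` -/
theorem exists_pow_mul_aeval_mem {t : K} (ht : P.1 t = exp (-1)) (s : K') (p : K[X]) :
    ∃ N : ℕ, ∀ M : ℕ, N ≤ M →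
      algebraMap K K' (t ^ M) * aeval s p ∈ Algebra.adjoin P.O ({s} : Set K') := by
  induction p using Polynomial.induction_on' with
  | add p q hp hq =>
    obtain ⟨Np, hNp⟩ := hp
    obtain ⟨Nq, hNq⟩ := hq
    refine ⟨max Np Nq, fun M hM => ?_⟩
    rw [map_add, mul_add]
    exact Subalgebra.add_mem _ (hNp M (le_trans (le_max_left _ _) hM))
      (hNq M (le_trans (le_max_right _ _) hM))
  | monomial n c =>
    by_cases hc : c = 0
    · refine ⟨0, fun M _ => ?_⟩
      rw [hc, monomial_zero_right, map_zero, mul_zero]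
      exact Subalgebra.zero_mem _
    · refine ⟨(-(P.ord c)).toNat, fun M hM => ?_⟩
      rw [aeval_monomial, ← mul_assoc, ← map_mul]
      refine Subalgebra.mul_mem _ (algebraMap_mem_adjoin s ?_)
        (Subalgebra.pow_mem _ (Algebra.self_mem_adjoin_singleton P.O s) n)
      rw [map_mul, map_pow, ht, val_eq_exp_neg_ord P hc, ← exp_nsmul, ← exp_add, ← exp_zero,
        exp_le_exp]
      have := Int.self_le_toNat (-(P.ord c))
      simp only [nsmul_eq_mul, mul_neg, mul_one]
      omega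

omit [Algebra.IsSeparable K K'] in
/-- some power of a uniformizer of `P` maps `B_P` into `O_P[s]` -/
theorem exists_pow_mul_mem (hK : IsFunctionField k K) {t : K} (ht : P.1 t = exp (-1)) {s : K'}
    (htop : Algebra.adjoin K ({s} : Set K') = ⊤) :
    ∃ N : ℕ, ∀ z ∈ semiLocal K' P,
      algebraMap K K' (t ^ N) * z ∈ Algebra.adjoin P.O ({s} : Set K') := by
  classical
  obtain ⟨b, hbB, hb⟩ := exists_integral_basis (K' := K') hK P
  have hp : ∀ i, ∃ p : K[X], aeval s p = b i := by
    intro i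
    have h1 : b i ∈ Algebra.adjoin K ({s} : Set K') := by rw [htop]; exact Algebra.mem_top
    rw [Algebra.adjoin_singleton_eq_range_aeval] at h1
    exact h1
  choose p hp using hp
  have hN := fun i => exists_pow_mul_aeval_mem ht s (p i)
  choose N hN using hN
  refine ⟨Finset.univ.sup N, fun z hz => ?_⟩
  rw [← sum_repr_basisOfIndep hb z, Finset.mul_sum]
  refine Subalgebra.sum_mem _ fun i _ => ?_
  rw [Algebra.smul_def, mul_left_comm]
  refine Subalgebra.mul_mem _ (algebraMap_mem_adjoin s (val_repr_le_one hb hz i)) ?_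
  rw [← hp i]
  exact hN i _ (Finset.le_sup (Finset.mem_univ i))

omit [Algebra.IsSeparable K K'] in
/-- an element of the conductor of `O_P[s]` in `B_P` which is a unit at `Q` -/
theorem exists_conductor (hK : IsFunctionField k K) {Q : Place k K'} {e : ℕ}
    (he : IsOverWith Q P e) {s : K'} (hs : Q.1 s = exp (-1))
    (hs' : ∀ Q' : Place k K', IsOver Q' P → Q' ≠ Q → Q'.1 s = 1)
    (hres : ∀ z : K', Q.1 z ≤ 1 → ∃ a : K, P.1 a ≤ 1 ∧ Q.1 (z - algebraMap K K' a) < 1)
    (htop : Algebra.adjoin K ({s} : Set K') = ⊤) (hsint : IsIntegral P.O s) :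
    ∃ c ∈ Algebra.adjoin P.O ({s} : Set K'), Q.1 c = 1 ∧
      ∀ z ∈ semiLocal K' P, c * z ∈ Algebra.adjoin P.O ({s} : Set K') := by
  classical
  have hQ : IsOver Q P := ⟨e, he⟩
  obtain ⟨t, ht⟩ := exists_uniformizer P
  have ht0 : t ≠ 0 := by
    rintro rfl
    rw [map_zero] at ht
    exact exp_ne_zero ht.symm
  obtain ⟨N, hN⟩ := exists_pow_mul_mem hK ht htop
  set f₀ := minpoly P.O s with hf₀
  have hmonic : f₀.Monic := minpoly.monic hsint
  set n := f₀.natDegree with hn
  let α : ℕ → K := fun i => ((f₀.coeff i : P.O) : K)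
  have hα1 : ∀ i, P.1 (α i) ≤ 1 := fun i => (f₀.coeff i).2
  have hex : ∃ j, P.1 (α j) = 1 := by
    refine ⟨n, ?_⟩
    simp only [α]
    rw [hn, Polynomial.Monic.coeff_natDegree hmonic]
    exact map_one _
  set j := Nat.find hex with hj
  have hjspec : P.1 (α j) = 1 := Nat.find_spec hex
  have hjmin : ∀ i, i < j → P.1 (α i) < 1 := fun i hi =>
    lt_of_le_of_ne (hα1 i) (Nat.find_min hex hi)
  have hjn : j ≤ n := Nat.find_min' hex (by
    simp only [α]
    rw [hn, Polynomial.Monic.coeff_natDegree hmonic]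
    exact map_one _)
  -- the relation
  have hrel : ∑ i ∈ Finset.range (n + 1), algebraMap K K' (α i) * s ^ i = 0 := by
    have h1 := minpoly.aeval P.O s
    rw [← hf₀, aeval_eq_sum_range] at h1
    rw [← h1]
    apply Finset.sum_congr rfl
    intro i _
    rw [Algebra.smul_def, IsScalarTower.algebraMap_apply P.O K K']
    rfl
  have hsplit : n + 1 = j + (n + 1 - j) := by omega
  rw [hsplit, Finset.sum_range_add] at hrel
  set m := n + 1 - j with hm
  let H : K' := ∑ i ∈ Finset.range m, algebraMap K K' (α (j + i)) * s ^ i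
  let L' : K' := ∑ i ∈ Finset.range j, algebraMap K K' (t⁻¹ * α i) * s ^ i
  have hsA : s ∈ Algebra.adjoin P.O ({s} : Set K') := Algebra.self_mem_adjoin_singleton P.O s
  have hHA : H ∈ Algebra.adjoin P.O ({s} : Set K') :=
    Subalgebra.sum_mem _ fun i _ => Subalgebra.mul_mem _ (algebraMap_mem_adjoin s (hα1 _))
      (Subalgebra.pow_mem _ hsA i)
  have hL'A : L' ∈ Algebra.adjoin P.O ({s} : Set K') := by
    refine Subalgebra.sum_mem _ fun i hi => Subalgebra.mul_mem _ (algebraMap_mem_adjoin s ?_)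
      (Subalgebra.pow_mem _ hsA i)
    have h1 := hjmin i (Finset.mem_range.mp hi)
    rw [lt_one_iff_le_exp_neg_one] at h1
    rw [map_mul, map_inv₀, ht]
    calc (exp (-1 : ℤ))⁻¹ * P.1 (α i) ≤ (exp (-1 : ℤ))⁻¹ * exp (-1) := mul_le_mul_right h1 _
      _ = 1 := inv_mul_cancel₀ exp_ne_zero
  have hlow : ∑ i ∈ Finset.range j, algebraMap K K' (α i) * s ^ i = algebraMap K K' t * L' := by
    simp only [L']
    rw [Finset.mul_sum]
    apply Finset.sum_congr rfl
    intro i _
    rw [← mul_assoc, ← map_mul, ← mul_assoc, mul_inv_cancel₀ ht0, one_mul]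
  have hhigh : ∑ i ∈ Finset.range m, algebraMap K K' (α (j + i)) * s ^ (j + i) = s ^ j * H := by
    simp only [H]
    rw [Finset.mul_sum]
    apply Finset.sum_congr rfl
    intro i _
    rw [pow_add]
    ring
  rw [hlow, hhigh] at hrel
  have hsjH : s ^ j * H = -(algebraMap K K' t * L') := by
    rw [eq_neg_iff_add_eq_zero, add_comm]
    exact hrel
  -- `H` is a unit at `Q`
  have hslt : Q.1 s < 1 := by rw [hs, ← exp_zero, exp_lt_exp]; omega
  have hm1 : m = (m - 1) + 1 := by omega
  have hHQ : Q.1 H = 1 := by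
    simp only [H]
    rw [hm1, Finset.sum_range_succ', add_zero, pow_zero, mul_one, add_comm,
      Valuation.map_add_eq_of_lt_left]
    · rw [he, hjspec, one_pow]
    · rw [he, hjspec, one_pow]
      apply Valuation.map_sum_lt _ one_ne_zero
      intro i _
      rw [map_mul, he, map_pow]
      calc P.1 (α (j + (i + 1))) ^ e * Q.1 s ^ (i + 1) ≤ 1 * Q.1 s ^ (i + 1) :=
            mul_le_mul_left (pow_le_one₀ zero_le (hα1 _)) _
        _ = Q.1 s ^ (i + 1) := one_mul _
        _ < 1 := pow_lt_one₀ zero_le hslt (by omega)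
  refine ⟨H ^ N, Subalgebra.pow_mem _ hHA N, by rw [map_pow, hHQ, one_pow], fun z hz => ?_⟩
  obtain ⟨a, ha, r, hr, hzr⟩ := decomp hs hs' hres hQ (j * N) z hz
  have e1 : H ^ N * z = H ^ N * a + (-L') ^ N * (algebraMap K K' (t ^ N) * r) := by
    rw [hzr, mul_add]
    congr 1
    have : H ^ N * (s ^ (j * N) * r) = (s ^ j * H) ^ N * r := by
      rw [mul_pow, ← pow_mul]
      ring
    rw [this, hsjH, map_pow]
    ring
  rw [e1]
  exact Subalgebra.add_mem _ (Subalgebra.mul_mem _ (Subalgebra.pow_mem _ hHA N) ha)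
    (Subalgebra.mul_mem _ (Subalgebra.pow_mem _ (Subalgebra.neg_mem _ hL'A) N) (hN r hr))

variable {F F' : Type w} [Field F] [Algebra k F] [Field F'] [Algebra k F']

/-- **S12574** -/
theorem main (hK : IsFunctionField k K) (hg : IsGeometric k K)
    {Q : Place k K'} {e : ℕ} (he : IsOverWith Q P e) (hdeg : Q.deg = P.deg)
    (hres : ∀ z : K', Q.1 z ≤ 1 → ∃ a : K, P.1 a ≤ 1 ∧ Q.1 (z - algebraMap K K' a) < 1)
    (φ : K →ₐ[k] F⸨X⸩) (hφ : LocRes.IsExpansionAt P.1 φ)
    (ψ : K' →ₐ[k] F'⸨X⸩) (hψ : LocRes.IsExpansionAt Q.1 ψ)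
    {x : K} (hx : LocRes.vDiff φ 1 x ≠ 0) (hx' : LocRes.vDiff ψ 1 (algebraMap K K' x) ≠ 0) :
    (∀ y : K', (∀ z : K', IsIntegral P.O z → P.1 (Algebra.trace K K' (y * z)) ≤ 1) →
      Q.1 y ≤ exp (LocRes.diffExp φ ψ e x)) ∧
    ∃ y : K', (∀ z : K', IsIntegral P.O z → P.1 (Algebra.trace K K' (y * z)) ≤ 1) ∧
      Q.1 y = exp (LocRes.diffExp φ ψ e x) := by
  have hQ : IsOver Q P := ⟨e, he⟩
  obtain ⟨s, hs, hs'⟩ := exists_unif hK P hQ
  obtain ⟨htopI, hord⟩ := FDM.main hK hg he hdeg φ hφ ψ hψ hx hx' hs hs'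
  have hsB : s ∈ semiLocal K' P := by
    intro Q' hQ'
    by_cases h : Q' = Q
    · rw [h, hs, ← exp_zero, exp_le_exp]; omega
    · exact (hs' Q' hQ' h).le
  have hsint : IsIntegral P.O s := Groth.Agent.Lib.helper16.FCE.isIntegral_of_mem_semiLocal hK P hsB
  have htop : Algebra.adjoin K ({s} : Set K') = ⊤ := by
    rw [← IntermediateField.adjoin_simple_toSubalgebra_of_isAlgebraic
      (Algebra.IsAlgebraic.isAlgebraic s), htopI, IntermediateField.top_toSubalgebra]
  set w := aeval s (derivative (minpoly K s)) with hw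
  have hw0 : w ≠ 0 :=
    (Algebra.IsSeparable.isSeparable K s).aeval_derivative_ne_zero (minpoly.aeval K s)
  have hwQ : Q.1 w = exp (-(LocRes.diffExp φ ψ e x)) := by
    rw [val_eq_exp_neg_ord Q hw0, hord]
  constructor
  · intro y hy
    obtain ⟨a, ha, hya⟩ := dual_le htop hsint hy
    have haint : IsIntegral P.O a := adjoin_le_integralClosure hsint ha
    have haQ : Q.1 a ≤ 1 := mem_semiLocal_of_isIntegral P haint Q hQ
    rw [hya, map_mul, map_inv₀, hwQ, ← exp_neg, neg_neg]
    calc exp (LocRes.diffExp φ ψ e x) * Q.1 a ≤ exp (LocRes.diffExp φ ψ e x) * 1 :=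
          mul_le_mul_right haQ _
      _ = _ := mul_one _
  · obtain ⟨c, hcA, hcQ, hcR⟩ := exists_conductor hK he hs hs' hres htop hsint
    refine ⟨w⁻¹ * c, fun z hz => ?_, ?_⟩
    · have hzB : z ∈ semiLocal K' P := mem_semiLocal_of_isIntegral P hz
      rw [mul_assoc]
      exact dual_ge htop hsint (hcR z hzB)
    · rw [map_mul, map_inv₀, hwQ, hcQ, mul_one, ← exp_neg, neg_neg]

end Groth.Agent.Lib.helper16.FDu
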