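import Groth.Agent.Lib.helper16.FDual

/-! Helper library (helper16): `d(Q|P) ≤ v_Q(g'(y))` for an integral generator `y`, with
equality only if `O_Q` is a localisation of `O_P[y]` (S12575). -/

set_option autoImplicit false

namespace Groth.Agent.Lib.helper16.FDu

open FunFld WithZero Polynomial Module Groth.Agent.Lib.helper16.FF Groth.Agent.Lib.helper16.FX
open scoped IntermediateField LaurentSeries Pointwise

universe u v w

variable {k : Type u} {K K' : Type v} [Field k] [Field K] [Field K'] [Algebra k K] [Algebra K K']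
  [Algebra k K'] [IsScalarTower k K K'] [FiniteDimensional K K']

/-- a unit at `Q` in `B_P` which multiplies `z ∈ O_Q` into `B_P` -/
theorem exists_mul_mem_semiLocal (hK : IsFunctionField k K) (P : Place k K) {Q : Place k K'}
    (hQ : IsOver Q P) {z : K'} (hz : Q.1 z ≤ 1) :
    ∃ r ∈ semiLocal K' P, Q.1 r = 1 ∧ r * z ∈ semiLocal K' P := by
  classical
  have hfin := finite_isOver (K' := K') hK.1 P
  let ι := ↥hfin.toFinset
  let Qf : ι → Place k K' := fun i => i.1
  have hQinj : Function.Injective Qf := Subtype.val_injective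
  let i₀ : ι := ⟨Q, hfin.mem_toFinset.mpr hQ⟩
  let C : ℕ := ∑ i : ι, (log ((Qf i).1 z)).toNat
  have hC : ∀ i : ι, (Qf i).1 z ≤ exp (C : ℤ) := by
    intro i
    by_cases h0 : (Qf i).1 z = 0
    · rw [h0]; exact zero_le
    · rw [← exp_log h0, exp_le_exp]
      have h1 : (log ((Qf i).1 z)).toNat ≤ C :=
        Finset.single_le_sum (f := fun i : ι => (log ((Qf i).1 z)).toNat)
          (fun _ _ => Nat.zero_le _) (Finset.mem_univ i)
      have h2 := Int.self_le_toNat (log ((Qf i).1 z))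
      omega
  obtain ⟨r, hr⟩ := weak_approximation Qf hQinj (fun j => if j = i₀ then 1 else 0) (C + 1)
  have hrQ : Q.1 r = 1 := by
    have h1 := hr i₀
    simp only [if_true] at h1
    have h2 : r = 1 + (r - 1) := by ring
    rw [h2, Valuation.map_add_eq_of_lt_left, map_one]
    rw [map_one]
    refine lt_of_le_of_lt h1 ?_
    rw [← exp_zero, exp_lt_exp]; omega
  have hrQ' : ∀ Q' : Place k K', IsOver Q' P → Q' ≠ Q → Q'.1 r ≤ exp (-((C : ℤ) + 1)) := by
    intro Q' hQ' hne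
    let j : ι := ⟨Q', hfin.mem_toFinset.mpr hQ'⟩
    have hji : j ≠ i₀ := fun h => hne (congrArg Subtype.val h)
    have h1 := hr j
    rw [if_neg hji, sub_zero] at h1
    exact h1
  refine ⟨r, ?_, hrQ, ?_⟩
  · intro Q' hQ'
    by_cases h : Q' = Q
    · rw [h, hrQ]
    · refine le_trans (hrQ' Q' hQ' h) ?_
      rw [← exp_zero, exp_le_exp]; omega
  · intro Q' hQ'
    rw [map_mul]
    by_cases h : Q' = Q
    · rw [h, hrQ, one_mul]; exact hz
    · let j : ι := ⟨Q', hfin.mem_toFinset.mpr hQ'⟩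
      calc Q'.1 r * Q'.1 z ≤ exp (-((C : ℤ) + 1)) * exp (C : ℤ) :=
            mul_le_mul' (hrQ' Q' hQ' h) (hC j)
        _ ≤ 1 := by rw [← exp_add, ← exp_zero, exp_le_exp]; omega

variable [Algebra.IsSeparable K K'] {P : Place k K} [Algebra P.O K'] [IsScalarTower P.O K K']
variable {F F' : Type w} [Field F] [Algebra k F] [Field F'] [Algebra k F']

/-- **S12575** -/
theorem main2 (hK : IsFunctionField k K) (hg : IsGeometric k K)
    {Q : Place k K'} {e : ℕ} (he : IsOverWith Q P e) (hdeg : Q.deg = P.deg)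
    (hres : ∀ z : K', Q.1 z ≤ 1 → ∃ a : K, P.1 a ≤ 1 ∧ Q.1 (z - algebraMap K K' a) < 1)
    (φ : K →ₐ[k] F⸨X⸩) (hφ : LocRes.IsExpansionAt P.1 φ)
    (ψ : K' →ₐ[k] F'⸨X⸩) (hψ : LocRes.IsExpansionAt Q.1 ψ)
    {x : K} (hx : LocRes.vDiff φ 1 x ≠ 0) (hx' : LocRes.vDiff ψ 1 (algebraMap K K' x) ≠ 0)
    {y : K'} (hy : IntermediateField.adjoin K ({y} : Set K') = ⊤) (hyi : IsIntegral P.O y) :
    LocRes.diffExp φ ψ e x ≤ Q.ord (aeval y (derivative (minpoly K y))) ∧
    (Q.ord (aeval y (derivative (minpoly K y))) = LocRes.diffExp φ ψ e x →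
      ∀ z : K', Q.1 z ≤ 1 → ∃ a ∈ Algebra.adjoin P.O ({y} : Set K'),
        ∃ b ∈ Algebra.adjoin P.O ({y} : Set K'), Q.1 b = 1 ∧ z * b = a) := by
  have hQ : IsOver Q P := ⟨e, he⟩
  obtain ⟨-, y₀, hy₀, hy₀Q⟩ := main hK hg he hdeg hres φ hφ ψ hψ hx hx'
  have htop : Algebra.adjoin K ({y} : Set K') = ⊤ := by
    rw [← IntermediateField.adjoin_simple_toSubalgebra_of_isAlgebraic
      (Algebra.IsAlgebraic.isAlgebraic y), hy, IntermediateField.top_toSubalgebra]
  set w := aeval y (derivative (minpoly K y)) with hw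
  have hw0 : w ≠ 0 :=
    (Algebra.IsSeparable.isSeparable K y).aeval_derivative_ne_zero (minpoly.aeval K y)
  -- the key inclusion
  have hkey : ∀ r ∈ semiLocal K' P, w * y₀ * r ∈ Algebra.adjoin P.O ({y} : Set K') := by
    intro r hr
    have hrint : IsIntegral P.O r := Groth.Agent.Lib.helper16.FCE.isIntegral_of_mem_semiLocal hK P hr
    obtain ⟨a, ha, hya⟩ := dual_le (y := y₀ * r) htop hyi (fun z hz => by
      rw [mul_assoc]
      exact hy₀ (r * z) (hrint.mul hz))
    have : w * y₀ * r = a := by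
      rw [mul_assoc, hya, ← mul_assoc, mul_inv_cancel₀ hw0, one_mul]
    rw [this]
    exact ha
  have h1 := hkey 1 (semiLocal K' P).one_mem
  rw [mul_one] at h1
  have h1int : IsIntegral P.O (w * y₀) := adjoin_le_integralClosure hyi h1
  have h1Q : Q.1 (w * y₀) ≤ 1 := mem_semiLocal_of_isIntegral P h1int Q hQ
  rw [map_mul, hy₀Q] at h1Q
  have hwle : Q.1 w ≤ exp (-(LocRes.diffExp φ ψ e x)) := by
    have e1 : Q.1 w = Q.1 w * exp (LocRes.diffExp φ ψ e x) * exp (-(LocRes.diffExp φ ψ e x)) := by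
      rw [mul_assoc, ← exp_add, add_neg_cancel, exp_zero, mul_one]
    rw [e1]
    calc Q.1 w * exp (LocRes.diffExp φ ψ e x) * exp (-(LocRes.diffExp φ ψ e x))
        ≤ 1 * exp (-(LocRes.diffExp φ ψ e x)) := mul_le_mul_left h1Q _
      _ = _ := one_mul _
  have hord1 : LocRes.diffExp φ ψ e x ≤ Q.ord w := by
    have := (val_le_exp_iff Q hw0 _).mp hwle
    rwa [neg_neg] at this
  refine ⟨hord1, fun heq z hz => ?_⟩
  have hcQ : Q.1 (w * y₀) = 1 := by
    rw [map_mul, hy₀Q, val_eq_exp_neg_ord Q hw0, heq, ← exp_add, neg_add_cancel, exp_zero]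
  obtain ⟨r, hrB, hrQ, hrz⟩ := exists_mul_mem_semiLocal hK P hQ hz
  refine ⟨w * y₀ * (r * z), hkey _ hrz, w * y₀ * r, hkey _ hrB, ?_, ?_⟩
  · rw [map_mul, hcQ, hrQ, one_mul]
  · ring

end Groth.Agent.Lib.helper16.FDu
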