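import Groth.Agent.Lib.helper16.FFLD
import Mathlib.RingTheory.AlgebraTower

/-! Helper library (helper16): the degree of the zero and pole divisors; `deg (x) = 0`. -/

set_option autoImplicit false

namespace Groth.Agent.Lib.helper16.FF

open FunFld WithZero Polynomial
open scoped IntermediateField

variable {k K : Type*} [Field k] [Field K] [Algebra k K]

theorem div_inv (hK : IsFunctionField k K) (x : K) : FunFld.div k x⁻¹ = -FunFld.div k x := by
  ext P
  rw [Finsupp.neg_apply, div_apply hK, div_apply hK, ord_inv]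

theorem div_mul (hK : IsFunctionField k K) {x y : K} (hx : x ≠ 0) (hy : y ≠ 0) :
    FunFld.div k (x * y) = FunFld.div k x + FunFld.div k y := by
  ext P
  rw [Finsupp.add_apply, div_apply hK, div_apply hK, div_apply hK, ord_mul P hx hy]

variable (k) in
/-- the divisor of zeros -/
noncomputable def zeroDiv (x : K) : Divisor k K := FunFld.div k x ⊔ 0

variable (k) in
/-- the divisor of poles -/
noncomputable def poleDiv (x : K) : Divisor k K := (-FunFld.div k x) ⊔ 0

theorem zeroDiv_apply (hK : IsFunctionField k K) (x : K) (P : Place k K) :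
    zeroDiv k x P = max (P.ord x) 0 := by
  unfold zeroDiv
  rw [Finsupp.sup_apply, div_apply hK]
  rfl

theorem poleDiv_apply (hK : IsFunctionField k K) (x : K) (P : Place k K) :
    poleDiv k x P = max (-P.ord x) 0 := by
  unfold poleDiv
  rw [Finsupp.sup_apply, Finsupp.neg_apply, div_apply hK]
  rfl

theorem poleDiv_nonneg (x : K) : 0 ≤ poleDiv k x := le_sup_right

theorem zeroDiv_nonneg (x : K) : 0 ≤ zeroDiv k x := le_sup_right

theorem zeroDiv_inv (hK : IsFunctionField k K) (x : K) : zeroDiv k x⁻¹ = poleDiv k x := by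
  unfold zeroDiv poleDiv
  rw [div_inv hK]

theorem poleDiv_inv (hK : IsFunctionField k K) (x : K) : poleDiv k x⁻¹ = zeroDiv k x := by
  unfold zeroDiv poleDiv
  rw [div_inv hK, neg_neg]

theorem div_eq_zeroDiv_sub_poleDiv (hK : IsFunctionField k K) (x : K) :
    FunFld.div k x = zeroDiv k x - poleDiv k x := by
  ext P
  rw [Finsupp.sub_apply, zeroDiv_apply hK, poleDiv_apply hK, div_apply hK]
  rcases le_total (P.ord x) 0 with h | h
  · rw [max_eq_right h, max_eq_left (by omega)]; omega
  · rw [max_eq_left h, max_eq_right (by omega)]; omega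

theorem val_le_exp_poleDiv (hK : IsFunctionField k K) (x : K) (P : Place k K) :
    P.1 x ≤ exp (poleDiv k x P) := by
  by_cases hx : x = 0
  · rw [hx, map_zero]; exact zero_le
  · rw [val_eq_exp_neg_ord P hx, exp_le_exp, poleDiv_apply hK]
    exact le_max_left _ _

/-- upper bound: the degree of the zero divisor is at most `[K : k(x)]` -/
theorem deg_zeroDiv_le (hK : IsFunctionField k K) {x : K}
    (hx : x ∉ Set.range (algebraMap k K)) :
    haveI := finiteDimensional_of_transcendental hK (transcendental_of_not_mem_range hK hx)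
    (zeroDiv k x).deg ≤ Module.finrank k⟮x⟯ K := by
  classical
  have := finiteDimensional_of_transcendental hK (transcendental_of_not_mem_range hK hx)
  have hx0 : x ≠ 0 := by
    rintro rfl
    exact hx ⟨0, map_zero _⟩
  set S := (zeroDiv k x).support with hS
  have hord : ∀ i : S, 0 < (i : Place k K).ord x := by
    intro i
    have := Finsupp.mem_support_iff.mp i.2
    rw [zeroDiv_apply hK] at this
    by_contra h
    push Not at h
    exact this (max_eq_right h)
  have hfd : ∀ P : Place k K, FiniteDimensional k (IsLocalRing.ResidueField P.O) :=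
    fun P => finiteDimensional_residueField hK P
  let b : ∀ i : S, Module.Basis (Fin (i : Place k K).deg) k
      (IsLocalRing.ResidueField (i : Place k K).O) := fun i => Module.finBasis k _
  have hsurj : ∀ i : S, Function.Surjective (IsLocalRing.residue (i : Place k K).O) :=
    fun i => IsLocalRing.residue_surjective
  choose lift hlift using hsurj
  have := fundamental_inequality (ι := S) (A := Σ i : S, Fin (i : Place k K).deg)
    (fun i => (i : Place k K)) Subtype.val_injective x
    (fun i => ((i : Place k K).ord x).toNat) (fun i => by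
      rw [val_eq_exp_neg_ord _ hx0]
      congr 2
      have := hord i
      omega) Sigma.fst (fun a => (lift a.1 (b a.1 a.2) : K)) (fun a => (lift a.1 (b a.1 a.2)).2) ?_
  · refine le_trans (le_of_eq ?_) (Int.ofNat_le.mpr this)
    unfold Divisor.deg Finsupp.sum
    rw [← hS, ← Finset.sum_coe_sort S, Fintype.sum_sigma]
    push_cast
    apply Finset.sum_congr rfl
    intro i _
    rw [zeroDiv_apply hK, max_eq_left (hord i).le]
    simp only [Finset.sum_const, Finset.card_univ, Fintype.card_fin, nsmul_eq_mul]
    rw [Int.toNat_of_nonneg (hord i).le]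
    ring
  · intro i c hc a hai
    have h1 : (∑ a : (Σ i : S, Fin (i : Place k K).deg),
        if a.1 = i then c a • (lift a.1 (b a.1 a.2) : K) else 0) =
        ((∑ j : Fin (i : Place k K).deg, c ⟨i, j⟩ • lift i (b i j) : (i : Place k K).O) : K) := by
      rw [coe_sum_O, Fintype.sum_sigma, Finset.sum_eq_single i]
      · apply Finset.sum_congr rfl
        intro j _
        rw [if_pos rfl, coe_smul_O]
      · intro i' _ hi'
        apply Finset.sum_eq_zero
        intro j _
        rw [if_neg hi']
      · intro h; exact absurd (Finset.mem_univ _) h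
    rw [h1, ← residue_eq_zero_iff, map_sum] at hc
    simp only [residue_smul, hlift] at hc
    obtain ⟨i', j⟩ := a
    simp only at hai
    subst hai
    exact Fintype.linearIndependent_iff.mp (b i').linearIndependent (fun j => c ⟨i', j⟩) hc j

theorem linearIndependent_pow_of_transcendental {F : Type*} [Field F] [Algebra k F] {g : F}
    (hg : Transcendental k g) (l : ℕ) :
    LinearIndependent k (fun j : Fin (l + 1) => g ^ (j : ℕ)) := by
  rw [Fintype.linearIndependent_iff]
  intro c hc j
  let p : k[X] := ∑ j : Fin (l + 1), C (c j) * X ^ (j : ℕ)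
  have hp : aeval g p = 0 := by
    simp only [p, map_sum, map_mul, aeval_C, map_pow, aeval_X]
    rw [← hc]
    apply Finset.sum_congr rfl
    intro j _
    rw [Algebra.smul_def]
  have hp0 : p = 0 := by
    by_contra h
    exact hg ⟨p, h, hp⟩
  have hcoeff : p.coeff (j : ℕ) = c j := by
    simp only [p, finsetSum_coeff, coeff_C_mul, coeff_X_pow]
    rw [Finset.sum_eq_single j]
    · simp
    · intro j' _ hj'
      have : (j : ℕ) ≠ (j' : ℕ) := fun h => hj' (Fin.ext h.symm)
      simp [this]
    · intro h; exact absurd (Finset.mem_univ _) h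
  rw [← hcoeff, hp0, coeff_zero]

/-- the key lower bound for `ℓ(l B + C)` where `B` is the pole divisor of `x` -/
theorem exists_divisor_ell_ge (hK : IsFunctionField k K) {x : K}
    (hx : x ∉ Set.range (algebraMap k K)) :
    ∃ Cd : Divisor k K, 0 ≤ Cd ∧
      ∀ l : ℕ, (l + 1) * Module.finrank k⟮x⟯ K ≤ ell (l • poleDiv k x + Cd) := by
  classical
  have htr := transcendental_of_not_mem_range hK hx
  have := finiteDimensional_of_transcendental hK htr
  set n := Module.finrank k⟮x⟯ K with hn
  set B := poleDiv k x with hB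
  let u : Module.Basis (Fin n) k⟮x⟯ K := Module.finBasis k⟮x⟯ K
  let Cd : Divisor k K := ∑ i : Fin n, poleDiv k (u i)
  have hCd0 : 0 ≤ Cd := Finset.sum_nonneg (fun i _ => poleDiv_nonneg _)
  have hCdle : ∀ i, poleDiv k (u i) ≤ Cd := fun i =>
    Finset.single_le_sum (f := fun i => poleDiv k (u i)) (fun i _ => poleDiv_nonneg _)
      (Finset.mem_univ i)
  let g : k⟮x⟯ := ⟨x, IntermediateField.mem_adjoin_simple_self k x⟩
  have hg : Transcendental k g := by
    intro h
    apply htr
    have := h.algebraMap (A := K)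
    exact this
  refine ⟨Cd, hCd0, ?_⟩
  intro l
  have hmem : ∀ (j : Fin (l + 1)) (i : Fin n), x ^ (j : ℕ) * u i ∈ L (l • B + Cd) := by
    intro j i P
    rw [map_mul, map_pow, Finsupp.add_apply, Finsupp.smul_apply, exp_add, exp_nsmul]
    have h1 : P.1 x ≤ exp (B P) := val_le_exp_poleDiv hK x P
    have h2 : P.1 (u i) ≤ exp (Cd P) := by
      refine le_trans (val_le_exp_poleDiv hK (u i) P) ?_
      rw [exp_le_exp]
      exact hCdle i P
    have h3 : (1 : ℤᵐ⁰) ≤ exp (B P) := by
      rw [← exp_zero, exp_le_exp]
      exact poleDiv_nonneg x P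
    calc P.1 x ^ (j : ℕ) * P.1 (u i) ≤ exp (B P) ^ (j : ℕ) * exp (Cd P) := by gcongr
      _ ≤ exp (B P) ^ l * exp (Cd P) := by
        have h4 : exp (B P) ^ (j : ℕ) ≤ exp (B P) ^ l :=
          pow_le_pow_right₀ h3 (by have := j.2; omega)
        gcongr
  have hli : LinearIndependent k (fun p : Fin (l + 1) × Fin n =>
      (⟨x ^ (p.1 : ℕ) * u p.2, hmem p.1 p.2⟩ : L (l • B + Cd))) := by
    apply LinearIndependent.of_comp (L (l • B + Cd)).subtype
    have := linearIndependent_smul (linearIndependent_pow_of_transcendental hg l)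
      u.linearIndependent
    exact this
  have hfd := finiteDimensional_L hK (l • B + Cd)
  have h1 := hli.fintype_card_le_finrank
  rw [Fintype.card_prod, Fintype.card_fin, Fintype.card_fin] at h1
  exact h1

/-- lower bound: `[K : k(x)]` is at most the degree of the pole divisor -/
theorem finrank_le_deg_poleDiv (hK : IsFunctionField k K) {x : K}
    (hx : x ∉ Set.range (algebraMap k K)) :
    (Module.finrank k⟮x⟯ K : ℤ) ≤ (poleDiv k x).deg := by
  classical
  obtain ⟨Cd, hCd0, hkey⟩ := exists_divisor_ell_ge hK hx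
  set n := Module.finrank k⟮x⟯ K with hn
  set B := poleDiv k x with hB
  have key : ∀ l : ℕ, ((l + 1) * n : ℤ) ≤ 1 + l * B.deg + Cd.deg := by
    intro l
    have h1 := hkey l
    have h0 : FiniteDimensional k (L (0 : Divisor k K)) := finiteDimensional_L hK 0
    have h2 := (ell_le_of_le hK (D₁ := 0) (D₂ := l • B + Cd)
      (add_nonneg (smul_nonneg (Nat.zero_le l) (poleDiv_nonneg x)) hCd0)).2
    rw [ell_zero hK, deg_zero, deg_add, deg_nsmul] at h2
    have h3 : (((l + 1) * n : ℕ) : ℤ) ≤ (ell (l • B + Cd) : ℤ) := Int.ofNat_le.mpr h1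
    push_cast at h3 h2
    linarith
  have hB0 : 0 ≤ B.deg := deg_nonneg (poleDiv_nonneg x)
  have hC0 : 0 ≤ Cd.deg := deg_nonneg hCd0
  by_contra hlt
  push Not at hlt
  have h1 := key (Cd.deg.toNat + 1)
  have h2 : ((Cd.deg.toNat + 1 : ℕ) : ℤ) = Cd.deg + 1 := by
    push_cast
    rw [Int.toNat_of_nonneg hC0]
  rw [h2] at h1
  have h3 : B.deg + 1 ≤ (n : ℤ) := hlt
  nlinarith

theorem adjoin_inv_eq (x : K) : k⟮x⁻¹⟯ = k⟮x⟯ := by
  apply le_antisymm
  · rw [IntermediateField.adjoin_simple_le_iff]
    exact inv_mem (IntermediateField.mem_adjoin_simple_self k x)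
  · rw [IntermediateField.adjoin_simple_le_iff]
    have := inv_mem (IntermediateField.mem_adjoin_simple_self k x⁻¹)
    rwa [inv_inv] at this

theorem finrank_adjoin_inv (x : K) : Module.finrank k⟮x⁻¹⟯ K = Module.finrank k⟮x⟯ K := by
  rw [adjoin_inv_eq]

theorem deg_poleDiv_eq (hK : IsFunctionField k K) {x : K}
    (hx : x ∉ Set.range (algebraMap k K)) :
    (poleDiv k x).deg = Module.finrank k⟮x⟯ K := by
  apply le_antisymm
  · have := deg_zeroDiv_le hK (inv_not_mem_range hx)
    rwa [zeroDiv_inv hK, finrank_adjoin_inv] at this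
  · exact finrank_le_deg_poleDiv hK hx

theorem deg_zeroDiv_eq (hK : IsFunctionField k K) {x : K}
    (hx : x ∉ Set.range (algebraMap k K)) :
    (zeroDiv k x).deg = Module.finrank k⟮x⟯ K := by
  have := deg_poleDiv_eq hK (inv_not_mem_range hx)
  rwa [poleDiv_inv hK, finrank_adjoin_inv] at this

theorem div_eq_zero_of_mem_range (hK : IsFunctionField k K) {x : K}
    (hx : x ∈ Set.range (algebraMap k K)) : FunFld.div k x = 0 := by
  ext P
  rw [div_apply hK, ord_eq_zero_of_mem_range P hx]
  rfl

theorem deg_div_eq_zero (hK : IsFunctionField k K) (x : K) : (FunFld.div k x).deg = 0 := by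
  by_cases hx : x ∈ Set.range (algebraMap k K)
  · rw [div_eq_zero_of_mem_range hK hx, deg_zero]
  · rw [div_eq_zeroDiv_sub_poleDiv hK, deg_sub, deg_zeroDiv_eq hK hx, deg_poleDiv_eq hK hx,
      sub_self]

theorem L_eq_bot_of_deg_neg (hK : IsFunctionField k K) (D : Divisor k K) (h : D.deg < 0) :
    L D = ⊥ := by
  by_contra hne
  obtain ⟨x, hx, hx0⟩ := (Submodule.ne_bot_iff _).mp hne
  have h1 : 0 ≤ D + FunFld.div k x := by
    intro P
    have h1 := hx P
    rw [val_eq_exp_neg_ord P hx0, exp_le_exp] at h1
    rw [Finsupp.add_apply, div_apply hK]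
    simp only [Finsupp.coe_zero, Pi.zero_apply]
    omega
  have h2 := deg_nonneg h1
  rw [deg_add, deg_div_eq_zero hK] at h2
  omega

theorem zeroDiv_deg_eq_sum (hK : IsFunctionField k K) (x : K) :
    (∑ P ∈ (FunFld.div k x).support with 0 < FunFld.div k x P,
        FunFld.div k x P * (P.deg : ℤ)) = (zeroDiv k x).deg := by
  classical
  unfold Divisor.deg Finsupp.sum
  have hsupp : (zeroDiv k x).support =
      (FunFld.div k x).support.filter (fun P => 0 < FunFld.div k x P) := by
    ext P
    rw [Finsupp.mem_support_iff, Finset.mem_filter, Finsupp.mem_support_iff, zeroDiv_apply hK,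
      div_apply hK]
    constructor
    · intro h
      have : 0 < P.ord x := by
        by_contra h'
        push Not at h'
        exact h (max_eq_right h')
      exact ⟨this.ne', this⟩
    · rintro ⟨_, h⟩
      rw [max_eq_left h.le]
      exact h.ne'
  rw [hsupp]
  apply Finset.sum_congr rfl
  intro P hP
  rw [Finset.mem_filter] at hP
  rw [zeroDiv_apply hK, ← div_apply hK, max_eq_left hP.2.le]

end Groth.Agent.Lib.helper16.FF


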