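import Groth.Agent.Lib.helper16.FFGaps

/-! Helper library (helper16): elements with distinct orders at a place are independent. -/

set_option autoImplicit false

namespace Groth.Agent.Lib.helper16.FF

open FunFld WithZero Polynomial Module
open scoped IntermediateField

variable {k K : Type*} [Field k] [Field K] [Algebra k K]

/-- nonzero elements with pairwise distinct orders at a place are linearly independent over `k` -/
theorem linearIndependent_of_ord_injective {ι : Type*} [Finite ι] (P : Place k K) (z : ι → K)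
    (hz0 : ∀ i, z i ≠ 0) (hinj : Function.Injective (fun i => P.ord (z i))) :
    LinearIndependent k z := by
  classical
  have := Fintype.ofFinite ι
  rw [Fintype.linearIndependent_iff]
  intro c hc
  by_contra hcon
  push Not at hcon
  have hne : (Finset.univ.filter (fun i => c i ≠ 0)).Nonempty := by
    obtain ⟨i, hi⟩ := hcon
    exact ⟨i, by simp [hi]⟩
  obtain ⟨j, hj, hjmax⟩ := Finset.exists_max_image _ (fun i => P.1 (z i)) hne
  have hcj : c j ≠ 0 := by simpa using hj
  have hmain : P.1 (c j • z j) = P.1 (z j) := val_smul P hcj _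
  have hvj0 : P.1 (z j) ≠ 0 := val_ne_zero P (hz0 j)
  have hothers : P.1 (∑ i ∈ Finset.univ.erase j, c i • z i) < P.1 (z j) := by
    apply Valuation.map_sum_lt _ hvj0
    intro i hi
    have hij : i ≠ j := (Finset.mem_erase.mp hi).1
    by_cases hci : c i = 0
    · rw [hci, zero_smul, map_zero]
      exact zero_lt_iff.mpr hvj0
    · rw [val_smul P hci]
      have hle : P.1 (z i) ≤ P.1 (z j) := hjmax i (by simp [hci])
      refine lt_of_le_of_ne hle ?_
      intro heq
      apply hij
      apply hinj
      change P.ord (z i) = P.ord (z j)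
      unfold Place.ord
      rw [heq]
  have hsum : ∑ i, c i • z i = c j • z j + ∑ i ∈ Finset.univ.erase j, c i • z i :=
    (Finset.add_sum_erase _ (fun i => c i • z i) (Finset.mem_univ j)).symm
  have : P.1 (∑ i, c i • z i) = P.1 (z j) := by
    rw [hsum, Valuation.map_add_eq_of_lt_left, hmain]
    rw [hmain]; exact hothers
  rw [hc, map_zero] at this
  exact hvj0 this.symm

theorem mem_L_single_of_ord (P : Place k K) {x : K} {m : ℤ} (hx0 : x ≠ 0) (h1 : -m ≤ P.ord x)
    (h2 : ∀ Q : Place k K, Q ≠ P → 0 ≤ Q.ord x) : x ∈ L (Finsupp.single P m) := by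
  intro Q
  by_cases hQP : Q = P
  · subst hQP
    rw [Finsupp.single_eq_same, val_le_exp_iff Q hx0]
    omega
  · rw [Finsupp.single_eq_of_ne hQP, exp_zero, val_le_one_iff Q hx0]
    exact h2 Q hQP

theorem ord_nonneg_of_mem_L_single {P : Place k K} {x : K} {m : ℤ} (hx0 : x ≠ 0)
    (hx : x ∈ L (Finsupp.single P m)) : ∀ Q : Place k K, Q ≠ P → 0 ≤ Q.ord x := by
  intro Q hQ
  have := hx Q
  rwa [Finsupp.single_eq_of_ne hQ, exp_zero, val_le_one_iff Q hx0] at this

theorem ell_single_eq_of_genus_one (hK : IsFunctionField k K) (hg : genus k K = 1)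
    {P : Place k K} (hP : P.deg = 1) {n : ℕ} (hn : 1 ≤ n) :
    ell (Finsupp.single P (n : ℤ)) = n := by
  have h := ell_eq_of_deg_ge hK (D := Finsupp.single P (n : ℤ)) (by
    rw [deg_single, hP, hg]; push_cast; omega)
  rw [deg_single, hP, hg] at h
  have : (ell (Finsupp.single P (n : ℤ)) : ℤ) = n := by push_cast at h ⊢; omega
  exact_mod_cast this

end Groth.Agent.Lib.helper16.FF
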