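import Groth.Agent.Lib.helper16.FFRat

/-! Helper library (helper16): further consequences of Riemann–Roch. -/

set_option autoImplicit false

namespace Groth.Agent.Lib.helper16.FF

open FunFld WithZero Polynomial Module
open scoped IntermediateField

variable {k K : Type*} [Field k] [Field K] [Algebra k K]

/-- if `ℓ(P) ≥ 2` for a place of degree one then `K` is rational -/
theorem exists_adjoin_eq_top_of_two_le_ell (hK : IsFunctionField k K) {P : Place k K}
    (hP : P.deg = 1) (h2 : 2 ≤ ell (Finsupp.single P (1 : ℤ))) : ∃ x : K, k⟮x⟯ = ⊤ := by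
  have hex : ∃ x : K, x ∈ L (Finsupp.single P (1 : ℤ)) ∧
      x ∉ Set.range (algebraMap k K) := by
    by_contra hcon
    push Not at hcon
    have hle : L (Finsupp.single P (1 : ℤ)) ≤ L (0 : Divisor k K) := by
      intro x hx
      rw [L_zero_eq_one hK, Submodule.mem_one]
      exact hcon x hx
    have hfd := finiteDimensional_L hK (0 : Divisor k K)
    have := Submodule.finrank_mono hle
    have h0 := ell_zero hK (k := k) (K := K)
    unfold ell at h2 h0
    omega
  obtain ⟨x, hxL, hxr⟩ := hex
  have hx0 : x ≠ 0 := by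
    rintro rfl
    exact hxr ⟨0, map_zero _⟩
  have hle : poleDiv k x ≤ Finsupp.single P 1 := by
    intro Q
    rw [poleDiv_apply hK]
    have := hxL Q
    rw [val_eq_exp_neg_ord Q hx0, WithZero.exp_le_exp] at this
    apply max_le this
    classical
    rw [Finsupp.single_apply]
    split_ifs <;> omega
  have h3 := deg_mono hle
  rw [deg_poleDiv_eq hK hxr, deg_single, hP] at h3
  have hfd := finiteDimensional_of_transcendental hK (transcendental_of_not_mem_range hK hxr)
  have h4 : 0 < Module.finrank k⟮x⟯ K := Module.finrank_pos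
  refine ⟨x, IntermediateField.finrank_eq_one_iff_eq_top.mp ?_⟩
  have : (Module.finrank k⟮x⟯ K : ℤ) ≤ 1 := by simpa using h3
  omega

theorem one_le_ell_of_nonneg (hK : IsFunctionField k K) {D : Divisor k K} (hD : 0 ≤ D) :
    1 ≤ ell D := by
  have := ell_mono hK hD
  rwa [ell_zero hK] at this

theorem ell_single_eq_one (hK : IsFunctionField k K) (hg : 0 < genus k K) {P : Place k K}
    (hP : P.deg = 1) : ell (Finsupp.single P (1 : ℤ)) = 1 := by
  have h1 : 1 ≤ ell (Finsupp.single P (1 : ℤ)) :=
    one_le_ell_of_nonneg hK (Finsupp.single_nonneg.mpr zero_le_one)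
  by_contra hne
  have h2 : 2 ≤ ell (Finsupp.single P (1 : ℤ)) := by omega
  obtain ⟨x, hx⟩ := exists_adjoin_eq_top_of_two_le_ell hK hP h2
  have := genus_eq_zero_of_adjoin_eq_top hK hx
  omega

theorem deg_eq_one_of_isAlgClosed [IsAlgClosed k] (hK : IsFunctionField k K) (P : Place k K) :
    P.deg = 1 := by
  have hfd := finiteDimensional_residueField hK P
  have hint : Algebra.IsIntegral k (IsLocalRing.ResidueField P.O) :=
    @Algebra.IsIntegral.of_finite k _ _ _ _ hfd
  have hbij : Function.Bijective (algebraMap k (IsLocalRing.ResidueField P.O)) :=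
    IsAlgClosed.algebraMap_bijective_of_isIntegral
  have hbij' : Function.Bijective (Algebra.linearMap k (IsLocalRing.ResidueField P.O)) := hbij
  unfold Place.deg
  have h1 := (LinearEquiv.ofBijective _ hbij').finrank_eq
  rw [Module.finrank_self] at h1
  exact h1.symm

/-- `ℓ(D - P) < ℓ(D)` for `deg D ≥ 2g` or `D` canonical, `g > 0`, `deg P = 1` -/
theorem ell_sub_single_lt (hK : IsFunctionField k K) (hg : 0 < genus k K) {D : Divisor k K}
    (hD : 2 * (genus k K : ℤ) ≤ D.deg ∨ IsCanonical k K D) {P : Place k K} (hP : P.deg = 1) :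
    ell (D - Finsupp.single P 1) < ell D := by
  have hdegP : (D - Finsupp.single P 1).deg = D.deg - 1 := by
    rw [deg_sub, deg_single, hP]; simp
  rcases hD with hD | hD
  · have h1 := ell_eq_of_deg_ge hK (D := D) (by omega)
    have h2 := ell_eq_of_deg_ge hK (D := D - Finsupp.single P 1) (by omega)
    rw [hdegP] at h2
    have : (ell (D - Finsupp.single P 1) : ℤ) < ell D := by omega
    exact_mod_cast this
  · obtain ⟨h1, h2⟩ := isCanonical_ell_deg hK hD
    have h3 := riemann_roch hK hD (D - Finsupp.single P 1)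
    have h4 : D - (D - Finsupp.single P 1) = Finsupp.single P 1 := by abel
    rw [h4, ell_single_eq_one hK hg hP, hdegP, h2] at h3
    have : (ell (D - Finsupp.single P 1) : ℤ) < ell D := by
      rw [h1]
      push_cast at h3 ⊢
      omega
    exact_mod_cast this

theorem L_single_mono (P : Place k K) {a b : ℤ} (h : a ≤ b) :
    L (Finsupp.single P a) ≤ L (Finsupp.single P b) :=
  L_mono (Finsupp.single_mono h)

/-- a non-gap `m` at `P` gives an element with pole of exact order `m` at `P` and no other pole -/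
theorem exists_ord_eq_of_L_ne {P : Place k K} {m : ℤ}
    (h : L (Finsupp.single P m) ≠ L (Finsupp.single P (m - 1))) :
    ∃ x : K, x ≠ 0 ∧ P.ord x = -m ∧ ∀ Q : Place k K, Q ≠ P → 0 ≤ Q.ord x := by
  have hle : L (Finsupp.single P (m - 1)) ≤ L (Finsupp.single P m) :=
    L_single_mono P (by omega)
  have hex : ∃ x, x ∈ L (Finsupp.single P m) ∧ x ∉ L (Finsupp.single P (m - 1)) := by
    by_contra hcon
    push Not at hcon
    exact h (le_antisymm hcon hle)
  obtain ⟨x, hx1, hx2⟩ := hex
  have hx0 : x ≠ 0 := by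
    rintro rfl
    exact hx2 (Submodule.zero_mem _)
  have hQ : ∀ Q : Place k K, Q ≠ P → 0 ≤ Q.ord x := by
    intro Q hQ
    have := hx1 Q
    rw [Finsupp.single_eq_of_ne hQ, exp_zero, val_le_one_iff Q hx0] at this
    exact this
  refine ⟨x, hx0, ?_, hQ⟩
  have h1 := hx1 P
  rw [Finsupp.single_eq_same, val_le_exp_iff P hx0] at h1
  by_contra hne
  apply hx2
  intro Q
  by_cases hQP : Q = P
  · subst hQP
    rw [Finsupp.single_eq_same, val_le_exp_iff Q hx0]
    omega
  · rw [Finsupp.single_eq_of_ne hQP, exp_zero, val_le_one_iff Q hx0]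
    exact hQ Q hQP

theorem L_ne_of_ord_eq {P : Place k K} {m : ℤ} {x : K} (hx0 : x ≠ 0) (h1 : P.ord x = -m)
    (h2 : ∀ Q : Place k K, Q ≠ P → 0 ≤ Q.ord x) :
    L (Finsupp.single P m) ≠ L (Finsupp.single P (m - 1)) := by
  intro heq
  have hx : x ∈ L (Finsupp.single P m) := by
    intro Q
    by_cases hQP : Q = P
    · subst hQP
      rw [Finsupp.single_eq_same, val_le_exp_iff Q hx0]
      omega
    · rw [Finsupp.single_eq_of_ne hQP, exp_zero, val_le_one_iff Q hx0]
      exact h2 Q hQP
  rw [heq] at hx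
  have := hx P
  rw [Finsupp.single_eq_same, val_le_exp_iff P hx0] at this
  omega

/-- the non-gaps at `P` are closed under addition -/
theorem L_ne_add {P : Place k K} {a b : ℤ}
    (ha : L (Finsupp.single P a) ≠ L (Finsupp.single P (a - 1)))
    (hb : L (Finsupp.single P b) ≠ L (Finsupp.single P (b - 1))) :
    L (Finsupp.single P (a + b)) ≠ L (Finsupp.single P (a + b - 1)) := by
  obtain ⟨x, hx0, hx1, hx2⟩ := exists_ord_eq_of_L_ne ha
  obtain ⟨y, hy0, hy1, hy2⟩ := exists_ord_eq_of_L_ne hb
  refine L_ne_of_ord_eq (x := x * y) (mul_ne_zero hx0 hy0) ?_ ?_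
  · rw [ord_mul P hx0 hy0, hx1, hy1]; ring
  · intro Q hQ
    rw [ord_mul Q hx0 hy0]
    have := hx2 Q hQ
    have := hy2 Q hQ
    omega

/-- gaps make up at least half of the integers below a gap -/
theorem gaps_count (P : Place k K) (n : ℕ) (hn : 1 ≤ n)
    (hgap : L (Finsupp.single P (n : ℤ)) = L (Finsupp.single P ((n : ℤ) - 1))) :
    n - 1 ≤ 2 * Set.ncard {m : ℕ | 1 ≤ m ∧ m < n ∧
      L (Finsupp.single P (m : ℤ)) = L (Finsupp.single P ((m : ℤ) - 1))} := by
  classical
  let G : Finset ℕ := (Finset.Ico 1 n).filter (fun m =>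
    L (Finsupp.single P (m : ℤ)) = L (Finsupp.single P ((m : ℤ) - 1)))
  have hG : {m : ℕ | 1 ≤ m ∧ m < n ∧
      L (Finsupp.single P (m : ℤ)) = L (Finsupp.single P ((m : ℤ) - 1))} = ↑G := by
    ext m
    simp only [G, Finset.coe_filter, Finset.mem_Ico]
    constructor
    · rintro ⟨h1, h2, h3⟩; exact ⟨⟨h1, h2⟩, h3⟩
    · rintro ⟨⟨h1, h2⟩, h3⟩; exact ⟨h1, h2, h3⟩
  rw [hG, Set.ncard_coe_finset]
  have hcover : Finset.Ico 1 n ⊆ G ∪ G.image (fun m => n - m) := by
    intro m hm
    rw [Finset.mem_Ico] at hm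
    rw [Finset.mem_union]
    by_contra hcon
    rw [not_or] at hcon
    obtain ⟨h1, h2⟩ := hcon
    have hm1 : L (Finsupp.single P (m : ℤ)) ≠ L (Finsupp.single P ((m : ℤ) - 1)) := by
      intro h
      apply h1
      simp only [G, Finset.mem_filter, Finset.mem_Ico]
      exact ⟨hm, h⟩
    have hm2 : L (Finsupp.single P ((n - m : ℕ) : ℤ)) ≠
        L (Finsupp.single P (((n - m : ℕ) : ℤ) - 1)) := by
      intro h
      apply h2
      rw [Finset.mem_image]
      refine ⟨n - m, ?_, by omega⟩
      simp only [G, Finset.mem_filter, Finset.mem_Ico]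
      exact ⟨⟨by omega, by omega⟩, h⟩
    have := L_ne_add hm1 hm2
    have hcast : (m : ℤ) + ((n - m : ℕ) : ℤ) = n := by
      rw [Nat.cast_sub hm.2.le]; ring
    rw [hcast] at this
    exact this hgap
  have h1 := Finset.card_le_card hcover
  have h2 := Finset.card_union_le G (G.image (fun m => n - m))
  have h3 := Finset.card_image_le (s := G) (f := fun m => n - m)
  rw [Nat.card_Ico] at h1
  omega

/-- **Strong approximation** -/
theorem strong_approximation (hK : IsFunctionField k K) (Pinf : Place k K) (n : ℕ)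
    (P : Fin n → Place k K) (hP : Function.Injective P) (hinf : Pinf ∉ Set.range P)
    (x : Fin n → K) (m : Fin n → ℤ) :
    ∃ y : K, (∀ i, (P i).1 (y - x i) = exp (-(m i))) ∧
      ∀ Q : Place k K, Q ≠ Pinf → Q ∉ Set.range P → Q.1 y ≤ 1 := by
  classical
  obtain ⟨N, hN⟩ := riemann hK
  have ht : ∀ i, ∃ t : K, (P i).1 t = exp (-(m i)) := fun i => exists_val_eq_exp (P i) _
  choose t ht using ht
  let s : ℤ := ∑ i, (m i + 1) * ((P i).deg : ℤ)
  let l : ℕ := (N + s).toNat
  let D : Divisor k K := Finsupp.single Pinf (l : ℤ) - ∑ i, Finsupp.single (P i) (m i + 1)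
  have hDdeg : N ≤ D.deg := by
    have h1 : D.deg = l * Pinf.deg - s := by
      rw [← degHom_apply]
      simp only [D, s, map_sub, map_sum, degHom_apply, deg_single]
    rw [h1]
    have h2 := deg_place_pos hK Pinf
    have h3 : N + s ≤ l := Int.self_le_toNat _
    have h4 : (1 : ℤ) ≤ Pinf.deg := by exact_mod_cast h2
    have h5 : (0 : ℤ) ≤ l := by positivity
    nlinarith
  have hDP : ∀ i, D (P i) = -(m i + 1) := by
    intro i
    have hne : P i ≠ Pinf := fun h => hinf ⟨i, h⟩
    simp only [D, Finsupp.sub_apply, Finsupp.finset_sum_apply]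
    rw [Finsupp.single_eq_of_ne hne, Finset.sum_eq_single i]
    · rw [Finsupp.single_eq_same]; ring
    · intro j _ hj
      exact Finsupp.single_eq_of_ne (fun h => hj (hP h).symm)
    · intro h; exact absurd (Finset.mem_univ _) h
  have hDQ : ∀ Q : Place k K, Q ≠ Pinf → Q ∉ Set.range P → D Q = 0 := by
    intro Q hQ1 hQ2
    simp only [D, Finsupp.sub_apply, Finsupp.finset_sum_apply]
    rw [Finsupp.single_eq_of_ne hQ1, Finset.sum_eq_zero]
    · ring
    · intro j _
      exact Finsupp.single_eq_of_ne (fun h => hQ2 ⟨j, h.symm⟩)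
  let a : Place k K → K := fun Q => if h : ∃ i, P i = Q then x h.choose + t h.choose else 0
  have haP : ∀ i, a (P i) = x i + t i := by
    intro i
    have h : ∃ j, P j = P i := ⟨i, rfl⟩
    have hc : h.choose = i := hP h.choose_spec
    simp only [a, dif_pos h, hc]
  have haQ : ∀ Q : Place k K, Q ∉ Set.range P → a Q = 0 := by
    intro Q hQ
    have h : ¬ ∃ i, P i = Q := fun ⟨i, hi⟩ => hQ ⟨i, hi⟩
    simp only [a, dif_neg h]
  have ha : a ∈ adele k K := by
    rw [mem_adele_iff]
    refine (Set.finite_range P).subset ?_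
    intro Q hQ
    by_contra hQ'
    apply hQ
    rw [haQ Q hQ', map_zero]
    exact zero_le
  rw [← ADK_eq_adele hK (hN D hDdeg)] at ha
  obtain ⟨b, hb, _, ⟨z, rfl⟩, hsum⟩ := Submodule.mem_sup.mp ha
  refine ⟨z, ?_, ?_⟩
  · intro i
    have h1 : b (P i) + z = x i + t i := by
      have := congrFun hsum (P i)
      rw [haP] at this
      exact this
    have h2 : z - x i = t i + -b (P i) := by
      have : z = x i + t i - b (P i) := by rw [← h1]; ring
      rw [this]; ring
    rw [h2, Valuation.map_add_eq_of_lt_left, ht]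
    rw [Valuation.map_neg, ht]
    refine lt_of_le_of_lt (hb (P i)) ?_
    rw [hDP, exp_lt_exp]
    omega
  · intro Q hQ1 hQ2
    have h1 : b Q + z = 0 := by
      have := congrFun hsum Q
      rw [haQ Q hQ2] at this
      exact this
    have h2 : z = -b Q := by
      have : z = (b Q + z) - b Q := by ring
      rw [this, h1, zero_sub]
    rw [h2, Valuation.map_neg]
    have := hb Q
    rwa [hDQ Q hQ1 hQ2, exp_zero] at this

end Groth.Agent.Lib.helper16.FF


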