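import Groth.Agent.Lib.helper16.FAutFin
import Groth.Agent.Lib.helper16.FFIndep
import Groth.Agent.Lib.helper16.FFMore
import Groth.Agent.Lib.helper16.FFDeg

/-! Helper library (helper16): automorphisms of a Weierstrass elliptic function field fixing the
point at infinity (S19397). -/

set_option autoImplicit false

namespace Groth.Agent.Lib.helper16.FEA

open FunFld WithZero Module Polynomial
open Groth.Agent.Lib.helper16
open scoped IntermediateField

universe u v

section basic

variable {k : Type u} {K : Type v} [Field k] [Field K] [Algebra k K]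
  (P : Place k K) (x y : K) (hx2 : P.ord x = -2) (hy3 : P.ord y = -3)

include hx2 in
theorem x_ne_zero : x ≠ 0 := by
  rintro rfl
  rw [FF.ord_zero] at hx2
  omega

include hy3 in
theorem y_ne_zero : y ≠ 0 := by
  rintro rfl
  rw [FF.ord_zero] at hy3
  omega

/-- the monomials `1, x, y, x², xy, x³` -/
def mon (x y : K) : Fin 6 → K := ![1, x, y, x ^ 2, x * y, x ^ 3]

include hx2 hy3 in
theorem linearIndependent_mon : LinearIndependent k (mon x y) := by
  have hx0 := x_ne_zero P x hx2
  have hy0 := y_ne_zero P y hy3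
  apply FF.linearIndependent_of_ord_injective P
  · intro i
    fin_cases i
    · exact one_ne_zero
    · exact hx0
    · exact hy0
    · exact pow_ne_zero 2 hx0
    · exact mul_ne_zero hx0 hy0
    · exact pow_ne_zero 3 hx0
  · have h0 : P.ord (mon x y 0) = 0 := FF.ord_one P
    have h1 : P.ord (mon x y 1) = -2 := hx2
    have h2 : P.ord (mon x y 2) = -3 := hy3
    have h3 : P.ord (mon x y 3) = -4 := by
      change P.ord (x ^ 2) = -4
      rw [FF.ord_pow, hx2]; norm_num
    have h4 : P.ord (mon x y 4) = -5 := by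
      change P.ord (x * y) = -5
      rw [FF.ord_mul P hx0 hy0, hx2, hy3]; norm_num
    have h5 : P.ord (mon x y 5) = -6 := by
      change P.ord (x ^ 3) = -6
      rw [FF.ord_pow, hx2]; norm_num
    intro i j hij
    simp only at hij
    fin_cases i <;> fin_cases j <;> first | rfl | (exfalso; simp only [Fin.zero_eta, Fin.mk_one, Fin.reduceFinMk] at hij; omega)

end basic


section setup

variable {k : Type u} {K : Type v} [Field k] [IsAlgClosed k] [Field K] [Algebra k K]
  (hK : IsFunctionField k K) (hgen : genus k K = 1) (P : Place k K)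
  (x y : K)
  (hx : x ∈ L (Finsupp.single P 2)) (hx2 : P.ord x = -2)
  (hy : y ∈ L (Finsupp.single P 3)) (hy3 : P.ord y = -3)

omit [IsAlgClosed k] in
theorem one_mem_L_single (n : ℕ) : (1 : K) ∈ L (Finsupp.single P (n : ℤ)) := by
  classical
  intro Q
  rw [map_one, ← exp_zero, exp_le_exp]
  by_cases h : Q = P
  · rw [h, Finsupp.single_eq_same]; exact Nat.cast_nonneg n
  · rw [Finsupp.single_eq_of_ne h]

omit [IsAlgClosed k] in
theorem L_single_mono {m n : ℤ} (hmn : m ≤ n) :
    L (Finsupp.single P m : Divisor k K) ≤ L (Finsupp.single P n) := by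
  classical
  apply FF.L_mono
  intro Q
  by_cases h : Q = P
  · rw [h, Finsupp.single_eq_same, Finsupp.single_eq_same]; exact hmn
  · rw [Finsupp.single_eq_of_ne h, Finsupp.single_eq_of_ne h]

include hK hgen hx hx2 in
/-- `L(2P) = ⟨1, x⟩` -/
theorem mem_L_two {z : K} (hz : z ∈ L (Finsupp.single P 2)) :
    ∃ β α : k, z = algebraMap k K β + algebraMap k K α * x := by
  have hP := FF.deg_eq_one_of_isAlgClosed hK P
  have hell := FF.ell_single_eq_of_genus_one hK hgen hP (n := 2) (by norm_num)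
  have hfd := FF.finiteDimensional_L hK (Finsupp.single P ((2 : ℕ) : ℤ))
  have hx0 := x_ne_zero P x hx2
  have hli : LinearIndependent k ![(1 : K), x] := by
    apply FF.linearIndependent_of_ord_injective P
    · intro i
      fin_cases i
      · exact one_ne_zero
      · exact hx0
    · intro i j hij
      have h0 : P.ord ((![(1 : K), x]) 0) = 0 := FF.ord_one P
      have h1 : P.ord ((![(1 : K), x]) 1) = -2 := hx2
      simp only at hij
      fin_cases i <;> fin_cases j <;> first | rfl | (exfalso; simp only [Fin.zero_eta, Fin.mk_one] at hij; omega)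
  have hle : Submodule.span k (Set.range ![(1 : K), x]) ≤ L (Finsupp.single P ((2 : ℕ) : ℤ)) := by
    rw [Submodule.span_le]
    rintro _ ⟨i, rfl⟩
    fin_cases i
    · exact one_mem_L_single P 2
    · exact hx
  have hfr : finrank k (Submodule.span k (Set.range ![(1 : K), x])) = 2 := by
    rw [finrank_span_eq_card hli, Fintype.card_fin]
  have heq := Submodule.eq_of_le_of_finrank_eq hle (by rw [hfr]; exact hell.symm)
  have hz' : z ∈ Submodule.span k (Set.range ![(1 : K), x]) := by
    rw [heq]; exact hz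
  obtain ⟨c, hc⟩ := (Submodule.mem_span_range_iff_exists_fun k).mp hz'
  refine ⟨c 0, c 1, ?_⟩
  rw [← hc, Fin.sum_univ_two, Algebra.smul_def, Algebra.smul_def]
  change algebraMap k K (c 0) * 1 + algebraMap k K (c 1) * x = _
  rw [mul_one]

include hK hgen hx hx2 hy hy3 in
/-- `L(3P) = ⟨1, x, y⟩` -/
theorem mem_L_three {z : K} (hz : z ∈ L (Finsupp.single P 3)) :
    ∃ ε δ γ : k, z = algebraMap k K ε + algebraMap k K δ * x + algebraMap k K γ * y := by
  have hP := FF.deg_eq_one_of_isAlgClosed hK P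
  have hell := FF.ell_single_eq_of_genus_one hK hgen hP (n := 3) (by norm_num)
  have hfd := FF.finiteDimensional_L hK (Finsupp.single P ((3 : ℕ) : ℤ))
  have hx0 := x_ne_zero P x hx2
  have hy0 := y_ne_zero P y hy3
  have hli : LinearIndependent k ![(1 : K), x, y] := by
    apply FF.linearIndependent_of_ord_injective P
    · intro i
      fin_cases i
      · exact one_ne_zero
      · exact hx0
      · exact hy0
    · intro i j hij
      have h0 : P.ord ((![(1 : K), x, y]) 0) = 0 := FF.ord_one P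
      have h1 : P.ord ((![(1 : K), x, y]) 1) = -2 := hx2
      have h2 : P.ord ((![(1 : K), x, y]) 2) = -3 := hy3
      simp only at hij
      fin_cases i <;> fin_cases j <;> first | rfl | (exfalso; simp only [Fin.zero_eta, Fin.mk_one, Fin.reduceFinMk] at hij; omega)
  have hle : Submodule.span k (Set.range ![(1 : K), x, y]) ≤
      L (Finsupp.single P ((3 : ℕ) : ℤ)) := by
    rw [Submodule.span_le]
    rintro _ ⟨i, rfl⟩
    fin_cases i
    · exact one_mem_L_single P 3
    · exact L_single_mono P (by norm_num) hx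
    · exact hy
  have hfr : finrank k (Submodule.span k (Set.range ![(1 : K), x, y])) = 3 := by
    rw [finrank_span_eq_card hli, Fintype.card_fin]
  have heq := Submodule.eq_of_le_of_finrank_eq hle (by rw [hfr]; exact hell.symm)
  have hz' : z ∈ Submodule.span k (Set.range ![(1 : K), x, y]) := by
    rw [heq]; exact hz
  obtain ⟨c, hc⟩ := (Submodule.mem_span_range_iff_exists_fun k).mp hz'
  refine ⟨c 0, c 1, c 2, ?_⟩
  rw [← hc, Fin.sum_univ_three, Algebra.smul_def, Algebra.smul_def, Algebra.smul_def]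
  change algebraMap k K (c 0) * 1 + algebraMap k K (c 1) * x + algebraMap k K (c 2) * y = _
  rw [mul_one]

end setup


section forward

variable {k : Type u} {K : Type v} [Field k] [IsAlgClosed k] [Field K] [Algebra k K]
  (h2 : (2 : k) ≠ 0) (h3 : (3 : k) ≠ 0)
  (hK : IsFunctionField k K) (hgen : genus k K = 1) (P : Place k K)
  (a b : k) (x y : K)
  (heq : y ^ 2 = x ^ 3 + algebraMap k K a * x + algebraMap k K b)
  (hx : x ∈ L (Finsupp.single P 2)) (hx2 : P.ord x = -2)
  (hy : y ∈ L (Finsupp.single P 3)) (hy3 : P.ord y = -3)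

omit [IsAlgClosed k] in
theorem comapPlace_eq (σ : K ≃ₐ[k] K) (hσ : ∀ z, P.1 (σ z) = P.1 z) : FF.comapPlace σ P = P := by
  apply Subtype.ext
  ext z
  exact hσ z

include h2 h3 hK hgen heq hx hx2 hy hy3 in
/-- an automorphism fixing `P` is `x ↦ u² x`, `y ↦ u³ y` -/
theorem forward (σ : K ≃ₐ[k] K) (hσ : ∀ z, P.1 (σ z) = P.1 z) :
    ∃ u : k, u ≠ 0 ∧ a * u ^ 4 = a ∧ b * u ^ 6 = b ∧
      σ x = algebraMap k K (u ^ 2) * x ∧ σ y = algebraMap k K (u ^ 3) * y := by
  have hσP := comapPlace_eq P σ hσ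
  have hx0 := x_ne_zero P x hx2
  have hy0 := y_ne_zero P y hy3
  have hσx : σ x ∈ L (Finsupp.single P 2) := by
    rw [← FAF.mem_L_single_comapPlace, hσP]; exact hx
  have hσy : σ y ∈ L (Finsupp.single P 3) := by
    rw [← FAF.mem_L_single_comapPlace, hσP]; exact hy
  obtain ⟨β, α, hα⟩ := mem_L_two hK hgen P x hx hx2 hσx
  obtain ⟨ε, δ, γ, hγ⟩ := mem_L_three hK hgen P x y hx hx2 hy hy3 hσy
  have hvx : P.1 x = exp 2 := by
    rw [FF.val_eq_exp_neg_ord P hx0, hx2]; rfl
  have hvy : P.1 y = exp 3 := by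
    rw [FF.val_eq_exp_neg_ord P hy0, hy3]; rfl
  have hα0 : α ≠ 0 := by
    rintro rfl
    have h1 := hσ x
    rw [hα, map_zero, zero_mul, add_zero, hvx] at h1
    have h4 := P.2.1 β
    rw [h1, ← exp_zero, exp_le_exp] at h4
    omega
  have hγ0 : γ ≠ 0 := by
    rintro rfl
    have h1 := hσ y
    rw [hγ, map_zero, zero_mul, add_zero, hvy] at h1
    have h4 : P.1 (algebraMap k K ε + algebraMap k K δ * x) ≤ exp 2 := by
      apply (P.1.map_add _ _).trans
      apply max_le
      · apply (P.2.1 ε).trans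
        rw [← exp_zero, exp_le_exp]; norm_num
      · rw [map_mul, hvx]
        exact mul_le_of_le_one_left' (P.2.1 δ)
    rw [h1, exp_le_exp] at h4
    omega
  have hσeq := congrArg σ heq
  simp only [map_pow, map_add, map_mul, AlgEquiv.commutes] at hσeq
  rw [hα, hγ] at hσeq
  -- the linear relation
  let c : Fin 6 → k := ![ε ^ 2 + γ ^ 2 * b - β ^ 3 - a * β - b,
    2 * ε * δ + γ ^ 2 * a - 3 * β ^ 2 * α - a * α, 2 * ε * γ, δ ^ 2 - 3 * β * α ^ 2,
    2 * δ * γ, γ ^ 2 - α ^ 3]
  have hsum : ∑ i, c i • mon x y i = 0 := by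
    rw [Fin.sum_univ_six]
    simp only [Algebra.smul_def]
    change algebraMap k K (ε ^ 2 + γ ^ 2 * b - β ^ 3 - a * β - b) * 1 +
      algebraMap k K (2 * ε * δ + γ ^ 2 * a - 3 * β ^ 2 * α - a * α) * x +
      algebraMap k K (2 * ε * γ) * y + algebraMap k K (δ ^ 2 - 3 * β * α ^ 2) * x ^ 2 +
      algebraMap k K (2 * δ * γ) * (x * y) + algebraMap k K (γ ^ 2 - α ^ 3) * x ^ 3 = 0
    simp only [map_add, map_sub, map_mul, map_pow, map_ofNat]
    linear_combination hσeq - (algebraMap k K γ) ^ 2 * heq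
  have hc := Fintype.linearIndependent_iff.mp (linearIndependent_mon P x y hx2 hy3) c hsum
  have c0 : ε ^ 2 + γ ^ 2 * b - β ^ 3 - a * β - b = 0 := hc 0
  have c1 : 2 * ε * δ + γ ^ 2 * a - 3 * β ^ 2 * α - a * α = 0 := hc 1
  have c2 : 2 * ε * γ = 0 := hc 2
  have c3 : δ ^ 2 - 3 * β * α ^ 2 = 0 := hc 3
  have c4 : 2 * δ * γ = 0 := hc 4
  have c5 : γ ^ 2 - α ^ 3 = 0 := hc 5
  have hε : ε = 0 := by
    rcases mul_eq_zero.mp c2 with h | h
    · rcases mul_eq_zero.mp h with h | h
      · exact absurd h h2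
      · exact h
    · exact absurd h hγ0
  have hδ : δ = 0 := by
    rcases mul_eq_zero.mp c4 with h | h
    · rcases mul_eq_zero.mp h with h | h
      · exact absurd h h2
      · exact h
    · exact absurd h hγ0
  have hβ : β = 0 := by
    rw [hδ] at c3
    have h1 : 3 * β * α ^ 2 = 0 := by linear_combination -c3
    rcases mul_eq_zero.mp h1 with h | h
    · rcases mul_eq_zero.mp h with h | h
      · exact absurd h h3
      · exact h
    · exact absurd ((pow_eq_zero_iff two_ne_zero).mp h) hα0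
  subst hε hδ hβ
  have e5 : γ ^ 2 = α ^ 3 := by linear_combination c5
  have e1 : γ ^ 2 * a = a * α := by linear_combination c1
  have e0 : γ ^ 2 * b = b := by linear_combination c0
  have hu2 : (γ / α) ^ 2 = α := by
    rw [div_pow, div_eq_iff (pow_ne_zero 2 hα0), e5]
    ring
  have hu3 : (γ / α) ^ 3 = γ := by
    rw [pow_succ, hu2]
    field_simp
  have hu4 : (γ / α) ^ 4 = α ^ 2 := by
    rw [show (γ / α) ^ 4 = ((γ / α) ^ 2) ^ 2 by ring, hu2]
  have hu6 : (γ / α) ^ 6 = γ ^ 2 := by
    rw [show (γ / α) ^ 6 = ((γ / α) ^ 2) ^ 3 by ring, hu2, e5]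
  refine ⟨γ / α, div_ne_zero hγ0 hα0, ?_, ?_, ?_, ?_⟩
  · rw [hu4]
    have h4 : α * (a * α ^ 2 - a) = 0 := by
      rw [e5] at e1
      linear_combination e1
    rcases mul_eq_zero.mp h4 with h | h
    · exact absurd h hα0
    · linear_combination h
  · rw [hu6]
    linear_combination e0
  · rw [hu2, hα, map_zero, zero_add]
  · rw [hu3, hγ, map_zero, zero_mul, zero_add, zero_add]

end forward


section construct

variable {k : Type u} {K : Type v} [Field k] [IsAlgClosed k] [Field K] [Algebra k K]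
  (hK : IsFunctionField k K) (P : Place k K)
  (a b : k) (x y : K)
  (heq : y ^ 2 = x ^ 3 + algebraMap k K a * x + algebraMap k K b)
  (hxy : IntermediateField.adjoin k ({x, y} : Set K) = ⊤)
  (hx : x ∈ L (Finsupp.single P 2)) (hx2 : P.ord x = -2)

omit [IsAlgClosed k] in
include hx2 in
theorem x_not_mem_range : x ∉ Set.range (algebraMap k K) := by
  rintro ⟨c, rfl⟩
  by_cases hc : c = 0
  · rw [hc, map_zero, FF.ord_zero] at hx2
    omega
  · unfold Place.ord at hx2
    rw [FF.val_algebraMap P hc] at hx2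
    simp at hx2

omit [IsAlgClosed k] in
include hK hx hx2 in
theorem poleDiv_x : FF.poleDiv k x = Finsupp.single P 2 := by
  classical
  have hx0 := x_ne_zero P x hx2
  ext Q
  rw [FF.poleDiv_apply hK]
  by_cases hQ : Q = P
  · rw [hQ, Finsupp.single_eq_same, hx2]
    norm_num
  · rw [Finsupp.single_eq_of_ne hQ]
    have := FF.ord_nonneg_of_mem_L_single hx0 hx Q hQ
    rw [max_eq_right]
    omega

include hK hx hx2 in
theorem finrank_adjoin_x : finrank k⟮x⟯ K = 2 := by
  have h1 := FF.deg_poleDiv_eq hK (x_not_mem_range P x hx2)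
  rw [poleDiv_x hK P x hx hx2, FF.deg_single, FF.deg_eq_one_of_isAlgClosed hK P] at h1
  have : ((finrank k⟮x⟯ K : ℕ) : ℤ) = 2 := by rw [← h1]; norm_num
  exact_mod_cast this

omit [IsAlgClosed k] in
include hxy in
theorem adjoin_adjoin_eq_top : (k⟮x⟯)⟮y⟯ = ⊤ := by
  rw [eq_top_iff]
  intro z _
  have hz : z ∈ IntermediateField.adjoin k ({x, y} : Set K) := by
    rw [hxy]; exact IntermediateField.mem_top
  have hle : IntermediateField.adjoin k ({x, y} : Set K) ≤
      ((k⟮x⟯)⟮y⟯).restrictScalars k := by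
    rw [IntermediateField.adjoin_le_iff]
    intro w hw
    rw [Set.mem_insert_iff, Set.mem_singleton_iff] at hw
    rcases hw with rfl | rfl
    · have := IntermediateField.algebraMap_mem ((k⟮w⟯)⟮y⟯)
        (IntermediateField.AdjoinSimple.gen k w)
      rwa [IntermediateField.AdjoinSimple.algebraMap_gen] at this
    · exact IntermediateField.mem_adjoin_simple_self _ w
  exact hle hz

/-- `x³ + a x + b` inside `k(x)` -/
noncomputable def hE : k⟮x⟯ :=
  IntermediateField.AdjoinSimple.gen k x ^ 3 +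
    algebraMap k k⟮x⟯ a * IntermediateField.AdjoinSimple.gen k x + algebraMap k k⟮x⟯ b

omit [IsAlgClosed k] in
theorem algebraMap_hE :
    algebraMap k⟮x⟯ K (hE a b x) = x ^ 3 + algebraMap k K a * x + algebraMap k K b := by
  unfold hE
  rw [map_add, map_add, map_mul, map_pow, IntermediateField.AdjoinSimple.algebraMap_gen,
    ← IsScalarTower.algebraMap_apply, ← IsScalarTower.algebraMap_apply]

include hK heq hxy hx hx2 in
theorem minpoly_y : minpoly k⟮x⟯ y = X ^ 2 - C (hE a b x) := by
  have hfr := finrank_adjoin_x hK P x hx hx2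
  have hfd : FiniteDimensional k⟮x⟯ K := Module.finite_of_finrank_pos (by omega)
  have hint : IsIntegral k⟮x⟯ y := Algebra.IsIntegral.isIntegral y
  have hmonic : (X ^ 2 - C (hE a b x) : (k⟮x⟯)[X]).Monic := monic_X_pow_sub_C _ (by norm_num)
  have hroot : aeval y (X ^ 2 - C (hE a b x) : (k⟮x⟯)[X]) = 0 := by
    rw [map_sub, map_pow, aeval_X, aeval_C, algebraMap_hE, heq, sub_self]
  have hdvd := minpoly.dvd k⟮x⟯ y hroot
  have hdeg : (minpoly k⟮x⟯ y).natDegree = 2 := by
    rw [← IntermediateField.adjoin.finrank hint, adjoin_adjoin_eq_top x y hxy,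
      IntermediateField.finrank_top', hfr]
  symm
  apply eq_of_monic_of_dvd_of_natDegree_le (minpoly.monic hint) hmonic hdvd
  rw [hdeg, natDegree_X_pow_sub_C]


include hK heq hxy hx hx2 in
/-- the automorphism `x ↦ u² x`, `y ↦ u³ y` -/
theorem exists_aut (u : k) (hu : u ≠ 0) (ha : a * u ^ 4 = a) (hb : b * u ^ 6 = b) :
    ∃ σ : K ≃ₐ[k] K, σ x = algebraMap k K (u ^ 2) * x ∧ σ y = algebraMap k K (u ^ 3) * y ∧
      ∀ z, P.1 (σ z) = P.1 z := by
  classical
  have hιu : algebraMap k K u ≠ 0 := by rwa [Ne, map_eq_zero]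
  set x' := algebraMap k K (u ^ 2) * x with hx'
  set y' := algebraMap k K (u ^ 3) * y with hy'
  have hxnr := x_not_mem_range P x hx2
  have hxtr : Transcendental k x := FF.transcendental_of_not_mem_range hK hxnr
  have hx'nr : x' ∉ Set.range (algebraMap k K) := by
    rintro ⟨c, hc⟩
    apply hxnr
    refine ⟨c / u ^ 2, ?_⟩
    rw [map_div₀, hc, hx', map_pow]
    field_simp
  have hx'tr : Transcendental k x' := FF.transcendental_of_not_mem_range hK hx'nr
  let τ : k⟮x⟯ →ₐ[k] K := (k⟮x'⟯.val).comp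
    (((RatFunc.algEquivOfTranscendental x' hx'tr).toAlgHom).comp
      (RatFunc.algEquivOfTranscendental x hxtr).symm.toAlgHom)
  have hτgen : τ (IntermediateField.AdjoinSimple.gen k x) = x' := by
    change ((RatFunc.algEquivOfTranscendental x' hx'tr)
      ((RatFunc.algEquivOfTranscendental x hxtr).symm
        (IntermediateField.AdjoinSimple.gen k x)) : K) = x'
    rw [RatFunc.algEquivOfTranscendental_symm_gen, RatFunc.algEquivOfTranscendental_X]
  have hτh : τ (hE a b x) = x' ^ 3 + algebraMap k K a * x' + algebraMap k K b := by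
    unfold hE
    rw [map_add, map_add, map_mul, map_pow, hτgen, AlgHom.commutes, AlgHom.commutes]
  have hfr := finrank_adjoin_x hK P x hx hx2
  have hfd : FiniteDimensional k⟮x⟯ K := Module.finite_of_finrank_pos (by omega)
  have hint : IsIntegral k⟮x⟯ y := Algebra.IsIntegral.isIntegral y
  have hmin := minpoly_y hK P a b x y heq hxy hx hx2
  have hA : algebraMap k K a * algebraMap k K u ^ 4 = algebraMap k K a := by
    rw [← map_pow, ← map_mul, ha]
  have hB : algebraMap k K b * algebraMap k K u ^ 6 = algebraMap k K b := by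
    rw [← map_pow, ← map_mul, hb]
  have hroot : (minpoly k⟮x⟯ y).eval₂ (τ : k⟮x⟯ →+* K) y' = 0 := by
    rw [hmin, eval₂_sub, eval₂_pow, eval₂_X, eval₂_C]
    change y' ^ 2 - τ (hE a b x) = 0
    rw [hτh, hy', hx', map_pow, map_pow]
    linear_combination (algebraMap k K u) ^ 6 * heq + x * (algebraMap k K u) ^ 2 * hA + hB
  let e₁ := IntermediateField.adjoinRootEquivAdjoin k⟮x⟯ hint
  let e₂ : (k⟮x⟯)⟮y⟯ ≃ₐ[k⟮x⟯] K :=
    (IntermediateField.equivOfEq (adjoin_adjoin_eq_top x y hxy)).trans IntermediateField.topEquiv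
  let e : K ≃ₐ[k⟮x⟯] AdjoinRoot (minpoly k⟮x⟯ y) := (e₁.trans e₂).symm
  let ℓ := AdjoinRoot.lift (τ : k⟮x⟯ →+* K) y' hroot
  let σ₀ : K →+* K := ℓ.comp (e : K →+* AdjoinRoot (minpoly k⟮x⟯ y))
  have hσ₀E : ∀ c : k⟮x⟯, σ₀ (algebraMap k⟮x⟯ K c) = τ c := by
    intro c
    change ℓ (e (algebraMap k⟮x⟯ K c)) = τ c
    rw [e.commutes, AdjoinRoot.algebraMap_eq]
    exact AdjoinRoot.lift_of hroot
  have hey : e y = AdjoinRoot.root (minpoly k⟮x⟯ y) := by
    rw [AlgEquiv.symm_apply_eq]
    change y = e₂ (e₁ (AdjoinRoot.root (minpoly k⟮x⟯ y)))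
    rw [IntermediateField.adjoinRootEquivAdjoin_apply_root]
    rfl
  have hσ₀y : σ₀ y = y' := by
    change ℓ (e y) = y'
    rw [hey]
    exact AdjoinRoot.lift_root hroot
  have hσ₀x : σ₀ x = x' := by
    have := hσ₀E (IntermediateField.AdjoinSimple.gen k x)
    rwa [IntermediateField.AdjoinSimple.algebraMap_gen, hτgen] at this
  let σ₁ : K →ₐ[k] K :=
    { σ₀ with
      commutes' := fun c => by
        change σ₀ (algebraMap k K c) = algebraMap k K c
        have h1 : algebraMap k K c = algebraMap k⟮x⟯ K (algebraMap k k⟮x⟯ c) :=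
          IsScalarTower.algebraMap_apply k k⟮x⟯ K c
        conv_lhs => rw [h1]
        rw [hσ₀E, AlgHom.commutes] }
  have hσ₁x : σ₁ x = x' := hσ₀x
  have hσ₁y : σ₁ y = y' := hσ₀y
  have hsurj : Function.Surjective σ₁ := by
    have hrange : σ₁.fieldRange = ⊤ := by
      rw [eq_top_iff, ← hxy, IntermediateField.adjoin_le_iff]
      intro w hw
      rw [Set.mem_insert_iff, Set.mem_singleton_iff] at hw
      rcases hw with rfl | rfl
      · refine ⟨algebraMap k K (u ^ 2)⁻¹ * w, ?_⟩
        change σ₁ (algebraMap k K (u ^ 2)⁻¹ * w) = w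
        rw [map_mul, AlgHom.commutes, hσ₁x, hx', ← mul_assoc, ← map_mul,
          inv_mul_cancel₀ (pow_ne_zero 2 hu), map_one, one_mul]
      · refine ⟨algebraMap k K (u ^ 3)⁻¹ * w, ?_⟩
        change σ₁ (algebraMap k K (u ^ 3)⁻¹ * w) = w
        rw [map_mul, AlgHom.commutes, hσ₁y, hy', ← mul_assoc, ← map_mul,
          inv_mul_cancel₀ (pow_ne_zero 3 hu), map_one, one_mul]
    intro z
    have : z ∈ σ₁.fieldRange := by rw [hrange]; exact IntermediateField.mem_top
    exact this
  let σ : K ≃ₐ[k] K := AlgEquiv.ofBijective σ₁ ⟨σ₁.toRingHom.injective, hsurj⟩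
  have hσx : σ x = x' := hσ₁x
  refine ⟨σ, hσ₁x, hσ₁y, ?_⟩
  have hx0 := x_ne_zero P x hx2
  have hP' : FF.comapPlace σ P = P := by
    by_contra hne
    have h1 := hx (FF.comapPlace σ P)
    rw [Finsupp.single_eq_of_ne hne, exp_zero, FF.comapPlace_val, hσx, hx', map_mul,
      FF.val_algebraMap P (pow_ne_zero 2 hu), one_mul, FF.val_eq_exp_neg_ord P hx0, hx2,
      ← exp_zero, exp_le_exp] at h1
    omega
  intro z
  rw [← FF.comapPlace_val, hP']

end construct


section count

variable {k : Type u} {K : Type v} [Field k] [IsAlgClosed k] [Field K] [Algebra k K]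

omit [IsAlgClosed k] in
/-- automorphisms agreeing on generators agree -/
theorem aut_ext {x y : K} (hxy : IntermediateField.adjoin k ({x, y} : Set K) = ⊤)
    {σ τ : K ≃ₐ[k] K} (h1 : σ x = τ x) (h2 : σ y = τ y) : σ = τ := by
  let E : IntermediateField k K :=
    (AlgHom.equalizer (σ : K →ₐ[k] K) (τ : K →ₐ[k] K)).toIntermediateField (fun z hz => by
      rw [AlgHom.mem_equalizer] at hz ⊢
      change σ z⁻¹ = τ z⁻¹
      rw [map_inv₀, map_inv₀]
      congr 1)
  have hle : IntermediateField.adjoin k ({x, y} : Set K) ≤ E := by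
    rw [IntermediateField.adjoin_le_iff]
    intro w hw
    rw [Set.mem_insert_iff, Set.mem_singleton_iff] at hw
    rcases hw with rfl | rfl
    · exact h1
    · exact h2
  ext z
  have hz : z ∈ E := hle (by rw [hxy]; exact IntermediateField.mem_top)
  exact hz

open Classical in
/-- the order of the automorphism group -/
noncomputable def autOrder (a b : k) : ℕ := if a = 0 then 6 else if b = 0 then 4 else 2

omit [IsAlgClosed k] in
theorem cond_iff {a b : k} (hdisc : 4 * a ^ 3 + 27 * b ^ 2 ≠ 0) {u : k} (_hu : u ≠ 0) :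
    (a * u ^ 4 = a ∧ b * u ^ 6 = b) ↔ u ^ autOrder a b = 1 := by
  unfold autOrder
  by_cases ha : a = 0
  · have hb : b ≠ 0 := by
      rintro rfl
      apply hdisc
      rw [ha]; ring
    rw [if_pos ha, ha]
    constructor
    · rintro ⟨-, h⟩
      have : b * (u ^ 6 - 1) = 0 := by linear_combination h
      rcases mul_eq_zero.mp this with h' | h'
      · exact absurd h' hb
      · linear_combination h'
    · intro h
      exact ⟨by ring, by rw [h, mul_one]⟩
  · rw [if_neg ha]
    by_cases hb : b = 0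
    · rw [if_pos hb, hb]
      constructor
      · rintro ⟨h, -⟩
        have : a * (u ^ 4 - 1) = 0 := by linear_combination h
        rcases mul_eq_zero.mp this with h' | h'
        · exact absurd h' ha
        · linear_combination h'
      · intro h
        exact ⟨by rw [h, mul_one], by ring⟩
    · rw [if_neg hb]
      constructor
      · rintro ⟨h4, h6⟩
        have e4 : u ^ 4 = 1 := by
          have : a * (u ^ 4 - 1) = 0 := by linear_combination h4
          rcases mul_eq_zero.mp this with h' | h'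
          · exact absurd h' ha
          · linear_combination h'
        have e6 : u ^ 6 = 1 := by
          have : b * (u ^ 6 - 1) = 0 := by linear_combination h6
          rcases mul_eq_zero.mp this with h' | h'
          · exact absurd h' hb
          · linear_combination h'
        have : u ^ 6 = u ^ 4 * u ^ 2 := by ring
        rw [e6, e4, one_mul] at this
        exact this.symm
      · intro h
        have e4 : u ^ 4 = 1 := by
          rw [show u ^ 4 = (u ^ 2) ^ 2 by ring, h, one_pow]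
        have e6 : u ^ 6 = 1 := by
          rw [show u ^ 6 = (u ^ 2) ^ 3 by ring, h, one_pow]
        exact ⟨by rw [e4, mul_one], by rw [e6, mul_one]⟩

variable (h2 : (2 : k) ≠ 0) (h3 : (3 : k) ≠ 0)
  (hK : IsFunctionField k K) (hgen : genus k K = 1) (P : Place k K)
  (a b : k) (hdisc : 4 * a ^ 3 + 27 * b ^ 2 ≠ 0) (x y : K)
  (heq : y ^ 2 = x ^ 3 + algebraMap k K a * x + algebraMap k K b)
  (hxy : IntermediateField.adjoin k ({x, y} : Set K) = ⊤)
  (hx : x ∈ L (Finsupp.single P 2)) (hx2 : P.ord x = -2)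
  (hy : y ∈ L (Finsupp.single P 3)) (hy3 : P.ord y = -3)

include h2 h3 hK hgen hdisc heq hxy hx hx2 hy hy3 in
/-- the automorphisms fixing `P` correspond to the roots of unity of order `autOrder a b` -/
theorem card_aut_eq_card_roots :
    Nat.card {σ : K ≃ₐ[k] K // ∀ z : K, P.1 (σ z) = P.1 z} =
      Nat.card (rootsOfUnity (autOrder a b) k) := by
  have hx0 := x_ne_zero P x hx2
  have hy0 := y_ne_zero P y hy3
  have hex : ∀ ζ : rootsOfUnity (autOrder a b) k, ∃ σ : K ≃ₐ[k] K,
      σ x = algebraMap k K (((ζ : kˣ) : k) ^ 2) * x ∧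
      σ y = algebraMap k K (((ζ : kˣ) : k) ^ 3) * y ∧ ∀ z, P.1 (σ z) = P.1 z := by
    intro ζ
    have hζ0 : ((ζ : kˣ) : k) ≠ 0 := Units.ne_zero _
    have hζn : ((ζ : kˣ) : k) ^ autOrder a b = 1 := by
      have := ζ.2
      rw [mem_rootsOfUnity] at this
      have h' := congrArg (fun v : kˣ => (v : k)) this
      simpa using h'
    obtain ⟨h4, h6⟩ := (cond_iff hdisc hζ0).mpr hζn
    exact exists_aut hK P a b x y heq hxy hx hx2 _ hζ0 h4 h6
  choose f hfx hfy hfP using hex
  let F : rootsOfUnity (autOrder a b) k → {σ : K ≃ₐ[k] K // ∀ z : K, P.1 (σ z) = P.1 z} :=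
    fun ζ => ⟨f ζ, hfP ζ⟩
  have hinj : Function.Injective F := by
    intro ζ ζ' h
    have h' : f ζ = f ζ' := congrArg Subtype.val h
    have e2 : ((ζ : kˣ) : k) ^ 2 = ((ζ' : kˣ) : k) ^ 2 := by
      have := hfx ζ
      rw [h', hfx ζ'] at this
      exact (algebraMap k K).injective (mul_right_cancel₀ hx0 this).symm
    have e3 : ((ζ : kˣ) : k) ^ 3 = ((ζ' : kˣ) : k) ^ 3 := by
      have := hfy ζ
      rw [h', hfy ζ'] at this
      exact (algebraMap k K).injective (mul_right_cancel₀ hy0 this).symm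
    have hζ0 : ((ζ : kˣ) : k) ≠ 0 := Units.ne_zero _
    have hζ'0 : ((ζ' : kˣ) : k) ≠ 0 := Units.ne_zero _
    apply Subtype.ext
    apply Units.ext
    have e : ((ζ : kˣ) : k) * ((ζ : kˣ) : k) ^ 2 = ((ζ' : kˣ) : k) * ((ζ : kˣ) : k) ^ 2 := by
      calc ((ζ : kˣ) : k) * ((ζ : kˣ) : k) ^ 2 = ((ζ : kˣ) : k) ^ 3 := by ring
        _ = ((ζ' : kˣ) : k) ^ 3 := e3
        _ = ((ζ' : kˣ) : k) * ((ζ' : kˣ) : k) ^ 2 := by ring
        _ = ((ζ' : kˣ) : k) * ((ζ : kˣ) : k) ^ 2 := by rw [e2]
    exact mul_right_cancel₀ (pow_ne_zero 2 hζ0) e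
  have hsurj : Function.Surjective F := by
    rintro ⟨σ, hσ⟩
    obtain ⟨u, hu0, h4, h6, hσx, hσy⟩ :=
      forward h2 h3 hK hgen P a b x y heq hx hx2 hy hy3 σ hσ
    have hun := (cond_iff hdisc hu0).mp ⟨h4, h6⟩
    let ζ : rootsOfUnity (autOrder a b) k := ⟨Units.mk0 u hu0, by
      rw [mem_rootsOfUnity]
      apply Units.ext
      simpa using hun⟩
    refine ⟨ζ, ?_⟩
    apply Subtype.ext
    change f ζ = σ
    apply aut_ext hxy
    · rw [hfx ζ, hσx]
      rfl
    · rw [hfy ζ, hσy]
      rfl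
  exact (Nat.card_eq_of_bijective F ⟨hinj, hsurj⟩).symm

include h2 h3 hK hgen hdisc heq hxy hx hx2 hy hy3 in
open Classical in
/-- S19397 -/
theorem main :
    Nat.card {σ : K ≃ₐ[k] K // ∀ z : K, P.1 (σ z) = P.1 z} =
      if a = 0 then 6 else if b = 0 then 4 else 2 := by
  rw [card_aut_eq_card_roots h2 h3 hK hgen P a b hdisc x y heq hxy hx hx2 hy hy3]
  have h6 : ((6 : ℕ) : k) ≠ 0 := by
    have : ((6 : ℕ) : k) = 2 * 3 := by norm_num
    rw [this]
    exact mul_ne_zero h2 h3
  have h4 : ((4 : ℕ) : k) ≠ 0 := by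
    have : ((4 : ℕ) : k) = 2 * 2 := by norm_num
    rw [this]
    exact mul_ne_zero h2 h2
  have h2' : ((2 : ℕ) : k) ≠ 0 := by
    have : ((2 : ℕ) : k) = 2 := by norm_num
    rw [this]
    exact h2
  unfold autOrder
  by_cases ha : a = 0
  · rw [if_pos ha]
    haveI : NeZero ((6 : ℕ) : k) := ⟨h6⟩
    exact HasEnoughRootsOfUnity.natCard_rootsOfUnity k 6
  · rw [if_neg ha]
    by_cases hb : b = 0
    · rw [if_pos hb]
      haveI : NeZero ((4 : ℕ) : k) := ⟨h4⟩
      exact HasEnoughRootsOfUnity.natCard_rootsOfUnity k 4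
    · rw [if_neg hb]
      haveI : NeZero ((2 : ℕ) : k) := ⟨h2'⟩
      exact HasEnoughRootsOfUnity.natCard_rootsOfUnity k 2

end count

end Groth.Agent.Lib.helper16.FEA
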