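import Groth.Agent.Lib.helper16.FWeierPts2
import Groth.Agent.Lib.helper16.FFIndep
import Groth.Agent.Lib.helper16.FFLin

/-! Helper library (helper16): torsion points on a curve of genus one through Weierstrass points of
`L(mP)`, and linear series with large weights at two points (S18182). -/

set_option autoImplicit false

namespace Groth.Agent.Lib.helper16.FET

open FunFld WithZero LocRes Module
open scoped IntermediateField
open Groth.Agent.Lib.helper16

universe u v

variable {k : Type u} {K : Type v} [Field k] [Field K] [Algebra k K] [IsAlgClosed k]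

/-- an effective divisor of degree zero is zero -/
theorem eq_zero_of_nonneg_of_deg_eq_zero (hK : IsFunctionField k K) {E : Divisor k K} (hE : 0 ≤ E)
    (hdeg : E.deg = 0) : E = 0 := by
  classical
  ext P₀
  by_contra hne
  have hpos : 1 ≤ E P₀ := by
    have h0 : 0 ≤ E P₀ := hE P₀
    have hne' : E P₀ ≠ 0 := hne
    omega
  have hle : (Finsupp.single P₀ (1 : ℤ) : Divisor k K) ≤ E := by
    intro Q
    by_cases hQ : Q = P₀
    · rw [hQ, Finsupp.single_eq_same]; exact hpos
    · rw [Finsupp.single_eq_of_ne hQ]; exact hE Q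
  have := FF.deg_mono hle
  rw [FF.deg_single, FF.deg_eq_one_of_isAlgClosed hK, hdeg] at this
  omega

section count

omit [Field k] [Field K] [Algebra k K] [IsAlgClosed k] in
/-- the counting argument: two exact indices -/
theorem exists_two_exact (d r : ℕ) (p q : ℕ → ℕ) (hp0 : p 0 = r + 1) (hq0 : q 0 = r + 1)
    (h5 : ∀ n, n ≤ d → p n + q (d - n) ≤ r + 2)
    (hsum : (r + 1) * d + 1 ≤
      (∑ n ∈ Finset.range d, p (n + 1)) + (∑ n ∈ Finset.range d, q (n + 1)) + r) :
    ∃ n₁ n₂, n₁ < n₂ ∧ n₂ ≤ d ∧ p n₁ + q (d - n₁) = r + 2 ∧ p n₂ + q (d - n₂) = r + 2 := by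
  classical
  set E := (Finset.range (d + 1)).filter (fun n => p n + q (d - n) = r + 2) with hE
  have hw : ∀ n ∈ Finset.range (d + 1),
      p n + q (d - n) ≤ (r + 1) + if p n + q (d - n) = r + 2 then 1 else 0 := by
    intro n hn
    rw [Finset.mem_range] at hn
    have := h5 n (by omega)
    split_ifs with h
    · omega
    · omega
  have h1 := Finset.sum_le_sum hw
  rw [Finset.sum_add_distrib, Finset.sum_add_distrib, Finset.sum_const, Finset.card_range,
    ← Finset.card_filter, ← hE] at h1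
  have h2 : ∑ n ∈ Finset.range (d + 1), q (d - n) = ∑ n ∈ Finset.range (d + 1), q n := by
    have := Finset.sum_range_reflect q (d + 1)
    rw [← this]
    apply Finset.sum_congr rfl
    intro n _
    congr 1
  rw [h2, Finset.sum_range_succ' p d, Finset.sum_range_succ' q d, hp0, hq0] at h1
  have hcard : 2 ≤ E.card := by
    have h3 : (d + 1) • (r + 1) = (r + 1) * d + (r + 1) := by
      rw [smul_eq_mul]; ring
    rw [h3] at h1
    omega
  obtain ⟨a, ha, b, hb, hab⟩ := Finset.one_lt_card.mp (by omega : 1 < E.card)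
  rw [hE, Finset.mem_filter, Finset.mem_range] at ha hb
  rcases lt_or_gt_of_ne hab with hlt | hlt
  · exact ⟨a, b, hlt, by omega, ha.2, hb.2⟩
  · exact ⟨b, a, hlt, by omega, hb.2, ha.2⟩

end count

section series

variable (hK : IsFunctionField k K) {P Q : Place k K} (hQP : Q ≠ P)

include hQP in
omit [IsAlgClosed k] in
theorem mem_L_sub_sub {D : Divisor k K} (n m : ℕ) {s : K}
    (h1 : s ∈ L (D - Finsupp.single P (n : ℤ))) (h2 : s ∈ L (D - Finsupp.single Q (m : ℤ))) :
    s ∈ L (D - Finsupp.single P (n : ℤ) - Finsupp.single Q (m : ℤ)) := by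
  classical
  intro R
  by_cases hR : R = Q
  · have := h2 R
    rw [Finsupp.sub_apply] at this
    rw [Finsupp.sub_apply, Finsupp.sub_apply, hR, Finsupp.single_eq_of_ne hQP, sub_zero]
    rw [hR] at this
    exact this
  · have := h1 R
    rw [Finsupp.sub_apply, Finsupp.single_eq_of_ne hR, sub_zero]
    exact this

include hK in
/-- a nonzero section of a divisor of degree zero determines it -/
theorem div_eq_neg_of_mem_L {E : Divisor k K} (hE : E.deg = 0) {s : K} (hs0 : s ≠ 0)
    (hs : s ∈ L E) : FunFld.div k s = -E := by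
  have h1 : 0 ≤ E + FunFld.div k s := by
    intro R
    rw [Finsupp.add_apply, FF.div_apply hK]
    have := hs R
    rw [FF.val_le_exp_iff R hs0] at this
    show (0 : ℤ) ≤ E R + R.ord s
    omega
  have h2 : (E + FunFld.div k s).deg = 0 := by
    rw [FF.deg_add, hE, FF.deg_div_eq_zero hK s, add_zero]
  have h3 := eq_zero_of_nonneg_of_deg_eq_zero hK h1 h2
  exact (eq_neg_of_add_eq_zero_right h3)

include hK hQP in
/-- the bound `dim V(-nP) + dim V(-mQ) ≤ r + 2` for `n + m = deg D`, with a section when equality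
holds -/
theorem finrank_add_le {D : Divisor k K} {V : Submodule k K} {d r : ℕ} (hdeg : D.deg = d)
    (hV : V ≤ L D) (hfr : Module.finrank k V = r + 1) (n m : ℕ) (hnm : n + m = d) :
    Module.finrank k ↥(V ⊓ L (D - Finsupp.single P (n : ℤ))) +
      Module.finrank k ↥(V ⊓ L (D - Finsupp.single Q (m : ℤ))) ≤ r + 2 ∧
    (Module.finrank k ↥(V ⊓ L (D - Finsupp.single P (n : ℤ))) +
      Module.finrank k ↥(V ⊓ L (D - Finsupp.single Q (m : ℤ))) = r + 2 →
      ∃ s : K, s ≠ 0 ∧
        FunFld.div k s = -(D - Finsupp.single P (n : ℤ) - Finsupp.single Q (m : ℤ))) := by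
  classical
  have hfdD := FF.finiteDimensional_L hK D
  have hfdV : FiniteDimensional k V := Submodule.finiteDimensional_of_le hV
  set X := V ⊓ L (D - Finsupp.single P (n : ℤ)) with hX
  set Y := V ⊓ L (D - Finsupp.single Q (m : ℤ)) with hY
  set E : Divisor k K := D - Finsupp.single P (n : ℤ) - Finsupp.single Q (m : ℤ) with hE
  have hEdeg : E.deg = 0 := by
    rw [hE, FF.deg_sub, FF.deg_sub, FF.deg_single, FF.deg_single, hdeg,
      FF.deg_eq_one_of_isAlgClosed hK, FF.deg_eq_one_of_isAlgClosed hK, ← hnm]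
    push_cast
    ring
  have hfdE := FF.finiteDimensional_L hK E
  have hXY : X ⊓ Y ≤ L E := by
    intro s hs
    exact mem_L_sub_sub hQP n m hs.1.2 hs.2.2
  have hXV : X ⊔ Y ≤ V := sup_le inf_le_left inf_le_left
  have hfdX : FiniteDimensional k X := Submodule.finiteDimensional_of_le (inf_le_left : X ≤ V)
  have hfdY : FiniteDimensional k Y := Submodule.finiteDimensional_of_le (inf_le_left : Y ≤ V)
  have h1 := Submodule.finrank_sup_add_finrank_inf_eq X Y
  have h2 : Module.finrank k ↥(X ⊔ Y) ≤ r + 1 := by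
    rw [← hfr]
    exact Submodule.finrank_mono hXV
  have h3 : Module.finrank k ↥(X ⊓ Y) ≤ 1 := by
    have h4 := Submodule.finrank_mono hXY
    have h5 := FF.ell_le_deg_add_one hK E (by rw [hEdeg])
    rw [hEdeg] at h5
    unfold ell at h5
    have h6 : Module.finrank k ↥(L E) ≤ 1 := by exact_mod_cast h5
    omega
  refine ⟨by omega, fun heq => ?_⟩
  have h4 : 0 < Module.finrank k ↥(X ⊓ Y) := by omega
  rw [Module.finrank_pos_iff_exists_ne_zero] at h4
  obtain ⟨⟨s, hs⟩, hs0⟩ := h4
  have hs0' : s ≠ 0 := fun h => hs0 (Subtype.ext h)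
  exact ⟨s, hs0', div_eq_neg_of_mem_L hK hEdeg hs0' (hXY hs)⟩

end series

section tors

variable [CharZero k] (hK : IsFunctionField k K) (hg1 : genus k K = 1) (P : Place k K)

include hK hg1 in
/-- on a curve of genus one, for `m ≥ 1` only finitely many `Q` have `m Q ∼ m P` -/
theorem finite_tors (m : ℕ) (hm : 1 ≤ m) :
    {Q : Place k K | Q ≠ P ∧ ∃ h : K, h ≠ 0 ∧
      FunFld.div k h = m • ((Finsupp.single Q (1 : ℤ) : Divisor k K) - Finsupp.single P (1 : ℤ))}.Finite := by
  classical
  have hgeo := FG.isGeometric_of_perfectField k K hK.2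
  have hdegP : P.deg = 1 := FF.deg_eq_one_of_isAlgClosed hK P
  have hg0 : 0 < genus k K := by omega
  -- membership in `L(mP)` and the order at `Q`
  have hmem : ∀ Q : Place k K, Q ≠ P → ∀ h : K, h ≠ 0 →
      FunFld.div k h = m • ((Finsupp.single Q (1 : ℤ) : Divisor k K) - Finsupp.single P (1 : ℤ)) →
      h ∈ L (Finsupp.single P (m : ℤ) : Divisor k K) ∧ Q.1 h = exp (-(m : ℤ)) := by
    intro Q hQP h hh0 hdiv
    have hord : ∀ R : Place k K, R.ord h =
        m * ((Finsupp.single Q (1 : ℤ) : Divisor k K) R - (Finsupp.single P (1 : ℤ) : Divisor k K) R) := by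
      intro R
      rw [← FF.div_apply hK, hdiv, Finsupp.smul_apply, Finsupp.sub_apply, nsmul_eq_mul]
    refine ⟨fun R => ?_, ?_⟩
    · rw [FF.val_le_exp_iff R hh0, hord R]
      by_cases hR : R = P
      · rw [hR, Finsupp.single_eq_same, Finsupp.single_eq_of_ne (Ne.symm hQP)]
        simp
      · rw [Finsupp.single_eq_of_ne hR, Finsupp.single_eq_of_ne hR]
        by_cases hRQ : R = Q
        · rw [hRQ, Finsupp.single_eq_same]; simp
        · rw [Finsupp.single_eq_of_ne hRQ]; simp
    · rw [FF.val_eq_exp_neg_ord Q hh0, hord Q, Finsupp.single_eq_same,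
        Finsupp.single_eq_of_ne hQP]
      simp
  rcases Nat.lt_or_ge m 2 with hm2 | hm2
  · -- `m = 1`: no such `Q`
    have hm1 : m = 1 := by omega
    subst hm1
    apply Set.finite_empty.subset
    rintro Q ⟨hQP, h, hh0, hdiv⟩
    obtain ⟨hhL, hhQ⟩ := hmem Q hQP h hh0 hdiv
    have hell : ell (Finsupp.single P ((1 : ℕ) : ℤ) : Divisor k K) = 1 := by
      have := FF.ell_single_eq_one hK hg0 hdegP
      simpa using this
    have h1L : (1 : K) ∈ L (Finsupp.single P ((1 : ℕ) : ℤ) : Divisor k K) := by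
      intro R
      rw [map_one, ← exp_zero, exp_le_exp]
      exact Finsupp.single_nonneg.mpr (by positivity) R
    unfold ell at hell
    have hspan := (finrank_eq_one_iff_of_nonzero' (⟨1, h1L⟩ : L (Finsupp.single P ((1 : ℕ) : ℤ) : Divisor k K))
      (by intro h0; exact one_ne_zero (congrArg Subtype.val h0))).mp hell ⟨h, hhL⟩
    obtain ⟨c, hc⟩ := hspan
    have hc' : h = algebraMap k K c := by
      have := congrArg Subtype.val hc
      simp only [Submodule.coe_smul] at this
      rw [← this, Algebra.smul_def, mul_one]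
    have hc0 : c ≠ 0 := by
      rintro rfl
      rw [map_zero] at hc'
      exact hh0 hc'
    rw [hc', FF.val_algebraMap Q hc0, ← exp_zero, exp_inj] at hhQ
    simp at hhQ
  · obtain ⟨N, rfl⟩ : ∃ N, m = N + 1 := ⟨m - 1, by omega⟩
    have hN : 1 ≤ N := by omega
    set D : Divisor k K := Finsupp.single P ((N + 1 : ℕ) : ℤ) with hD
    have hfd := FF.finiteDimensional_L hK D
    have hell : Module.finrank k (L D) = N + 1 :=
      FF.ell_single_eq_of_genus_one hK hg1 hdegP (n := N + 1) (by omega)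
    let b := Module.finBasisOfFinrankEq k (L D) hell
    set φ : Fin (N + 1) → K := fun i => (b i : K) with hφdef
    have hφ : LinearIndependent k φ :=
      b.linearIndependent.map' (L D).subtype (Submodule.ker_subtype _)
    have hspan : Submodule.span k (Set.range φ) = L D := by
      have h1 : Set.range φ = (L D).subtype '' Set.range b := by
        rw [← Set.range_comp]
        rfl
      rw [h1, Submodule.span_image, b.span_eq, Submodule.map_subtype_top]
    have hφmem : ∀ i, φ i ∈ L D := fun i => (b i).2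
    -- a global Hasse family
    obtain ⟨t₀, ht₀⟩ := FF.exists_uniformizer P
    have hDt := FWP.D_ne_zero_of_uniformizer hK P ht₀
    have hsep := FHs.isSeparable_of_D_ne_zero hK hgeo hDt
    have htr : Transcendental k t₀ := FS.transcendental_of_isSeparable hK hsep
    obtain ⟨H₀, hH₀⟩ := FHE.exists_isHasseFamily_of_isSeparable t₀ htr
    have hchar : ringChar k = 0 ∨ (mapDiv k φ).deg < ringChar k := Or.inl (ringChar.eq_zero)
    set J : Fin N → ℕ := fun l => (l : ℕ) + 1 with hJdef
    have hJ₀ := (FCl.isOrders_classical_of_char hK φ hφ hchar (AlgHom.id k K) hH₀).1 rfl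
    set Φ : Place k K → (K →ₐ[k] LaurentSeries k) := fun P => FHL.Φ hK P (FRG.htP P) with hΦdef
    have hΦ : ∀ P : Place k K, IsExpansionAt P.1 (Φ P) := fun P => FHL.isExp hK P (FRG.htP P)
    set W := wDiv (AlgHom.id k K) H₀ Φ t₀ φ J with hW
    apply (W.support.finite_toSet).subset
    rintro Q ⟨hQP, h, hh0, hdiv⟩
    rw [Finset.mem_coe, Finsupp.mem_support_iff]
    obtain ⟨hhL, hhQ⟩ := hmem Q hQP h hh0 hdiv
    -- local data at `Q`
    obtain ⟨t, ht⟩ := FF.exists_uniformizer Q
    obtain ⟨Ht, hHt⟩ := FWP.exists_isHasseFamily_of_D_ne_zero hK hgeo hH₀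
      (FWP.D_ne_zero_of_uniformizer hK Q ht)
    have hJt := (FCl.isOrders_classical_of_char hK φ hφ hchar (AlgHom.id k K) hHt).1 rfl
    have hφeq : ∀ i, φ i = 1 * ∑ j, (1 : Matrix (Fin (N + 1)) (Fin (N + 1)) k) i j • φ j := by
      intro i
      rw [one_mul]
      simp only [Matrix.one_apply, ite_smul, one_smul, zero_smul, Finset.sum_ite_eq,
        Finset.mem_univ, if_true]
    have hwd : wDiv (AlgHom.id k K) Ht Φ t φ J = W :=
      FWI.wDiv_eq_of_equiv hK φ hφ (AlgHom.id k K) hH₀ hHt J hJ₀ 1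
        (by rw [Matrix.det_one]; exact one_ne_zero) 1 one_ne_zero φ hφeq Φ hΦ
    have h1L : (1 : K) ∈ L D := by
      intro R
      rw [map_one, ← exp_zero, exp_le_exp]
      exact Finsupp.single_nonneg.mpr (by positivity) R
    have heff : (1 : K) ∈ Submodule.span k (Set.range φ) := by rw [hspan]; exact h1L
    have hnorm : ∀ i, Q.1 (φ i) ≤ 1 := fun i => by
      have := (hφmem i) Q
      rwa [hD, Finsupp.single_eq_of_ne hQP, exp_zero] at this
    obtain ⟨J', hJ'⟩ := FWP.exists_isOrdersAt hK Q ht hHt φ hφ heff hnorm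
    have hkey := (FHL.sum_sub_le_wDiv_of_isFixedPt_and_eq_iff hK Q ht hHt (AlgHom.id k K)
      (fun z hz => hz) φ hφ heff hnorm J hJt J' hJ' Φ hΦ).1
    rw [hwd] at hkey
    have hjump : (N + 1) ∈ Set.range J' :=
      (hJ'.2 (N + 1)).mpr ((FHL.isJump_hcolAt_succ_iff hK Q ht hHt φ hnorm (N + 1) (by omega)).mpr
        ⟨h, by rw [hspan]; exact hhL, hhQ⟩)
    obtain ⟨l₀, hl₀⟩ := hjump
    have hge : ∀ (i : ℕ) (hi : i < N), i + 1 ≤ J' ⟨i, hi⟩ := by
      intro i
      induction i with
      | zero => intro hi; exact FHL.one_le_of_isOrders Q hHt φ hJ' _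
      | succ i ih =>
        intro hi
        have h1 := ih (by omega)
        have h2 : J' ⟨i, by omega⟩ < J' ⟨i + 1, hi⟩ := hJ'.1 (by simp [Fin.lt_def])
        omega
    have hsum : (1 : ℤ) ≤ ∑ l, ((J' l : ℤ) - J l) := by
      have hnn : ∀ l ∈ Finset.univ, (0 : ℤ) ≤ (J' l : ℤ) - J l := by
        intro l _
        have := hge l.1 l.2
        have h1 : ((l.1 : ℤ) + 1) ≤ (J' ⟨l.1, l.2⟩ : ℤ) := by exact_mod_cast this
        have h2 : (⟨l.1, l.2⟩ : Fin N) = l := rfl
        rw [h2] at h1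
        rw [hJdef]
        push_cast
        linarith
      calc (1 : ℤ) ≤ (J' l₀ : ℤ) - J l₀ := by
            rw [hl₀, hJdef]
            have := l₀.2
            push_cast
            omega
        _ ≤ ∑ l, ((J' l : ℤ) - J l) := Finset.single_le_sum hnn (Finset.mem_univ l₀)
    intro hW0
    rw [hW0] at hkey
    omega

end tors

section main

variable [CharZero k] (hK : IsFunctionField k K) (hg1 : genus k K = 1) (P : Place k K)

include hK hg1 in
/-- S18182 -/
theorem finite_large_weight (d r : ℕ) :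
    Set.Finite {Q : Place k K | Q ≠ P ∧ ∃ (D : Divisor k K) (V : Submodule k K),
      D.deg = d ∧ V ≤ L D ∧ Module.finrank k ↥V = r + 1 ∧
      (r + 1) * d + 1 ≤
        (∑ n ∈ Finset.range d,
          Module.finrank k ↥(V ⊓ L (D - Finsupp.single P ((n : ℤ) + 1)))) +
          (∑ n ∈ Finset.range d,
            Module.finrank k ↥(V ⊓ L (D - Finsupp.single Q ((n : ℤ) + 1)))) + r} := by
  classical
  have hfin : (⋃ m ∈ (Finset.Icc 1 d : Finset ℕ), {Q : Place k K | Q ≠ P ∧ ∃ h : K, h ≠ 0 ∧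
      FunFld.div k h = m • ((Finsupp.single Q (1 : ℤ) : Divisor k K) -
        Finsupp.single P (1 : ℤ))}).Finite :=
    Set.Finite.biUnion (Finset.finite_toSet _) (fun m hm =>
      finite_tors hK hg1 P m (Finset.mem_Icc.mp (Finset.mem_coe.mp hm)).1)
  apply hfin.subset
  rintro Q ⟨hQP, D, V, hdeg, hV, hfr, hsum⟩
  set p : ℕ → ℕ := fun n => Module.finrank k ↥(V ⊓ L (D - Finsupp.single P (n : ℤ))) with hp
  set q : ℕ → ℕ := fun n => Module.finrank k ↥(V ⊓ L (D - Finsupp.single Q (n : ℤ))) with hq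
  have hp0 : p 0 = r + 1 := by
    show Module.finrank k ↥(V ⊓ L (D - Finsupp.single P ((0 : ℕ) : ℤ))) = r + 1
    rw [Nat.cast_zero, Finsupp.single_zero, sub_zero, inf_eq_left.mpr hV, hfr]
  have hq0 : q 0 = r + 1 := by
    show Module.finrank k ↥(V ⊓ L (D - Finsupp.single Q ((0 : ℕ) : ℤ))) = r + 1
    rw [Nat.cast_zero, Finsupp.single_zero, sub_zero, inf_eq_left.mpr hV, hfr]
  have hsum' : (r + 1) * d + 1 ≤
      (∑ n ∈ Finset.range d, p (n + 1)) + (∑ n ∈ Finset.range d, q (n + 1)) + r := by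
    rw [hp, hq]
    exact hsum
  have h5 : ∀ n, n ≤ d → p n + q (d - n) ≤ r + 2 := fun n hn =>
    (finrank_add_le hK hQP hdeg hV hfr n (d - n) (by omega)).1
  obtain ⟨n₁, n₂, hlt, hle, he1, he2⟩ := exists_two_exact d r p q hp0 hq0 h5 hsum'
  obtain ⟨s₁, hs₁0, hs₁⟩ := (finrank_add_le hK hQP hdeg hV hfr n₁ (d - n₁) (by omega)).2 he1
  obtain ⟨s₂, hs₂0, hs₂⟩ := (finrank_add_le hK hQP hdeg hV hfr n₂ (d - n₂) (by omega)).2 he2
  rw [Set.mem_iUnion₂]
  refine ⟨n₂ - n₁, Finset.mem_coe.mpr (Finset.mem_Icc.mpr ⟨by omega, by omega⟩), hQP,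
    s₁ * s₂⁻¹, mul_ne_zero hs₁0 (inv_ne_zero hs₂0), ?_⟩
  rw [FF.div_mul hK hs₁0 (inv_ne_zero hs₂0), FF.div_inv hK, hs₁, hs₂]
  ext R
  simp only [Finsupp.coe_add, Finsupp.coe_neg, Finsupp.coe_sub, Pi.add_apply, Pi.neg_apply,
    Pi.sub_apply, Finsupp.smul_apply, Finsupp.single_apply]
  have c1 : ((d - n₁ : ℕ) : ℤ) = (d : ℤ) - n₁ := by
    rw [Nat.cast_sub (by omega)]
  have c2 : ((d - n₂ : ℕ) : ℤ) = (d : ℤ) - n₂ := by
    rw [Nat.cast_sub (by omega)]
  have c3 : ((n₂ - n₁ : ℕ) : ℤ) = (n₂ : ℤ) - n₁ := by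
    rw [Nat.cast_sub (by omega)]
  rw [c1, c2, nsmul_eq_mul, c3]
  split_ifs <;> ring

end main

end Groth.Agent.Lib.helper16.FET
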