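import Groth.Agent.Lib.helper16.FDiffExp
import Groth.Agent.Lib.helper16.FFG0

/-! Helper library (helper16): construction of the Laurent expansion at a rational place in a
given local parameter. -/

set_option autoImplicit false

namespace Groth.Agent.Lib.helper16.FEx

open FunFld WithZero Polynomial
open Groth.Agent.Lib.helper16

variable {k K : Type*} [Field k] [Field K] [Algebra k K]

section approx

variable (P : Place k K) (t : K)

/-- `s` is the `t`-adic expansion of `z` at `P` -/
def IsApprox (z : K) (s : PowerSeries k) : Prop :=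
  ∀ N : ℕ, P.1 (z - aeval t (PowerSeries.trunc N s)) ≤ exp (-(N : ℤ))

variable {P t}

theorem val_aeval_le_one (ht : P.1 t ≤ 1) (q : k[X]) : P.1 (aeval t q) ≤ 1 := by
  rw [aeval_eq_sum_range]
  apply Valuation.map_sum_le
  intro i _
  rw [Algebra.smul_def, map_mul, map_pow]
  exact mul_le_one' (FF.val_algebraMap_le P _) (pow_le_one' ht i)

theorem IsApprox.val_le_one {z : K} {s : PowerSeries k} (h : IsApprox P t z s) : P.1 z ≤ 1 := by
  have := h 0
  simpa using this

theorem exists_eq_trunc_add (N : ℕ) (q : k[X]) :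
    ∃ q' : k[X], q = PowerSeries.trunc N (q : PowerSeries k) + X ^ N * q' := by
  have h1 : (X : k[X]) ^ N ∣ q - PowerSeries.trunc N (q : PowerSeries k) := by
    rw [X_pow_dvd_iff]
    intro d hd
    rw [coeff_sub, PowerSeries.coeff_trunc, if_pos hd, Polynomial.coeff_coe, sub_self]
  obtain ⟨q', hq'⟩ := h1
  exact ⟨q', by rw [← hq']; ring⟩

theorem isApprox_mul (ht : P.1 t = exp (-1)) {z w : K} {s r : PowerSeries k}
    (hz : IsApprox P t z s) (hw : IsApprox P t w r) : IsApprox P t (z * w) (s * r) := by
  intro N
  have ht1 : P.1 t ≤ 1 := by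
    rw [ht, ← exp_zero, exp_le_exp]; omega
  set S := aeval t (PowerSeries.trunc N s) with hS
  set R := aeval t (PowerSeries.trunc N r) with hR
  obtain ⟨q', hq'⟩ := exists_eq_trunc_add N (PowerSeries.trunc N s * PowerSeries.trunc N r)
  have h3 : S * R - aeval t (PowerSeries.trunc N (s * r)) = t ^ N * aeval t q' := by
    have e1 : aeval t (PowerSeries.trunc N s * PowerSeries.trunc N r) =
        aeval t (PowerSeries.trunc N (s * r)) + t ^ N * aeval t q' := by
      conv_lhs => rw [hq']
      rw [Polynomial.coe_mul, PowerSeries.trunc_trunc_mul_trunc, map_add (aeval t),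
        map_mul (aeval t), map_pow (aeval t), aeval_X]
    rw [hS, hR, ← map_mul (aeval t), e1]
    ring
  have h4 : z * w - aeval t (PowerSeries.trunc N (s * r)) =
      (z - S) * w + S * (w - R) + t ^ N * aeval t q' := by
    rw [← h3]; ring
  rw [h4]
  refine (Valuation.map_add P.1 _ _).trans (max_le ((Valuation.map_add P.1 _ _).trans (max_le ?_ ?_)) ?_)
  · rw [map_mul]
    calc P.1 (z - S) * P.1 w ≤ exp (-(N : ℤ)) * 1 := mul_le_mul' (hz N) hw.val_le_one
      _ = exp (-(N : ℤ)) := mul_one _
  · rw [map_mul]
    calc P.1 S * P.1 (w - R) ≤ 1 * exp (-(N : ℤ)) := mul_le_mul' (val_aeval_le_one ht1 _) (hw N)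
      _ = exp (-(N : ℤ)) := one_mul _
  · rw [map_mul, map_pow, ht, ← exp_nsmul]
    calc exp (N • (-1 : ℤ)) * P.1 (aeval t q') ≤ exp (N • (-1 : ℤ)) * 1 :=
          mul_le_mul' le_rfl (val_aeval_le_one ht1 _)
      _ = exp (-(N : ℤ)) := by rw [mul_one]; congr 1; simp

theorem isApprox_add {z w : K} {s r : PowerSeries k}
    (hz : IsApprox P t z s) (hw : IsApprox P t w r) : IsApprox P t (z + w) (s + r) := by
  intro N
  have : z + w - aeval t (PowerSeries.trunc N (s + r)) =
      (z - aeval t (PowerSeries.trunc N s)) + (w - aeval t (PowerSeries.trunc N r)) := by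
    rw [map_add, map_add]; ring
  rw [this]
  exact (Valuation.map_add P.1 _ _).trans (max_le (hz N) (hw N))

theorem isApprox_C (c : k) : IsApprox P t (algebraMap k K c) (PowerSeries.C c) := by
  intro N
  cases N with
  | zero =>
    rw [PowerSeries.trunc_zero', map_zero, sub_zero]
    simpa using FF.val_algebraMap_le P c
  | succ N =>
    rw [PowerSeries.trunc_C, aeval_C, sub_self, map_zero]
    exact zero_le

theorem isApprox_X (ht : P.1 t = exp (-1)) : IsApprox P t t PowerSeries.X := by
  intro N
  rcases N with _ | _ | N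
  · rw [PowerSeries.trunc_zero', map_zero, sub_zero, ht, exp_le_exp]
    simp
  · rw [PowerSeries.trunc_one_X, map_zero, sub_zero, ht, exp_le_exp]
    simp
  · rw [PowerSeries.trunc_X, aeval_X, sub_self, map_zero]
    exact zero_le

theorem isApprox_unique (ht : P.1 t = exp (-1)) {z : K} {s r : PowerSeries k}
    (hs : IsApprox P t z s) (hr : IsApprox P t z r) : s = r := by
  by_contra hne
  have hex : ∃ m, PowerSeries.coeff m s ≠ PowerSeries.coeff m r := by
    by_contra h
    push Not at h
    exact hne (PowerSeries.ext h)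
  classical
  let m := Nat.find hex
  have hm : PowerSeries.coeff m s ≠ PowerSeries.coeff m r := Nat.find_spec hex
  have hlt : ∀ i < m, PowerSeries.coeff i s = PowerSeries.coeff i r := by
    intro i hi
    by_contra h
    exact Nat.find_min hex hi h
  have h1 : aeval t (PowerSeries.trunc (m + 1) s) - aeval t (PowerSeries.trunc (m + 1) r) =
      algebraMap k K (PowerSeries.coeff m s - PowerSeries.coeff m r) * t ^ m := by
    rw [PowerSeries.trunc_succ, PowerSeries.trunc_succ, map_add, map_add]
    have h2 : PowerSeries.trunc m s = PowerSeries.trunc m r := by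
      ext i
      rw [PowerSeries.coeff_trunc, PowerSeries.coeff_trunc]
      by_cases hi : i < m
      · rw [if_pos hi, if_pos hi, hlt i hi]
      · rw [if_neg hi, if_neg hi]
    rw [h2, aeval_monomial, aeval_monomial, map_sub]
    ring
  have h3 : P.1 (aeval t (PowerSeries.trunc (m + 1) s) - aeval t (PowerSeries.trunc (m + 1) r)) ≤
      exp (-((m + 1 : ℕ) : ℤ)) := by
    have : aeval t (PowerSeries.trunc (m + 1) s) - aeval t (PowerSeries.trunc (m + 1) r) =
        (z - aeval t (PowerSeries.trunc (m + 1) r)) - (z - aeval t (PowerSeries.trunc (m + 1) s)) := by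
      ring
    rw [this]
    exact (Valuation.map_sub P.1 _ _).trans (max_le (hr _) (hs _))
  rw [h1, map_mul, map_pow, ht, FF.val_algebraMap P (sub_ne_zero.mpr hm), one_mul, ← exp_nsmul,
    exp_le_exp] at h3
  simp at h3

end approx

section construct

variable (P : Place k K) (t : K)
  (hres : ∀ z : K, P.1 z ≤ 1 → ∃ c : k, P.1 (z - algebraMap k K c) < 1)

open scoped Classical in
/-- the residue constant -/
noncomputable def resC (z : K) : k :=
  if h : P.1 z ≤ 1 then Classical.choose (hres z h) else 0

theorem resC_spec {z : K} (hz : P.1 z ≤ 1) : P.1 (z - algebraMap k K (resC P hres z)) < 1 := by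
  unfold resC
  rw [dif_pos hz]
  exact Classical.choose_spec (hres z hz)

/-- the successive remainders -/
noncomputable def rem : ℕ → K → K
  | 0, z => z
  | n + 1, z => (rem n z - algebraMap k K (resC P hres (rem n z))) / t

/-- the expansion -/
noncomputable def expPS (z : K) : PowerSeries k :=
  PowerSeries.mk fun n => resC P hres (rem P t hres n z)

variable {P t}

theorem rem_le (ht : P.1 t = exp (-1)) {z : K} (hz : P.1 z ≤ 1) (n : ℕ) :
    P.1 (rem P t hres n z) ≤ 1 := by
  induction n with
  | zero => exact hz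
  | succ n ih =>
    show P.1 ((rem P t hres n z - algebraMap k K (resC P hres (rem P t hres n z))) / t) ≤ 1
    rw [map_div₀, ht]
    have h1 := resC_spec P hres ih
    rw [FF.lt_one_iff_le_exp_neg_one] at h1
    rw [div_le_iff₀ (exp_pos)]
    simpa using h1

theorem eq_trunc_add (ht : P.1 t = exp (-1)) (z : K) (N : ℕ) :
    z = aeval t (PowerSeries.trunc N (expPS P t hres z)) + rem P t hres N z * t ^ N := by
  have ht0 : t ≠ 0 := by
    rintro rfl
    rw [map_zero] at ht
    exact exp_ne_zero ht.symm
  induction N with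
  | zero =>
    rw [PowerSeries.trunc_zero', map_zero, zero_add, pow_zero, mul_one]
    rfl
  | succ N ih =>
    rw [PowerSeries.trunc_succ, map_add, aeval_monomial]
    have h1 : PowerSeries.coeff N (expPS P t hres z) = resC P hres (rem P t hres N z) :=
      PowerSeries.coeff_mk _ _
    rw [h1]
    show z = _ + _ + (rem P t hres N z - algebraMap k K (resC P hres (rem P t hres N z))) / t *
      t ^ (N + 1)
    conv_lhs => rw [ih]
    field_simp
    ring

theorem isApprox_expPS (ht : P.1 t = exp (-1)) {z : K} (hz : P.1 z ≤ 1) :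
    IsApprox P t z (expPS P t hres z) := by
  intro N
  have h1 := eq_trunc_add hres ht z N
  have h2 : z - aeval t (PowerSeries.trunc N (expPS P t hres z)) = rem P t hres N z * t ^ N := by
    rw [sub_eq_iff_eq_add']
    exact h1
  rw [h2, map_mul, map_pow, ht, ← exp_nsmul]
  calc P.1 (rem P t hres N z) * exp (N • (-1 : ℤ)) ≤ 1 * exp (N • (-1 : ℤ)) :=
        mul_le_mul' (rem_le hres ht hz N) le_rfl
    _ = exp (-(N : ℤ)) := by rw [one_mul]; congr 1; simp

end construct

section hom

variable {P : Place k K} {t : K}
  (hres : ∀ z : K, P.1 z ≤ 1 → ∃ c : k, P.1 (z - algebraMap k K c) < 1)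
  (ht : P.1 t = exp (-1))

theorem val_of_mem (z : P.O) : P.1 (z : K) ≤ 1 := (Valuation.mem_valuationSubring_iff P.1 _).mp z.2

/-- the expansion homomorphism on the valuation ring -/
noncomputable def expO : P.O →+* PowerSeries k where
  toFun z := expPS P t hres (z : K)
  map_one' := by
    apply isApprox_unique ht (isApprox_expPS hres ht (val_of_mem 1))
    have := isApprox_C (P := P) (t := t) (1 : k)
    rwa [map_one, map_one] at this
  map_mul' a b := by
    apply isApprox_unique ht (isApprox_expPS hres ht (val_of_mem (a * b)))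
    exact isApprox_mul ht (isApprox_expPS hres ht (val_of_mem a)) (isApprox_expPS hres ht (val_of_mem b))
  map_zero' := by
    apply isApprox_unique ht (isApprox_expPS hres ht (val_of_mem 0))
    have := isApprox_C (P := P) (t := t) (0 : k)
    rwa [map_zero, map_zero] at this
  map_add' a b := by
    apply isApprox_unique ht (isApprox_expPS hres ht (val_of_mem (a + b)))
    exact isApprox_add (isApprox_expPS hres ht (val_of_mem a)) (isApprox_expPS hres ht (val_of_mem b))

theorem expO_apply (z : P.O) : expO hres ht z = expPS P t hres (z : K) := rfl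

theorem isApprox_expO (z : P.O) : IsApprox P t (z : K) (expO hres ht z) :=
  isApprox_expPS hres ht (val_of_mem z)

theorem expO_eq_of_isApprox {z : P.O} {s : PowerSeries k} (h : IsApprox P t (z : K) s) :
    expO hres ht z = s :=
  isApprox_unique ht (isApprox_expO hres ht z) h

theorem expO_injective : Function.Injective (expO hres ht) := by
  rw [injective_iff_map_eq_zero]
  intro z hz
  by_contra hne
  have hne' : (z : K) ≠ 0 := fun h => hne (Subtype.ext h)
  have h1 := isApprox_expO hres ht z
  rw [hz] at h1
  have h2 := val_of_mem z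
  rw [FF.val_le_one_iff P hne'] at h2
  obtain ⟨m, hm⟩ := Int.eq_ofNat_of_zero_le h2
  have h3 := h1 (m + 1)
  rw [map_zero, map_zero, sub_zero, FF.val_eq_exp_neg_ord P hne', exp_le_exp, hm] at h3
  push_cast at h3
  omega

/-- the expansion into Laurent series, on the valuation ring -/
noncomputable def expL₀ : P.O →+* LaurentSeries k :=
  (HahnSeries.ofPowerSeries ℤ k).comp (expO hres ht)

theorem expL₀_injective : Function.Injective (expL₀ hres ht) :=
  (HahnSeries.ofPowerSeries_injective (Γ := ℤ)).comp (expO_injective hres ht)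

/-- the expansion homomorphism -/
noncomputable def expL : K →+* LaurentSeries k :=
  IsFractionRing.lift (A := P.O) (expL₀_injective hres ht)

theorem expL_of_mem (z : P.O) :
    expL hres ht (z : K) = HahnSeries.ofPowerSeries ℤ k (expO hres ht z) :=
  IsFractionRing.lift_algebraMap (expL₀_injective hres ht) z

theorem expL_algebraMap (c : k) :
    expL hres ht (algebraMap k K c) = HahnSeries.C c := by
  have h1 : algebraMap k K c = ((algebraMap k P.O c : P.O) : K) := rfl
  rw [h1, expL_of_mem, expO_eq_of_isApprox hres ht (isApprox_C c), HahnSeries.ofPowerSeries_C]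

theorem expL_t : expL hres ht t = HahnSeries.single 1 1 := by
  have ht1 : P.1 t ≤ 1 := by
    rw [ht, ← exp_zero, exp_le_exp]; omega
  have h1 := expL_of_mem hres ht (⟨t, (Valuation.mem_valuationSubring_iff P.1 t).mpr ht1⟩ : P.O)
  rw [expO_eq_of_isApprox hres ht (z := ⟨t, (Valuation.mem_valuationSubring_iff P.1 t).mpr ht1⟩)
    (isApprox_X ht), HahnSeries.ofPowerSeries_X] at h1
  exact h1

/-- the expansion as an algebra homomorphism -/
noncomputable def expA : K →ₐ[k] LaurentSeries k :=
  { expL hres ht with
    commutes' := fun c => by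
      show expL hres ht (algebraMap k K c) = algebraMap k (LaurentSeries k) c
      rw [expL_algebraMap, HahnSeries.algebraMap_apply', PowerSeries.algebraMap_apply,
        HahnSeries.ofPowerSeries_C, Algebra.algebraMap_self, RingHom.id_apply] }

theorem expA_apply (z : K) : expA hres ht z = expL hres ht z := rfl

theorem val_expL_le_one {z : K} (hz : P.1 z ≤ 1) : Valued.v (expL hres ht z) ≤ 1 := by
  have h1 : z = ((⟨z, (Valuation.mem_valuationSubring_iff P.1 z).mpr hz⟩ : P.O) : K) := rfl
  rw [h1, expL_of_mem, LaurentSeries.val_le_one_iff_eq_coe]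
  exact ⟨_, rfl⟩

theorem val_expL (z : K) : Valued.v (expL hres ht z) = P.1 z := by
  by_cases hz : z = 0
  · rw [hz, map_zero, map_zero, map_zero]
  have ht0 : t ≠ 0 := by
    rintro rfl
    rw [map_zero] at ht
    exact exp_ne_zero ht.symm
  have hvt : Valued.v (expL hres ht t) = exp (-1) := by
    rw [expL_t]
    have := (FDE.val_eq_exp_iff (F := k) (f := HahnSeries.single 1 1) (D := 1)).mpr ⟨?_, ?_⟩
    · exact this
    · intro n hn
      rw [HahnSeries.coeff_single_of_ne (by omega)]
    · rw [HahnSeries.coeff_single_same]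
      exact one_ne_zero
  set m := P.ord z with hm
  set u := z * t ^ (-m) with hu
  have hu0 : u ≠ 0 := mul_ne_zero hz (zpow_ne_zero _ ht0)
  have hPu : P.1 u = 1 := by
    rw [hu, map_mul, map_zpow₀, ht, FF.val_eq_exp_neg_ord P hz, ← exp_zsmul, ← exp_add, ← hm]
    rw [← exp_zero]
    congr 1
    simp
  have h1 : Valued.v (expL hres ht u) ≤ 1 := val_expL_le_one hres ht hPu.le
  have h2 : Valued.v (expL hres ht u⁻¹) ≤ 1 := by
    apply val_expL_le_one hres ht
    rw [map_inv₀, hPu, inv_one]
  have h3 : Valued.v (expL hres ht u) = 1 := by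
    apply le_antisymm h1
    rw [map_inv₀, map_inv₀] at h2
    have h4 : Valued.v (expL hres ht u) ≠ 0 := by
      rw [Ne, map_eq_zero, map_eq_zero]
      exact hu0
    rwa [inv_le_one₀ (zero_lt_iff.mpr h4)] at h2
  have h5 : z = u * t ^ m := by
    rw [hu, mul_assoc, ← zpow_add₀ ht0]
    simp
  conv_lhs => rw [h5]
  rw [map_mul, map_mul, h3, one_mul, map_zpow₀, map_zpow₀, hvt, FF.val_eq_exp_neg_ord P hz,
    ← exp_zsmul, ← hm]
  congr 1
  simp

theorem isExpansionAt_expA : LocRes.IsExpansionAt P.1 (expA hres ht) := by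
  refine ⟨fun f => val_expL hres ht f, fun a => ⟨algebraMap k K a, FF.val_algebraMap_le P a, ?_⟩,
    ⟨t, ht⟩⟩
  rw [expA_apply, expL_algebraMap, HahnSeries.C_apply, HahnSeries.coeff_single_same]

end hom

end Groth.Agent.Lib.helper16.FEx
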