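import Groth.Agent.Lib.helper16.FFChain

/-! Helper library (helper16): weights along a backbone of rational curves with cusps. -/

set_option autoImplicit false

namespace Groth.Agent.Lib.helper16.FF

open FunFld WithZero Polynomial Module

theorem card_filter_lt_succ {N : ℕ} (T : Finset (Fin (N + 1))) (j : ℕ) (hj : j < N + 1) :
    (T.filter (fun i : Fin (N + 1) => (i : ℕ) < j + 1)).card =
      (T.filter (fun i : Fin (N + 1) => (i : ℕ) < j)).card + (if (⟨j, hj⟩ : Fin (N + 1)) ∈ T then 1 else 0) := by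
  classical
  rw [Finset.card_filter, Finset.card_filter]
  have h1 : (if (⟨j, hj⟩ : Fin (N + 1)) ∈ T then 1 else 0) =
      ∑ i ∈ T, (if i = (⟨j, hj⟩ : Fin (N + 1)) then 1 else 0) := by
    rw [Finset.sum_ite_eq']
  rw [h1, ← Finset.sum_add_distrib]
  refine Finset.sum_congr rfl ?_
  intro i _
  by_cases h2 : (i : ℕ) < j
  · have h3 : i ≠ ⟨j, hj⟩ := by
      intro h; rw [h] at h2; exact lt_irrefl _ h2
    rw [if_pos (by omega), if_pos h2, if_neg h3]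
  · by_cases h3 : i = ⟨j, hj⟩
    · subst h3
      simp
    · have h4 : (i : ℕ) ≠ j := fun h => h3 (Fin.ext h)
      rw [if_neg (by omega), if_neg h2, if_neg h3]

theorem card_filter_gt_succ {N : ℕ} (T : Finset (Fin (N + 1))) (j : ℕ) (hj : j + 1 < N + 1) :
    (T.filter (fun i : Fin (N + 1) => j < (i : ℕ))).card =
      (T.filter (fun i : Fin (N + 1) => j + 1 < (i : ℕ))).card +
        (if (⟨j + 1, hj⟩ : Fin (N + 1)) ∈ T then 1 else 0) := by
  classical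
  rw [Finset.card_filter, Finset.card_filter]
  have h1 : (if (⟨j + 1, hj⟩ : Fin (N + 1)) ∈ T then 1 else 0) =
      ∑ i ∈ T, (if i = (⟨j + 1, hj⟩ : Fin (N + 1)) then 1 else 0) := by
    rw [Finset.sum_ite_eq']
  rw [h1, ← Finset.sum_add_distrib]
  refine Finset.sum_congr rfl ?_
  intro i _
  by_cases h2 : j + 1 < (i : ℕ)
  · have h3 : i ≠ ⟨j + 1, hj⟩ := by
      intro h; rw [h] at h2; exact lt_irrefl _ h2
    rw [if_pos (by omega), if_pos h2, if_neg h3]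
  · by_cases h3 : i = ⟨j + 1, hj⟩
    · subst h3
      simp
    · have h4 : (i : ℕ) ≠ j + 1 := fun h => h3 (Fin.ext h)
      rw [if_neg (by omega), if_neg h2, if_neg h3]

theorem card_eq_filter_add {N : ℕ} (T : Finset (Fin (N + 1))) (i : Fin (N + 1)) :
    T.card = (T.filter (fun i' : Fin (N + 1) => (i' : ℕ) < (i : ℕ))).card + (if i ∈ T then 1 else 0) +
      (T.filter (fun i' : Fin (N + 1) => (i : ℕ) < (i' : ℕ))).card := by
  classical
  rw [Finset.card_filter, Finset.card_filter]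
  have h1 : (if i ∈ T then 1 else 0) = ∑ i' ∈ T, (if i' = i then 1 else 0) := by
    rw [Finset.sum_ite_eq']
  rw [h1, ← Finset.sum_add_distrib, ← Finset.sum_add_distrib, Finset.card_eq_sum_ones]
  refine Finset.sum_congr rfl ?_
  intro i' _
  rcases lt_trichotomy (i' : ℕ) (i : ℕ) with h | h | h
  · have h3 : i' ≠ i := by
      intro h'; rw [h'] at h; exact lt_irrefl _ h
    rw [if_pos h, if_neg h3, if_neg (by omega)]
  · have h3 : i' = i := Fin.ext h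
    subst h3
    simp
  · have h3 : i' ≠ i := by
      intro h'; rw [h'] at h; exact lt_irrefl _ h
    rw [if_neg (by omega), if_neg h3, if_pos h]

theorem card_erase_eq_filter_add {N : ℕ} (T : Finset (Fin (N + 1))) (i : Fin (N + 1)) :
    (T.erase i).card = (T.filter (fun i' : Fin (N + 1) => (i' : ℕ) < (i : ℕ))).card +
      (T.filter (fun i' : Fin (N + 1) => (i : ℕ) < (i' : ℕ))).card := by
  classical
  have h1 := card_eq_filter_add T i
  rw [Finset.card_erase_eq_ite]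
  by_cases h : i ∈ T
  · rw [if_pos h] at h1 ⊢
    omega
  · rw [if_neg h] at h1 ⊢
    omega

/-- bound at a place of a component away from its cusp (if any) -/
theorem end_bound {k : Type*} [Field k] [IsAlgClosed k] [CharZero k]
    {N : ℕ} {Z : Fin (N + 1) → Type*} [∀ i, Field (Z i)] [∀ i, Algebra k (Z i)]
    (hZ : ∀ i, IsFunctionField k (Z i))
    {d r : ℕ} {D : ∀ i, Divisor k (Z i)} (hD : ∀ i, (D i).deg = d)
    {V : ∀ i, Submodule k (Z i)} (hV : ∀ i, V i ≤ L (D i))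
    (hVr : ∀ i, finrank k ↥(V i) = r + 1)
    {T : Finset (Fin (N + 1))} {Q : ∀ i, Place k (Z i)}
    (hcusp : ∀ i ∈ T, r ≤ finrank k ↥((V i) ⊓ L ((D i) - Finsupp.single (Q i) ((2 : ℤ)))))
    (i : Fin (N + 1)) (P : Place k (Z i)) (hPQ : i ∈ T → Q i ≠ P) :
    wsum d (V i) (D i) P + r * (if i ∈ T then 1 else 0) + r * (r + 1) / 2 ≤ (r + 1) * d := by
  by_cases hi : i ∈ T
  · rw [if_pos hi, mul_one]
    have h1 := wsum_add_wsum_le (hZ i) (hV i) (hD i) (hVr i) (Ne.symm (hPQ hi))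
    have h2 := half_add_le_wsum_of_cusp (hZ i) (hV i) (hD i) (hVr i) (Q i) (hcusp i hi)
    omega
  · rw [if_neg hi, mul_zero, add_zero]
    obtain ⟨R, hR⟩ := exists_place_ne (hZ i) P
    have h1 := wsum_add_wsum_le (hZ i) (hV i) (hD i) (hVr i) (Ne.symm hR)
    have h2 := half_le_wsum (hZ i) (hV i) (hD i) (hVr i) R
    omega

/-- the two node weights of an inner backbone component, plus `r` if it carries a cusp -/
theorem backbone_inner
    {k : Type*} [Field k] [IsAlgClosed k] [CharZero k]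
    {N : ℕ} {Z : Fin (N + 1) → Type*} [∀ i, Field (Z i)] [∀ i, Algebra k (Z i)]
    (hZ : ∀ i, IsFunctionField k (Z i)) (hrat : ∀ i, genus k (Z i) = 0)
    {d r : ℕ} {D : ∀ i, Divisor k (Z i)} (hD : ∀ i, (D i).deg = d)
    {V : ∀ i, Submodule k (Z i)} (hV : ∀ i, V i ≤ L (D i))
    (hVr : ∀ i, finrank k ↥(V i) = r + 1)
    {A B : ∀ i, Place k (Z i)}
    (hAB : ∀ i : Fin (N + 1), 0 < (i : ℕ) → (i : ℕ) < N → A i ≠ B i)
    (hcomp : ∀ (l : Fin N) (m : ℕ), m ≤ d + 1 →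
      finrank k ↥((V l.castSucc) ⊓ L ((D l.castSucc) - Finsupp.single (B l.castSucc) ((m : ℤ)))) +
        finrank k ↥((V l.succ) ⊓ L ((D l.succ) - Finsupp.single (A l.succ) ((d : ℤ) + 1 - m))) = r + 1)
    {T : Finset (Fin (N + 1))} {Q : ∀ i, Place k (Z i)}
    (hQA : ∀ i ∈ T, 0 < (i : ℕ) → Q i ≠ A i) (hQB : ∀ i ∈ T, (i : ℕ) < N → Q i ≠ B i)
    (hcusp : ∀ i ∈ T, r ≤ finrank k ↥((V i) ⊓ L ((D i) - Finsupp.single (Q i) ((2 : ℤ)))))
    (j : ℕ) (hj : j < N + 1) (hj0 : 0 < j) (hjN : j < N) :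
    wsum d (V ⟨j, hj⟩) (D ⟨j, hj⟩) (A ⟨j, hj⟩) + wsum d (V ⟨j, hj⟩) (D ⟨j, hj⟩) (B ⟨j, hj⟩) +
      r * (if (⟨j, hj⟩ : Fin (N + 1)) ∈ T then 1 else 0) ≤ (r + 1) * d := by
  have hABj : A ⟨j, hj⟩ ≠ B ⟨j, hj⟩ := hAB ⟨j, hj⟩ hj0 hjN
  by_cases hi : (⟨j, hj⟩ : Fin (N + 1)) ∈ T
  · rw [if_pos hi, mul_one]
    have hcompat : Compat d r (V ⟨j, hj⟩) (D ⟨j, hj⟩) (B ⟨j, hj⟩)
        (V ⟨j + 1, by omega⟩) (D ⟨j + 1, by omega⟩) (A ⟨j + 1, by omega⟩) := hcomp ⟨j, hjN⟩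
    have h3 := hcompat.three_point_cusp (hZ _) (hrat _) (hV _) (hD _) (hVr _) (hZ _) (hV _)
      (hD _) (hVr _) (hcusp _ hi) (Ne.symm (hQB _ hi hjN)) hABj (Ne.symm (hQA _ hi hj0))
    omega
  · rw [if_neg hi, mul_zero, add_zero]
    exact wsum_add_wsum_le (hZ _) (hV _) (hD _) (hVr _) hABj

theorem backbone_left
    {k : Type*} [Field k] [IsAlgClosed k] [CharZero k]
    {N : ℕ} {Z : Fin (N + 1) → Type*} [∀ i, Field (Z i)] [∀ i, Algebra k (Z i)]
    (hZ : ∀ i, IsFunctionField k (Z i)) (hrat : ∀ i, genus k (Z i) = 0)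
    {d r : ℕ} {D : ∀ i, Divisor k (Z i)} (hD : ∀ i, (D i).deg = d)
    {V : ∀ i, Submodule k (Z i)} (hV : ∀ i, V i ≤ L (D i))
    (hVr : ∀ i, finrank k ↥(V i) = r + 1)
    {A B : ∀ i, Place k (Z i)}
    (hAB : ∀ i : Fin (N + 1), 0 < (i : ℕ) → (i : ℕ) < N → A i ≠ B i)
    (hcomp : ∀ (l : Fin N) (m : ℕ), m ≤ d + 1 →
      finrank k ↥((V l.castSucc) ⊓ L ((D l.castSucc) - Finsupp.single (B l.castSucc) ((m : ℤ)))) +
        finrank k ↥((V l.succ) ⊓ L ((D l.succ) - Finsupp.single (A l.succ) ((d : ℤ) + 1 - m))) = r + 1)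
    {T : Finset (Fin (N + 1))} {Q : ∀ i, Place k (Z i)}
    (hQA : ∀ i ∈ T, 0 < (i : ℕ) → Q i ≠ A i) (hQB : ∀ i ∈ T, (i : ℕ) < N → Q i ≠ B i)
    (hcusp : ∀ i ∈ T, r ≤ finrank k ↥((V i) ⊓ L ((D i) - Finsupp.single (Q i) ((2 : ℤ))))) :
    ∀ (j : ℕ) (hj : j < N + 1), 0 < j →
      r * (T.filter (fun i : Fin (N + 1) => (i : ℕ) < j)).card + r * (r + 1) / 2 ≤
        wsum d (V ⟨j, hj⟩) (D ⟨j, hj⟩) (A ⟨j, hj⟩) := by
  intro j
  induction j with
  | zero => intro _ h; omega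
  | succ j ih =>
    intro hj _
    have hjN : j < N := by omega
    have hcompat : Compat d r (V ⟨j, by omega⟩) (D ⟨j, by omega⟩) (B ⟨j, by omega⟩)
        (V ⟨j + 1, hj⟩) (D ⟨j + 1, hj⟩) (A ⟨j + 1, hj⟩) := hcomp ⟨j, hjN⟩
    have h1 := hcompat.wsum_add
    rw [card_filter_lt_succ T j (by omega), mul_add]
    rcases Nat.eq_zero_or_pos j with hj0 | hjpos
    · subst hj0
      have h2 := end_bound hZ hD hV hVr hcusp ⟨0, by omega⟩ (B ⟨0, by omega⟩)
        (fun hi => hQB _ hi hjN)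
      have h3 : (T.filter (fun i : Fin (N + 1) => (i : ℕ) < 0)).card = 0 := by
        rw [Finset.card_eq_zero, Finset.filter_eq_empty_iff]
        intro i _
        omega
      rw [h3, mul_zero, zero_add]
      omega
    · have ih' := ih (by omega) hjpos
      have h2 := backbone_inner hZ hrat hD hV hVr hAB hcomp hQA hQB hcusp j (by omega) hjpos hjN
      omega

theorem backbone_right
    {k : Type*} [Field k] [IsAlgClosed k] [CharZero k]
    {N : ℕ} {Z : Fin (N + 1) → Type*} [∀ i, Field (Z i)] [∀ i, Algebra k (Z i)]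
    (hZ : ∀ i, IsFunctionField k (Z i)) (hrat : ∀ i, genus k (Z i) = 0)
    {d r : ℕ} {D : ∀ i, Divisor k (Z i)} (hD : ∀ i, (D i).deg = d)
    {V : ∀ i, Submodule k (Z i)} (hV : ∀ i, V i ≤ L (D i))
    (hVr : ∀ i, finrank k ↥(V i) = r + 1)
    {A B : ∀ i, Place k (Z i)}
    (hAB : ∀ i : Fin (N + 1), 0 < (i : ℕ) → (i : ℕ) < N → A i ≠ B i)
    (hcomp : ∀ (l : Fin N) (m : ℕ), m ≤ d + 1 →
      finrank k ↥((V l.castSucc) ⊓ L ((D l.castSucc) - Finsupp.single (B l.castSucc) ((m : ℤ)))) +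
        finrank k ↥((V l.succ) ⊓ L ((D l.succ) - Finsupp.single (A l.succ) ((d : ℤ) + 1 - m))) = r + 1)
    {T : Finset (Fin (N + 1))} {Q : ∀ i, Place k (Z i)}
    (hQA : ∀ i ∈ T, 0 < (i : ℕ) → Q i ≠ A i) (hQB : ∀ i ∈ T, (i : ℕ) < N → Q i ≠ B i)
    (hcusp : ∀ i ∈ T, r ≤ finrank k ↥((V i) ⊓ L ((D i) - Finsupp.single (Q i) ((2 : ℤ))))) :
    ∀ (s j : ℕ) (hj : j < N + 1), j + s + 1 = N →
      r * (T.filter (fun i : Fin (N + 1) => j < (i : ℕ))).card + r * (r + 1) / 2 ≤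
        wsum d (V ⟨j, hj⟩) (D ⟨j, hj⟩) (B ⟨j, hj⟩) := by
  intro s
  induction s with
  | zero =>
    intro j hj hjs
    have hjN : j < N := by omega
    have hj1 : j + 1 < N + 1 := by omega
    have hcompat : Compat d r (V ⟨j, hj⟩) (D ⟨j, hj⟩) (B ⟨j, hj⟩)
        (V ⟨j + 1, hj1⟩) (D ⟨j + 1, hj1⟩) (A ⟨j + 1, hj1⟩) := hcomp ⟨j, hjN⟩
    have h1 := hcompat.wsum_add
    have h2 := end_bound hZ hD hV hVr hcusp ⟨j + 1, hj1⟩ (A ⟨j + 1, hj1⟩)
      (fun hi => hQA _ hi (Nat.succ_pos j))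
    rw [card_filter_gt_succ T j hj1, mul_add]
    have h3 : (T.filter (fun i : Fin (N + 1) => j + 1 < (i : ℕ))).card = 0 := by
      rw [Finset.card_eq_zero, Finset.filter_eq_empty_iff]
      intro i _
      have := i.2
      omega
    rw [h3, mul_zero, zero_add]
    omega
  | succ s ih =>
    intro j hj hjs
    have hjN : j < N := by omega
    have hj1 : j + 1 < N + 1 := by omega
    have hcompat : Compat d r (V ⟨j, hj⟩) (D ⟨j, hj⟩) (B ⟨j, hj⟩)
        (V ⟨j + 1, hj1⟩) (D ⟨j + 1, hj1⟩) (A ⟨j + 1, hj1⟩) := hcomp ⟨j, hjN⟩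
    have h1 := hcompat.wsum_add
    have ih' := ih (j + 1) hj1 (by omega)
    have h2 := backbone_inner hZ hrat hD hV hVr hAB hcomp hQA hQB hcusp (j + 1) hj1 (Nat.succ_pos j) (by omega)
    rw [card_filter_gt_succ T j hj1, mul_add]
    omega

end Groth.Agent.Lib.helper16.FF
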