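import Groth.Agent.Lib.helper16.FFG0

/-! Helper library (helper16): vanishing-dimension functions, weights, compatible aspects on
chains of curves. -/

set_option autoImplicit false

namespace Groth.Agent.Lib.helper16.FF

open FunFld WithZero Polynomial Module

variable {k K : Type*} [Field k] [Field K] [Algebra k K]

/-- the dimension of the space of members of `V` vanishing `n` times at `P` -/
noncomputable def vdim (V : Submodule k K) (D : Divisor k K) (P : Place k K) (n : ℕ) : ℕ :=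
  finrank k ↥(V ⊓ L (D - Finsupp.single P (n : ℤ)))

/-- the weight sum `∑_{n=1}^{d} dim V(-nP)` -/
noncomputable def wsum (d : ℕ) (V : Submodule k K) (D : Divisor k K) (P : Place k K) : ℕ :=
  ∑ n ∈ Finset.range d, finrank k ↥(V ⊓ L (D - Finsupp.single P ((n : ℤ) + 1)))

theorem wsum_eq (d : ℕ) (V : Submodule k K) (D : Divisor k K) (P : Place k K) :
    wsum d V D P = ∑ n ∈ Finset.range d, vdim V D P (n + 1) := by
  unfold wsum vdim
  refine Finset.sum_congr rfl ?_
  intro n _
  rw [Nat.cast_add, Nat.cast_one]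

theorem vdim_zero {V : Submodule k K} {D : Divisor k K} (hV : V ≤ L D) (P : Place k K) :
    vdim V D P 0 = finrank k ↥V := by
  unfold vdim
  rw [Nat.cast_zero, Finsupp.single_zero, sub_zero, inf_eq_left.mpr hV]

theorem vdim_succ_le (hK : IsFunctionField k K) (V : Submodule k K) (D : Divisor k K)
    (P : Place k K) (n : ℕ) : vdim V D P (n + 1) ≤ vdim V D P n := by
  unfold vdim
  apply finrank_inf_L_mono hK
  apply sub_le_sub_left
  rw [Finsupp.single_le_single]
  push_cast
  omega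

theorem vdim_antitone (hK : IsFunctionField k K) (V : Submodule k K) (D : Divisor k K)
    (P : Place k K) : Antitone (vdim V D P) :=
  antitone_nat_of_succ_le (vdim_succ_le hK V D P)

theorem vdim_le_succ [IsAlgClosed k] (hK : IsFunctionField k K) (V : Submodule k K)
    (D : Divisor k K) (P : Place k K) (n : ℕ) : vdim V D P n ≤ vdim V D P (n + 1) + 1 := by
  unfold vdim
  have h := finrank_inf_L_le_sub_single hK V (D - Finsupp.single P (n : ℤ)) P
  rw [deg_eq_one_of_isAlgClosed hK P] at h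
  have e : D - Finsupp.single P (n : ℤ) - Finsupp.single P 1 =
      D - Finsupp.single P ((n + 1 : ℕ) : ℤ) := by
    rw [Nat.cast_add, Nat.cast_one, Finsupp.single_add]; abel
  rw [e] at h
  exact h

theorem vdim_eq_zero [IsAlgClosed k] (hK : IsFunctionField k K) (V : Submodule k K)
    {D : Divisor k K} {d : ℕ} (hD : D.deg = d) (P : Place k K) {n : ℕ} (hn : d < n) :
    vdim V D P n = 0 := by
  unfold vdim
  rw [inf_L_eq_bot_of_deg_neg hK, finrank_bot]
  rw [deg_sub, deg_single, hD, deg_eq_one_of_isAlgClosed hK P]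
  push_cast
  have : (d : ℤ) < n := by exact_mod_cast hn
  omega

theorem vdim_ge [IsAlgClosed k] (hK : IsFunctionField k K) {V : Submodule k K}
    {D : Divisor k K} (hV : V ≤ L D) (P : Place k K) (n : ℕ) :
    finrank k ↥V ≤ vdim V D P n + n := by
  induction n with
  | zero => rw [vdim_zero hV]; omega
  | succ n ih =>
    have := vdim_le_succ hK V D P n
    omega

theorem le_deg_of_finrank [IsAlgClosed k] (hK : IsFunctionField k K) {V : Submodule k K}
    {D : Divisor k K} (hV : V ≤ L D) {d r : ℕ} (hD : D.deg = d) (hVr : finrank k ↥V = r + 1) :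
    r ≤ d := by
  obtain ⟨P⟩ := nonempty_place hK
  have h1 := vdim_ge hK hV P (d + 1)
  rw [vdim_eq_zero hK V hD P (by omega), hVr] at h1
  omega

theorem vdim_add_vdim_le [IsAlgClosed k] (hK : IsFunctionField k K) {V : Submodule k K}
    {D : Divisor k K} (hV : V ≤ L D) {d : ℕ} (hD : D.deg = d) {P Q : Place k K} (hPQ : P ≠ Q)
    {n m : ℕ} (hnm : d < n + m) : vdim V D P n + vdim V D Q m ≤ finrank k ↥V := by
  unfold vdim
  apply finrank_add_finrank_le hK hV hPQ (deg_eq_one_of_isAlgClosed hK P)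
    (deg_eq_one_of_isAlgClosed hK Q) (by positivity) (by positivity)
  rw [hD]
  exact_mod_cast hnm

/-- two-point bound on weights -/
theorem wsum_add_wsum_le [IsAlgClosed k] (hK : IsFunctionField k K) {V : Submodule k K}
    {D : Divisor k K} (hV : V ≤ L D) {d r : ℕ} (hD : D.deg = d) (hVr : finrank k ↥V = r + 1)
    {P Q : Place k K} (hPQ : P ≠ Q) : wsum d V D P + wsum d V D Q ≤ (r + 1) * d := by
  rw [wsum_eq, wsum_eq]
  rw [← Finset.sum_range_reflect (fun n => vdim V D Q (n + 1)) d, ← Finset.sum_add_distrib]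
  have : (r + 1) * d = ∑ _n ∈ Finset.range d, (r + 1) := by
    rw [Finset.sum_const, Finset.card_range, smul_eq_mul, mul_comm]
  rw [this]
  refine Finset.sum_le_sum ?_
  intro n hn
  rw [Finset.mem_range] at hn
  have := vdim_add_vdim_le hK hV hD hPQ (n := n + 1) (m := d - 1 - n + 1) (by omega)
  rw [hVr] at this
  exact this

theorem exists_place_ne (hK : IsFunctionField k K) (P : Place k K) : ∃ R : Place k K, R ≠ P := by
  obtain ⟨x, hx⟩ := exists_not_mem_range hK
  obtain ⟨P₁, h1⟩ := exists_place_lt_one hK hx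
  obtain ⟨P₂, h2⟩ := exists_place_one_lt hK hx
  by_cases h : P₁ = P
  · refine ⟨P₂, ?_⟩
    rintro rfl
    rw [h] at h1
    exact lt_asymm h1 h2
  · exact ⟨P₁, h⟩

/-- `∑_{n < d} (r - n) ≥ r (r + 1) / 2` for `r ≤ d` -/
theorem half_le_sum_sub (r d : ℕ) (hrd : r ≤ d) :
    r * (r + 1) / 2 ≤ ∑ n ∈ Finset.range d, (r - n) := by
  have h1 : ∑ n ∈ Finset.range r, (r - n) ≤ ∑ n ∈ Finset.range d, (r - n) :=
    Finset.sum_le_sum_of_subset (Finset.range_subset_range.mpr hrd)
  have h2 : ∑ n ∈ Finset.range r, (r - n) = ∑ n ∈ Finset.range r, (n + 1) := by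
    rw [← Finset.sum_range_reflect (fun n => n + 1) r]
    refine Finset.sum_congr rfl ?_
    intro n hn
    rw [Finset.mem_range] at hn
    omega
  have h3 : ∑ n ∈ Finset.range r, (n + 1) = ∑ n ∈ Finset.range (r + 1), n := by
    rw [Finset.sum_range_succ' (fun n => n) r]
    simp
  have h4 := Finset.sum_range_id_mul_two (r + 1)
  rw [h2, h3] at h1
  have h5 : r * (r + 1) / 2 = ∑ n ∈ Finset.range (r + 1), n := by
    rw [Finset.sum_range_id]
    simp [mul_comm]
  omega

/-- lower bound for weight sums -/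
theorem half_le_wsum [IsAlgClosed k] (hK : IsFunctionField k K) {V : Submodule k K}
    {D : Divisor k K} (hV : V ≤ L D) {d r : ℕ} (hD : D.deg = d) (hVr : finrank k ↥V = r + 1)
    (P : Place k K) : r * (r + 1) / 2 ≤ wsum d V D P := by
  refine le_trans (half_le_sum_sub r d (le_deg_of_finrank hK hV hD hVr)) ?_
  rw [wsum_eq]
  refine Finset.sum_le_sum ?_
  intro n _
  have := vdim_ge hK hV P (n + 1)
  rw [hVr] at this
  omega

/-- lower bound for weight sums at a cusp -/
theorem half_add_le_wsum_of_cusp [IsAlgClosed k] (hK : IsFunctionField k K) {V : Submodule k K}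
    {D : Divisor k K} (hV : V ≤ L D) {d r : ℕ} (hD : D.deg = d) (hVr : finrank k ↥V = r + 1)
    (Q : Place k K) (hcusp : r ≤ finrank k ↥(V ⊓ L (D - Finsupp.single Q (2 : ℤ)))) :
    r * (r + 1) / 2 + r ≤ wsum d V D Q := by
  have h2 : r ≤ vdim V D Q 2 := by
    unfold vdim
    exact_mod_cast hcusp
  rcases Nat.eq_zero_or_pos r with hr0 | hrpos
  · have := half_le_wsum hK hV hD hVr Q
    rw [hr0] at this ⊢
    simp
  · have hstep : ∀ j : ℕ, r ≤ vdim V D Q (j + 2) + j := by
      intro j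
      induction j with
      | zero => simpa using h2
      | succ j ih =>
        have := vdim_le_succ hK V D Q (j + 2)
        have e : j + 2 + 1 = j + 1 + 2 := by ring
        rw [e] at this
        omega
    have hd : r + 1 ≤ d := by
      by_contra hcon
      have h3 := hstep (d - 1)
      have h4 : vdim V D Q (d - 1 + 2) = 0 := vdim_eq_zero hK V hD Q (by omega)
      omega
    obtain ⟨d', rfl⟩ : ∃ d', d = d' + 1 := ⟨d - 1, by omega⟩
    rw [wsum_eq, Finset.sum_range_succ']
    have h1 : r ≤ vdim V D Q (0 + 1) := le_trans h2 (vdim_succ_le hK V D Q 1)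
    have h5 : r * (r + 1) / 2 ≤ ∑ n ∈ Finset.range d', vdim V D Q (n + 1 + 1) := by
      refine le_trans (half_le_sum_sub r d' (by omega)) ?_
      refine Finset.sum_le_sum ?_
      intro n _
      have := hstep n
      have e : n + 1 + 1 = n + 2 := by ring
      rw [e]
      omega
    omega

/-- numeric core: if `a ≤ c` pointwise, both start at `r + 1`, `c` decreases by steps of at most
one to zero, and `a` meets `c` at no more than one jump of `c`, then `∑ c ≥ ∑ a + r` -/
theorem sum_add_le_of_jump_unique (d r : ℕ) (a c : ℕ → ℕ)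
    (ha0 : a 0 = c 0) (hc0 : c 0 = r + 1) (hcd : c (d + 1) = 0)
    (hle : ∀ n, a n ≤ c n) (hmc : ∀ n, c (n + 1) ≤ c n) (hsc : ∀ n, c n ≤ c (n + 1) + 1)
    (huniq : ∀ m₁ m₂ : ℕ, m₁ ≤ d → m₂ ≤ d → (a m₁ = c m₁ ∧ c m₁ = c (m₁ + 1) + 1) →
      (a m₂ = c m₂ ∧ c m₂ = c (m₂ + 1) + 1) → m₁ = m₂) :
    ∑ n ∈ Finset.range d, a (n + 1) + r ≤ ∑ n ∈ Finset.range d, c (n + 1) := by
  classical
  let J : ℕ → Prop := fun n => a n = c n ∧ c n = c (n + 1) + 1
  have hpt : ∀ n, ((c n : ℤ) - c (n + 1)) - (if J n then 1 else 0) ≤ (c n : ℤ) - a n := by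
    intro n
    have h1 := hle n
    have h2 := hmc n
    have h3 := hsc n
    by_cases hJ : J n
    · rw [if_pos hJ]
      have := hJ.2
      omega
    · rw [if_neg hJ]
      by_cases h4 : c n = c (n + 1) + 1
      · have : a n ≠ c n := fun h => hJ ⟨h, h4⟩
        omega
      · omega
  have hsum := Finset.sum_le_sum (s := Finset.range (d + 1)) (fun n _ => hpt n)
  rw [Finset.sum_sub_distrib, Finset.sum_range_sub', Finset.sum_sub_distrib] at hsum
  have hJcard : ∑ n ∈ Finset.range (d + 1), (if J n then (1 : ℤ) else 0) ≤ 1 := by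
    rw [Finset.sum_boole]
    have : ((Finset.range (d + 1)).filter J).card ≤ 1 := by
      rw [Finset.card_le_one]
      intro m₁ hm₁ m₂ hm₂
      rw [Finset.mem_filter, Finset.mem_range] at hm₁ hm₂
      exact huniq m₁ m₂ (by omega) (by omega) hm₁.2 hm₂.2
    exact_mod_cast this
  rw [Finset.sum_range_succ' (fun n => (c n : ℤ)), Finset.sum_range_succ' (fun n => (a n : ℤ)),
    ha0, hc0, hcd] at hsum
  have hgoal : ((∑ n ∈ Finset.range d, a (n + 1) + r : ℕ) : ℤ) ≤
      ((∑ n ∈ Finset.range d, c (n + 1) : ℕ) : ℤ) := by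
    push_cast at hsum ⊢
    omega
  exact_mod_cast hgoal

section Compat

variable {KY : Type*} {KZ : Type*} [Field KY] [Field KZ] [Algebra k KY] [Algebra k KZ]

/-- compatibility of two aspects of a limit series at a node -/
def Compat (d r : ℕ) (VY : Submodule k KY) (DY : Divisor k KY) (P : Place k KY)
    (VZ : Submodule k KZ) (DZ : Divisor k KZ) (Q : Place k KZ) : Prop :=
  ∀ n : ℕ, n ≤ d + 1 →
    finrank k ↥(VY ⊓ L (DY - Finsupp.single P (n : ℤ))) +
      finrank k ↥(VZ ⊓ L (DZ - Finsupp.single Q ((d : ℤ) + 1 - n))) = r + 1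

variable {d r : ℕ} {VY : Submodule k KY} {DY : Divisor k KY} {P : Place k KY}
  {VZ : Submodule k KZ} {DZ : Divisor k KZ} {Q : Place k KZ}

theorem Compat.vdim_add (h : Compat d r VY DY P VZ DZ Q) {n m : ℕ} (hnm : n + m = d + 1) :
    vdim VY DY P n + vdim VZ DZ Q m = r + 1 := by
  have h1 := h n (by omega)
  have e : (d : ℤ) + 1 - n = (m : ℤ) := by
    have : ((n + m : ℕ) : ℤ) = ((d + 1 : ℕ) : ℤ) := by exact_mod_cast hnm
    push_cast at this
    omega
  rw [e] at h1
  exact h1

theorem Compat.symm (h : Compat d r VY DY P VZ DZ Q) : Compat d r VZ DZ Q VY DY P := by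
  intro n hn
  have h1 := h.vdim_add (n := d + 1 - n) (m := n) (by omega)
  unfold vdim at h1
  have e : ((d + 1 - n : ℕ) : ℤ) = (d : ℤ) + 1 - n := by
    push_cast [Nat.cast_sub hn]; ring
  rw [e] at h1
  rw [add_comm]
  exact h1

/-- the weights at the two branches of a node add up to `(r + 1) d` -/
theorem Compat.wsum_add (h : Compat d r VY DY P VZ DZ Q) :
    wsum d VY DY P + wsum d VZ DZ Q = (r + 1) * d := by
  rw [wsum_eq, wsum_eq]
  rw [← Finset.sum_range_reflect (fun n => vdim VZ DZ Q (n + 1)) d, ← Finset.sum_add_distrib]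
  have : (r + 1) * d = ∑ _n ∈ Finset.range d, (r + 1) := by
    rw [Finset.sum_const, Finset.card_range, smul_eq_mul, mul_comm]
  rw [this]
  refine Finset.sum_congr rfl ?_
  intro n hn
  rw [Finset.mem_range] at hn
  exact h.vdim_add (by omega)

/-- vanishing dimensions at another point of `Y` are bounded by those at the node on `Z` -/
theorem Compat.vdim_le [IsAlgClosed k] (h : Compat d r VY DY P VZ DZ Q)
    (hKY : IsFunctionField k KY) (hVY : VY ≤ L DY) (hDY : DY.deg = d)
    (hVYr : finrank k ↥VY = r + 1) {P' : Place k KY} (hP' : P' ≠ P) (n : ℕ) :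
    vdim VY DY P' n ≤ vdim VZ DZ Q n := by
  by_cases hn : n ≤ d + 1
  · have h1 := vdim_add_vdim_le hKY hVY hDY hP' (n := n) (m := d + 1 - n) (by omega)
    have h2 := h.vdim_add (n := d + 1 - n) (m := n) (by omega)
    omega
  · rw [vdim_eq_zero hKY VY hDY P' (by omega)]
    exact Nat.zero_le _

theorem Compat.wsum_le [IsAlgClosed k] (h : Compat d r VY DY P VZ DZ Q)
    (hKY : IsFunctionField k KY) (hVY : VY ≤ L DY) (hDY : DY.deg = d)
    (hVYr : finrank k ↥VY = r + 1) {P' : Place k KY} (hP' : P' ≠ P) :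
    wsum d VY DY P' ≤ wsum d VZ DZ Q := by
  rw [wsum_eq, wsum_eq]
  exact Finset.sum_le_sum fun n _ => h.vdim_le hKY hVY hDY hVYr hP' (n + 1)

/-- a common jump of the vanishing dimensions gives a member supported on `{P, P'}` -/
theorem Compat.exists_div_eq [IsAlgClosed k] (h : Compat d r VY DY P VZ DZ Q)
    (hKY : IsFunctionField k KY) (hVY : VY ≤ L DY) (hDY : DY.deg = d)
    (hVYr : finrank k ↥VY = r + 1) {P' : Place k KY} (hP' : P' ≠ P) {m : ℕ} (hm : m ≤ d)
    (h1 : vdim VY DY P' m = vdim VZ DZ Q m) (h2 : vdim VZ DZ Q m = vdim VZ DZ Q (m + 1) + 1) :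
    ∃ s : KY, s ≠ 0 ∧ s ∈ VY ∧
      FunFld.div k s = Finsupp.single P' (m : ℤ) + Finsupp.single P ((d - m : ℕ) : ℤ) - DY := by
  have h3 := h.vdim_add (n := d - m) (m := m + 1) (by omega)
  apply exists_div_eq_of_finrank_lt hKY hVY hP' (deg_eq_one_of_isAlgClosed hKY P')
    (deg_eq_one_of_isAlgClosed hKY P) (by positivity) (by positivity)
  · rw [hDY]; push_cast [Nat.cast_sub hm]; ring
  · rw [hVYr]
    unfold vdim at h1 h2 h3
    omega

/-- with a cusp at a third point of a rational `Y`, the weight grows by at least `r` -/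
theorem Compat.wsum_add_le_of_cusp [IsAlgClosed k] [CharZero k]
    (h : Compat d r VY DY P VZ DZ Q)
    (hKY : IsFunctionField k KY) (hg0 : genus k KY = 0) (hVY : VY ≤ L DY) (hDY : DY.deg = d)
    (hVYr : finrank k ↥VY = r + 1)
    (hKZ : IsFunctionField k KZ) (hVZ : VZ ≤ L DZ) (hDZ : DZ.deg = d)
    (hVZr : finrank k ↥VZ = r + 1)
    {QY : Place k KY} (hcusp : r ≤ finrank k ↥(VY ⊓ L (DY - Finsupp.single QY (2 : ℤ))))
    (hP : P ≠ QY) {P' : Place k KY} (hP'P : P' ≠ P) (hP'Q : P' ≠ QY) :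
    wsum d VY DY P' + r ≤ wsum d VZ DZ Q := by
  rw [wsum_eq, wsum_eq]
  apply sum_add_le_of_jump_unique d r (vdim VY DY P') (vdim VZ DZ Q)
  · rw [vdim_zero hVY, vdim_zero hVZ, hVYr, hVZr]
  · rw [vdim_zero hVZ, hVZr]
  · exact vdim_eq_zero hKZ VZ hDZ Q (by omega)
  · exact h.vdim_le hKY hVY hDY hVYr hP'P
  · exact vdim_succ_le hKZ VZ DZ Q
  · exact vdim_le_succ hKZ VZ DZ Q
  · intro m₁ m₂ hm₁ hm₂ ⟨a1, a2⟩ ⟨b1, b2⟩
    obtain ⟨s₁, hs₁0, hs₁V, hs₁⟩ := h.exists_div_eq hKY hVY hDY hVYr hP'P hm₁ a1 a2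
    obtain ⟨s₂, hs₂0, hs₂V, hs₂⟩ := h.exists_div_eq hKY hVY hDY hVYr hP'P hm₂ b1 b2
    have hsupp : ∀ (m : ℕ) (s : KY), FunFld.div k s =
        Finsupp.single P' (m : ℤ) + Finsupp.single P ((d - m : ℕ) : ℤ) - DY →
        ∀ R : Place k KY, R ≠ P → R ≠ P' → (FunFld.div k s + DY) R = 0 := by
      intro m s hs R hRP hRP'
      rw [hs, sub_add_cancel, Finsupp.add_apply, Finsupp.single_eq_of_ne hRP,
        Finsupp.single_eq_of_ne hRP', add_zero]
    obtain ⟨c, hc⟩ := eq_smul_of_cusp_genus_zero hKY hg0 r DY VY hVY hVYr QY hcusp P P' hP hP'Q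
      s₁ s₂ hs₁V hs₂V hs₁0 hs₂0 (hsupp m₁ s₁ hs₁) (hsupp m₂ s₂ hs₂)
    have hc0 : c ≠ 0 := by
      rintro rfl
      rw [zero_smul] at hc
      exact hs₂0 hc
    have hdiv : FunFld.div k s₂ = FunFld.div k s₁ := by
      rw [hc, Algebra.smul_def, FF.div_mul hKY ((_root_.map_ne_zero _).mpr hc0) hs₁0,
        div_eq_zero_of_mem_range hKY ⟨c, rfl⟩, zero_add]
    rw [hs₁, hs₂] at hdiv
    have hh := DFunLike.congr_fun hdiv P'
    rw [Finsupp.sub_apply, Finsupp.sub_apply, Finsupp.add_apply, Finsupp.add_apply,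
      Finsupp.single_eq_same, Finsupp.single_eq_same, Finsupp.single_eq_of_ne hP'P,
      Finsupp.single_eq_of_ne hP'P] at hh
    omega

/-- three-point bound on a rational component with a cusp at the third point -/
theorem Compat.three_point_cusp [IsAlgClosed k] [CharZero k]
    (h : Compat d r VY DY P VZ DZ Q)
    (hKY : IsFunctionField k KY) (hg0 : genus k KY = 0) (hVY : VY ≤ L DY) (hDY : DY.deg = d)
    (hVYr : finrank k ↥VY = r + 1)
    (hKZ : IsFunctionField k KZ) (hVZ : VZ ≤ L DZ) (hDZ : DZ.deg = d)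
    (hVZr : finrank k ↥VZ = r + 1)
    {QY : Place k KY} (hcusp : r ≤ finrank k ↥(VY ⊓ L (DY - Finsupp.single QY (2 : ℤ))))
    (hP : P ≠ QY) {P' : Place k KY} (hP'P : P' ≠ P) (hP'Q : P' ≠ QY) :
    wsum d VY DY P + wsum d VY DY P' + r ≤ (r + 1) * d := by
  have h1 := h.wsum_add
  have h2 := h.wsum_add_le_of_cusp hKY hg0 hVY hDY hVYr hKZ hVZ hDZ hVZr hcusp hP hP'P hP'Q
  omega

end Compat

end Groth.Agent.Lib.helper16.FF
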