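import Groth.Agent.Lib.helper16.FFMapDiv

/-! Helper library (helper16): fibres of a projective map. -/

set_option autoImplicit false

namespace Groth.Agent.Lib.helper16.FF

open FunFld WithZero Polynomial Module
open scoped IntermediateField

variable {k K : Type*} [Field k] [Field K] [Algebra k K]

theorem val_lt_one_iff_of_mem_sameRes {P Q : Place k K} {w : K} (hw : w ∈ sameRes P Q) :
    Q.1 w < 1 ↔ P.1 w < 1 := by
  obtain ⟨c, hP, hQ⟩ := hw
  by_cases hc : c = 0
  · subst hc
    rw [map_zero, sub_zero] at hP hQ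
    exact ⟨fun _ => hP, fun _ => hQ⟩
  · have e : w = algebraMap k K c + (w - algebraMap k K c) := by ring
    have h1 : P.1 w = 1 := by
      rw [e, Valuation.map_add_eq_of_lt_left, val_algebraMap P hc]
      rw [val_algebraMap P hc]; exact hP
    have h2 : Q.1 w = 1 := by
      rw [e, Valuation.map_add_eq_of_lt_left, val_algebraMap Q hc]
      rw [val_algebraMap Q hc]; exact hQ
    rw [h1, h2]

theorem adjoin_le_sameRes_of_sameImage {ι : Type*} (φ : ι → K) {P Q : Place k K} {j : ι}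
    (hc : ∀ i, ∃ c : k, P.1 (φ i / φ j - algebraMap k K c) < 1 ∧
      Q.1 (φ i / φ j - algebraMap k K c) < 1) :
    Algebra.adjoin k (Set.range fun i => φ i / φ j) ≤ sameRes P Q := by
  apply Algebra.adjoin_le
  rintro _ ⟨i, rfl⟩
  exact hc i

/-- the fibre of `φ(P)`: the places `Q` with `O_a ⊆ O_Q` and `m_Q ∩ O_a = m_P ∩ O_a` -/
theorem sameImage_iff_locRing_le [IsAlgClosed k] (hK : IsFunctionField k K) {ι : Type*}
    [Finite ι] [Nonempty ι] (φ : ι → K) (hφ0 : ∀ i, φ i ≠ 0) (P Q : Place k K) :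
    SameImage φ P Q ↔
      ∀ z : K, InLocRing φ P z → (Q.1 z ≤ 1 ∧ (Q.1 z < 1 ↔ P.1 z < 1)) := by
  constructor
  · rintro ⟨j, hj0, hmaxP, hmaxQ, hc⟩ z hz
    have hle := adjoin_le_sameRes_of_sameImage φ hc
    obtain ⟨u, hu, w, hw, hw1, hzw⟩ := inLoc_of_inLocRing φ P j hj0 hmaxP hz
    have hQw := val_eq_one_of_mem_sameRes (hle hw) hw1
    have h1 : Q.1 z = Q.1 u := by rw [← hzw, map_mul, hQw, mul_one]
    have h2 : P.1 z = P.1 u := by rw [← hzw, map_mul, hw1, mul_one]
    rw [h1, h2]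
    exact ⟨val_le_one_of_mem_sameRes (hle hu), val_lt_one_iff_of_mem_sameRes (hle hu)⟩
  · intro h
    obtain ⟨j, hmax⟩ := exists_max_val φ P
    have hj0 := hφ0 j
    have hmem : ∀ u ∈ Algebra.adjoin k (Set.range fun i => φ i / φ j), InLocRing φ P u :=
      fun u hu => ⟨j, hj0, hmax, u, hu, 1, Subalgebra.one_mem _, map_one _, mul_one u⟩
    have hx : ∀ i, φ i / φ j ∈ Algebra.adjoin k (Set.range fun i => φ i / φ j) :=
      fun i => Algebra.subset_adjoin (Set.mem_range_self i)
    refine ⟨j, hj0, hmax, fun i => (val_div_le_one Q hj0).mp (h _ (hmem _ (hx i))).1, ?_⟩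
    intro i
    obtain ⟨c, hc⟩ := exists_sub_val_lt_one hK P ((val_div_le_one P hj0).mpr (hmax i))
    refine ⟨c, hc, ?_⟩
    exact (h _ (hmem _ (Subalgebra.sub_mem _ (hx i) (Subalgebra.algebraMap_mem _ c)))).2.mpr hc

theorem zeros_finite_of_ne_zero (hK : IsFunctionField k K) {x : K} (hx : x ≠ 0) :
    {P : Place k K | P.1 x < 1}.Finite := by
  by_cases hi : x ∈ Set.range (algebraMap k K)
  · convert Set.finite_empty
    ext Q
    simp only [Set.mem_ofPred_eq, Set.mem_empty_iff_false, iff_false, not_lt]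
    obtain ⟨d, hd⟩ := hi
    have hd0 : d ≠ 0 := by
      rintro rfl
      exact hx (by rw [← hd, map_zero])
    rw [← hd, val_algebraMap Q hd0]
  · exact zeros_finite hK hi

theorem div_not_mem_range_of_linearIndependent {ι : Type*} (φ : ι → K)
    (hφ : LinearIndependent k φ) {i j : ι} (hij : i ≠ j) :
    φ i / φ j ∉ Set.range (algebraMap k K) := by
  rintro ⟨c, hc⟩
  have hj0 := hφ.ne_zero j
  have h1 : φ i = c • φ j := by
    rw [Algebra.smul_def, hc]
    field_simp
  have h2 := hφ.notMem_span_image (s := {j}) (x := i) (by simpa using hij)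
  apply h2
  rw [Set.image_singleton, h1]
  exact Submodule.smul_mem _ _ (Submodule.mem_span_singleton_self _)

/-- the fibres of a non-constant projective map are finite -/
theorem finite_sameImage (hK : IsFunctionField k K) {ι : Type*} [Finite ι] (φ : ι → K)
    (hnc : ∀ j, ∃ i, φ i / φ j ∉ Set.range (algebraMap k K)) (P : Place k K) :
    {Q : Place k K | SameImage φ P Q}.Finite := by
  choose i₁ hi₁ using hnc
  have hfin : ∀ j, {Q : Place k K | ∃ c : k, P.1 (φ (i₁ j) / φ j - algebraMap k K c) < 1 ∧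
      Q.1 (φ (i₁ j) / φ j - algebraMap k K c) < 1}.Finite := by
    intro j
    by_cases hex : ∃ c₀ : k, P.1 (φ (i₁ j) / φ j - algebraMap k K c₀) < 1
    · obtain ⟨c₀, hc₀⟩ := hex
      have hnc' : φ (i₁ j) / φ j - algebraMap k K c₀ ∉ Set.range (algebraMap k K) := by
        rintro ⟨d, hd⟩
        apply hi₁ j
        exact ⟨d + c₀, by rw [map_add, hd]; ring⟩
      refine (zeros_finite hK hnc').subset ?_
      rintro Q ⟨c, hc1, hc2⟩
      have hcc : c = c₀ := by
        by_contra hne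
        have h3 : P.1 (algebraMap k K (c - c₀)) < 1 := by
          have e : algebraMap k K (c - c₀) = (φ (i₁ j) / φ j - algebraMap k K c₀) -
              (φ (i₁ j) / φ j - algebraMap k K c) := by
            rw [map_sub]; ring
          rw [e]
          exact lt_of_le_of_lt (P.1.map_sub _ _) (max_lt hc₀ hc1)
        rw [val_algebraMap _ (sub_ne_zero.mpr hne)] at h3
        exact lt_irrefl _ h3
      rw [hcc] at hc2
      exact hc2
    · convert Set.finite_empty
      ext Q
      simp only [Set.mem_ofPred_eq, Set.mem_empty_iff_false, iff_false]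
      rintro ⟨c, hc1, -⟩
      exact hex ⟨c, hc1⟩
  refine (Set.finite_iUnion hfin).subset ?_
  rintro Q ⟨j, -, -, -, hc⟩
  exact Set.mem_iUnion.mpr ⟨j, hc (i₁ j)⟩

theorem aeval_mul_of_isHomogeneous {σ : Type*} {g : MvPolynomial σ k} {d : ℕ}
    (hg : g.IsHomogeneous d) (a : K) (x : σ → K) :
    MvPolynomial.aeval (fun i => a * x i) g = a ^ d * MvPolynomial.aeval x g := by
  have h := g.as_sum
  rw [h, map_sum, map_sum, Finset.mul_sum]
  apply Finset.sum_congr rfl
  intro s hs
  rw [MvPolynomial.aeval_monomial, MvPolynomial.aeval_monomial]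
  have h1 : (s.prod fun i e => (a * x i) ^ e) = a ^ d * s.prod fun i e => x i ^ e := by
    simp only [Finsupp.prod, mul_pow, Finset.prod_mul_distrib, Finset.prod_pow_eq_pow_sum]
    rw [← hg.degree_eq_sum_deg_support hs]
  rw [h1]
  ring

/-- a homogeneous form not vanishing on the image curve vanishes at the image of only finitely
many places -/
theorem finite_zeros_homogeneous (hK : IsFunctionField k K) {ι : Type*} [Finite ι] (φ : ι → K)
    (g : MvPolynomial ι k) {d : ℕ} (hg : g.IsHomogeneous d) (hgφ : MvPolynomial.aeval φ g ≠ 0) :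
    {P : Place k K | ∃ j, φ j ≠ 0 ∧ (∀ i, P.1 (φ i) ≤ P.1 (φ j)) ∧
      P.1 (MvPolynomial.aeval (fun i => φ i / φ j) g) < 1}.Finite := by
  have hfin : ∀ j, {P : Place k K | φ j ≠ 0 ∧
      P.1 ((φ j)⁻¹ ^ d * MvPolynomial.aeval φ g) < 1}.Finite := by
    intro j
    by_cases hj : φ j = 0
    · convert Set.finite_empty
      ext Q
      simp only [Set.mem_ofPred_eq, Set.mem_empty_iff_false, iff_false]
      rintro ⟨h1, -⟩
      exact h1 hj
    · refine (zeros_finite_of_ne_zero hK
        (mul_ne_zero (pow_ne_zero d (inv_ne_zero hj)) hgφ)).subset ?_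
      rintro Q ⟨-, h2⟩
      exact h2
  refine (Set.finite_iUnion hfin).subset ?_
  rintro P ⟨j, hj0, -, hlt⟩
  refine Set.mem_iUnion.mpr ⟨j, hj0, ?_⟩
  rw [← aeval_mul_of_isHomogeneous hg]
  have e : (fun i => (φ j)⁻¹ * φ i) = fun i => φ i / φ j := by
    funext i
    rw [div_eq_inv_mul]
  rw [e]
  exact hlt

/-- a conductor with separation: if every pole of `z` in the finite part can be separated from `P`
by an element of `R`, then `c z` lies in the local ring of `R` at `P` -/
theorem exists_conductor_sep [IsAlgClosed k] (hK : IsFunctionField k K) {ι : Type*} [Fintype ι]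
    (xs : ι → K)
    (hbir : ∀ z : K, ∃ r ∈ Algebra.adjoin k (Set.range xs),
      ∃ s ∈ Algebra.adjoin k (Set.range xs), s ≠ 0 ∧ z * s = r) :
    ∃ c ∈ Algebra.adjoin k (Set.range xs), c ≠ 0 ∧ ∀ (P : Place k K) (z : K),
      (∀ Q : Place k K, (∀ i, Q.1 (xs i) ≤ 1) → 1 < Q.1 z →
        ∃ r ∈ Algebra.adjoin k (Set.range xs), Q.1 r < 1 ∧ P.1 r = 1) →
      ∃ r ∈ Algebra.adjoin k (Set.range xs), P.1 r = 1 ∧
        c * (r * z) ∈ Algebra.adjoin k (Set.range xs) := by
  classical
  set R := Algebra.adjoin k (Set.range xs) with hR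
  let Sinf : Set (Place k K) := {Q | ∃ i, 1 < Q.1 (xs i)}
  have hSfin : Sinf.Finite := by
    have : Sinf = ⋃ i, {Q | 1 < Q.1 (xs i)} := by
      ext Q; simp [Sinf]
    rw [this]
    apply Set.finite_iUnion
    intro i
    by_cases hi : xs i ∈ Set.range (algebraMap k K)
    · convert Set.finite_empty
      ext Q
      simp only [Set.mem_ofPred_eq, Set.mem_empty_iff_false, iff_false, not_lt]
      obtain ⟨c, hc⟩ := hi
      rw [← hc]; exact val_algebraMap_le Q c
    · exact poles_finite hK hi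
  have hRint : ∀ Q ∉ Sinf, ∀ r ∈ R, Q.1 r ≤ 1 := by
    intro Q hQ r hr
    apply val_le_one_of_mem_adjoin xs Q _ hr
    intro i
    by_contra h
    exact hQ ⟨i, not_le.mp h⟩
  obtain ⟨a, ha⟩ := exists_generic_pole xs Sinf hSfin (fun Q hQ => hQ)
  set x := ∑ i, a i • xs i with hx
  have hxR : x ∈ R := Subalgebra.sum_mem _ fun i _ =>
    Subalgebra.smul_mem _ (Algebra.subset_adjoin (Set.mem_range_self i)) _
  have hSne : Sinf.Nonempty := by
    by_contra hemp
    rw [Set.not_nonempty_iff_eq_empty] at hemp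
    have hconst : ∀ r ∈ R, r ∈ Set.range (algebraMap k K) := by
      intro r hr
      apply mem_range_of_forall_val_le_one hK
      intro Q
      exact hRint Q (by rw [hemp]; exact Set.notMem_empty Q) r hr
    obtain ⟨z, hz⟩ := exists_not_mem_range hK
    obtain ⟨r, hr, s, hs, hs0, hzs⟩ := hbir z
    obtain ⟨c, hc⟩ := hconst r hr
    obtain ⟨d, hd⟩ := hconst s hs
    apply hz
    refine ⟨c / d, ?_⟩
    rw [map_div₀, hc, hd, ← hzs]
    field_simp
  obtain ⟨Q₀, hQ₀⟩ := hSne
  have hxnc : x ∉ Set.range (algebraMap k K) := by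
    rintro ⟨c, hc⟩
    have := ha Q₀ hQ₀
    rw [← hc] at this
    exact absurd (val_algebraMap_le Q₀ c) (not_le.mpr this)
  have hx0 : x ≠ 0 := by
    intro h
    exact hxnc ⟨0, by rw [map_zero, h]⟩
  obtain ⟨c, hcR, hc0, hcond⟩ := exists_conductor hK R hxR hxnc hbir
  set B := poleDiv k x with hB
  have hBpos : ∀ Q ∈ Sinf, 1 ≤ B Q := by
    intro Q hQ
    have h1 := ha Q hQ
    rw [hB, poleDiv_apply hK]
    rw [one_lt_val_iff Q hx0] at h1
    omega
  have hBzero : ∀ Q ∉ Sinf, B Q = 0 := by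
    intro Q hQ
    have h1 := hRint Q hQ x hxR
    rw [hB, poleDiv_apply hK]
    rw [val_le_one_iff Q hx0] at h1
    omega
  refine ⟨c, hcR, hc0, ?_⟩
  intro P z hsep
  by_cases hz0 : z = 0
  · exact ⟨1, R.one_mem, map_one _, by rw [hz0, mul_zero, mul_zero]; exact R.zero_mem⟩
  let T : Set (Place k K) := {Q | 1 < Q.1 z ∧ Q ∉ Sinf}
  have hTfin : T.Finite := by
    by_cases hzc : z ∈ Set.range (algebraMap k K)
    · convert Set.finite_empty
      ext Q
      simp only [Set.mem_empty_iff_false, iff_false]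
      rintro ⟨h, -⟩
      obtain ⟨c', hc'⟩ := hzc
      rw [← hc'] at h
      exact absurd (val_algebraMap_le Q c') (not_le.mpr h)
    · exact (poles_finite hK hzc).subset (fun Q hQ => hQ.1)
  have hrr : ∀ Q : Place k K, ∃ r ∈ R, (Q ∈ T → Q.1 r < 1) ∧ P.1 r = 1 := by
    intro Q
    by_cases hQ : Q ∈ T
    · obtain ⟨r, hr, h1, h2⟩ := hsep Q (fun i => by
        by_contra h
        exact hQ.2 ⟨i, not_le.mp h⟩) hQ.1
      exact ⟨r, hr, fun _ => h1, h2⟩
    · exact ⟨1, R.one_mem, fun h => absurd h hQ, map_one _⟩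
  choose rr hrrR hrr1 hrrP using hrr
  let m : Place k K → ℕ := fun Q => (-(Q.ord z)).toNat
  set r := ∏ Q ∈ hTfin.toFinset, rr Q ^ m Q with hr
  have hrR : r ∈ R := Subalgebra.prod_mem _ fun Q _ => Subalgebra.pow_mem _ (hrrR Q) _
  have hrP : P.1 r = 1 := by
    rw [hr, map_prod]
    apply Finset.prod_eq_one
    intro Q _
    rw [map_pow, hrrP, one_pow]
  have hr0 : r ≠ 0 := by
    intro h
    rw [h, map_zero] at hrP
    exact zero_ne_one hrP
  have hrz0 : r * z ≠ 0 := mul_ne_zero hr0 hz0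
  obtain ⟨n, hn⟩ : ∃ n : ℕ, r * z ∈ L (n • B) := by
    let n : ℕ := ∑ Q ∈ hSfin.toFinset, (-(Q.ord (r * z))).toNat
    refine ⟨n, ?_⟩
    intro Q
    by_cases hQ : Q ∈ Sinf
    · rw [val_eq_exp_neg_ord Q hrz0, exp_le_exp, Finsupp.smul_apply, nsmul_eq_mul]
      have h1 : (-(Q.ord (r * z))).toNat ≤ n :=
        Finset.single_le_sum (f := fun Q : Place k K => (-(Q.ord (r * z))).toNat)
          (fun _ _ => Nat.zero_le _) (hSfin.mem_toFinset.mpr hQ)
      have h2 := hBpos Q hQ
      have h3 : -(Q.ord (r * z)) ≤ (n : ℤ) := by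
        have := Int.self_le_toNat (-(Q.ord (r * z)))
        omega
      have h4 : (0 : ℤ) ≤ n := Nat.cast_nonneg n
      nlinarith
    · rw [Finsupp.smul_apply, hBzero Q hQ, smul_zero, exp_zero, map_mul]
      by_cases hQT : Q ∈ T
      · have hv : Q.1 r ≤ exp (-(m Q : ℤ)) := by
          rw [hr, ← Finset.mul_prod_erase _ _ (hTfin.mem_toFinset.mpr hQT), map_mul, map_pow]
          have h1 : Q.1 (rr Q) ≤ exp (-1) := lt_one_iff_le_exp_neg_one.mp (hrr1 Q hQT)
          have h2 : Q.1 (∏ Q' ∈ hTfin.toFinset.erase Q, rr Q' ^ m Q') ≤ 1 :=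
            hRint Q hQ _ (Subalgebra.prod_mem _ fun Q' _ => Subalgebra.pow_mem _ (hrrR Q') _)
          calc Q.1 (rr Q) ^ m Q * Q.1 (∏ Q' ∈ hTfin.toFinset.erase Q, rr Q' ^ m Q')
              ≤ exp (-1) ^ m Q * 1 := mul_le_mul' (pow_le_pow_left₀ zero_le h1 _) h2
            _ = exp (-(m Q : ℤ)) := by rw [mul_one, exp_neg_one_pow]
        have hvz : Q.1 z = exp (m Q : ℤ) := by
          rw [val_eq_exp_neg_ord Q hz0]
          congr 1
          have : Q.ord z < 0 := (one_lt_val_iff Q hz0).mp hQT.1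
          simp only [m]
          omega
        rw [hvz]
        calc Q.1 r * exp (m Q : ℤ) ≤ exp (-(m Q : ℤ)) * exp (m Q : ℤ) := mul_le_mul' hv le_rfl
          _ = 1 := by rw [← exp_add]; simp
      · have h1 : Q.1 z ≤ 1 := by
          by_contra h
          exact hQT ⟨not_le.mp h, hQ⟩
        exact mul_le_one' (hRint Q hQ r hrR) h1
  exact ⟨r, hrR, hrP, hcond n (r * z) hn⟩

/-- **Conductor bound**: functions vanishing to high order along the fibre of `φ(P)` belong to the
local ring of the birational projective map `φ` at `P` -/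
theorem exists_bound_inLocRing [IsAlgClosed k] (hK : IsFunctionField k K) {ι : Type*} [Fintype ι]
    [Nonempty ι] (φ : ι → K) (hφ0 : ∀ i, φ i ≠ 0)
    (hnc : ∀ j, ∃ i, φ i / φ j ∉ Set.range (algebraMap k K)) (i₀ : ι)
    (hbir : IntermediateField.adjoin k (Set.range fun i => φ i / φ i₀) = ⊤) (P : Place k K) :
    ∃ N : ℕ, ∀ z : K, (∀ Q : Place k K, SameImage φ P Q → Q.1 z ≤ exp (-(N : ℤ))) →
      InLocRing φ P z := by
  classical
  obtain ⟨j, hmax⟩ := exists_max_val φ P
  have hj0 := hφ0 j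
  obtain ⟨c, hcR, hc0, hc⟩ := exists_conductor_sep hK (fun i => φ i / φ j)
    (bir_chart φ i₀ j (hφ0 i₀) hj0 hbir)
  have hFfin := finite_sameImage hK φ hnc P
  refine ⟨∑ Q ∈ hFfin.toFinset, (Q.ord c).toNat, ?_⟩
  intro z hz
  set N := ∑ Q ∈ hFfin.toFinset, (Q.ord c).toNat with hN
  have hsepz : ∀ Q : Place k K, (∀ i, Q.1 (φ i / φ j) ≤ 1) → 1 < Q.1 (z / c) →
      ∃ r ∈ Algebra.adjoin k (Set.range fun i => φ i / φ j), Q.1 r < 1 ∧ P.1 r = 1 := by
    intro Q hQint hQz
    have hmaxQ : ∀ i, Q.1 (φ i) ≤ Q.1 (φ j) := fun i => (val_div_le_one Q hj0).mp (hQint i)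
    have hQF : ¬ SameImage φ P Q := by
      intro hS
      have h1 := hz Q hS
      have h2 : (Q.ord c).toNat ≤ N :=
        Finset.single_le_sum (f := fun Q : Place k K => (Q.ord c).toNat)
          (fun _ _ => Nat.zero_le _) (hFfin.mem_toFinset.mpr hS)
      have h3 : Q.1 (z / c) ≤ 1 := by
        rw [map_div₀, div_le_one₀ (zero_lt_iff.mpr (val_ne_zero Q hc0)), val_eq_exp_neg_ord Q hc0]
        refine le_trans h1 (exp_le_exp.mpr ?_)
        have := Int.self_le_toNat (Q.ord c)
        omega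
      exact absurd h3 (not_le.mpr hQz)
    have hex : ∃ i, ∀ c' : k, ¬ (P.1 (φ i / φ j - algebraMap k K c') < 1 ∧
        Q.1 (φ i / φ j - algebraMap k K c') < 1) := by
      by_contra hcon
      push Not at hcon
      exact hQF ⟨j, hj0, hmax, hmaxQ, fun i => by
        obtain ⟨c', h1, h2⟩ := hcon i
        exact ⟨c', h1, h2⟩⟩
    obtain ⟨i, hi⟩ := hex
    obtain ⟨cP, hcP⟩ := exists_sub_val_lt_one hK P ((val_div_le_one P hj0).mpr (hmax i))
    obtain ⟨cQ, hcQ⟩ := exists_sub_val_lt_one hK Q (hQint i)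
    have hne : cP ≠ cQ := by
      intro heq
      exact hi cP ⟨hcP, by rw [heq]; exact hcQ⟩
    have hd0 : cP - cQ ≠ 0 := sub_ne_zero.mpr hne
    have hxi : φ i / φ j ∈ Algebra.adjoin k (Set.range fun i => φ i / φ j) :=
      Algebra.subset_adjoin (Set.mem_range_self i)
    refine ⟨algebraMap k K (cP - cQ)⁻¹ * (φ i / φ j - algebraMap k K cQ),
      Subalgebra.mul_mem _ (Subalgebra.algebraMap_mem _ _)
        (Subalgebra.sub_mem _ hxi (Subalgebra.algebraMap_mem _ _)), ?_, ?_⟩
    · rw [map_mul, val_algebraMap Q (inv_ne_zero hd0), one_mul]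
      exact hcQ
    · rw [map_mul, val_algebraMap P (inv_ne_zero hd0), one_mul]
      have e : φ i / φ j - algebraMap k K cQ =
          algebraMap k K (cP - cQ) + (φ i / φ j - algebraMap k K cP) := by
        rw [map_sub]; ring
      rw [e, Valuation.map_add_eq_of_lt_left, val_algebraMap P hd0]
      rw [val_algebraMap P hd0]
      exact hcP
  obtain ⟨r, hrR, hrP, hmem⟩ := hc P (z / c) hsepz
  refine ⟨j, hj0, hmax, c * (r * (z / c)), hmem, r, hrR, hrP, ?_⟩
  field_simp

theorem sameImage_self [IsAlgClosed k] (hK : IsFunctionField k K) {ι : Type*} [Finite ι]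
    [Nonempty ι] (φ : ι → K) (hφ0 : ∀ i, φ i ≠ 0) (P : Place k K) : SameImage φ P P := by
  obtain ⟨j, hmax⟩ := exists_max_val φ P
  refine ⟨j, hφ0 j, hmax, hmax, fun i => ?_⟩
  obtain ⟨c, hc⟩ := exists_sub_val_lt_one hK P ((val_div_le_one P (hφ0 j)).mpr (hmax i))
  exact ⟨c, hc, hc⟩

/-- the fibre condition can be read in any chart valid at `P` -/
theorem sameImage_chart [IsAlgClosed k] (hK : IsFunctionField k K) {ι : Type*} [Finite ι]
    [Nonempty ι] (φ : ι → K) (hφ0 : ∀ i, φ i ≠ 0) {P Q : Place k K} (hS : SameImage φ P Q)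
    {j : ι} (hmax : ∀ i, P.1 (φ i) ≤ P.1 (φ j)) :
    (∀ i, Q.1 (φ i) ≤ Q.1 (φ j)) ∧
      Algebra.adjoin k (Set.range fun i => φ i / φ j) ≤ sameRes P Q := by
  have h := (sameImage_iff_locRing_le hK φ hφ0 P Q).mp hS
  have hj0 := hφ0 j
  have hmem : ∀ u ∈ Algebra.adjoin k (Set.range fun i => φ i / φ j), InLocRing φ P u :=
    fun u hu => ⟨j, hj0, hmax, u, hu, 1, Subalgebra.one_mem _, map_one _, mul_one u⟩
  have hx : ∀ i, φ i / φ j ∈ Algebra.adjoin k (Set.range fun i => φ i / φ j) :=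
    fun i => Algebra.subset_adjoin (Set.mem_range_self i)
  refine ⟨fun i => (val_div_le_one Q hj0).mp (h _ (hmem _ (hx i))).1, ?_⟩
  apply Algebra.adjoin_le
  rintro _ ⟨i, rfl⟩
  obtain ⟨c, hc⟩ := exists_sub_val_lt_one hK P ((val_div_le_one P hj0).mpr (hmax i))
  exact ⟨c, hc,
    (h _ (hmem _ (Subalgebra.sub_mem _ (hx i) (Subalgebra.algebraMap_mem _ c)))).2.mpr hc⟩

/-- places with different image points are separated by the affine coordinate ring -/
theorem exists_sep_of_not_sameImage [IsAlgClosed k] (hK : IsFunctionField k K) {ι : Type*}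
    (φ : ι → K) {P Q : Place k K} {j : ι} (hj0 : φ j ≠ 0) (hmaxP : ∀ i, P.1 (φ i) ≤ P.1 (φ j))
    (hmaxQ : ∀ i, Q.1 (φ i) ≤ Q.1 (φ j)) (h : ¬ SameImage φ P Q) :
    ∃ r ∈ Algebra.adjoin k (Set.range fun i => φ i / φ j), Q.1 r < 1 ∧ P.1 r = 1 := by
  have hex : ∃ i, ∀ c' : k, ¬ (P.1 (φ i / φ j - algebraMap k K c') < 1 ∧
      Q.1 (φ i / φ j - algebraMap k K c') < 1) := by
    by_contra hcon
    push Not at hcon
    exact h ⟨j, hj0, hmaxP, hmaxQ, fun i => by
      obtain ⟨c', h1, h2⟩ := hcon i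
      exact ⟨c', h1, h2⟩⟩
  obtain ⟨i, hi⟩ := hex
  obtain ⟨cP, hcP⟩ := exists_sub_val_lt_one hK P ((val_div_le_one P hj0).mpr (hmaxP i))
  obtain ⟨cQ, hcQ⟩ := exists_sub_val_lt_one hK Q ((val_div_le_one Q hj0).mpr (hmaxQ i))
  have hne : cP ≠ cQ := by
    intro heq
    exact hi cP ⟨hcP, by rw [heq]; exact hcQ⟩
  have hd0 : cP - cQ ≠ 0 := sub_ne_zero.mpr hne
  have hxi : φ i / φ j ∈ Algebra.adjoin k (Set.range fun i => φ i / φ j) :=
    Algebra.subset_adjoin (Set.mem_range_self i)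
  refine ⟨algebraMap k K (cP - cQ)⁻¹ * (φ i / φ j - algebraMap k K cQ),
    Subalgebra.mul_mem _ (Subalgebra.algebraMap_mem _ _)
      (Subalgebra.sub_mem _ hxi (Subalgebra.algebraMap_mem _ _)), ?_, ?_⟩
  · rw [map_mul, val_algebraMap Q (inv_ne_zero hd0), one_mul]
    exact hcQ
  · rw [map_mul, val_algebraMap P (inv_ne_zero hd0), one_mul]
    have e : φ i / φ j - algebraMap k K cQ =
        algebraMap k K (cP - cQ) + (φ i / φ j - algebraMap k K cP) := by
      rw [map_sub]; ring
    rw [e, Valuation.map_add_eq_of_lt_left, val_algebraMap P hd0]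
    rw [val_algebraMap P hd0]
    exact hcP

/-- **Hyperplane criterion**: a birational projective map is nonsingular at `P` iff some hyperplane
meets the image curve with multiplicity one at `φ(P)` -/
theorem isNonsingularAt_iff_exists_hyperplane [IsAlgClosed k] (hK : IsFunctionField k K)
    {ι : Type*} [Fintype ι] [Nonempty ι] (φ : ι → K) (hφ0 : ∀ i, φ i ≠ 0)
    (hnc : ∀ j, ∃ i, φ i / φ j ∉ Set.range (algebraMap k K)) (i₀ : ι)
    (hbir : IntermediateField.adjoin k (Set.range fun i => φ i / φ i₀) = ⊤) (P : Place k K) :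
    IsNonsingularAt φ P ↔ ∃ c : ι → k, ∑ i, c i • φ i ≠ 0 ∧
      ∑ᶠ Q ∈ {Q : Place k K | SameImage φ P Q},
        ((mapDiv k φ) Q + Q.ord (∑ i, c i • φ i)) = 1 := by
  classical
  constructor
  · intro hns
    have hF : {Q : Place k K | SameImage φ P Q} = {P} := by
      ext Q
      simp only [Set.mem_ofPred_eq, Set.mem_singleton_iff]
      constructor
      · intro hS
        symm
        apply eq_of_valuationRing_le
        intro y hy
        exact ((sameImage_iff_locRing_le hK φ hφ0 P Q).mp hS y (hns y hy)).1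
      · rintro rfl
        exact sameImage_self hK φ hφ0 Q
    have h2 := codim_two_of_isNonsingularAt hK φ hφ0 P hns P
    have h1 := finrank_inf_L_le_sub_single hK (Submodule.span k (Set.range φ)) (mapDiv k φ) P
    rw [deg_eq_one_of_isAlgClosed hK, inf_eq_left.mpr (span_le_L_mapDiv hK φ)] at h1
    obtain ⟨s, hsW, hsL, hsn⟩ := exists_mem_inf_not_mem hK (Submodule.span k (Set.range φ))
      (D := mapDiv k φ - Finsupp.single P 1) (P := P) (by omega)
    obtain ⟨c, hc⟩ := (Submodule.mem_span_range_iff_exists_fun k).mp hsW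
    have hs0 : s ≠ 0 := by
      rintro rfl
      exact hsn (Submodule.zero_mem _)
    refine ⟨c, by rw [hc]; exact hs0, ?_⟩
    rw [hF, finsum_mem_singleton, hc]
    have hv := val_eq_of_mem_L_of_not_mem hsL hsn
    rw [Finsupp.sub_apply, Finsupp.single_eq_same, val_eq_exp_neg_ord P hs0, exp_inj] at hv
    omega
  · rintro ⟨c, hs0, hsum⟩
    set s := ∑ i, c i • φ i with hs
    have hsW : s ∈ Submodule.span k (Set.range φ) :=
      Submodule.sum_mem _ fun i _ =>
        Submodule.smul_mem _ _ (Submodule.subset_span (Set.mem_range_self i))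
    obtain ⟨j, hmax, hvj⟩ := exists_chart_mapDiv hK φ hφ0 P
    have hj0 := hφ0 j
    set t := s / φ j with ht
    have htR : t ∈ Algebra.adjoin k (Set.range fun i => φ i / φ j) :=
      div_mem_adjoin_of_mem_span φ j hsW
    have ht0 : t ≠ 0 := div_ne_zero hs0 hj0
    have hFfin := finite_sameImage hK φ hnc P
    rw [finsum_mem_eq_finite_toFinset_sum _ hFfin] at hsum
    have hPF : P ∈ hFfin.toFinset := hFfin.mem_toFinset.mpr (sameImage_self hK φ hφ0 P)
    -- each term is the order of `t`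
    have hterm : ∀ Q ∈ hFfin.toFinset, (mapDiv k φ) Q + Q.ord s = Q.ord t := by
      intro Q hQ
      have hS := hFfin.mem_toFinset.mp hQ
      have hmaxQ := (sameImage_chart hK φ hφ0 hS hmax).1
      have hvjQ := (val_eq_exp_mapDiv_iff hK φ hφ0 Q j).mp hmaxQ
      rw [val_eq_exp_neg_ord Q hj0, exp_inj] at hvjQ
      rw [ht, div_eq_mul_inv, ord_mul Q hs0 (inv_ne_zero hj0), ord_inv]
      omega
    rw [Finset.sum_congr rfl hterm] at hsum
    have hmemS : ∀ Q ∈ hFfin.toFinset, t ∈ sameRes P Q := fun Q hQ =>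
      (sameImage_chart hK φ hφ0 (hFfin.mem_toFinset.mp hQ) hmax).2 htR
    have hnn : ∀ Q ∈ hFfin.toFinset, 0 ≤ Q.ord t := fun Q hQ =>
      (val_le_one_iff Q ht0).mp (val_le_one_of_mem_sameRes (hmemS Q hQ))
    have hPt : P.1 t < 1 := by
      by_contra hge
      have hall : ∀ Q ∈ hFfin.toFinset, Q.ord t = 0 := by
        intro Q hQ
        have h1 : ¬ Q.1 t < 1 := fun h => hge ((val_lt_one_iff_of_mem_sameRes (hmemS Q hQ)).mp h)
        rw [val_lt_one_iff Q ht0] at h1
        have := hnn Q hQ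
        omega
      rw [Finset.sum_eq_zero hall] at hsum
      exact zero_ne_one hsum
    have hpos : ∀ Q ∈ hFfin.toFinset, 1 ≤ Q.ord t := fun Q hQ =>
      (val_lt_one_iff Q ht0).mp ((val_lt_one_iff_of_mem_sameRes (hmemS Q hQ)).mpr hPt)
    rw [← Finset.add_sum_erase _ _ hPF] at hsum
    have h1 := hpos P hPF
    have h2 : ((hFfin.toFinset.erase P).card : ℤ) ≤ ∑ Q ∈ hFfin.toFinset.erase P, Q.ord t := by
      have := Finset.card_nsmul_le_sum (hFfin.toFinset.erase P) (fun Q => Q.ord t) 1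
        (fun Q hQ => hpos Q (Finset.mem_of_mem_erase hQ))
      simpa using this
    have hcard : (hFfin.toFinset.erase P).card = 0 := by omega
    have hordP : P.ord t = 1 := by
      rw [Finset.card_eq_zero] at hcard
      rw [hcard, Finset.sum_empty, add_zero] at hsum
      exact hsum
    have hFsub : ∀ Q, SameImage φ P Q → Q = P := by
      intro Q hS
      by_contra hne
      have : Q ∈ hFfin.toFinset.erase P :=
        Finset.mem_erase.mpr ⟨hne, hFfin.mem_toFinset.mpr hS⟩
      rw [Finset.card_eq_zero] at hcard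
      rw [hcard] at this
      exact absurd this (Finset.notMem_empty Q)
    have hkey := inLoc_of_sep_of_tan hK (fun i => φ i / φ j) P
      (fun i => (val_div_le_one P hj0).mpr (hmax i))
      (bir_chart φ i₀ j (hφ0 i₀) hj0 hbir)
      (fun Q hQP hQint => exists_sep_of_not_sameImage hK φ hj0 hmax
        (fun i => (val_div_le_one Q hj0).mp (hQint i)) (fun hS => hQP (hFsub Q hS)))
      ⟨t, htR, by rw [val_eq_exp_neg_ord P ht0, hordP]⟩
    intro z hz
    obtain ⟨u, hu, w, hw, hw1, hzw⟩ := hkey z hz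
    exact ⟨j, hj0, hmax, u, hu, w, hw, hw1, hzw⟩

end Groth.Agent.Lib.helper16.FF
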