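import Groth.Agent.Lib.helper16.FFG0

/-! Helper library (helper16): small Riemann–Roch consequences used for genus-two rows. -/

set_option autoImplicit false

namespace Groth.Agent.Lib.helper16.FF

open FunFld WithZero Polynomial Module
open scoped IntermediateField

variable {k K : Type*} [Field k] [Field K] [Algebra k K]

theorem one_mem_L_of_nonneg (hK : IsFunctionField k K) {D : Divisor k K} (hD : 0 ≤ D) :
    (1 : K) ∈ L D := by
  apply L_mono hD
  rw [L_zero_eq_one hK]
  exact Submodule.one_le.mp le_rfl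

theorem one_not_mem_L_of_neg {D : Divisor k K} {Q : Place k K}
    (hQ : D Q < 0) : (1 : K) ∉ L D := by
  intro h
  have h1 := h Q
  rw [map_one, ← exp_zero, exp_le_exp] at h1
  omega

/-- if `D ≥ 0` and `D(Q) = 0` then `ℓ(D - Q) < ℓ(D)` (the constants do not vanish at `Q`) -/
theorem ell_sub_single_lt_of_nonneg (hK : IsFunctionField k K) {D : Divisor k K} (hD : 0 ≤ D)
    {Q : Place k K} (hQ : D Q = 0) :
    ell (D - Finsupp.single Q (1 : ℤ)) < ell D := by
  have hfd := finiteDimensional_L hK D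
  have hle : L (D - Finsupp.single Q (1 : ℤ)) ≤ L D := by
    apply L_mono
    rw [sub_le_self_iff]
    exact Finsupp.single_nonneg.mpr zero_le_one
  have hne : L (D - Finsupp.single Q (1 : ℤ)) ≠ L D := by
    intro h
    have h1 : (1 : K) ∈ L (D - Finsupp.single Q (1 : ℤ)) := by
      rw [h]; exact one_mem_L_of_nonneg hK hD
    refine one_not_mem_L_of_neg (Q := Q) ?_ h1
    rw [Finsupp.sub_apply, hQ, Finsupp.single_eq_same]
    omega
  exact Submodule.finrank_lt_finrank_of_lt (lt_of_le_of_ne hle hne)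

/-- a divisor of degree zero with `ℓ > 0` is minus a principal divisor -/
theorem exists_div_eq_neg_of_ell_pos (hK : IsFunctionField k K) {E : Divisor k K}
    (hE : E.deg = 0) (h : 0 < ell E) : ∃ x : K, x ≠ 0 ∧ FunFld.div k x = -E := by
  obtain ⟨x, hx0, hx⟩ := exists_ne_zero_mem_L hK h
  exact ⟨x, hx0, div_eq_neg_of_mem_L_of_deg_eq_zero hK hE hx0 hx⟩

/-- a divisor of degree one with `ℓ > 0` is linearly equivalent to a place of degree one -/
theorem exists_single_eq_of_ell_pos (hK : IsFunctionField k K) {E : Divisor k K}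
    (hE : E.deg = 1) (h : 0 < ell E) :
    ∃ (x : K) (R : Place k K), x ≠ 0 ∧ E + FunFld.div k x = Finsupp.single R (1 : ℤ) := by
  obtain ⟨x, hx0, hx⟩ := exists_ne_zero_mem_L hK h
  have h1 := (nonneg_add_div_iff hK E hx0).mp hx
  have h2 : (E + FunFld.div k x).deg = 1 := by
    rw [deg_add, hE, deg_div_eq_zero hK x, add_zero]
  obtain ⟨R, -, hR⟩ := eq_single_of_deg_eq_one hK h1 h2
  exact ⟨x, R, hx0, hR⟩

/-- Grassmann inequality inside a finite-dimensional ambient subspace -/
theorem finrank_add_finrank_le_inf {W X Y : Submodule k K} [FiniteDimensional k W]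
    (hX : X ≤ W) (hY : Y ≤ W) :
    finrank k ↥X + finrank k ↥Y ≤ finrank k ↥W + finrank k ↥(X ⊓ Y) := by
  have hfX : FiniteDimensional k X := Submodule.finiteDimensional_of_le hX
  have hfY : FiniteDimensional k Y := Submodule.finiteDimensional_of_le hY
  have h1 := Submodule.finrank_sup_add_finrank_inf_eq X Y
  have h2 : finrank k ↥(X ⊔ Y) ≤ finrank k ↥W := Submodule.finrank_mono (sup_le hX hY)
  omega

/-- functions with poles only at `A` (order `≤ a`) that vanish to order `n` at `Q ≠ A` as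
sections of `O(bA)` lie in `L(aA - nQ)` -/
theorem L_single_inf_L_sub_le {A Q : Place k K} (hQA : Q ≠ A) (a b n : ℤ) :
    L (Finsupp.single A a) ⊓ L (Finsupp.single A b - Finsupp.single Q n) ≤
      L (Finsupp.single A a - Finsupp.single Q n) := by
  rintro x ⟨h1, h2⟩ P
  by_cases hP : P = Q
  · subst hP
    have := h2 P
    rw [Finsupp.sub_apply, Finsupp.single_eq_same, Finsupp.single_eq_of_ne hQA] at this
    rw [Finsupp.sub_apply, Finsupp.single_eq_same, Finsupp.single_eq_of_ne hQA]
    exact this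
  · have := h1 P
    rw [Finsupp.sub_apply, Finsupp.single_eq_of_ne hP, sub_zero]
    exact this

/-- genus one: `ℓ(D) = deg D` for `deg D ≥ 1` -/
theorem ell_eq_deg_of_genus_one (hK : IsFunctionField k K) (hg : genus k K = 1) {D : Divisor k K}
    (hD : 1 ≤ D.deg) : (ell D : ℤ) = D.deg := by
  have := ell_eq_of_deg_ge hK (D := D) (by rw [hg]; push_cast; omega)
  rw [hg] at this
  push_cast at this
  omega

/-- in positive genus two distinct places of degree one are not linearly equivalent -/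
theorem ell_single_sub_single_eq_zero (hK : IsFunctionField k K) (hg : 0 < genus k K)
    {A Q : Place k K} (hA : A.deg = 1) (hQA : Q ≠ A) :
    ell (Finsupp.single A (1 : ℤ) - Finsupp.single Q (1 : ℤ) : Divisor k K) = 0 := by
  have h1 := ell_sub_single_lt_of_nonneg hK (D := Finsupp.single A (1 : ℤ))
    (Finsupp.single_nonneg.mpr zero_le_one) (Q := Q) (Finsupp.single_eq_of_ne hQA)
  rw [ell_single_eq_one hK hg hA] at h1
  omega

/-- in positive genus, `(2m+1)(A - Q)` and `(2m+3)(A - Q)` are not both principal for `Q ≠ A` -/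
theorem not_both_principal_odd (hK : IsFunctionField k K) (hg : 0 < genus k K)
    {A Q : Place k K} (hA : A.deg = 1) (hQ : Q.deg = 1) (hQA : Q ≠ A) (m : ℕ)
    (h1 : 0 < ell (Finsupp.single A (2 * (m : ℤ) + 1) - Finsupp.single Q (2 * (m : ℤ) + 1) :
      Divisor k K))
    (h2 : 0 < ell (Finsupp.single A (2 * (m : ℤ) + 3) - Finsupp.single Q (2 * (m : ℤ) + 3) :
      Divisor k K)) : False := by
  have hd1 : Divisor.deg (k := k) (K := K)
      (Finsupp.single A (2 * (m : ℤ) + 1) - Finsupp.single Q (2 * (m : ℤ) + 1)) = 0 := by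
    rw [deg_sub, deg_single, deg_single, hA, hQ]; ring
  have hd2 : Divisor.deg (k := k) (K := K)
      (Finsupp.single A (2 * (m : ℤ) + 3) - Finsupp.single Q (2 * (m : ℤ) + 3)) = 0 := by
    rw [deg_sub, deg_single, deg_single, hA, hQ]; ring
  obtain ⟨x, hx0, hx⟩ := exists_div_eq_neg_of_ell_pos hK hd1 h1
  obtain ⟨y, hy0, hy⟩ := exists_div_eq_neg_of_ell_pos hK hd2 h2
  have hxy : x * y⁻¹ ≠ 0 := mul_ne_zero hx0 (inv_ne_zero hy0)
  have hw0 : x * (x * y⁻¹) ^ m ≠ 0 := mul_ne_zero hx0 (pow_ne_zero _ hxy)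
  have hw : FunFld.div k (x * (x * y⁻¹) ^ m)⁻¹ =
      Finsupp.single A (1 : ℤ) - Finsupp.single Q (1 : ℤ) := by
    rw [div_inv hK, FF.div_mul hK hx0 (pow_ne_zero _ hxy), div_pow hK, FF.div_mul hK hx0
      (inv_ne_zero hy0), div_inv hK, hx, hy]
    rw [← Finsupp.smul_single_one A (2 * (m : ℤ) + 1), ← Finsupp.smul_single_one Q (2 * (m : ℤ) + 1),
      ← Finsupp.smul_single_one A (2 * (m : ℤ) + 3), ← Finsupp.smul_single_one Q (2 * (m : ℤ) + 3)]
    rw [← natCast_zsmul]
    module
  have h3 : ell (Finsupp.single A (1 : ℤ) - Finsupp.single Q (1 : ℤ) : Divisor k K) = 1 := by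
    have : (Finsupp.single A (1 : ℤ) - Finsupp.single Q (1 : ℤ) : Divisor k K) =
        0 + FunFld.div k (x * (x * y⁻¹) ^ m)⁻¹ := by rw [hw, zero_add]
    rw [this, ell_add_div hK _ (inv_ne_zero hw0), ell_zero hK]
  rw [ell_single_sub_single_eq_zero hK hg hA hQA] at h3
  omega

end Groth.Agent.Lib.helper16.FF
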