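import Groth.Agent.Lib.helper16.FFMore

/-! Helper library (helper16): Weierstrass gaps at a place of degree one. -/

set_option autoImplicit false

namespace Groth.Agent.Lib.helper16.FF

open FunFld WithZero Polynomial Module
open scoped IntermediateField

variable {k K : Type*} [Field k] [Field K] [Algebra k K]

open scoped Classical in
/-- the number of gaps in `[1, m]` at `P` -/
noncomputable def gapCount (P : Place k K) (m : ℕ) : ℕ :=
  ((Finset.Icc 1 m).filter (fun j : ℕ =>
    L (Finsupp.single P (j : ℤ)) = L (Finsupp.single P ((j : ℤ) - 1)))).card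

theorem gapCount_zero (P : Place k K) : gapCount P 0 = 0 := by
  simp [gapCount]

open scoped Classical in
theorem gapCount_succ (P : Place k K) (m : ℕ) :
    gapCount P (m + 1) = gapCount P m +
      if L (Finsupp.single P ((m + 1 : ℕ) : ℤ)) = L (Finsupp.single P (((m + 1 : ℕ) : ℤ) - 1))
        then 1 else 0 := by
  unfold gapCount
  have h1 : Finset.Icc 1 (m + 1) = insert (m + 1) (Finset.Icc 1 m) := by
    ext j
    simp only [Finset.mem_Icc, Finset.mem_insert]
    omega
  rw [h1, Finset.filter_insert]
  split_ifs with h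
  · rw [Finset.card_insert_of_notMem]
    intro hmem
    rw [Finset.mem_filter, Finset.mem_Icc] at hmem
    omega
  · rfl

theorem gapCount_mono (P : Place k K) {a b : ℕ} (h : a ≤ b) : gapCount P a ≤ gapCount P b := by
  classical
  unfold gapCount
  apply Finset.card_le_card
  apply Finset.filter_subset_filter
  intro j hj
  rw [Finset.mem_Icc] at hj ⊢
  omega

open scoped Classical in
theorem ell_single_succ (hK : IsFunctionField k K) {P : Place k K} (hP : P.deg = 1) (m : ℤ) :
    ell (Finsupp.single P m) = ell (Finsupp.single P (m - 1)) +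
      if L (Finsupp.single P m) = L (Finsupp.single P (m - 1)) then 0 else 1 := by
  have hle : L (Finsupp.single P (m - 1)) ≤ L (Finsupp.single P m) :=
    L_single_mono P (by omega)
  have hfd := finiteDimensional_L hK (Finsupp.single P m)
  split_ifs with h
  · unfold ell
    rw [h, add_zero]
  · have hlt : L (Finsupp.single P (m - 1)) < L (Finsupp.single P m) :=
      lt_of_le_of_ne hle (Ne.symm h)
    have h1 := Submodule.finrank_lt_finrank_of_lt hlt
    have h2 := ell_sub_ell_le hK (D₁ := Finsupp.single P (m - 1)) (D₂ := Finsupp.single P m)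
      (Finsupp.single_mono (by omega))
    rw [deg_single, deg_single, hP] at h2
    unfold ell at *
    push_cast at h2
    omega

/-- `ℓ(mP) + #gaps in [1,m] = m + 1` -/
theorem ell_add_gapCount (hK : IsFunctionField k K) {P : Place k K} (hP : P.deg = 1) (m : ℕ) :
    ell (Finsupp.single P (m : ℤ)) + gapCount P m = m + 1 := by
  classical
  induction m with
  | zero =>
    rw [gapCount_zero]
    simp only [Nat.cast_zero, Finsupp.single_zero, add_zero, zero_add]
    exact ell_zero hK
  | succ m ih =>
    rw [gapCount_succ, ell_single_succ hK hP]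
    have hcast : ((m + 1 : ℕ) : ℤ) - 1 = (m : ℤ) := by push_cast; ring
    rw [hcast]
    split_ifs <;> omega

theorem gapCount_eq_genus (hK : IsFunctionField k K) {P : Place k K} (hP : P.deg = 1) {m : ℕ}
    (hm : 2 * (genus k K : ℤ) - 1 ≤ m) : gapCount P m = genus k K := by
  have h1 := ell_add_gapCount hK hP m
  have h2 := ell_eq_of_deg_ge hK (D := Finsupp.single P (m : ℤ)) (by
    rw [deg_single, hP]; simpa using hm)
  rw [deg_single, hP] at h2
  have h3 : ((ell (Finsupp.single P (m : ℤ)) + gapCount P m : ℕ) : ℤ) = ((m + 1 : ℕ) : ℤ) := by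
    rw [h1]
  push_cast at h2 h3
  have : (gapCount P m : ℤ) = genus k K := by omega
  exact_mod_cast this

theorem gapCount_pred_of_gap (P : Place k K) {n : ℕ} (hn : 1 ≤ n)
    (hgap : L (Finsupp.single P (n : ℤ)) = L (Finsupp.single P ((n : ℤ) - 1))) :
    n - 1 ≤ 2 * gapCount P (n - 1) := by
  classical
  have h := gaps_count P n hn hgap
  have hset : {m : ℕ | 1 ≤ m ∧ m < n ∧
      L (Finsupp.single P (m : ℤ)) = L (Finsupp.single P ((m : ℤ) - 1))} =
      ↑((Finset.Icc 1 (n - 1)).filter (fun j : ℕ =>
        L (Finsupp.single P (j : ℤ)) = L (Finsupp.single P ((j : ℤ) - 1)))) := by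
    ext m
    simp only [Finset.coe_filter, Finset.mem_Icc, Set.mem_ofPred_eq]
    constructor
    · rintro ⟨h1, h2, h3⟩; exact ⟨⟨h1, by omega⟩, h3⟩
    · rintro ⟨⟨h1, h2⟩, h3⟩; exact ⟨h1, by omega, h3⟩
  rw [hset, Set.ncard_coe_finset] at h
  exact h

/-- the `l`-th gap is at most `2l - 1` -/
theorem le_gapCount (hK : IsFunctionField k K) {P : Place k K} (hP : P.deg = 1) (l : ℕ)
    (hl : 1 ≤ l) (hlg : l ≤ genus k K) : l ≤ gapCount P (2 * l - 1) := by
  classical
  by_contra hcon
  push Not at hcon
  -- there is some `m > 2l-1` with larger gap count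
  have hex : ∃ m : ℕ, gapCount P (2 * l - 1) < gapCount P m := by
    refine ⟨2 * genus k K, ?_⟩
    rw [gapCount_eq_genus hK hP (m := 2 * genus k K) (by push_cast; omega)]
    omega
  let m := Nat.find hex
  have hm : gapCount P (2 * l - 1) < gapCount P m := Nat.find_spec hex
  have hm0 : m ≠ 0 := by
    intro h
    rw [h, gapCount_zero] at hm
    omega
  obtain ⟨m', hm'⟩ : ∃ m', m = m' + 1 := ⟨m - 1, by omega⟩
  have hmin : ¬ gapCount P (2 * l - 1) < gapCount P m' :=
    Nat.find_min hex (by omega : m' < m)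
  have hsucc := gapCount_succ P m'
  rw [← hm'] at hsucc
  have hgap : L (Finsupp.single P (m : ℤ)) = L (Finsupp.single P ((m : ℤ) - 1)) := by
    by_contra hng
    rw [if_neg hng] at hsucc
    omega
  have hmgt : 2 * l - 1 < m := by
    by_contra hle
    push Not at hle
    have := gapCount_mono P hle
    omega
  have h1 := gapCount_pred_of_gap P (by omega : 1 ≤ m) hgap
  have h2 : m - 1 = m' := by omega
  rw [h2] at h1
  have h3 : gapCount P m' ≤ gapCount P (2 * l - 1) := by omega
  omega

theorem gapCount_eq_ncard (P : Place k K) (m : ℕ) :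
    Set.ncard {j : ℕ | 1 ≤ j ∧ j ≤ m ∧
      L (Finsupp.single P (j : ℤ)) = L (Finsupp.single P ((j : ℤ) - 1))} = gapCount P m := by
  classical
  have hset : {j : ℕ | 1 ≤ j ∧ j ≤ m ∧
      L (Finsupp.single P (j : ℤ)) = L (Finsupp.single P ((j : ℤ) - 1))} =
      ↑((Finset.Icc 1 m).filter (fun j : ℕ =>
        L (Finsupp.single P (j : ℤ)) = L (Finsupp.single P ((j : ℤ) - 1)))) := by
    ext j
    simp only [Finset.coe_filter, Finset.mem_Icc, Set.mem_ofPred_eq]
    constructor
    · rintro ⟨h1, h2, h3⟩; exact ⟨⟨h1, h2⟩, h3⟩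
    · rintro ⟨⟨h1, h2⟩, h3⟩; exact ⟨h1, h2, h3⟩
  rw [hset, Set.ncard_coe_finset]
  rfl

/-- Clifford's bound for multiples of a point -/
theorem two_mul_ell_single_le (hK : IsFunctionField k K) {P : Place k K} (hP : P.deg = 1) (n : ℕ)
    (hn : (n : ℤ) ≤ 2 * (genus k K : ℤ) - 2) :
    2 * ell (Finsupp.single P (n : ℤ)) ≤ n + 2 := by
  have h1 := ell_add_gapCount hK hP n
  rcases Nat.eq_zero_or_pos n with h0 | h0
  · subst h0
    rw [gapCount_zero] at h1
    omega
  · have h2 := le_gapCount hK hP ((n + 1) / 2) (by omega) (by omega)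
    have h3 := gapCount_mono P (show 2 * ((n + 1) / 2) - 1 ≤ n by omega)
    omega

end Groth.Agent.Lib.helper16.FF

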