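import Groth.Agent.Lib.helper16.FFBasic

/-! Helper library (helper16): the fundamental inequality for zeros of an element. -/

set_option autoImplicit false

namespace Groth.Agent.Lib.helper16.FF

open FunFld WithZero Polynomial
open scoped IntermediateField IntermediateField.algebraAdjoinAdjoin

variable {k K : Type*} [Field k] [Field K] [Algebra k K]

/-- polynomial independence over `k[x]` bounds the cardinality by `[K : k(x)]` -/
theorem card_le_finrank_of_polynomial_indep (x : K) [FiniteDimensional k⟮x⟯ K]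
    {α : Type*} [Fintype α] (Z : α → K)
    (h : ∀ p : α → k[X], ∑ a, aeval x (p a) * Z a = 0 → ∀ a, p a = 0) :
    Fintype.card α ≤ Module.finrank k⟮x⟯ K := by
  classical
  have hA : LinearIndependent (Algebra.adjoin k {x}) Z := by
    rw [Fintype.linearIndependent_iff]
    intro g hg a
    have hmem : ∀ a, ∃ p : k[X], aeval x p = (g a : K) := by
      intro a
      have h1 : (g a : K) ∈ (aeval (R := k) x).range := by
        rw [← Algebra.adjoin_singleton_eq_range_aeval]
        exact (g a).2
      exact h1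
    choose p hp using hmem
    have := h p (by
      rw [← hg]
      apply Finset.sum_congr rfl
      intro a _
      rw [hp a]
      rfl) a
    apply Subtype.ext
    rw [← hp a, this, map_zero]
    rfl
  have hF : LinearIndependent k⟮x⟯ Z :=
    (LinearIndependent.iff_fractionRing (Algebra.adjoin k {x}) k⟮x⟯).mp hA
  exact hF.fintype_card_le_finrank

theorem val_aeval_le_one (P : Place k K) {x : K} (hx : P.1 x ≤ 1) (q : k[X]) :
    P.1 (aeval x q) ≤ 1 := by
  rw [aeval_eq_sum_range]
  apply Valuation.map_sum_le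
  intro i _
  refine le_trans (val_smul_le P _ _) ?_
  rw [map_pow]
  exact pow_le_one₀ zero_le hx

theorem val_aeval_sub_le (P : Place k K) {x : K} (hx : P.1 x ≤ 1) (q : k[X]) :
    P.1 (aeval x q - algebraMap k K (q.eval 0)) ≤ P.1 x := by
  have h1 : q = divX q * X + C (q.coeff 0) := (divX_mul_X_add q).symm
  have h2 : aeval x q - algebraMap k K (q.eval 0) = aeval x (divX q) * x := by
    conv_lhs => rw [h1]
    rw [← coeff_zero_eq_eval_zero]
    simp
  rw [h2, map_mul]
  calc _ ≤ 1 * P.1 x := by gcongr; exact val_aeval_le_one P hx _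
    _ = _ := one_mul _

/-- The core step of the fundamental inequality. -/
theorem core_lemma {ι A : Type*} [Fintype ι] [DecidableEq ι] [Fintype A] [DecidableEq A]
    (P : ι → Place k K) (x : K) (e : ι → ℕ) (he : ∀ i, (P i).1 x = exp (-(e i : ℤ)))
    (pl : A → ι) (s : A → K) (hs : ∀ a, (P (pl a)).1 (s a) ≤ 1)
    (hind : ∀ i (c : A → k), (P i).1 (∑ a, if pl a = i then c a • s a else 0) < 1 →
      ∀ a, pl a = i → c a = 0)
    (t : ι → K) (ht1 : ∀ i, (P i).1 (t i) = exp (-1)) (ht2 : ∀ i j, i ≠ j → (P j).1 (t i) = 1)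
    (z : A → K) (hz1 : ∀ a, (P (pl a)).1 (z a - s a) < 1)
    (hz2 : ∀ a j, j ≠ pl a → (P j).1 (z a) ≤ exp (-(e j : ℤ)))
    (q : (Σ a : A, Fin (e (pl a))) → k[X])
    (hrel : ∑ α, aeval x (q α) * (t (pl α.1) ^ (α.2 : ℕ) * z α.1) = 0) :
    ∀ α, (q α).eval 0 = 0 := by
  classical
  by_contra hcon
  push Not at hcon
  obtain ⟨α₀, hα₀⟩ := hcon
  set k₀ := pl α₀.1 with hk₀
  have hex : ∃ n : ℕ, ∃ α : (Σ a : A, Fin (e (pl a))), pl α.1 = k₀ ∧ (α.2 : ℕ) = n ∧
      (q α).eval 0 ≠ 0 := ⟨_, α₀, rfl, rfl, hα₀⟩
  let c := Nat.find hex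
  obtain ⟨α₁, hα₁k, hα₁c, hα₁q⟩ := Nat.find_spec hex
  have hmin : ∀ α : (Σ a : A, Fin (e (pl a))), pl α.1 = k₀ → (α.2 : ℕ) < c → (q α).eval 0 = 0 := by
    intro α hαk hαc
    by_contra hne
    exact Nat.find_min hex hαc ⟨α, hαk, rfl, hne⟩
  have hc : c < e k₀ := by
    have h1 : (α₁.2 : ℕ) < e (pl α₁.1) := α₁.2.2
    have h2 : e (pl α₁.1) = e k₀ := congrArg e hα₁k
    omega
  have hx1 : ∀ i, (P i).1 x ≤ 1 := by
    intro i; rw [he i, ← exp_zero, exp_le_exp]; omega
  have hz3 : ∀ a, (P (pl a)).1 (z a) ≤ 1 := by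
    intro a
    have : z a = (z a - s a) + s a := by ring
    rw [this]
    exact le_trans ((P (pl a)).1.map_add _ _) (max_le (hz1 a).le (hs a))
  let v := (P k₀).1
  let T : K := ((t k₀)⁻¹) ^ c
  have hvT : v T = exp (c : ℤ) := by
    simp only [T, v, map_pow, map_inv₀, ht1 k₀, ← exp_neg, neg_neg, ← exp_nsmul]
    simp
  have htk0 : t k₀ ≠ 0 := by
    intro h
    have := ht1 k₀
    rw [h, map_zero] at this
    exact exp_ne_zero this.symm
  -- the coefficient function
  let cf : A → k := fun a => if h : pl a = k₀ then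
    (q ⟨a, ⟨c, by rw [h]; exact hc⟩⟩).eval 0 else 0
  let main : (Σ a : A, Fin (e (pl a))) → K := fun α =>
    if pl α.1 = k₀ ∧ (α.2 : ℕ) = c then algebraMap k K ((q α).eval 0) * s α.1 else 0
  let term : (Σ a : A, Fin (e (pl a))) → K := fun α =>
    aeval x (q α) * (t (pl α.1) ^ (α.2 : ℕ) * z α.1) * T
  have hD : (∑ a, if pl a = k₀ then cf a • s a else 0) = ∑ α, main α := by
    rw [Fintype.sum_sigma]
    apply Finset.sum_congr rfl
    intro a _
    by_cases h : pl a = k₀
    · rw [if_pos h]
      have hc' : c < e (pl a) := by rw [h]; exact hc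
      rw [Finset.sum_eq_single (⟨c, hc'⟩ : Fin (e (pl a)))]
      · simp only [main, cf, h, dif_pos, true_and, if_true, Algebra.smul_def]
      · intro n _ hn
        have : (n : ℕ) ≠ c := fun h' => hn (Fin.ext h')
        simp only [main, this, and_false, if_false]
      · intro h'; exact absurd (Finset.mem_univ _) h'
    · rw [if_neg h]
      symm
      apply Finset.sum_eq_zero
      intro n _
      simp only [main, h, false_and, if_false]
  have hterm : ∑ α, term α = 0 := by
    simp only [term]
    rw [← Finset.sum_mul, hrel, zero_mul]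
  have hDsum : (∑ a, if pl a = k₀ then cf a • s a else 0) = ∑ α, (main α - term α) := by
    rw [Finset.sum_sub_distrib, hterm, sub_zero, hD]
  have hlt : v (∑ a, if pl a = k₀ then cf a • s a else 0) < 1 := by
    rw [hDsum]
    apply Valuation.map_sum_lt _ one_ne_zero
    rintro ⟨a, n⟩ -
    by_cases hi : pl a = k₀
    · have hta : t (pl a) = t k₀ := congrArg t hi
      have hza : v (z a) ≤ 1 := by
        have := hz3 a
        have hP : P (pl a) = P k₀ := congrArg P hi
        rw [hP] at this
        exact this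
      rcases lt_trichotomy (n : ℕ) c with hn | hn | hn
      · -- n < c
        have hq0 : (q ⟨a, n⟩).eval 0 = 0 := hmin ⟨a, n⟩ hi hn
        have hmain : main ⟨a, n⟩ = 0 := by
          simp only [main, hn.ne, and_false, if_false]
        rw [hmain, zero_sub, Valuation.map_neg]
        have h1 : v (aeval x (q ⟨a, n⟩)) ≤ exp (-(e k₀ : ℤ)) := by
          have := val_aeval_sub_le (P k₀) (hx1 k₀) (q ⟨a, n⟩)
          rw [hq0, map_zero, sub_zero, he k₀] at this
          exact this
        simp only [term, hta, map_mul, map_pow]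
        change v (aeval x (q ⟨a, n⟩)) * (v (t k₀) ^ (n : ℕ) * v (z a)) * v T < 1
        rw [hvT]
        calc v (aeval x (q ⟨a, n⟩)) * (v (t k₀) ^ (n : ℕ) * v (z a)) * exp (c : ℤ)
            ≤ exp (-(e k₀ : ℤ)) * (1 * 1) * exp (c : ℤ) := by
              gcongr
              · rw [show v (t k₀) = exp (-1) from ht1 k₀]
                exact pow_le_one₀ zero_le (by rw [← exp_zero, exp_le_exp]; omega)
          _ = exp (-(e k₀ : ℤ) + c) := by rw [mul_one, mul_one, ← exp_add]
          _ < 1 := by rw [← exp_zero, exp_lt_exp]; omega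
      · -- n = c
        have hmain : main ⟨a, n⟩ = algebraMap k K ((q ⟨a, n⟩).eval 0) * s a := by
          simp only [main, hi, hn, and_self, if_true]
        have hterm' : term ⟨a, n⟩ = aeval x (q ⟨a, n⟩) * z a := by
          simp only [term, hta, hn, T]
          rw [inv_pow]
          field_simp
        rw [hmain, hterm']
        have hsplit : algebraMap k K ((q ⟨a, n⟩).eval 0) * s a - aeval x (q ⟨a, n⟩) * z a =
            -(aeval x (q ⟨a, n⟩) - algebraMap k K ((q ⟨a, n⟩).eval 0)) * s a +
              -(aeval x (q ⟨a, n⟩) * (z a - s a)) := by ring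
        rw [hsplit]
        have hsa : v (s a) ≤ 1 := by
          have := hs a
          have hP : P (pl a) = P k₀ := congrArg P hi
          rw [hP] at this
          exact this
        have hzs : v (z a - s a) < 1 := by
          have := hz1 a
          have hP : P (pl a) = P k₀ := congrArg P hi
          rw [hP] at this
          exact this
        have hxlt : v x < 1 := by
          change (P k₀).1 x < 1
          rw [he k₀, ← exp_zero, exp_lt_exp]; omega
        refine lt_of_le_of_lt (v.map_add _ _) (max_lt ?_ ?_)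
        · rw [map_mul, Valuation.map_neg]
          calc _ ≤ v x * 1 := by
                gcongr
                exact val_aeval_sub_le (P k₀) (hx1 k₀) _
            _ < 1 := by rw [mul_one]; exact hxlt
        · rw [Valuation.map_neg, map_mul]
          calc _ ≤ 1 * v (z a - s a) := by
                gcongr
                exact val_aeval_le_one (P k₀) (hx1 k₀) _
            _ < 1 := by rw [one_mul]; exact hzs
      · -- c < n
        have hmain : main ⟨a, n⟩ = 0 := by
          simp only [main, hn.ne', and_false, if_false]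
        rw [hmain, zero_sub, Valuation.map_neg]
        simp only [term, hta, map_mul, map_pow]
        change v (aeval x (q ⟨a, n⟩)) * (v (t k₀) ^ (n : ℕ) * v (z a)) * v T < 1
        rw [hvT, show v (t k₀) = exp (-1) from ht1 k₀, ← exp_nsmul]
        calc v (aeval x (q ⟨a, n⟩)) * (exp ((n : ℕ) • (-1 : ℤ)) * v (z a)) * exp (c : ℤ)
            ≤ 1 * (exp ((n : ℕ) • (-1 : ℤ)) * 1) * exp (c : ℤ) := by
              gcongr
              exact val_aeval_le_one (P k₀) (hx1 k₀) _
          _ = exp ((n : ℕ) • (-1 : ℤ) + c) := by rw [one_mul, mul_one, ← exp_add]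
          _ < 1 := by
              rw [← exp_zero, exp_lt_exp]
              simp only [nsmul_eq_mul, mul_neg, mul_one]
              omega
    · -- other places
      have hmain : main ⟨a, n⟩ = 0 := by
        simp only [main, hi, false_and, if_false]
      rw [hmain, zero_sub, Valuation.map_neg]
      simp only [term, map_mul, map_pow]
      change v (aeval x (q ⟨a, n⟩)) * (v (t (pl a)) ^ (n : ℕ) * v (z a)) * v T < 1
      rw [hvT, show v (t (pl a)) = 1 from ht2 (pl a) k₀ hi, one_pow]
      calc v (aeval x (q ⟨a, n⟩)) * (1 * v (z a)) * exp (c : ℤ)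
          ≤ 1 * (1 * exp (-(e k₀ : ℤ))) * exp (c : ℤ) := by
            gcongr
            · exact val_aeval_le_one (P k₀) (hx1 k₀) _
            · exact hz2 a k₀ (Ne.symm hi)
        _ = exp (-(e k₀ : ℤ) + c) := by rw [one_mul, one_mul, ← exp_add]
        _ < 1 := by rw [← exp_zero, exp_lt_exp]; omega
  have hcf := hind k₀ cf hlt α₁.1 hα₁k
  apply hα₁q
  have hα₁eq : (⟨α₁.1, ⟨c, by rw [hα₁k]; exact hc⟩⟩ : Σ a : A, Fin (e (pl a))) = α₁ := by
    rcases α₁ with ⟨a, n⟩
    congr 1
    exact Fin.ext hα₁c.symm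
  simp only [cf, hα₁k, dif_pos] at hcf
  rw [hα₁eq] at hcf
  exact hcf

/-- X-adic induction: the family `t ^ n * z` is polynomially independent. -/
theorem poly_indep {ι A : Type*} [Fintype ι] [DecidableEq ι] [Fintype A] [DecidableEq A]
    (P : ι → Place k K) (x : K) (e : ι → ℕ) (he : ∀ i, (P i).1 x = exp (-(e i : ℤ)))
    (pl : A → ι) (s : A → K) (hs : ∀ a, (P (pl a)).1 (s a) ≤ 1)
    (hind : ∀ i (c : A → k), (P i).1 (∑ a, if pl a = i then c a • s a else 0) < 1 →
      ∀ a, pl a = i → c a = 0)
    (t : ι → K) (ht1 : ∀ i, (P i).1 (t i) = exp (-1)) (ht2 : ∀ i j, i ≠ j → (P j).1 (t i) = 1)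
    (z : A → K) (hz1 : ∀ a, (P (pl a)).1 (z a - s a) < 1)
    (hz2 : ∀ a j, j ≠ pl a → (P j).1 (z a) ≤ exp (-(e j : ℤ)))
    (p : (Σ a : A, Fin (e (pl a))) → k[X])
    (hrel : ∑ α, aeval x (p α) * (t (pl α.1) ^ (α.2 : ℕ) * z α.1) = 0) :
    ∀ α, p α = 0 := by
  classical
  intro α₀
  have hx0 : x ≠ 0 := by
    intro h
    have := he (pl α₀.1)
    rw [h, map_zero] at this
    exact exp_ne_zero this.symm
  have key : ∀ n : ℕ, ∀ p : (Σ a : A, Fin (e (pl a))) → k[X],
      (∑ α, aeval x (p α) * (t (pl α.1) ^ (α.2 : ℕ) * z α.1) = 0) → ∀ α, X ^ n ∣ p α := by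
    intro n
    induction n with
    | zero => intro p _ α; simp
    | succ n ih =>
      intro p hp α
      have h1 := ih p hp
      choose q hq using h1
      have hq' : ∑ α, aeval x (q α) * (t (pl α.1) ^ (α.2 : ℕ) * z α.1) = 0 := by
        have : x ^ n * ∑ α, aeval x (q α) * (t (pl α.1) ^ (α.2 : ℕ) * z α.1) = 0 := by
          rw [← hp, Finset.mul_sum]
          apply Finset.sum_congr rfl
          intro α _
          rw [hq α, map_mul, map_pow, aeval_X]
          ring
        rcases mul_eq_zero.mp this with h | h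
        · exact absurd (eq_zero_of_pow_eq_zero h) hx0
        · exact h
      have h2 := core_lemma P x e he pl s hs hind t ht1 ht2 z hz1 hz2 q hq' α
      rw [hq α, pow_succ]
      apply mul_dvd_mul_left
      rw [X_dvd_iff, coeff_zero_eq_eval_zero]
      exact h2
  by_contra hne
  have h1 := key ((p α₀).natDegree + 1) p hrel α₀
  have h2 := natDegree_le_of_dvd h1 hne
  rw [natDegree_X_pow] at h2
  omega

/-- **Fundamental inequality**: `∑ e_i f_i ≤ [K : k(x)]` for distinct zeros `P i` of `x`
(of order `e i`), where the `f_i` count elements of `O_{P_i}` whose residues are `k`-independent. -/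
theorem fundamental_inequality {ι A : Type*} [Fintype ι] [DecidableEq ι] [Fintype A]
    [DecidableEq A]
    (P : ι → Place k K) (hP : Function.Injective P) (x : K) [FiniteDimensional k⟮x⟯ K]
    (e : ι → ℕ) (he : ∀ i, (P i).1 x = exp (-(e i : ℤ)))
    (pl : A → ι) (s : A → K) (hs : ∀ a, (P (pl a)).1 (s a) ≤ 1)
    (hind : ∀ i (c : A → k), (P i).1 (∑ a, if pl a = i then c a • s a else 0) < 1 →
      ∀ a, pl a = i → c a = 0) :
    ∑ a, e (pl a) ≤ Module.finrank k⟮x⟯ K := by
  classical
  -- construct t
  have ht : ∀ i, ∃ y : K, (P i).1 y = exp (-1) ∧ ∀ j, i ≠ j → (P j).1 y = 1 := by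
    intro i
    obtain ⟨π, hπ⟩ := exists_uniformizer (P i)
    obtain ⟨y, hy⟩ := weak_approximation P hP (fun j => if j = i then π else 1) 2
    refine ⟨y, ?_, ?_⟩
    · have h1 := hy i
      simp only [if_true] at h1
      have h2 : y = π + (y - π) := by ring
      rw [h2, Valuation.map_add_eq_of_lt_left, hπ]
      rw [hπ]
      refine lt_of_le_of_lt h1 ?_
      rw [exp_lt_exp]; omega
    · intro j hij
      have h1 := hy j
      rw [if_neg (Ne.symm hij)] at h1
      have h2 : y = 1 + (y - 1) := by ring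
      rw [h2, Valuation.map_add_eq_of_lt_left, map_one]
      rw [map_one]
      refine lt_of_le_of_lt h1 ?_
      rw [← exp_zero, exp_lt_exp]; omega
  choose t ht1 ht2 using ht
  -- construct z
  let N : ℤ := ∑ i, (e i : ℤ) + 1
  have hN : ∀ j, (e j : ℤ) ≤ N := by
    intro j
    have : (e j : ℤ) ≤ ∑ i, (e i : ℤ) :=
      Finset.single_le_sum (f := fun i => (e i : ℤ)) (fun i _ => by positivity) (Finset.mem_univ j)
    omega
  have hN1 : 1 ≤ N := by
    have : (0 : ℤ) ≤ ∑ i, (e i : ℤ) := Finset.sum_nonneg (fun i _ => by positivity)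
    omega
  have hz : ∀ a, ∃ y : K, (P (pl a)).1 (y - s a) < 1 ∧
      ∀ j, j ≠ pl a → (P j).1 y ≤ exp (-(e j : ℤ)) := by
    intro a
    obtain ⟨y, hy⟩ := weak_approximation P hP (fun j => if j = pl a then s a else 0) N
    refine ⟨y, ?_, ?_⟩
    · have h1 := hy (pl a)
      simp only [if_true] at h1
      refine lt_of_le_of_lt h1 ?_
      rw [← exp_zero, exp_lt_exp]; omega
    · intro j hj
      have h1 := hy j
      rw [if_neg hj, sub_zero] at h1
      refine le_trans h1 ?_
      rw [exp_le_exp]
      have := hN j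
      omega
  choose z hz1 hz2 using hz
  have hcard := card_le_finrank_of_polynomial_indep (k := k) x
    (fun α : (Σ a : A, Fin (e (pl a))) => t (pl α.1) ^ (α.2 : ℕ) * z α.1)
    (fun p hp => poly_indep P x e he pl s hs hind t ht1 ht2 z hz1 hz2 p hp)
  rw [Fintype.card_sigma] at hcard
  simpa using hcard

end Groth.Agent.Lib.helper16.FF

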