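import Groth.Agent.Lib.helper16.FFPlaces
import Mathlib.Data.Finsupp.Multiset

/-! Helper library (helper16): degree of divisors and dimension of `L(D)`. -/

set_option autoImplicit false

namespace Groth.Agent.Lib.helper16.FF

open FunFld WithZero Polynomial
open scoped IntermediateField

variable {k K : Type*} [Field k] [Field K] [Algebra k K]

/-- the degree as an additive homomorphism -/
noncomputable def degHom : Divisor k K →+ ℤ :=
  Finsupp.liftAddHom (fun P : Place k K => AddMonoidHom.mulRight (P.deg : ℤ))

theorem degHom_apply (D : Divisor k K) : degHom D = D.deg := by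
  unfold degHom Divisor.deg
  rw [Finsupp.liftAddHom_apply]
  rfl

theorem deg_add (D₁ D₂ : Divisor k K) : (D₁ + D₂).deg = D₁.deg + D₂.deg := by
  simp only [← degHom_apply, map_add]

theorem deg_sub (D₁ D₂ : Divisor k K) : (D₁ - D₂).deg = D₁.deg - D₂.deg := by
  simp only [← degHom_apply, map_sub]

theorem deg_neg (D : Divisor k K) : (-D).deg = -D.deg := by
  simp only [← degHom_apply, map_neg]

theorem deg_zero : (0 : Divisor k K).deg = 0 := by
  simp only [← degHom_apply, map_zero]

theorem deg_single (P : Place k K) (n : ℤ) :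
    Divisor.deg (k := k) (K := K) (Finsupp.single P n) = n * P.deg := by
  unfold Divisor.deg
  rw [Finsupp.sum_single_index]
  simp

theorem deg_nsmul (n : ℕ) (D : Divisor k K) : (n • D).deg = n * D.deg := by
  simp only [← degHom_apply, map_nsmul, nsmul_eq_mul]

theorem deg_nonneg {D : Divisor k K} (h : 0 ≤ D) : 0 ≤ D.deg := by
  unfold Divisor.deg Finsupp.sum
  apply Finset.sum_nonneg
  intro P _
  have : 0 ≤ D P := h P
  positivity

theorem deg_mono {D₁ D₂ : Divisor k K} (h : D₁ ≤ D₂) : D₁.deg ≤ D₂.deg := by
  have h1 : 0 ≤ D₂ - D₁ := sub_nonneg.mpr h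
  have := deg_nonneg h1
  rw [deg_sub] at this
  omega

theorem mem_L_iff {D : Divisor k K} {x : K} : x ∈ L D ↔ ∀ P : Place k K, P.1 x ≤ exp (D P) :=
  Iff.rfl

theorem L_mono {D₁ D₂ : Divisor k K} (h : D₁ ≤ D₂) : L D₁ ≤ L D₂ := by
  intro x hx P
  refine le_trans (hx P) ?_
  rw [exp_le_exp]
  exact h P

theorem L_zero_eq_one (hK : IsFunctionField k K) : L (0 : Divisor k K) = 1 := by
  ext x
  rw [Submodule.mem_one]
  constructor
  · intro hx
    by_contra hne
    have hxr : x ∉ Set.range (algebraMap k K) := fun ⟨c, hc⟩ => hne ⟨c, hc⟩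
    obtain ⟨Q, hQ⟩ := exists_place_one_lt hK hxr
    have h1 := hx Q
    simp only [Finsupp.coe_zero, Pi.zero_apply, exp_zero] at h1
    exact absurd hQ (not_lt.mpr h1)
  · rintro ⟨c, rfl⟩ P
    simp only [Finsupp.coe_zero, Pi.zero_apply, exp_zero]
    exact val_algebraMap_le P c

theorem le_add_single (D : Divisor k K) (P : Place k K) : D ≤ D + Finsupp.single P 1 :=
  le_add_of_nonneg_right (Finsupp.single_nonneg.mpr zero_le_one)

/-- The one-step map `L(D + P) → κ(P)` with kernel `L(D)`. -/
theorem exists_linearMap_ker_eq (D : Divisor k K) (P : Place k K) :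
    ∃ φ : L (D + Finsupp.single P 1) →ₗ[k] IsLocalRing.ResidueField P.O,
      LinearMap.ker φ = (L D).comap (L (D + Finsupp.single P 1)).subtype := by
  classical
  obtain ⟨t, ht⟩ := exists_val_eq_exp P ((D + Finsupp.single P 1 : Divisor k K) P)
  have ht0 : t ≠ 0 := by
    rintro rfl
    rw [map_zero] at ht
    exact exp_ne_zero ht.symm
  have hmem : ∀ x : L (D + Finsupp.single P 1), P.1 ((x : K) * t⁻¹) ≤ 1 := by
    intro x
    rw [map_mul, map_inv₀, ht]
    have := x.2 P
    rw [← div_eq_mul_inv]
    exact div_le_one_of_le₀ this zero_le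
  let ψ : L (D + Finsupp.single P 1) →ₗ[k] P.O :=
    { toFun := fun x => ⟨(x : K) * t⁻¹, hmem x⟩
      map_add' := fun x y => Subtype.ext (by
        change ((x + y : L _) : K) * t⁻¹ = (x : K) * t⁻¹ + (y : K) * t⁻¹
        rw [Submodule.coe_add, add_mul])
      map_smul' := fun c x => Subtype.ext (by
        rw [RingHom.id_apply, coe_smul_O]
        change ((c • x : L _) : K) * t⁻¹ = c • ((x : K) * t⁻¹)
        rw [Submodule.coe_smul, smul_mul_assoc]) }
  refine ⟨(residueₗ P).comp ψ, ?_⟩
  ext x
  rw [LinearMap.mem_ker, LinearMap.comp_apply, residueₗ_apply, residue_eq_zero_iff,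
    Submodule.mem_comap, Submodule.subtype_apply]
  change P.1 ((x : K) * t⁻¹) < 1 ↔ _
  rw [map_mul, map_inv₀, ht, ← div_eq_mul_inv, div_lt_one₀ (zero_lt_iff.mpr exp_ne_zero)]
  constructor
  · intro h Q
    by_cases hQ : Q = P
    · subst hQ
      by_cases hx0 : (x : K) = 0
      · rw [hx0, map_zero]; exact zero_le
      · rw [val_lt_exp_iff Q hx0] at h
        rw [val_le_exp_iff Q hx0]
        simp only [Finsupp.add_apply, Finsupp.single_eq_same] at h
        omega
    · have := x.2 Q
      simp only [Finsupp.add_apply, Finsupp.single_apply, if_neg (Ne.symm hQ), add_zero] at this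
      exact this
  · intro h
    refine lt_of_le_of_lt (h P) ?_
    rw [exp_lt_exp]
    simp

theorem finiteDimensional_L_add_single (hK : IsFunctionField k K) (D : Divisor k K)
    (P : Place k K) [FiniteDimensional k (L D)] :
    FiniteDimensional k (L (D + Finsupp.single P 1)) := by
  obtain ⟨φ, hφ⟩ := exists_linearMap_ker_eq D P
  have := finiteDimensional_residueField hK P
  have hle : L D ≤ L (D + Finsupp.single P 1) := L_mono (le_add_single D P)
  have h1 : FiniteDimensional k (LinearMap.ker φ) := by
    rw [hφ]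
    exact LinearEquiv.finiteDimensional (Submodule.comapSubtypeEquivOfLe hle).symm
  have h2 : FiniteDimensional k (L (D + Finsupp.single P 1) ⧸ LinearMap.ker φ) :=
    LinearEquiv.finiteDimensional φ.quotKerEquivRange.symm
  exact Module.Finite.of_submodule_quotient (LinearMap.ker φ)

theorem ell_add_single_le (hK : IsFunctionField k K) (D : Divisor k K)
    (P : Place k K) [FiniteDimensional k (L D)] :
    ell (D + Finsupp.single P 1) ≤ ell D + P.deg := by
  obtain ⟨φ, hφ⟩ := exists_linearMap_ker_eq D P
  have := finiteDimensional_residueField hK P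
  have := finiteDimensional_L_add_single hK D P
  have hle : L D ≤ L (D + Finsupp.single P 1) := L_mono (le_add_single D P)
  have h1 : Module.finrank k (LinearMap.ker φ) = ell D := by
    rw [hφ]
    exact LinearEquiv.finrank_eq (Submodule.comapSubtypeEquivOfLe hle)
  have h2 := φ.finrank_range_add_finrank_ker
  have h3 : Module.finrank k (LinearMap.range φ) ≤ P.deg := Submodule.finrank_le _
  unfold ell at *
  omega

/-- the divisor of a multiset of places -/
noncomputable def divOfMultiset (m : Multiset (Place k K)) : Divisor k K :=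
  (m.map fun P => Finsupp.single P (1 : ℤ)).sum

theorem divOfMultiset_zero : divOfMultiset (0 : Multiset (Place k K)) = 0 := by
  simp [divOfMultiset]

theorem divOfMultiset_cons (P : Place k K) (m : Multiset (Place k K)) :
    divOfMultiset (P ::ₘ m) = Finsupp.single P 1 + divOfMultiset m := by
  simp [divOfMultiset]

open scoped Classical in
theorem divOfMultiset_apply (m : Multiset (Place k K)) (P : Place k K) :
    divOfMultiset m P = m.count P := by
  induction m using Multiset.induction_on with
  | empty => simp [divOfMultiset_zero]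
  | cons Q m ih =>
    rw [divOfMultiset_cons, Finsupp.add_apply, ih, Multiset.count_cons, Finsupp.single_apply]
    by_cases h : P = Q
    · subst h; simp; ring
    · rw [if_neg (Ne.symm h), if_neg h]; simp

theorem exists_divOfMultiset_eq {E : Divisor k K} (hE : 0 ≤ E) :
    ∃ m : Multiset (Place k K), divOfMultiset m = E := by
  classical
  refine ⟨Finsupp.toMultiset (E.mapRange Int.toNat (by simp)), ?_⟩
  ext P
  rw [divOfMultiset_apply, Finsupp.count_toMultiset, Finsupp.mapRange_apply]
  have : 0 ≤ E P := hE P
  omega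

theorem L_add_divOfMultiset (hK : IsFunctionField k K) (D : Divisor k K)
    [FiniteDimensional k (L D)] (m : Multiset (Place k K)) :
    FiniteDimensional k (L (D + divOfMultiset m)) ∧
      (ell (D + divOfMultiset m) : ℤ) ≤ ell D + (divOfMultiset m).deg := by
  induction m using Multiset.induction_on with
  | empty =>
    rw [divOfMultiset_zero, add_zero, deg_zero, add_zero]
    exact ⟨inferInstance, le_rfl⟩
  | cons P m ih =>
    obtain ⟨h1, h2⟩ := ih
    have heq : D + divOfMultiset (P ::ₘ m) = (D + divOfMultiset m) + Finsupp.single P 1 := by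
      rw [divOfMultiset_cons]; abel
    rw [heq]
    refine ⟨finiteDimensional_L_add_single hK _ P, ?_⟩
    have h3 := ell_add_single_le hK (D + divOfMultiset m) P
    rw [divOfMultiset_cons, deg_add, deg_single]
    push_cast at h3 ⊢
    omega

/-- `L(D₁)` finite-dimensional and `D₁ ≤ D₂` imply `L(D₂)` finite-dimensional, with the bound. -/
theorem ell_le_of_le (hK : IsFunctionField k K) {D₁ D₂ : Divisor k K} (h : D₁ ≤ D₂)
    [FiniteDimensional k (L D₁)] :
    FiniteDimensional k (L D₂) ∧ (ell D₂ : ℤ) ≤ ell D₁ + (D₂.deg - D₁.deg) := by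
  obtain ⟨m, hm⟩ := exists_divOfMultiset_eq (sub_nonneg.mpr h)
  have := L_add_divOfMultiset hK D₁ m
  rw [hm, deg_sub] at this
  have heq : D₁ + (D₂ - D₁) = D₂ := by abel
  rwa [heq] at this

theorem finiteDimensional_L (hK : IsFunctionField k K) (D : Divisor k K) :
    FiniteDimensional k (L D) := by
  have h0 : FiniteDimensional k (L (0 : Divisor k K)) := by
    rw [L_zero_eq_one hK, Submodule.one_eq_range]
    infer_instance
  have h1 : FiniteDimensional k (L (D ⊓ 0)) :=
    Submodule.finiteDimensional_of_le (L_mono (inf_le_right : D ⊓ 0 ≤ 0))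
  exact (ell_le_of_le hK (inf_le_left : D ⊓ 0 ≤ D)).1

theorem ell_sub_ell_le (hK : IsFunctionField k K) {D₁ D₂ : Divisor k K} (h : D₁ ≤ D₂) :
    (ell D₂ : ℤ) - ell D₁ ≤ D₂.deg - D₁.deg := by
  have := finiteDimensional_L hK D₁
  have := (ell_le_of_le hK h).2
  omega

theorem ell_mono (hK : IsFunctionField k K) {D₁ D₂ : Divisor k K} (h : D₁ ≤ D₂) :
    ell D₁ ≤ ell D₂ := by
  have := finiteDimensional_L hK D₂
  exact Submodule.finrank_mono (L_mono h)

theorem ell_zero (hK : IsFunctionField k K) : ell (0 : Divisor k K) = 1 := by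
  unfold ell
  rw [L_zero_eq_one hK, Submodule.one_eq_range]
  rw [LinearMap.finrank_range_of_inj]
  · exact Module.finrank_self k
  · exact (algebraMap k K).injective

end Groth.Agent.Lib.helper16.FF
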