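import Groth.Agent.Lib.helper16.FFG0
import Groth.Prelude.Def_W4bk4goldsch45

/-! Helper library (helper16): local rings of projective maps. -/

set_option autoImplicit false

namespace Groth.Agent.Lib.helper16.FF

open FunFld WithZero Polynomial Module

variable {k K : Type*} [Field k] [Field K] [Algebra k K]

/-- if `1` is a `k`-combination of functions integral at `P`, one of them is a unit at `P` -/
theorem exists_val_eq_one_of_one_mem_span {ι : Type*} [Fintype ι] (P : Place k K) (φ : ι → K)
    (heff : (1 : K) ∈ Submodule.span k (Set.range φ)) (hnorm : ∀ i, P.1 (φ i) ≤ 1) :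
    ∃ j, P.1 (φ j) = 1 := by
  by_contra hcon
  push Not at hcon
  obtain ⟨c, hc⟩ := (Submodule.mem_span_range_iff_exists_fun k).mp heff
  have h1 : P.1 (∑ i, c i • φ i) < 1 := by
    apply Valuation.map_sum_lt P.1 one_ne_zero
    intro i _
    exact lt_of_le_of_lt (val_smul_le P (c i) (φ i)) (lt_of_le_of_ne (hnorm i) (hcon i))
  rw [hc, map_one] at h1
  exact lt_irrefl _ h1

/-- functions congruent to a constant modulo the square of the maximal ideal at `P` -/
def secondOrder (P : Place k K) : Subalgebra k K where
  carrier := {z | ∃ c : k, P.1 (z - algebraMap k K c) ≤ exp (-2)}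
  mul_mem' := by
    rintro z z' ⟨c, hc⟩ ⟨c', hc'⟩
    refine ⟨c * c', ?_⟩
    have hz' : P.1 z' ≤ 1 := by
      have : z' = (z' - algebraMap k K c') + algebraMap k K c' := by ring
      rw [this]
      refine le_trans (P.1.map_add _ _) (max_le (le_trans hc' ?_) (val_algebraMap_le P c'))
      rw [← exp_zero, exp_le_exp]; omega
    have e : z * z' - algebraMap k K (c * c') =
        (z - algebraMap k K c) * z' + algebraMap k K c * (z' - algebraMap k K c') := by
      rw [map_mul]; ring
    rw [e]
    refine le_trans (P.1.map_add _ _) (max_le ?_ ?_)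
    · rw [map_mul]
      calc P.1 (z - algebraMap k K c) * P.1 z' ≤ exp (-2) * 1 := mul_le_mul' hc hz'
        _ = exp (-2) := mul_one _
    · rw [map_mul]
      calc P.1 (algebraMap k K c) * P.1 (z' - algebraMap k K c') ≤ 1 * exp (-2) :=
            mul_le_mul' (val_algebraMap_le P c) hc'
        _ = exp (-2) := one_mul _
  add_mem' := by
    rintro z z' ⟨c, hc⟩ ⟨c', hc'⟩
    refine ⟨c + c', ?_⟩
    have e : z + z' - algebraMap k K (c + c') =
        (z - algebraMap k K c) + (z' - algebraMap k K c') := by
      rw [map_add]; ring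
    rw [e]
    exact le_trans (P.1.map_add _ _) (max_le hc hc')
  algebraMap_mem' := by
    intro c
    exact ⟨c, by rw [sub_self, map_zero]; exact zero_le⟩

theorem mem_secondOrder {P : Place k K} {z : K} :
    z ∈ secondOrder P ↔ ∃ c : k, P.1 (z - algebraMap k K c) ≤ exp (-2) := Iff.rfl

/-- an element of the second-order subalgebra is never a uniformizer -/
theorem val_ne_of_mem_secondOrder {P : Place k K} {z : K} (hz : z ∈ secondOrder P) :
    P.1 z ≠ exp (-1) := by
  intro h
  obtain ⟨c, hc⟩ := hz
  by_cases hc0 : c = 0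
  · rw [hc0, map_zero, sub_zero, h, exp_le_exp] at hc
    omega
  · have h1 : algebraMap k K c = z - (z - algebraMap k K c) := by ring
    have h2 : P.1 (algebraMap k K c) ≤ exp (-1) := by
      rw [h1]
      refine le_trans (P.1.map_sub _ _) (max_le h.le (le_trans hc ?_))
      rw [exp_le_exp]; omega
    rw [val_algebraMap P hc0, ← exp_zero, exp_le_exp] at h2
    omega

/-- an integral function outside the second-order subalgebra differs from a constant by a
uniformizer -/
theorem exists_sub_val_eq_of_not_mem_secondOrder [IsAlgClosed k] (hK : IsFunctionField k K)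
    {P : Place k K} {z : K} (hz1 : P.1 z ≤ 1) (hz : z ∉ secondOrder P) :
    ∃ c : k, P.1 (z - algebraMap k K c) = exp (-1) := by
  obtain ⟨c, hc⟩ := exists_sub_val_lt_one hK P hz1
  refine ⟨c, le_antisymm (lt_one_iff_le_exp_neg_one.mp hc) ?_⟩
  by_contra hlt
  rw [not_le] at hlt
  apply hz
  refine ⟨c, ?_⟩
  have hne : z - algebraMap k K c ≠ 0 := by
    intro h0
    apply hz
    exact ⟨c, by rw [h0, map_zero]; exact zero_le⟩
  rw [val_lt_exp_iff P hne] at hlt
  rw [val_le_exp_iff P hne]
  omega

end Groth.Agent.Lib.helper16.FF
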