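import Groth.Agent.Lib.helper16.FFLoc
import Groth.Agent.Lib.helper16.FFG2

/-! Helper library (helper16): nonsingularity of projective maps at a place. -/

set_option autoImplicit false

namespace Groth.Agent.Lib.helper16.FF

open FunFld WithZero Polynomial Module
open scoped IntermediateField IntermediateField.algebraAdjoinAdjoin

variable {k K : Type*} [Field k] [Field K] [Algebra k K]

theorem div_eq_zeroDiv_sub_poleDiv' (hK : IsFunctionField k K) (x : K) :
    zeroDiv k x = FunFld.div k x + poleDiv k x := by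
  rw [div_eq_zeroDiv_sub_poleDiv hK]; abel

/-- for `n` large, `L((n+1)B) = L(nB) + x L(nB)` where `B` is the pole divisor of `x` -/
theorem L_succ_nsmul_poleDiv (hK : IsFunctionField k K) {x : K}
    (hx : x ∉ Set.range (algebraMap k K)) {n : ℕ}
    (hn : 2 * (genus k K : ℤ) - 1 ≤ ((n : ℤ) - 1) * (poleDiv k x).deg) :
    L ((n + 1) • poleDiv k x) = L (n • poleDiv k x) ⊔ L (n • poleDiv k x - FunFld.div k x) := by
  set B := poleDiv k x with hB
  have hx0 : x ≠ 0 := by
    rintro rfl
    exact hx ⟨0, map_zero _⟩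
  have hB0 : 0 ≤ B := poleDiv_nonneg x
  have hN : 1 ≤ B.deg := by
    rw [deg_poleDiv_eq hK hx]
    have := finiteDimensional_of_transcendental hK (transcendental_of_not_mem_range hK hx)
    have : 0 < Module.finrank k⟮x⟯ K := Module.finrank_pos
    omega
  have hfd := finiteDimensional_L hK ((n + 1) • B)
  have hS : L (n • B) ≤ L ((n + 1) • B) := by
    apply L_mono
    rw [succ_nsmul]
    exact le_add_of_nonneg_right hB0
  have hTeq : n • B - FunFld.div k x = (n + 1) • B - zeroDiv k x := by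
    rw [div_eq_zeroDiv_sub_poleDiv' hK x, succ_nsmul]; abel
  have hT : L (n • B - FunFld.div k x) ≤ L ((n + 1) • B) := by
    apply L_mono
    rw [hTeq]
    exact sub_le_self _ (zeroDiv_nonneg x)
  symm
  apply Submodule.eq_of_le_of_finrank_eq (sup_le hS hT)
  have hfdS := finiteDimensional_L hK (n • B)
  have hfdT := finiteDimensional_L hK (n • B - FunFld.div k x)
  have h1 := Submodule.finrank_sup_add_finrank_inf_eq (L (n • B)) (L (n • B - FunFld.div k x))
  have hinf : n • B ⊓ (n • B - FunFld.div k x) = (n • B - B) + FunFld.div k x⁻¹ := by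
    rw [div_inv hK]
    ext Q
    simp only [Finsupp.inf_apply, Finsupp.sub_apply, Finsupp.add_apply, Finsupp.neg_apply]
    rw [hB, poleDiv_apply hK, div_apply hK]
    rcases le_total (Q.ord x) 0 with h | h
    · rw [max_eq_left (by omega), min_eq_left (by omega)]; ring
    · rw [max_eq_right (by omega), min_eq_right (by omega)]; ring
  rw [L_inf_L, hinf] at h1
  have e1 : finrank k ↥(L (n • B - B + FunFld.div k x⁻¹)) = ell (n • B - B) :=
    ell_add_div hK _ (inv_ne_zero hx0)
  have e2 : finrank k ↥(L (n • B - FunFld.div k x)) = ell (n • B) := by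
    have : n • B - FunFld.div k x = n • B + FunFld.div k x⁻¹ := by rw [div_inv hK]; abel
    rw [this]
    exact ell_add_div hK _ (inv_ne_zero hx0)
  have e3 : finrank k ↥(L (n • B)) = ell (n • B) := rfl
  have e4 : finrank k ↥(L ((n + 1) • B)) = ell ((n + 1) • B) := rfl
  rw [e1, e2, e3] at h1
  rw [e4]
  have d1 : (n • B).deg = n * B.deg := deg_nsmul n B
  have d2 : ((n + 1) • B).deg = (n + 1 : ℕ) * B.deg := deg_nsmul (n + 1) B
  have d3 : (n • B - B).deg = n * B.deg - B.deg := by rw [deg_sub, d1]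
  have hmul : ((n : ℤ) - 1) * B.deg = n * B.deg - B.deg := by ring
  have r1 := ell_eq_of_deg_ge hK (D := n • B) (by rw [d1]; nlinarith)
  have r2 := ell_eq_of_deg_ge hK (D := (n + 1) • B) (by rw [d2]; push_cast; nlinarith)
  have r3 := ell_eq_of_deg_ge hK (D := n • B - B) (by rw [d3]; linarith)
  rw [d1] at r1
  rw [d2] at r2
  rw [d3] at r3
  push_cast at r2
  have : (finrank k ↥(L (n • B) ⊔ L (n • B - FunFld.div k x)) : ℤ) = ell ((n + 1) • B) := by
    have h1' : (finrank k ↥(L (n • B) ⊔ L (n • B - FunFld.div k x)) : ℤ) + ell (n • B - B) =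
        ell (n • B) + ell (n • B) := by exact_mod_cast h1
    linarith
  exact_mod_cast this

/-- a common denominator: some nonzero `c ∈ R` multiplies every function with poles only at the
poles of `x ∈ R` into `R`, provided `K` is the fraction field of `R` -/
theorem exists_conductor (hK : IsFunctionField k K) (R : Subalgebra k K) {x : K} (hxR : x ∈ R)
    (hx : x ∉ Set.range (algebraMap k K))
    (hbir : ∀ z : K, ∃ r ∈ R, ∃ s ∈ R, s ≠ 0 ∧ z * s = r) :
    ∃ c ∈ R, c ≠ 0 ∧ ∀ (n : ℕ) (z : K), z ∈ L (n • poleDiv k x) → c * z ∈ R := by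
  classical
  set B := poleDiv k x with hB
  have hx0 : x ≠ 0 := by
    rintro rfl
    exact hx ⟨0, map_zero _⟩
  have hB0 : 0 ≤ B := poleDiv_nonneg x
  have hN : 1 ≤ B.deg := by
    rw [deg_poleDiv_eq hK hx]
    have := finiteDimensional_of_transcendental hK (transcendental_of_not_mem_range hK hx)
    have : 0 < Module.finrank k⟮x⟯ K := Module.finrank_pos
    omega
  set n₀ : ℕ := 2 * genus k K + 1 with hn₀
  have hfd := finiteDimensional_L hK (n₀ • B)
  obtain ⟨S, hS⟩ := (Module.finite_def.mp hfd : (⊤ : Submodule k ↥(L (n₀ • B))).FG)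
  -- spanning set in `K`
  have hspan : ∀ z ∈ L (n₀ • B), z ∈ Submodule.span k ((fun u : ↥(L (n₀ • B)) => (u : K)) '' (S : Set _)) := by
    intro z hz
    have h1 : (⟨z, hz⟩ : ↥(L (n₀ • B))) ∈ Submodule.span k (S : Set ↥(L (n₀ • B))) := by
      rw [hS]; exact Submodule.mem_top
    have h2 := Submodule.apply_mem_span_image_of_mem_span (L (n₀ • B)).subtype h1
    exact h2
  choose r hr s hs hs0 hrs using hbir
  let c : K := ∏ u ∈ S, s (u : K)
  have hcR : c ∈ R := Subalgebra.prod_mem _ fun u _ => hs _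
  have hc0 : c ≠ 0 := Finset.prod_ne_zero_iff.mpr fun u _ => hs0 _
  have hcu : ∀ u ∈ S, c * (u : K) ∈ R := by
    intro u hu
    have : c * (u : K) = (∏ u' ∈ S.erase u, s (u' : K)) * r (u : K) := by
      rw [← hrs (u : K)]
      show (∏ u ∈ S, s (u : K)) * (u : K) = _
      rw [← Finset.mul_prod_erase S (fun u => s (u : K)) hu]
      ring
    rw [this]
    exact R.mul_mem (Subalgebra.prod_mem _ fun u' _ => hs _) (hr _)
  have hbase : ∀ z ∈ L (n₀ • B), c * z ∈ R := by
    intro z hz
    have h1 := hspan z hz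
    refine Submodule.span_induction (p := fun y _ => c * y ∈ R) ?_ ?_ ?_ ?_ h1
    · rintro _ ⟨u, hu, rfl⟩
      exact hcu u hu
    · rw [mul_zero]; exact R.zero_mem
    · intro y y' _ _ h h'
      rw [mul_add]; exact R.add_mem h h'
    · intro a y _ h
      rw [mul_smul_comm]; exact R.smul_mem h a
  refine ⟨c, hcR, hc0, ?_⟩
  intro n
  induction n with
  | zero =>
    intro z hz
    apply hbase
    refine L_mono ?_ hz
    rw [zero_smul]
    exact smul_nonneg (Nat.zero_le _) hB0
  | succ n ih =>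
    intro z hz
    by_cases hn : n + 1 ≤ n₀
    · apply hbase
      refine L_mono ?_ hz
      have : n₀ • B = (n + 1) • B + (n₀ - (n + 1)) • B := by
        rw [← add_smul]; congr 1; omega
      rw [this]
      exact le_add_of_nonneg_right (smul_nonneg (Nat.zero_le _) hB0)
    · have hn' : 2 * (genus k K : ℤ) - 1 ≤ ((n : ℤ) - 1) * B.deg := by
        have h1 : (2 * (genus k K : ℤ)) ≤ (n : ℤ) - 1 := by
          have : n₀ ≤ n := by omega
          rw [hn₀] at this
          have : ((2 * genus k K + 1 : ℕ) : ℤ) ≤ (n : ℤ) := by exact_mod_cast this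
          push_cast at this
          omega
        nlinarith
      rw [L_succ_nsmul_poleDiv hK hx hn', Submodule.mem_sup] at hz
      obtain ⟨z₁, hz₁, z₂, hz₂, rfl⟩ := hz
      have h2 : x⁻¹ * z₂ ∈ L (n • B) := by
        have := (mul_mem_L_iff hK (n • B - FunFld.div k x) hx0 (x⁻¹ * z₂)).mp (by
          rw [← mul_assoc, mul_inv_cancel₀ hx0, one_mul]; exact hz₂)
        rwa [sub_add_cancel] at this
      have h3 : c * z₂ = x * (c * (x⁻¹ * z₂)) := by
        field_simp
      rw [mul_add, h3]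
      exact R.add_mem (ih z₁ hz₁) (R.mul_mem hxR (ih _ h2))

/-- membership in the local ring of the subalgebra `R` at the place `P` -/
def InLoc (R : Subalgebra k K) (P : Place k K) (z : K) : Prop :=
  ∃ u ∈ R, ∃ w ∈ R, P.1 w = 1 ∧ z * w = u

theorem InLoc.of_mem {R : Subalgebra k K} {P : Place k K} {z : K} (hz : z ∈ R) : InLoc R P z :=
  ⟨z, hz, 1, R.one_mem, map_one _, mul_one z⟩

theorem InLoc.add {R : Subalgebra k K} {P : Place k K} {z z' : K} (hz : InLoc R P z)
    (hz' : InLoc R P z') : InLoc R P (z + z') := by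
  obtain ⟨u, hu, w, hw, hw1, h⟩ := hz
  obtain ⟨u', hu', w', hw', hw1', h'⟩ := hz'
  refine ⟨u * w' + u' * w, R.add_mem (R.mul_mem hu hw') (R.mul_mem hu' hw), w * w',
    R.mul_mem hw hw', by rw [map_mul, hw1, hw1', one_mul], ?_⟩
  rw [← h, ← h']; ring

/-- the valuation ring of a place as a `k`-submodule -/
def valSub (Q : Place k K) : Submodule k K where
  carrier := {z | Q.1 z ≤ 1}
  add_mem' := fun {a b} ha hb => le_trans (Q.1.map_add a b) (max_le ha hb)
  zero_mem' := by
    show Q.1 0 ≤ 1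
    rw [map_zero]; exact zero_le
  smul_mem' := fun c z hz => le_trans (val_smul_le Q c z) hz

theorem mem_valSub {Q : Place k K} {z : K} : z ∈ valSub Q ↔ Q.1 z ≤ 1 := Iff.rfl

/-- a subalgebra generated by functions integral at `Q` consists of functions integral at `Q` -/
theorem val_le_one_of_mem_adjoin {ι : Type*} (xs : ι → K) (Q : Place k K)
    (h : ∀ i, Q.1 (xs i) ≤ 1) {r : K} (hr : r ∈ Algebra.adjoin k (Set.range xs)) : Q.1 r ≤ 1 := by
  refine Algebra.adjoin_induction (p := fun y _ => Q.1 y ≤ 1) ?_ ?_ ?_ ?_ hr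
  · rintro _ ⟨i, rfl⟩
    exact h i
  · intro c
    exact val_algebraMap_le Q c
  · intro a b _ _ ha hb
    exact le_trans (Q.1.map_add a b) (max_le ha hb)
  · intro a b _ _ ha hb
    rw [map_mul]
    exact mul_le_one' ha hb

theorem mem_range_of_forall_val_le_one (hK : IsFunctionField k K) {z : K}
    (h : ∀ Q : Place k K, Q.1 z ≤ 1) : z ∈ Set.range (algebraMap k K) := by
  by_contra hz
  obtain ⟨Q, hQ⟩ := exists_place_one_lt hK hz
  exact absurd (h Q) (not_le.mpr hQ)

/-- a generic `k`-combination of the generators has a pole wherever some generator has one -/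
theorem exists_generic_pole [Infinite k] {ι : Type*} [Fintype ι] (xs : ι → K)
    (S : Set (Place k K)) (hS : S.Finite) (hpole : ∀ Q ∈ S, ∃ i, 1 < Q.1 (xs i)) :
    ∃ a : ι → k, ∀ Q ∈ S, 1 < Q.1 (∑ i, a i • xs i) := by
  classical
  let p : Place k K → Submodule k (ι → k) :=
    fun Q => (valSub Q).comap (Fintype.linearCombination k xs)
  have hp : ∀ Q ∈ S, p Q ≠ ⊤ := by
    intro Q hQ htop
    obtain ⟨i, hi⟩ := hpole Q hQ
    have h1 : (Pi.single i (1 : k) : ι → k) ∈ p Q := by rw [htop]; exact Submodule.mem_top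
    have h2 : Q.1 (Fintype.linearCombination k xs (Pi.single i (1 : k))) ≤ 1 := h1
    rw [Fintype.linearCombination_apply_single, one_smul] at h2
    exact absurd h2 (not_le.mpr hi)
  let s : Finset (Submodule k (ι → k)) := hS.toFinset.image p
  have hs : ⊤ ∉ s := by
    intro h
    rw [Finset.mem_image] at h
    obtain ⟨Q, hQ, hQt⟩ := h
    exact hp Q (hS.mem_toFinset.mp hQ) hQt
  have hne := Subspace.biUnion_ne_univ_of_top_notMem hs
  obtain ⟨a, ha⟩ := (Set.ne_univ_iff_exists_notMem _).mp hne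
  refine ⟨a, fun Q hQ => ?_⟩
  by_contra hle
  rw [not_lt] at hle
  apply ha
  simp only [Set.mem_iUnion]
  refine ⟨p Q, Finset.mem_image.mpr ⟨Q, hS.mem_toFinset.mpr hQ, rfl⟩, ?_⟩
  show Q.1 (Fintype.linearCombination k xs a) ≤ 1
  rw [Fintype.linearCombination_apply]
  exact hle

theorem exp_neg_one_pow (n : ℕ) : (exp (-1 : ℤ) : ℤᵐ⁰) ^ n = exp (-(n : ℤ)) := by
  rw [← exp_nsmul]
  congr 1
  simp

/-- **Nonsingularity criterion**: a finitely generated subalgebra `R` with fraction field `K`,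
integral at `P`, which separates `P` from every other place where it is integral and contains a
local parameter at `P`, has local ring `O_P` at `P`. -/
theorem inLoc_of_sep_of_tan [IsAlgClosed k] (hK : IsFunctionField k K) {ι : Type*} [Fintype ι]
    (xs : ι → K) (P : Place k K) (hP : ∀ i, P.1 (xs i) ≤ 1)
    (hbir : ∀ z : K, ∃ r ∈ Algebra.adjoin k (Set.range xs),
      ∃ s ∈ Algebra.adjoin k (Set.range xs), s ≠ 0 ∧ z * s = r)
    (hsep : ∀ Q : Place k K, Q ≠ P → (∀ i, Q.1 (xs i) ≤ 1) →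
      ∃ r ∈ Algebra.adjoin k (Set.range xs), Q.1 r < 1 ∧ P.1 r = 1)
    (htan : ∃ t ∈ Algebra.adjoin k (Set.range xs), P.1 t = exp (-1)) :
    ∀ z, P.1 z ≤ 1 → InLoc (Algebra.adjoin k (Set.range xs)) P z := by
  classical
  set R := Algebra.adjoin k (Set.range xs) with hR
  let Sinf : Set (Place k K) := {Q | ∃ i, 1 < Q.1 (xs i)}
  have hSfin : Sinf.Finite := by
    have : Sinf = ⋃ i, {Q | 1 < Q.1 (xs i)} := by
      ext Q; simp [Sinf]
    rw [this]
    apply Set.finite_iUnion
    intro i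
    by_cases hi : xs i ∈ Set.range (algebraMap k K)
    · convert Set.finite_empty
      ext Q
      simp only [Set.mem_ofPred_eq, Set.mem_empty_iff_false, iff_false, not_lt]
      obtain ⟨c, hc⟩ := hi
      rw [← hc]; exact val_algebraMap_le Q c
    · exact poles_finite hK hi
  have hRint : ∀ Q ∉ Sinf, ∀ r ∈ R, Q.1 r ≤ 1 := by
    intro Q hQ r hr
    apply val_le_one_of_mem_adjoin xs Q _ hr
    intro i
    by_contra h
    exact hQ ⟨i, not_le.mp h⟩
  obtain ⟨a, ha⟩ := exists_generic_pole xs Sinf hSfin (fun Q hQ => hQ)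
  set x := ∑ i, a i • xs i with hx
  have hxR : x ∈ R := Subalgebra.sum_mem _ fun i _ =>
    Subalgebra.smul_mem _ (Algebra.subset_adjoin (Set.mem_range_self i)) _
  have hSne : Sinf.Nonempty := by
    by_contra hemp
    rw [Set.not_nonempty_iff_eq_empty] at hemp
    have hconst : ∀ r ∈ R, r ∈ Set.range (algebraMap k K) := by
      intro r hr
      apply mem_range_of_forall_val_le_one hK
      intro Q
      exact hRint Q (by rw [hemp]; exact Set.notMem_empty Q) r hr
    obtain ⟨z, hz⟩ := exists_not_mem_range hK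
    obtain ⟨r, hr, s, hs, hs0, hzs⟩ := hbir z
    obtain ⟨c, hc⟩ := hconst r hr
    obtain ⟨d, hd⟩ := hconst s hs
    apply hz
    refine ⟨c / d, ?_⟩
    rw [map_div₀, hc, hd, ← hzs]
    field_simp
  obtain ⟨Q₀, hQ₀⟩ := hSne
  have hxnc : x ∉ Set.range (algebraMap k K) := by
    rintro ⟨c, hc⟩
    have := ha Q₀ hQ₀
    rw [← hc] at this
    exact absurd (val_algebraMap_le Q₀ c) (not_le.mpr this)
  have hx0 : x ≠ 0 := by
    intro h
    exact hxnc ⟨0, by rw [map_zero, h]⟩
  obtain ⟨c, hcR, hc0, hcond⟩ := exists_conductor hK R hxR hxnc hbir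
  set B := poleDiv k x with hB
  have hBpos : ∀ Q ∈ Sinf, 1 ≤ B Q := by
    intro Q hQ
    have h1 := ha Q hQ
    rw [hB, poleDiv_apply hK]
    rw [one_lt_val_iff Q hx0] at h1
    omega
  have hBzero : ∀ Q ∉ Sinf, B Q = 0 := by
    intro Q hQ
    have h1 := hRint Q hQ x hxR
    rw [hB, poleDiv_apply hK]
    rw [val_le_one_iff Q hx0] at h1
    omega
  -- the conductor multiplies `O_P` into the local ring
  have hkey : ∀ z, P.1 z ≤ 1 → InLoc R P (c * z) := by
    intro z hz
    by_cases hz0 : z = 0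
    · rw [hz0, mul_zero]; exact InLoc.of_mem R.zero_mem
    let T : Set (Place k K) := {Q | 1 < Q.1 z ∧ Q ∉ Sinf}
    have hTfin : T.Finite := by
      by_cases hzc : z ∈ Set.range (algebraMap k K)
      · convert Set.finite_empty
        ext Q
        simp only [Set.mem_empty_iff_false, iff_false]
        rintro ⟨h, -⟩
        obtain ⟨c', hc'⟩ := hzc
        rw [← hc'] at h
        exact absurd (val_algebraMap_le Q c') (not_le.mpr h)
      · exact (poles_finite hK hzc).subset (fun Q hQ => hQ.1)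
    have hrr : ∀ Q : Place k K, ∃ r ∈ R, (Q ∈ T → Q.1 r < 1) ∧ P.1 r = 1 := by
      intro Q
      by_cases hQ : Q ∈ T
      · have hQP : Q ≠ P := by
          rintro rfl
          exact absurd hz (not_le.mpr hQ.1)
        obtain ⟨r, hr, h1, h2⟩ := hsep Q hQP (fun i => by
          by_contra h
          exact hQ.2 ⟨i, not_le.mp h⟩)
        exact ⟨r, hr, fun _ => h1, h2⟩
      · exact ⟨1, R.one_mem, fun h => absurd h hQ, map_one _⟩
    choose rr hrrR hrr1 hrrP using hrr
    let m : Place k K → ℕ := fun Q => (-(Q.ord z)).toNat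
    set r := ∏ Q ∈ hTfin.toFinset, rr Q ^ m Q with hr
    have hrR : r ∈ R := Subalgebra.prod_mem _ fun Q _ => Subalgebra.pow_mem _ (hrrR Q) _
    have hrP : P.1 r = 1 := by
      rw [hr, map_prod]
      apply Finset.prod_eq_one
      intro Q _
      rw [map_pow, hrrP, one_pow]
    have hr0 : r ≠ 0 := by
      intro h
      rw [h, map_zero] at hrP
      exact zero_ne_one hrP
    have hrz0 : r * z ≠ 0 := mul_ne_zero hr0 hz0
    obtain ⟨n, hn⟩ : ∃ n : ℕ, r * z ∈ L (n • B) := by
      let n : ℕ := ∑ Q ∈ hSfin.toFinset, (-(Q.ord (r * z))).toNat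
      refine ⟨n, ?_⟩
      intro Q
      by_cases hQ : Q ∈ Sinf
      · rw [val_eq_exp_neg_ord Q hrz0, exp_le_exp, Finsupp.smul_apply, nsmul_eq_mul]
        have h1 : (-(Q.ord (r * z))).toNat ≤ n :=
          Finset.single_le_sum (f := fun Q : Place k K => (-(Q.ord (r * z))).toNat)
            (fun _ _ => Nat.zero_le _) (hSfin.mem_toFinset.mpr hQ)
        have h2 := hBpos Q hQ
        have h3 : -(Q.ord (r * z)) ≤ (n : ℤ) := by
          have := Int.self_le_toNat (-(Q.ord (r * z)))
          omega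
        have h4 : (0 : ℤ) ≤ n := Nat.cast_nonneg n
        nlinarith
      · rw [Finsupp.smul_apply, hBzero Q hQ, smul_zero, exp_zero, map_mul]
        by_cases hQT : Q ∈ T
        · have hv : Q.1 r ≤ exp (-(m Q : ℤ)) := by
            rw [hr, ← Finset.mul_prod_erase _ _ (hTfin.mem_toFinset.mpr hQT), map_mul, map_pow]
            have h1 : Q.1 (rr Q) ≤ exp (-1) := lt_one_iff_le_exp_neg_one.mp (hrr1 Q hQT)
            have h2 : Q.1 (∏ Q' ∈ hTfin.toFinset.erase Q, rr Q' ^ m Q') ≤ 1 :=
              hRint Q hQ _ (Subalgebra.prod_mem _ fun Q' _ => Subalgebra.pow_mem _ (hrrR Q') _)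
            calc Q.1 (rr Q) ^ m Q * Q.1 (∏ Q' ∈ hTfin.toFinset.erase Q, rr Q' ^ m Q')
                ≤ exp (-1) ^ m Q * 1 := mul_le_mul' (pow_le_pow_left₀ zero_le h1 _) h2
              _ = exp (-(m Q : ℤ)) := by rw [mul_one, exp_neg_one_pow]
          have hvz : Q.1 z = exp (m Q : ℤ) := by
            rw [val_eq_exp_neg_ord Q hz0]
            congr 1
            have : Q.ord z < 0 := (one_lt_val_iff Q hz0).mp hQT.1
            simp only [m]
            omega
          rw [hvz]
          calc Q.1 r * exp (m Q : ℤ) ≤ exp (-(m Q : ℤ)) * exp (m Q : ℤ) := mul_le_mul' hv le_rfl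
            _ = 1 := by rw [← exp_add]; simp
        · have h1 : Q.1 z ≤ 1 := by
            by_contra h
            exact hQT ⟨not_le.mp h, hQ⟩
          exact mul_le_one' (hRint Q hQ r hrR) h1
    have h1 := hcond n (r * z) hn
    exact ⟨c * (r * z), h1, r, hrR, hrP, by ring⟩
  -- approximation by polynomials in a local parameter
  obtain ⟨t, htR, ht⟩ := htan
  have ht0 : t ≠ 0 := by
    rintro rfl
    rw [map_zero] at ht
    exact (exp_ne_zero).symm ht
  have hcP : P.1 c ≤ 1 := val_le_one_of_mem_adjoin xs P hP hcR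
  obtain ⟨n₁, hn₁⟩ : ∃ n₁ : ℕ, P.1 c = exp (-(n₁ : ℤ)) := by
    refine ⟨(P.ord c).toNat, ?_⟩
    rw [val_eq_exp_neg_ord P hc0]
    congr 1
    have := (val_le_one_iff P hc0).mp hcP
    omega
  have happrox : ∀ n : ℕ, ∀ z, P.1 z ≤ 1 → ∃ p ∈ R, ∃ y, P.1 y ≤ 1 ∧ z = p + t ^ n * y := by
    intro n
    induction n with
    | zero =>
      intro z hz
      exact ⟨0, R.zero_mem, z, hz, by simp⟩
    | succ n ih =>
      intro z hz
      obtain ⟨p, hp, y, hy, rfl⟩ := ih z hz
      obtain ⟨b, hb⟩ := exists_sub_val_lt_one hK P hy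
      refine ⟨p + t ^ n * algebraMap k K b,
        R.add_mem hp (R.mul_mem (R.pow_mem htR n) (R.algebraMap_mem b)),
        (y - algebraMap k K b) / t, ?_, ?_⟩
      · rw [map_div₀, ht]
        have h1 := lt_one_iff_le_exp_neg_one.mp hb
        rw [div_le_one₀ (exp_pos)]
        exact h1
      · field_simp
        ring
  intro z hz
  obtain ⟨p, hp, y, hy, rfl⟩ := happrox n₁ z hz
  refine InLoc.add (InLoc.of_mem hp) ?_
  have e : t ^ n₁ * y = c * (t ^ n₁ / c * y) := by
    field_simp
  rw [e]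
  apply hkey
  rw [map_mul, map_div₀, map_pow, ht, hn₁, exp_neg_one_pow, div_self (exp_ne_zero), one_mul]
  exact hy

theorem aeval_mem_of_mem (R : Subalgebra k K) {x : K} (hx : x ∈ R) (p : k[X]) :
    aeval x p ∈ R := by
  have h1 : Algebra.adjoin k {x} ≤ R := Algebra.adjoin_le (Set.singleton_subset_iff.mpr hx)
  apply h1
  rw [Algebra.adjoin_singleton_eq_range_aeval]
  exact ⟨p, rfl⟩

/-- polynomial independence gives linear independence over `k(x)` -/
theorem linearIndependent_of_polynomial_indep (x : K)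
    {α : Type*} [Fintype α] (Z : α → K)
    (h : ∀ p : α → k[X], ∑ a, aeval x (p a) * Z a = 0 → ∀ a, p a = 0) :
    LinearIndependent k⟮x⟯ Z := by
  classical
  have hA : LinearIndependent (Algebra.adjoin k {x}) Z := by
    rw [Fintype.linearIndependent_iff]
    intro g hg a
    have hmem : ∀ a, ∃ p : k[X], aeval x p = (g a : K) := by
      intro a
      have h1 : (g a : K) ∈ (aeval (R := k) x).range := by
        rw [← Algebra.adjoin_singleton_eq_range_aeval]
        exact (g a).2
      exact h1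
    choose p hp using hmem
    have := h p (by
      rw [← hg]
      apply Finset.sum_congr rfl
      intro a _
      rw [hp a]
      rfl) a
    apply Subtype.ext
    rw [← hp a, this, map_zero]
    rfl
  exact (LinearIndependent.iff_fractionRing (Algebra.adjoin k {x}) k⟮x⟯).mp hA

/-- a polynomially independent family in `R` of cardinality `[K : k(x)]`, `x ∈ R`, shows that `K`
is the fraction field of `R` -/
theorem exists_mul_mem_of_polynomial_indep (x : K) [FiniteDimensional k⟮x⟯ K]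
    (R : Subalgebra k K) (hxR : x ∈ R)
    {α : Type*} [Fintype α] (Z : α → K) (hZ : ∀ a, Z a ∈ R)
    (h : ∀ p : α → k[X], ∑ a, aeval x (p a) * Z a = 0 → ∀ a, p a = 0)
    (hcard : Fintype.card α = Module.finrank k⟮x⟯ K) :
    ∀ z : K, ∃ r ∈ R, ∃ s ∈ R, s ≠ 0 ∧ z * s = r := by
  have hli := linearIndependent_of_polynomial_indep x Z h
  have hspan := hli.span_eq_top_of_card_eq_finrank' hcard
  intro z
  have hz : z ∈ Submodule.span k⟮x⟯ (Set.range Z) := by rw [hspan]; exact Submodule.mem_top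
  refine Submodule.span_induction (p := fun y _ => ∃ r ∈ R, ∃ s ∈ R, s ≠ 0 ∧ y * s = r)
    ?_ ?_ ?_ ?_ hz
  · rintro _ ⟨a, rfl⟩
    exact ⟨Z a, hZ a, 1, R.one_mem, one_ne_zero, mul_one _⟩
  · exact ⟨0, R.zero_mem, 1, R.one_mem, one_ne_zero, by simp⟩
  · rintro y y' _ _ ⟨r, hr, s, hs, hs0, h1⟩ ⟨r', hr', s', hs', hs0', h1'⟩
    refine ⟨r * s' + r' * s, R.add_mem (R.mul_mem hr hs') (R.mul_mem hr' hs), s * s',
      R.mul_mem hs hs', mul_ne_zero hs0 hs0', ?_⟩
    rw [← h1, ← h1']; ring
  · rintro f y _ ⟨r, hr, s, hs, hs0, h1⟩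
    obtain ⟨u, v, huv⟩ := (IntermediateField.mem_adjoin_simple_iff k (f : K)).mp f.2
    have hsmul : f • y = (f : K) * y := rfl
    by_cases hv : aeval x v = 0
    · refine ⟨0, R.zero_mem, 1, R.one_mem, one_ne_zero, ?_⟩
      rw [hsmul, huv, hv, div_zero, zero_mul, zero_mul]
    · refine ⟨aeval x u * r, R.mul_mem (aeval_mem_of_mem R hxR u) hr, aeval x v * s,
        R.mul_mem (aeval_mem_of_mem R hxR v) hs, mul_ne_zero hv hs0, ?_⟩
      rw [hsmul, huv, ← h1]
      field_simp

/-- **Birationality criterion**: if `R ∋ x` is integral at the zeros of `x`, separates them and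
contains a local parameter at each of them, then `K` is the fraction field of `R`. -/
theorem bir_of_sep_of_tan [IsAlgClosed k] (hK : IsFunctionField k K) (R : Subalgebra k K) {x : K}
    (hxR : x ∈ R) (hx : x ∉ Set.range (algebraMap k K))
    (hint : ∀ Q : Place k K, Q.1 x < 1 → ∀ r ∈ R, Q.1 r ≤ 1)
    (htan : ∀ Q : Place k K, Q.1 x < 1 → ∃ t ∈ R, Q.1 t = exp (-1))
    (hsep : ∀ Q Q' : Place k K, Q.1 x < 1 → Q'.1 x < 1 → Q ≠ Q' →
      ∃ r ∈ R, Q.1 r = 1 ∧ Q'.1 r < 1) :
    ∀ z : K, ∃ r ∈ R, ∃ s ∈ R, s ≠ 0 ∧ z * s = r := by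
  classical
  have hfdx := finiteDimensional_of_transcendental hK (transcendental_of_not_mem_range hK hx)
  have hx0 : x ≠ 0 := by
    rintro rfl
    exact hx ⟨0, map_zero _⟩
  set S := (zeroDiv k x).support with hS
  have hord : ∀ i : S, 0 < (i : Place k K).ord x := by
    intro i
    have := Finsupp.mem_support_iff.mp i.2
    rw [zeroDiv_apply hK] at this
    by_contra h
    push Not at h
    exact this (max_eq_right h)
  have hzero : ∀ i : S, (i : Place k K).1 x < 1 := fun i =>
    (val_lt_one_iff _ hx0).mpr (hord i)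
  let e : S → ℕ := fun i => ((i : Place k K).ord x).toNat
  have he : ∀ i : S, (i : Place k K).1 x = exp (-(e i : ℤ)) := by
    intro i
    rw [val_eq_exp_neg_ord _ hx0]
    congr 2
    have := hord i
    simp only [e]
    omega
  -- local parameters and separating functions
  have h1 : ∀ i : S, ∃ t ∈ R, (i : Place k K).1 t = exp (-1) := fun i => htan _ (hzero i)
  choose t0 ht0R ht0 using h1
  have h2 : ∀ i j : S, ∃ r ∈ R, (i : Place k K).1 r = 1 ∧ (i ≠ j → (j : Place k K).1 r < 1) := by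
    intro i j
    by_cases hij : i = j
    · exact ⟨1, R.one_mem, map_one _, fun h => absurd hij h⟩
    · obtain ⟨r, hr, h1, h2⟩ := hsep i j (hzero i) (hzero j)
        (fun h => hij (Subtype.ext h))
      exact ⟨r, hr, h1, fun _ => h2⟩
  choose rr hrrR hrr1 hrr2 using h2
  let ρ : S → K := fun i => ∏ j ∈ Finset.univ.erase i, rr i j
  have hρR : ∀ i, ρ i ∈ R := fun i => Subalgebra.prod_mem _ fun j _ => hrrR i j
  have hρ1 : ∀ i : S, (i : Place k K).1 (ρ i) = 1 := by
    intro i
    simp only [ρ]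
    rw [map_prod]
    exact Finset.prod_eq_one fun j _ => hrr1 i j
  have hρ2 : ∀ i j : S, i ≠ j → (j : Place k K).1 (ρ i) ≤ exp (-1) := by
    intro i j hij
    simp only [ρ]
    rw [← Finset.mul_prod_erase _ _ (Finset.mem_erase.mpr ⟨Ne.symm hij, Finset.mem_univ j⟩), map_mul]
    have h1 := lt_one_iff_le_exp_neg_one.mp (hrr2 i j hij)
    have h2 : (j : Place k K).1 (∏ j' ∈ (Finset.univ.erase i).erase j, rr i j') ≤ 1 :=
      hint _ (hzero j) _ (Subalgebra.prod_mem _ fun j' _ => hrrR i j')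
    calc _ ≤ exp (-1) * 1 := mul_le_mul' h1 h2
      _ = exp (-1) := mul_one _
  let N : ℕ := ∑ i, e i
  have hN : ∀ i, e i ≤ N := fun i =>
    Finset.single_le_sum (f := e) (fun _ _ => Nat.zero_le _) (Finset.mem_univ i)
  let zz : S → K := fun i => ρ i ^ N
  have hzzR : ∀ i, zz i ∈ R := fun i => R.pow_mem (hρR i) N
  have hzz1 : ∀ i : S, (i : Place k K).1 (zz i) = 1 := by
    intro i
    simp only [zz]
    rw [map_pow, hρ1, one_pow]
  have hzz2 : ∀ i j : S, j ≠ i → (j : Place k K).1 (zz i) ≤ exp (-(e j : ℤ)) := by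
    intro i j hji
    simp only [zz]
    rw [map_pow]
    calc (j : Place k K).1 (ρ i) ^ N ≤ exp (-1) ^ N := pow_le_pow_left₀ zero_le (hρ2 i j (Ne.symm hji)) N
      _ = exp (-(N : ℤ)) := exp_neg_one_pow N
      _ ≤ exp (-(e j : ℤ)) := by
        rw [exp_le_exp]
        have := hN j
        omega
  let tt : S → K := fun i => t0 i * ρ i + ∑ j ∈ Finset.univ.erase i, ρ j ^ 2
  have httR : ∀ i, tt i ∈ R := fun i =>
    R.add_mem (R.mul_mem (ht0R i) (hρR i)) (Subalgebra.sum_mem _ fun j _ => R.pow_mem (hρR j) 2)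
  have htt1 : ∀ i : S, (i : Place k K).1 (tt i) = exp (-1) := by
    intro i
    simp only [tt]
    have ha : (i : Place k K).1 (t0 i * ρ i) = exp (-1) := by
      rw [map_mul, ht0, hρ1, mul_one]
    have hb : (i : Place k K).1 (∑ j ∈ Finset.univ.erase i, ρ j ^ 2) < exp (-1) := by
      apply Valuation.map_sum_lt _ exp_ne_zero
      intro j hj
      have hji : j ≠ i := (Finset.mem_erase.mp hj).1
      rw [map_pow]
      calc (i : Place k K).1 (ρ j) ^ 2 ≤ exp (-1) ^ 2 := pow_le_pow_left₀ zero_le (hρ2 j i hji) 2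
        _ = exp (-((2 : ℕ) : ℤ)) := exp_neg_one_pow 2
        _ < exp (-1) := by rw [exp_lt_exp]; norm_num
    rw [Valuation.map_add_eq_of_lt_left _ (by rw [ha]; exact hb), ha]
  have htt2 : ∀ i j : S, i ≠ j → (j : Place k K).1 (tt i) = 1 := by
    intro i j hij
    simp only [tt]
    have hjmem : j ∈ Finset.univ.erase i := Finset.mem_erase.mpr ⟨Ne.symm hij, Finset.mem_univ j⟩
    rw [← Finset.add_sum_erase _ _ hjmem, ← add_assoc, add_comm (t0 i * ρ i), add_assoc]
    have ha : (j : Place k K).1 (ρ j ^ 2) = 1 := by rw [map_pow, hρ1, one_pow]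
    have hb : (j : Place k K).1 (t0 i * ρ i + ∑ j' ∈ (Finset.univ.erase i).erase j, ρ j' ^ 2) < 1 := by
      refine lt_of_le_of_lt (Valuation.map_add _ _ _) (max_lt ?_ ?_)
      · rw [map_mul]
        calc (j : Place k K).1 (t0 i) * (j : Place k K).1 (ρ i) ≤ 1 * exp (-1) :=
              mul_le_mul' (hint _ (hzero j) _ (ht0R i)) (hρ2 i j hij)
          _ < 1 := by rw [one_mul, ← exp_zero, exp_lt_exp]; norm_num
      · apply Valuation.map_sum_lt _ one_ne_zero
        intro j' hj'
        have hj'j : j' ≠ j := (Finset.mem_erase.mp hj').1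
        rw [map_pow]
        calc (j : Place k K).1 (ρ j') ^ 2 ≤ exp (-1) ^ 2 :=
              pow_le_pow_left₀ zero_le (hρ2 j' j hj'j) 2
          _ = exp (-((2 : ℕ) : ℤ)) := exp_neg_one_pow 2
          _ < 1 := by rw [← exp_zero, exp_lt_exp]; norm_num
    rw [Valuation.map_add_eq_of_lt_left _ (by rw [ha]; exact hb), ha]
  -- the polynomially independent family
  let Z : (Σ a : S, Fin (e a)) → K := fun α => tt α.1 ^ (α.2 : ℕ) * zz α.1
  have hZR : ∀ α, Z α ∈ R := fun α => R.mul_mem (R.pow_mem (httR α.1) _) (hzzR α.1)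
  have hindep : ∀ p : (Σ a : S, Fin (e a)) → k[X], ∑ α, aeval x (p α) * Z α = 0 → ∀ α, p α = 0 := by
    intro p hrel
    refine poly_indep (ι := S) (A := S) (fun i => (i : Place k K)) x e he id zz
      (fun a => (hzz1 a).le) ?_ tt htt1 htt2 zz (fun a => by rw [sub_self, map_zero]; exact zero_lt_one)
      (fun a j hj => hzz2 a j hj) p hrel
    intro i c hc a hai
    simp only [id] at hai hc
    subst hai
    rw [Finset.sum_ite_eq' Finset.univ a (fun a => c a • zz a), if_pos (Finset.mem_univ a)] at hc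
    by_contra hca
    rw [val_smul _ hca, hzz1] at hc
    exact lt_irrefl _ hc
  have hcard : Fintype.card (Σ a : S, Fin (e a)) = Module.finrank k⟮x⟯ K := by
    have h1 := deg_zeroDiv_eq hK hx
    have h2 : (zeroDiv k x).deg = ((∑ i : S, e i : ℕ) : ℤ) := by
      unfold Divisor.deg Finsupp.sum
      rw [← hS, ← Finset.sum_coe_sort S]
      push_cast
      apply Finset.sum_congr rfl
      intro i _
      rw [zeroDiv_apply hK, max_eq_left (hord i).le, deg_eq_one_of_isAlgClosed hK]
      simp only [e]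
      rw [Int.toNat_of_nonneg (hord i).le]
      simp
    rw [Fintype.card_sigma]
    simp only [Fintype.card_fin]
    have : ((∑ i : S, e i : ℕ) : ℤ) = (Module.finrank k⟮x⟯ K : ℤ) := by rw [← h2, h1]
    exact_mod_cast this
  exact exists_mul_mem_of_polynomial_indep x R hxR Z hZR hindep hcard

theorem val_eq_of_mem_L_of_not_mem {D : Divisor k K} {P : Place k K} {f : K} (hf : f ∈ L D)
    (hf' : f ∉ L (D - Finsupp.single P (1 : ℤ))) : P.1 f = exp (D P) := by
  rw [mem_L_iff] at hf'
  push Not at hf'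
  obtain ⟨Q, hQ⟩ := hf'
  have hf0 : f ≠ 0 := by
    rintro rfl
    rw [map_zero] at hQ
    exact absurd hQ (not_lt.mpr zero_le)
  by_cases hQP : Q = P
  · subst hQP
    rw [Finsupp.sub_apply, Finsupp.single_eq_same] at hQ
    have h1 := hf Q
    rw [val_le_exp_iff Q hf0] at h1
    rw [← not_le, val_le_exp_iff Q hf0] at hQ
    rw [val_eq_exp_neg_ord Q hf0]
    congr 1
    omega
  · rw [Finsupp.sub_apply, Finsupp.single_eq_of_ne hQP, sub_zero] at hQ
    exact absurd (hf Q) (not_le.mpr hQ)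

theorem exists_mem_L_not_mem_sub_single (hK : IsFunctionField k K) {D : Divisor k K}
    {P : Place k K} (h : ell (D - Finsupp.single P (1 : ℤ)) < ell D) :
    ∃ f ∈ L D, f ∉ L (D - Finsupp.single P (1 : ℤ)) := by
  by_contra hcon
  push Not at hcon
  have hle : L D ≤ L (D - Finsupp.single P (1 : ℤ)) := fun f hf => hcon f hf
  have := finiteDimensional_L hK (D - Finsupp.single P (1 : ℤ))
  have h1 := Submodule.finrank_mono hle
  unfold ell at h
  omega

theorem ell_sub_single_lt_of_deg_ge (hK : IsFunctionField k K) {D : Divisor k K}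
    (hD : 2 * (genus k K : ℤ) ≤ D.deg) {P : Place k K} (hP : P.deg = 1) :
    ell (D - Finsupp.single P 1) < ell D := by
  have hdegP : (D - Finsupp.single P 1).deg = D.deg - 1 := by
    rw [deg_sub, deg_single, hP]; simp
  have h1 := ell_eq_of_deg_ge hK (D := D) (by omega)
  have h2 := ell_eq_of_deg_ge hK (D := D - Finsupp.single P 1) (by omega)
  rw [hdegP] at h2
  have : (ell (D - Finsupp.single P 1) : ℤ) < ell D := by omega
  exact_mod_cast this

/-- **Very ampleness**: if `H ≥ 0` satisfies `ℓ(H - Q) < ℓ(H)` and `ℓ(H - Q - Q') < ℓ(H - Q)` for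
all places, then the algebra generated by `L(H)` has local ring `O_P` at every place `P` outside
the support of `H`. -/
theorem inLoc_of_very_ample [IsAlgClosed k] (hK : IsFunctionField k K) {H : Divisor k K}
    (hH : 0 ≤ H)
    (h1 : ∀ Q : Place k K, ell (H - Finsupp.single Q (1 : ℤ)) < ell H)
    (h2 : ∀ Q Q' : Place k K, ell (H - Finsupp.single Q (1 : ℤ) - Finsupp.single Q' (1 : ℤ)) <
      ell (H - Finsupp.single Q (1 : ℤ)))
    {ι : Type*} [Fintype ι] (xs : ι → K) (hxs : Submodule.span k (Set.range xs) = L H)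
    (P : Place k K) (hP : H P = 0) :
    ∀ z, P.1 z ≤ 1 → InLoc (Algebra.adjoin k (Set.range xs)) P z := by
  classical
  set R := Algebra.adjoin k (Set.range xs) with hR
  have hLR : ∀ f ∈ L H, f ∈ R := by
    intro f hf
    rw [← hxs] at hf
    exact Algebra.span_le_adjoin k _ hf
  -- integrality at places outside the support
  have hxsint : ∀ Q : Place k K, H Q = 0 → ∀ i, Q.1 (xs i) ≤ 1 := by
    intro Q hQ i
    have : xs i ∈ L H := by rw [← hxs]; exact Submodule.subset_span (Set.mem_range_self i)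
    have := this Q
    rwa [hQ, exp_zero] at this
  have hRint : ∀ Q : Place k K, H Q = 0 → ∀ r ∈ R, Q.1 r ≤ 1 := fun Q hQ r hr =>
    val_le_one_of_mem_adjoin xs Q (hxsint Q hQ) hr
  have hpole : ∀ Q : Place k K, H Q ≠ 0 → ∃ i, 1 < Q.1 (xs i) := by
    intro Q hQ
    by_contra hcon
    push Not at hcon
    obtain ⟨f, hf, hf'⟩ := exists_mem_L_not_mem_sub_single hK (h1 Q)
    have hv := val_eq_of_mem_L_of_not_mem hf hf'
    have hle : Submodule.span k (Set.range xs) ≤ valSub Q := by
      rw [Submodule.span_le]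
      rintro _ ⟨i, rfl⟩
      exact hcon i
    rw [hxs] at hle
    have h3 : Q.1 f ≤ 1 := hle hf
    rw [hv, ← exp_zero, exp_le_exp] at h3
    have : 0 ≤ H Q := hH Q
    omega
  have hzero_of_int : ∀ Q : Place k K, (∀ i, Q.1 (xs i) ≤ 1) → H Q = 0 := by
    intro Q hQ
    by_contra hne
    obtain ⟨i, hi⟩ := hpole Q hne
    exact absurd (hQ i) (not_le.mpr hi)
  -- local parameters and separation
  have htanQ : ∀ Q : Place k K, H Q = 0 → ∃ t ∈ R, Q.1 t = exp (-1) := by
    intro Q hQ
    obtain ⟨f, hf, hf'⟩ := exists_mem_L_not_mem_sub_single hK (h2 Q Q)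
    have hv := val_eq_of_mem_L_of_not_mem hf hf'
    rw [Finsupp.sub_apply, Finsupp.single_eq_same, hQ] at hv
    refine ⟨f, hLR f (L_mono (sub_le_self _ (Finsupp.single_nonneg.mpr zero_le_one)) hf), ?_⟩
    rw [hv]; norm_num
  have hsepQ : ∀ Q Q' : Place k K, H Q = 0 → H Q' = 0 → Q ≠ Q' →
      ∃ r ∈ R, Q.1 r = 1 ∧ Q'.1 r < 1 := by
    intro Q Q' hQ hQ' hne
    obtain ⟨f, hf, hf'⟩ := exists_mem_L_not_mem_sub_single hK (h2 Q' Q)
    have hv := val_eq_of_mem_L_of_not_mem hf hf'
    rw [Finsupp.sub_apply, Finsupp.single_eq_of_ne hne, hQ] at hv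
    refine ⟨f, hLR f (L_mono (sub_le_self _ (Finsupp.single_nonneg.mpr zero_le_one)) hf), ?_, ?_⟩
    · rw [hv]; norm_num
    · have := hf Q'
      rw [Finsupp.sub_apply, Finsupp.single_eq_same, hQ'] at this
      refine lt_of_le_of_lt this ?_
      rw [← exp_zero, exp_lt_exp]; norm_num
  -- a generic element with poles along the support of `H`
  have hSfin : {Q : Place k K | H Q ≠ 0}.Finite := by
    have : {Q : Place k K | H Q ≠ 0} = ↑H.support := by
      ext Q; simp
    rw [this]
    exact H.support.finite_toSet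
  obtain ⟨a, ha⟩ := exists_generic_pole xs {Q : Place k K | H Q ≠ 0} hSfin (fun Q hQ => hpole Q hQ)
  set x := ∑ i, a i • xs i with hx
  have hxR : x ∈ R := Subalgebra.sum_mem _ fun i _ =>
    Subalgebra.smul_mem _ (Algebra.subset_adjoin (Set.mem_range_self i)) _
  have hHne : ∃ Q₀ : Place k K, H Q₀ ≠ 0 := by
    by_contra hcon
    push Not at hcon
    have hH0 : H = 0 := by ext Q; exact hcon Q
    obtain ⟨Q⟩ := nonempty_place hK
    have h3 := h1 Q
    have h4 := h2 Q Q
    rw [hH0] at h3 h4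
    rw [ell_zero hK] at h3
    omega
  obtain ⟨Q₀, hQ₀⟩ := hHne
  have hxnc : x ∉ Set.range (algebraMap k K) := by
    rintro ⟨c, hc⟩
    have := ha Q₀ hQ₀
    rw [← hc] at this
    exact absurd (val_algebraMap_le Q₀ c) (not_le.mpr this)
  have hzeroH : ∀ Q : Place k K, Q.1 x < 1 → H Q = 0 := by
    intro Q hQ
    by_contra hne
    have := ha Q hne
    exact absurd (lt_trans hQ this) (lt_irrefl _)
  have hbir := bir_of_sep_of_tan hK R hxR hxnc
    (fun Q hQ => hRint Q (hzeroH Q hQ))
    (fun Q hQ => htanQ Q (hzeroH Q hQ))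
    (fun Q Q' hQ hQ' hne => hsepQ Q Q' (hzeroH Q hQ) (hzeroH Q' hQ') hne)
  refine inLoc_of_sep_of_tan hK xs P (hxsint P hP) hbir ?_ (htanQ P hP)
  intro Q hQP hQint
  obtain ⟨r, hr, h3, h4⟩ := hsepQ P Q hP (hzero_of_int Q hQint) (Ne.symm hQP)
  exact ⟨r, hr, h4, h3⟩

/-- the affine chart of the map given by generators of `L(D)` at a place `P` that is not a base
point -/
theorem exists_chart (hK : IsFunctionField k K) {D : Divisor k K} {ι : Type*} [Fintype ι]
    (φ : ι → K) (hspan : Submodule.span k (Set.range φ) = L D) (P : Place k K)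
    (hP : ell (D - Finsupp.single P (1 : ℤ)) < ell D) :
    ∃ j, φ j ≠ 0 ∧ (∀ i, P.1 (φ i) ≤ P.1 (φ j)) ∧ 0 ≤ D + FunFld.div k (φ j) ∧
      (D + FunFld.div k (φ j)) P = 0 ∧
      Submodule.span k (Set.range fun i => φ i / φ j) = L (D + FunFld.div k (φ j)) := by
  have hφL : ∀ i, φ i ∈ L D := fun i => by
    rw [← hspan]; exact Submodule.subset_span (Set.mem_range_self i)
  have hex : ∃ j, φ j ∉ L (D - Finsupp.single P (1 : ℤ)) := by
    by_contra hcon
    push Not at hcon
    have hle : L D ≤ L (D - Finsupp.single P (1 : ℤ)) := by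
      rw [← hspan, Submodule.span_le]
      rintro _ ⟨i, rfl⟩
      exact hcon i
    have := finiteDimensional_L hK (D - Finsupp.single P (1 : ℤ))
    have h1 := Submodule.finrank_mono hle
    unfold ell at hP
    omega
  obtain ⟨j, hj⟩ := hex
  have hv := val_eq_of_mem_L_of_not_mem (hφL j) hj
  have hj0 : φ j ≠ 0 := by
    intro h
    rw [h, map_zero] at hv
    exact exp_ne_zero hv.symm
  have hord : P.ord (φ j) = -(D P) := by
    rw [val_eq_exp_neg_ord P hj0, exp_inj] at hv
    omega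
  refine ⟨j, hj0, fun i => by rw [hv]; exact hφL i P,
    (nonneg_add_div_iff hK D hj0).mp (hφL j), ?_, ?_⟩
  · rw [Finsupp.add_apply, div_apply hK, hord]; ring
  · apply le_antisymm
    · rw [Submodule.span_le]
      rintro _ ⟨i, rfl⟩
      rw [SetLike.mem_coe, ← mul_mem_L_iff hK D hj0]
      rw [mul_div_cancel₀ _ hj0]
      exact hφL i
    · intro y hy
      have h1 : φ j * y ∈ L D := (mul_mem_L_iff hK D hj0 y).mpr hy
      rw [← hspan] at h1
      obtain ⟨c, hc⟩ := (Submodule.mem_span_range_iff_exists_fun k).mp h1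
      have h2 : y = ∑ i, c i • (φ i / φ j) := by
        have : ∑ i, c i • (φ i / φ j) = (∑ i, c i • φ i) / φ j := by
          rw [Finset.sum_div]
          exact Finset.sum_congr rfl fun i _ => by rw [smul_div_assoc]
        rw [this, hc, mul_div_cancel_left₀ _ hj0]
      rw [h2]
      exact Submodule.sum_mem _ fun i _ =>
        Submodule.smul_mem _ _ (Submodule.subset_span (Set.mem_range_self i))

/-- the map given by generators of `L(D)` is nonsingular at every place, provided
`ℓ(D - Q) < ℓ(D)` and `ℓ(D - Q - Q') < ℓ(D - Q)` for all places `Q`, `Q'` -/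
theorem isNonsingularAt_of_very_ample [IsAlgClosed k] (hK : IsFunctionField k K)
    {D : Divisor k K}
    (h1 : ∀ Q : Place k K, ell (D - Finsupp.single Q (1 : ℤ)) < ell D)
    (h2 : ∀ Q Q' : Place k K, ell (D - Finsupp.single Q (1 : ℤ) - Finsupp.single Q' (1 : ℤ)) <
      ell (D - Finsupp.single Q (1 : ℤ)))
    {ι : Type*} [Fintype ι] (φ : ι → K) (hspan : Submodule.span k (Set.range φ) = L D)
    (P : Place k K) : IsNonsingularAt φ P := by
  obtain ⟨j, hj0, hmin, hH, hHP, hxs⟩ := exists_chart hK φ hspan P (h1 P)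
  have e1 : ∀ E : Divisor k K, ell (D + FunFld.div k (φ j) - E) = ell (D - E) := by
    intro E
    have : D + FunFld.div k (φ j) - E = (D - E) + FunFld.div k (φ j) := by abel
    rw [this, ell_add_div hK _ hj0]
  have e0 : ell (D + FunFld.div k (φ j)) = ell D := ell_add_div hK _ hj0
  have key := inLoc_of_very_ample hK hH
    (fun Q => by rw [e1, e0]; exact h1 Q)
    (fun Q Q' => by
      have : D + FunFld.div k (φ j) - Finsupp.single Q (1 : ℤ) - Finsupp.single Q' (1 : ℤ) =
          D + FunFld.div k (φ j) - (Finsupp.single Q (1 : ℤ) + Finsupp.single Q' (1 : ℤ)) := by abel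
      rw [this, e1, e1]
      have : D - (Finsupp.single Q (1 : ℤ) + Finsupp.single Q' (1 : ℤ)) =
          D - Finsupp.single Q (1 : ℤ) - Finsupp.single Q' (1 : ℤ) := by abel
      rw [this]
      exact h2 Q Q')
    (fun i => φ i / φ j) hxs P hHP
  intro z hz
  obtain ⟨u, hu, w, hw, hw1, hzw⟩ := key z hz
  exact ⟨j, hj0, hmin, u, hu, w, hw, hw1, hzw⟩

/-- change of affine chart -/
theorem adjoin_ratio_mul_pow {ι : Type*} (φ : ι → K) (j j' : ι) (hj : φ j ≠ 0) (hj' : φ j' ≠ 0)
    {y : K} (hy : y ∈ Algebra.adjoin k (Set.range fun i => φ i / φ j')) :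
    ∃ m : ℕ, y * (φ j' / φ j) ^ m ∈ Algebra.adjoin k (Set.range fun i => φ i / φ j) := by
  have hη : φ j' / φ j ∈ Algebra.adjoin k (Set.range fun i => φ i / φ j) :=
    Algebra.subset_adjoin ⟨j', rfl⟩
  refine Algebra.adjoin_induction
    (p := fun y _ => ∃ m : ℕ, y * (φ j' / φ j) ^ m ∈ Algebra.adjoin k (Set.range fun i => φ i / φ j))
    ?_ ?_ ?_ ?_ hy
  · rintro _ ⟨i, rfl⟩
    refine ⟨1, ?_⟩
    have : φ i / φ j' * (φ j' / φ j) ^ 1 = φ i / φ j := by
      field_simp
    rw [this]
    exact Algebra.subset_adjoin ⟨i, rfl⟩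
  · intro c
    exact ⟨0, by rw [pow_zero, mul_one]; exact Subalgebra.algebraMap_mem _ c⟩
  · rintro a b _ _ ⟨m, hm⟩ ⟨m', hm'⟩
    refine ⟨m + m', ?_⟩
    have : (a + b) * (φ j' / φ j) ^ (m + m') =
        (a * (φ j' / φ j) ^ m) * (φ j' / φ j) ^ m' + (b * (φ j' / φ j) ^ m') * (φ j' / φ j) ^ m := by
      rw [pow_add]; ring
    rw [this]
    exact Subalgebra.add_mem _ (Subalgebra.mul_mem _ hm (Subalgebra.pow_mem _ hη _))
      (Subalgebra.mul_mem _ hm' (Subalgebra.pow_mem _ hη _))
  · rintro a b _ _ ⟨m, hm⟩ ⟨m', hm'⟩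
    refine ⟨m + m', ?_⟩
    have : (a * b) * (φ j' / φ j) ^ (m + m') =
        (a * (φ j' / φ j) ^ m) * (b * (φ j' / φ j) ^ m') := by
      rw [pow_add]; ring
    rw [this]
    exact Subalgebra.mul_mem _ hm hm'

theorem exists_max_val {ι : Type*} [Finite ι] [Nonempty ι] (φ : ι → K) (P : Place k K) :
    ∃ j, ∀ i, P.1 (φ i) ≤ P.1 (φ j) :=
  Finite.exists_max fun i => P.1 (φ i)

/-- the local ring of a projective map does not depend on the chart -/
theorem inLoc_of_inLocRing {ι : Type*} (φ : ι → K) (P : Place k K) (j : ι) (hj : φ j ≠ 0)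
    (hmax : ∀ i, P.1 (φ i) ≤ P.1 (φ j)) {z : K} (hz : InLocRing φ P z) :
    InLoc (Algebra.adjoin k (Set.range fun i => φ i / φ j)) P z := by
  obtain ⟨j', hj', hmax', u, hu, w, hw, hw1, hzw⟩ := hz
  have hη : φ j' / φ j ∈ Algebra.adjoin k (Set.range fun i => φ i / φ j) :=
    Algebra.subset_adjoin ⟨j', rfl⟩
  have hvη : P.1 (φ j' / φ j) = 1 := by
    rw [map_div₀, le_antisymm (hmax j') (hmax' j)]
    exact div_self (val_ne_zero P hj)
  obtain ⟨m₁, h1⟩ := adjoin_ratio_mul_pow φ j j' hj hj' hu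
  obtain ⟨m₂, h2⟩ := adjoin_ratio_mul_pow φ j j' hj hj' hw
  refine ⟨u * (φ j' / φ j) ^ m₁ * (φ j' / φ j) ^ m₂,
    Subalgebra.mul_mem _ h1 (Subalgebra.pow_mem _ hη _),
    w * (φ j' / φ j) ^ m₂ * (φ j' / φ j) ^ m₁,
    Subalgebra.mul_mem _ h2 (Subalgebra.pow_mem _ hη _), ?_, ?_⟩
  · rw [map_mul, map_mul, map_pow, map_pow, hvη, hw1]; simp
  · rw [← hzw]; ring

/-- `K` is the fraction field of every affine chart of a birational projective map -/
theorem bir_chart {ι : Type*} (φ : ι → K) (i₀ j : ι) (h0 : φ i₀ ≠ 0) (hj : φ j ≠ 0)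
    (hbir : IntermediateField.adjoin k (Set.range fun i => φ i / φ i₀) = ⊤) (z : K) :
    ∃ r ∈ Algebra.adjoin k (Set.range fun i => φ i / φ j),
      ∃ s ∈ Algebra.adjoin k (Set.range fun i => φ i / φ j), s ≠ 0 ∧ z * s = r := by
  have hz : z ∈ IntermediateField.adjoin k (Set.range fun i => φ i / φ i₀) := by
    rw [hbir]; exact IntermediateField.mem_top
  obtain ⟨r, hr, s, hs, hzrs⟩ := IntermediateField.mem_adjoin_iff_div.mp hz
  have hη : φ i₀ / φ j ∈ Algebra.adjoin k (Set.range fun i => φ i / φ j) :=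
    Algebra.subset_adjoin ⟨i₀, rfl⟩
  have hη0 : φ i₀ / φ j ≠ 0 := div_ne_zero h0 hj
  by_cases hs0 : s = 0
  · refine ⟨0, Subalgebra.zero_mem _, 1, Subalgebra.one_mem _, one_ne_zero, ?_⟩
    rw [hzrs, hs0, div_zero, zero_mul]
  · obtain ⟨m₁, h1⟩ := adjoin_ratio_mul_pow φ j i₀ hj h0 hr
    obtain ⟨m₂, h2⟩ := adjoin_ratio_mul_pow φ j i₀ hj h0 hs
    refine ⟨r * (φ i₀ / φ j) ^ m₁ * (φ i₀ / φ j) ^ m₂,
      Subalgebra.mul_mem _ h1 (Subalgebra.pow_mem _ hη _),
      s * (φ i₀ / φ j) ^ m₂ * (φ i₀ / φ j) ^ m₁,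
      Subalgebra.mul_mem _ h2 (Subalgebra.pow_mem _ hη _),
      mul_ne_zero (mul_ne_zero hs0 (pow_ne_zero _ hη0)) (pow_ne_zero _ hη0), ?_⟩
    rw [hzrs]
    field_simp

end Groth.Agent.Lib.helper16.FF
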