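import Groth.Agent.Lib.helper16.FFRes
import Mathlib.RingTheory.Valuation.LocalSubring
import Mathlib.RingTheory.Valuation.Discrete.IsDiscreteValuationRing
import Mathlib.RingTheory.Bezout

/-! Helper library (helper16): existence of places of a function field. -/

set_option autoImplicit false

namespace Groth.Agent.Lib.helper16.FF

open FunFld WithZero Polynomial
open scoped IntermediateField

variable {k K : Type*} [Field k] [Field K] [Algebra k K]

section general

variable {Γ : Type*} [LinearOrderedCommGroupWithZero Γ] (v : Valuation K Γ)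
  (hv : ∀ c : k, v (algebraMap k K c) ≤ 1)

include hv

theorem gval_algebraMap {c : k} (hc : c ≠ 0) : v (algebraMap k K c) = 1 := by
  apply le_antisymm (hv c)
  have h1 := hv c⁻¹
  rw [map_inv₀, map_inv₀] at h1
  have h0 : v (algebraMap k K c) ≠ 0 := by
    rw [Valuation.ne_zero_iff]
    exact (_root_.map_ne_zero _).mpr hc
  exact (inv_le_one₀ (zero_lt_iff.mpr h0)).mp h1

theorem gval_smul_le (c : k) (x : K) : v (c • x) ≤ v x := by
  rw [Algebra.smul_def, map_mul]
  calc _ ≤ 1 * v x := by gcongr; exact hv c
    _ = _ := one_mul _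

theorem gval_aeval_le_one {x : K} (hx : v x ≤ 1) (q : k[X]) : v (aeval x q) ≤ 1 := by
  rw [aeval_eq_sum_range]
  apply Valuation.map_sum_le
  intro i _
  refine le_trans (gval_smul_le v hv _ _) ?_
  rw [map_pow]
  exact pow_le_one₀ zero_le hx

theorem gval_aeval_sub_le {x : K} (hx : v x ≤ 1) (q : k[X]) :
    v (aeval x q - algebraMap k K (q.eval 0)) ≤ v x := by
  have h1 : q = divX q * X + C (q.coeff 0) := (divX_mul_X_add q).symm
  have h2 : aeval x q - algebraMap k K (q.eval 0) = aeval x (divX q) * x := by
    conv_lhs => rw [h1]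
    rw [← coeff_zero_eq_eval_zero]
    simp
  rw [h2, map_mul]
  calc _ ≤ 1 * v x := by gcongr; exact gval_aeval_le_one v hv hx _
    _ = _ := one_mul _

theorem gval_aeval_le {x : K} (hx : v x ≤ 1) (q : k[X]) (hq : q.eval 0 = 0) :
    v (aeval x q) ≤ v x := by
  have := gval_aeval_sub_le v hv hx q
  rwa [hq, map_zero, sub_zero] at this

theorem gval_aeval_eq_one {x : K} (hx : v x < 1) (q : k[X]) (hq : q.eval 0 ≠ 0) :
    v (aeval x q) = 1 := by
  have h1 : aeval x q = algebraMap k K (q.eval 0) + (aeval x q - algebraMap k K (q.eval 0)) := by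
    ring
  rw [h1, Valuation.map_add_eq_of_lt_left, gval_algebraMap v hv hq]
  rw [gval_algebraMap v hv hq]
  exact lt_of_le_of_lt (gval_aeval_sub_le v hv hx.le q) hx

end general

/-- X-adic induction, in general. -/
theorem poly_indep_of_core {α : Type*} [Fintype α] (x : K) (hx0 : x ≠ 0) (Z : α → K)
    (core : ∀ q : α → k[X], ∑ a, aeval x (q a) * Z a = 0 → ∀ a, (q a).eval 0 = 0)
    (p : α → k[X]) (hrel : ∑ a, aeval x (p a) * Z a = 0) : ∀ a, p a = 0 := by
  classical
  intro α₀
  have key : ∀ n : ℕ, ∀ p : α → k[X],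
      (∑ a, aeval x (p a) * Z a = 0) → ∀ a, X ^ n ∣ p a := by
    intro n
    induction n with
    | zero => intro p _ a; simp
    | succ n ih =>
      intro p hp a
      have h1 := ih p hp
      choose q hq using h1
      have hq' : ∑ a, aeval x (q a) * Z a = 0 := by
        have : x ^ n * ∑ a, aeval x (q a) * Z a = 0 := by
          rw [← hp, Finset.mul_sum]
          apply Finset.sum_congr rfl
          intro a _
          rw [hq a, map_mul, map_pow, aeval_X]
          ring
        rcases mul_eq_zero.mp this with h | h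
        · exact absurd (eq_zero_of_pow_eq_zero h) hx0
        · exact h
      have h2 := core q hq' a
      rw [hq a, pow_succ]
      apply mul_dvd_mul_left
      rw [X_dvd_iff, coeff_zero_eq_eval_zero]
      exact h2
  by_contra hne
  have h1 := key ((p α₀).natDegree + 1) p hrel α₀
  have h2 := natDegree_le_of_dvd h1 hne
  rw [natDegree_X_pow] at h2
  omega

open scoped IntermediateField.algebraAdjoinAdjoin in
/-- chains of values strictly between `v x` and `1` are bounded by `[K : k(x)]` -/
theorem chain_card_le {Γ : Type*} [LinearOrderedCommGroupWithZero Γ] (v : Valuation K Γ)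
    (hv : ∀ c : k, v (algebraMap k K c) ≤ 1) (x : K) [FiniteDimensional k⟮x⟯ K] (hx0 : x ≠ 0)
    (hx1 : v x < 1) (n : ℕ) (y : Fin n → K) (hy : StrictMono (fun i => v (y i)))
    (hy0 : ∀ i, v x ≤ v (y i)) (hy1 : ∀ i, v (y i) < 1) :
    n ≤ Module.finrank k⟮x⟯ K := by
  classical
  have hvx0 : v x ≠ 0 := by rwa [Valuation.ne_zero_iff]
  have := card_le_finrank_of_polynomial_indep (k := k) x y
    (poly_indep_of_core x hx0 y ?_)
  · simpa using this
  intro q hrel
  by_contra hcon
  push Not at hcon
  -- the largest index with nonzero constant term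
  have hne : (Finset.univ.filter (fun i => (q i).eval 0 ≠ 0)).Nonempty := by
    obtain ⟨i, hi⟩ := hcon
    exact ⟨i, by simp [hi]⟩
  let j := (Finset.univ.filter (fun i => (q i).eval 0 ≠ 0)).max' hne
  have hj : (q j).eval 0 ≠ 0 := by
    have := Finset.max'_mem _ hne
    simpa using this
  have hjmax : ∀ i, j < i → (q i).eval 0 = 0 := by
    intro i hi
    by_contra h
    have : i ≤ j := Finset.le_max' _ i (by simp [h])
    exact absurd hi (not_lt.mpr this)
  have hvyj0 : v (y j) ≠ 0 := fun h => hvx0 (le_antisymm (h ▸ hy0 j) zero_le)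
  have hmain : v (aeval x (q j) * y j) = v (y j) := by
    rw [map_mul, gval_aeval_eq_one v hv hx1 _ hj, one_mul]
  have hothers : v (∑ i ∈ Finset.univ.erase j, aeval x (q i) * y i) < v (y j) := by
    apply Valuation.map_sum_lt _ hvyj0
    intro i hi
    have hij : i ≠ j := (Finset.mem_erase.mp hi).1
    rw [map_mul]
    rcases lt_or_gt_of_ne hij with h | h
    · calc v (aeval x (q i)) * v (y i) ≤ 1 * v (y i) := by
            gcongr; exact gval_aeval_le_one v hv hx1.le _
        _ = v (y i) := one_mul _
        _ < v (y j) := hy h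
    · have hq0 := hjmax i h
      calc v (aeval x (q i)) * v (y i) ≤ v x * v (y i) := by
            gcongr; exact gval_aeval_le v hv hx1.le _ hq0
        _ < v x * 1 := by
            apply mul_lt_mul_of_pos_left (hy1 i) (zero_lt_iff.mpr hvx0)
        _ = v x := mul_one _
        _ ≤ v (y j) := hy0 j
  have hsum : ∑ i, aeval x (q i) * y i =
      aeval x (q j) * y j + ∑ i ∈ Finset.univ.erase j, aeval x (q i) * y i := by
    exact (Finset.add_sum_erase _ (fun i => aeval x (q i) * y i) (Finset.mem_univ j)).symm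
  have : v (∑ i, aeval x (q i) * y i) = v (y j) := by
    rw [hsum, Valuation.map_add_eq_of_lt_left, hmain]
    rw [hmain]; exact hothers
  rw [hrel, map_zero] at this
  exact hvyj0 this.symm

theorem wfDvdMonoid_of_valuationSubring (hK : IsFunctionField k K) (O : ValuationSubring K)
    (hk : ∀ c : k, algebraMap k K c ∈ O) : WfDvdMonoid O := by
  refine ⟨wellFounded_iff_isEmpty_descending_chain.mpr ⟨?_⟩⟩
  rintro ⟨f, hf⟩
  let v := O.valuation
  have hv : ∀ c : k, v (algebraMap k K c) ≤ 1 := fun c => (O.valuation_le_one_iff _).mpr (hk c)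
  have hstep : ∀ n, v (f n : K) < v (f (n + 1) : K) := by
    intro n
    obtain ⟨hne, u, hu, heq⟩ := hf n
    have h1 : (f n : K) = (f (n + 1) : K) * (u : K) := by rw [heq]; rfl
    rw [h1, map_mul]
    have hu1 : v (u : K) < 1 := (O.valuation_lt_one_iff u).mp (by
      rwa [IsLocalRing.mem_maximalIdeal, mem_nonunits_iff])
    have h0 : 0 < v (f (n + 1) : K) := by
      rw [zero_lt_iff, Valuation.ne_zero_iff]
      exact fun h => hne (Subtype.ext h)
    calc _ < v (f (n + 1) : K) * 1 := mul_lt_mul_of_pos_left hu1 h0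
      _ = _ := mul_one _
  have hmono : StrictMono (fun n => v (f n : K)) := strictMono_nat_of_lt_succ hstep
  have hle : ∀ n, v (f n : K) ≤ 1 := fun n => O.valuation_le_one (f n)
  have hlt : ∀ n, v (f n : K) < 1 := fun n => lt_of_lt_of_le (hstep n) (hle (n + 1))
  have hx0 : (f 1 : K) ≠ 0 := fun h => (hf 0).1 (Subtype.ext h)
  have hxr : (f 1 : K) ∉ Set.range (algebraMap k K) := by
    rintro ⟨c, hc⟩
    have hc0 : c ≠ 0 := by
      rintro rfl
      rw [map_zero] at hc
      exact hx0 hc.symm
    have := hlt 1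
    rw [← hc, gval_algebraMap v hv hc0] at this
    exact lt_irrefl _ this
  have := finiteDimensional_of_transcendental hK (transcendental_of_not_mem_range hK hxr)
  have hbound := chain_card_le v hv (f 1 : K) hx0 (hlt 1) (Module.finrank k⟮(f 1 : K)⟯ K + 1)
    (fun i => (f (1 + i) : K)) (fun i j hij => hmono (by
      have : (i : ℕ) < j := hij
      omega)) (fun i => hmono.monotone (by omega)) (fun i => hlt _)
  omega

open IsDedekindDomain IsDedekindDomain.HeightOneSpectrum in
/-- every proper valuation ring of `K` containing `k` is the valuation ring of a place -/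
theorem exists_place_of_valuationSubring (hK : IsFunctionField k K) (O : ValuationSubring K)
    (hk : ∀ c : k, algebraMap k K c ∈ O) (hO : O ≠ ⊤) : ∃ P : Place k K, P.O = O := by
  have := wfDvdMonoid_of_valuationSubring hK O hk
  have htfae := IsBezout.TFAE (R := O)
  have h31 : WfDvdMonoid O → IsPrincipalIdealRing O := (htfae.out 3 1).mp
  have hpid : IsPrincipalIdealRing O := h31 this
  have hnf : IsLocalRing.maximalIdeal O ≠ ⊥ := by
    obtain ⟨y, hy⟩ : ∃ y : K, y ∉ O := by
      by_contra h
      push Not at h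
      exact hO (eq_top_iff.mpr fun y _ => h y)
    have hy' : y⁻¹ ∈ O := (O.mem_or_inv_mem y).resolve_left hy
    have hy0 : y ≠ 0 := by
      rintro rfl
      exact hy O.zero_mem
    intro hbot
    have hmem : (⟨y⁻¹, hy'⟩ : O) ∈ IsLocalRing.maximalIdeal O := by
      rw [IsLocalRing.mem_maximalIdeal, mem_nonunits_iff]
      intro hu
      obtain ⟨⟨z, hz⟩, hzy⟩ := isUnit_iff_exists_inv.mp hu
      apply hy
      have h1 : y⁻¹ * z = 1 := congrArg Subtype.val hzy
      have h2 : z = y := by
        field_simp at h1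
        exact h1
      rwa [← h2]
    rw [hbot, Ideal.mem_bot] at hmem
    have : y⁻¹ = 0 := congrArg Subtype.val hmem
    exact hy0 (inv_eq_zero.mp this)
  have hdvr : IsDiscreteValuationRing O := { hpid, (inferInstance : IsLocalRing O) with
    not_a_field' := hnf }
  let v' := (IsDiscreteValuationRing.maximalIdeal O).valuation K
  have hv'le : ∀ a : O, v' (a : K) ≤ 1 := fun a =>
    valuation_le_one (IsDiscreteValuationRing.maximalIdeal O) a
  have hsurj : Function.Surjective v' := by
    intro γ
    obtain ⟨π, hπ⟩ := valuation_exists_uniformizer K (IsDiscreteValuationRing.maximalIdeal O)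
    have hπ' : v' π = exp (-1 : ℤ) := hπ
    induction γ using WithZero.expRecOn with
    | zero => exact ⟨0, map_zero _⟩
    | exp n =>
      refine ⟨π ^ (-n), ?_⟩
      rw [map_zpow₀, hπ', ← exp_zsmul]
      simp
  refine ⟨⟨v', fun c => hv'le ⟨_, hk c⟩, hsurj⟩, ?_⟩
  ext a
  constructor
  · intro ha
    have ha' : v' a ≤ 1 := ha
    obtain ⟨b, hb⟩ := IsDiscreteValuationRing.exists_lift_of_le_one ha'
    rw [← hb]
    exact b.2
  · intro ha
    exact hv'le ⟨a, ha⟩

/-- a nonconstant element has a zero -/
theorem exists_place_lt_one (hK : IsFunctionField k K) {x : K}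
    (hx : x ∉ Set.range (algebraMap k K)) : ∃ P : Place k K, P.1 x < 1 := by
  have hx0 : x ≠ 0 := by
    rintro rfl
    exact hx ⟨0, map_zero _⟩
  have hinv : x⁻¹ ∉ (integralClosure k K).toSubring := by
    intro h
    have h1 : IsIntegral k x⁻¹ := h
    exact inv_not_mem_range hx (hK.2 _ h1.isAlgebraic)
  obtain ⟨V, hV1, hV2⟩ := Subring.exists_le_valuationSubring_of_isIntegrallyClosedIn hinv
  obtain ⟨P, hP⟩ := exists_place_of_valuationSubring hK V
    (fun c => hV1 ((integralClosure k K).algebraMap_mem c)) (by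
      rintro rfl
      exact hV2 trivial)
  refine ⟨P, ?_⟩
  have h1 : ¬ P.1 x⁻¹ ≤ 1 := by
    intro h
    apply hV2
    rw [← hP]
    exact h
  rw [not_le, map_inv₀] at h1
  have h2 : P.1 x ≠ 0 := val_ne_zero P hx0
  exact (one_lt_inv₀ (zero_lt_iff.mpr h2)).mp h1

/-- a nonconstant element has a pole -/
theorem exists_place_one_lt (hK : IsFunctionField k K) {x : K}
    (hx : x ∉ Set.range (algebraMap k K)) : ∃ P : Place k K, 1 < P.1 x := by
  obtain ⟨P, hP⟩ := exists_place_lt_one hK (inv_not_mem_range hx)
  refine ⟨P, ?_⟩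
  have hx0 : x ≠ 0 := by
    rintro rfl
    exact hx ⟨0, map_zero _⟩
  rw [map_inv₀] at hP
  exact (inv_lt_one₀ (zero_lt_iff.mpr (val_ne_zero P hx0))).mp hP

end Groth.Agent.Lib.helper16.FF

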