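import Groth.Agent.Lib.helper16.FFFibre

/-! Helper library (helper16): plane models. -/

set_option autoImplicit false

namespace Groth.Agent.Lib.helper16.FF

open FunFld WithZero Polynomial Module
open scoped IntermediateField

variable {k K : Type*} [Field k] [Field K] [Algebra k K]

/-- `{z | v_Q(z) ≤ exp m}` as a `k`-submodule -/
def valSubLe (Q : Place k K) (m : ℤ) : Submodule k K where
  carrier := {z | Q.1 z ≤ exp m}
  add_mem' := fun {a b} ha hb => le_trans (Q.1.map_add a b) (max_le ha hb)
  zero_mem' := by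
    show Q.1 0 ≤ exp m
    rw [map_zero]; exact zero_le
  smul_mem' := fun c z hz => le_trans (val_smul_le Q c z) hz

theorem mem_valSubLe {Q : Place k K} {m : ℤ} {z : K} : z ∈ valSubLe Q m ↔ Q.1 z ≤ exp m :=
  Iff.rfl

/-- a generic `k`-combination of the generators has the largest valuation at finitely many given
places, and avoids a given proper subspace of coefficient vectors -/
theorem exists_generic_max_val [Infinite k] {ι : Type*} [Fintype ι] (xs : ι → K)
    (S : Set (Place k K)) (hS : S.Finite) (extra : Submodule k (ι → k)) (hextra : extra ≠ ⊤) :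
    ∃ a : ι → k, a ∉ extra ∧ ∀ Q ∈ S, ∀ i, Q.1 (xs i) ≤ Q.1 (∑ i, a i • xs i) := by
  classical
  by_cases hall : ∀ i, xs i = 0
  · obtain ⟨a, -, ha⟩ := SetLike.exists_of_lt (lt_top_iff_ne_top.mpr hextra)
    refine ⟨a, ha, fun Q _ i => ?_⟩
    rw [hall i, map_zero]
    exact zero_le
  push Not at hall
  obtain ⟨i₀, hi₀⟩ := hall
  have : Nonempty ι := ⟨i₀⟩
  have hmax : ∀ Q : Place k K, ∃ j, ∀ i, Q.1 (xs i) ≤ Q.1 (xs j) := fun Q =>
    Finite.exists_max fun i => Q.1 (xs i)
  choose jq hjq using hmax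
  have hjq0 : ∀ Q, xs (jq Q) ≠ 0 := by
    intro Q h0
    have := hjq Q i₀
    rw [h0, map_zero] at this
    exact val_ne_zero Q hi₀ (le_antisymm this zero_le)
  let p : Place k K → Submodule k (ι → k) :=
    fun Q => (valSubLe Q (-(Q.ord (xs (jq Q))) - 1)).comap (Fintype.linearCombination k xs)
  have hp : ∀ Q, p Q ≠ ⊤ := by
    intro Q htop
    have h1 : (Pi.single (jq Q) (1 : k) : ι → k) ∈ p Q := by rw [htop]; exact Submodule.mem_top
    have h2 : Q.1 (Fintype.linearCombination k xs (Pi.single (jq Q) (1 : k))) ≤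
        exp (-(Q.ord (xs (jq Q))) - 1) := h1
    rw [Fintype.linearCombination_apply_single, one_smul, val_eq_exp_neg_ord Q (hjq0 Q),
      exp_le_exp] at h2
    omega
  let s : Finset (Submodule k (ι → k)) := insert extra (hS.toFinset.image p)
  have hs : ⊤ ∉ s := by
    intro h
    rw [Finset.mem_insert, Finset.mem_image] at h
    rcases h with h | ⟨Q, -, hQt⟩
    · exact hextra h.symm
    · exact hp Q hQt
  have hne := Subspace.biUnion_ne_univ_of_top_notMem hs
  obtain ⟨a, ha⟩ := (Set.ne_univ_iff_exists_notMem _).mp hne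
  simp only [Set.mem_iUnion, not_exists] at ha
  refine ⟨a, fun h => ha extra (Finset.mem_insert_self _ _) h, fun Q hQ i => ?_⟩
  have h1 : a ∉ p Q := fun h =>
    ha (p Q) (Finset.mem_insert_of_mem (Finset.mem_image.mpr ⟨Q, hS.mem_toFinset.mpr hQ, rfl⟩)) h
  have h2 : ¬ Q.1 (∑ i, a i • xs i) ≤ exp (-(Q.ord (xs (jq Q))) - 1) := by
    intro h
    apply h1
    show Q.1 (Fintype.linearCombination k xs a) ≤ _
    rw [Fintype.linearCombination_apply]
    exact h
  rw [not_le] at h2
  have hz0 : ∑ i, a i • xs i ≠ 0 := by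
    intro h0
    rw [h0, map_zero] at h2
    exact absurd h2 (not_lt.mpr zero_le)
  refine le_trans (hjq Q i) ?_
  rw [val_eq_exp_neg_ord Q (hjq0 Q)]
  rw [val_eq_exp_neg_ord Q hz0, exp_lt_exp] at h2
  rw [val_eq_exp_neg_ord Q hz0, exp_le_exp]
  omega

theorem two_mul_sum_triangle (n d : ℕ) (hd : d ≤ n + 1) :
    2 * ((∑ b ∈ Finset.range d, (n + 1 - b) : ℕ) : ℤ) = 2 * d * (n + 1) - d * (d - 1) := by
  induction d with
  | zero => simp
  | succ d ih =>
    have ih' := ih (by omega)
    rw [Finset.sum_range_succ]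
    push_cast at ih' ⊢
    rw [Nat.cast_sub (by omega)]
    push_cast
    linear_combination ih'

/-- the monomials `u^a x^b`, `b < [K : k(u)]`, are linearly independent over `k` when
`K = k(u)(x)` -/
theorem linearIndependent_monomials {u x : K} (hu : Transcendental k u)
    (n : ℕ) :
    LinearIndependent k (fun i : (Σ b : Fin (minpoly k⟮u⟯ x).natDegree, Fin (n + 1 - b)) =>
      u ^ (i.2 : ℕ) * x ^ (i.1 : ℕ)) := by
  classical
  have hli := linearIndependent_pow (K := k⟮u⟯) x
  rw [Fintype.linearIndependent_iff]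
  intro g hg
  rw [Fintype.sum_sigma] at hg
  let Pb : (b : Fin (minpoly k⟮u⟯ x).natDegree) → k[X] := fun b =>
    ∑ a : Fin (n + 1 - b), C (g ⟨b, a⟩) * X ^ (a : ℕ)
  have hmem : ∀ b, aeval u (Pb b) ∈ k⟮u⟯ := fun b =>
    aeval_mem_of_mem k⟮u⟯.toSubalgebra (IntermediateField.mem_adjoin_simple_self k u) (Pb b)
  have h1 : ∀ b : Fin (minpoly k⟮u⟯ x).natDegree,
      ∑ a : Fin (n + 1 - b), g ⟨b, a⟩ • (u ^ (a : ℕ) * x ^ (b : ℕ)) =
        (⟨aeval u (Pb b), hmem b⟩ : k⟮u⟯) • x ^ (b : ℕ) := by
    intro b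
    have : (⟨aeval u (Pb b), hmem b⟩ : k⟮u⟯) • x ^ (b : ℕ) = aeval u (Pb b) * x ^ (b : ℕ) := rfl
    rw [this]
    simp only [Pb, map_sum, map_mul, aeval_C, map_pow, aeval_X, Finset.sum_mul]
    apply Finset.sum_congr rfl
    intro a _
    rw [Algebra.smul_def, mul_assoc]
  rw [Finset.sum_congr rfl (fun b _ => h1 b)] at hg
  have h2 := Fintype.linearIndependent_iff.mp hli _ hg
  rintro ⟨b, a⟩
  have h3 := h2 b
  have h4 : aeval u (Pb b) = 0 := congrArg Subtype.val h3
  have h5 : Pb b = 0 := by
    by_contra hne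
    exact hu ⟨Pb b, hne, h4⟩
  have h6 : (Pb b).coeff (a : ℕ) = 0 := by rw [h5, coeff_zero]
  simp only [Pb, finsetSum_coeff, coeff_C_mul_X_pow] at h6
  simp only [Fin.val_inj, Finset.sum_ite_eq, Finset.mem_univ, if_true] at h6
  exact h6

/-- **Plane model genus bound**: `g ≤ (d - 1)(d - 2)/2` for a plane model of degree `d` -/
theorem two_mul_genus_le_of_plane_model [IsAlgClosed k] (hK : IsFunctionField k K) (x y : K)
    (hxy : IntermediateField.adjoin k ({x, y} : Set K) = ⊤) :
    2 * (genus k K : ℤ) ≤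
      ((mapDiv k ![(1 : K), x, y]).deg - 1) * ((mapDiv k ![(1 : K), x, y]).deg - 2) := by
  classical
  have hL : ∀ i, ![(1 : K), x, y] i ∈ L (mapDiv k ![(1 : K), x, y]) :=
    fun i => mem_L_mapDiv hK _ i
  set D := mapDiv k ![(1 : K), x, y] with hD
  have h1L : (1 : K) ∈ L D := hL 0
  have hxL : x ∈ L D := hL 1
  have hyL : y ∈ L D := hL 2
  have hD0 : ∀ P, 0 ≤ D P := fun P => by
    have := h1L P
    rwa [map_one, ← exp_zero, exp_le_exp] at this
  have hattain : ∀ P : Place k K, 0 < D P → P.1 x = exp (D P) ∨ P.1 y = exp (D P) := by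
    intro P hP
    obtain ⟨j, hj⟩ := exists_ord_eq_neg_mapDiv hK ![(1 : K), x, y] P
    rw [← hD] at hj
    fin_cases j
    · have : P.ord (1 : K) = -(D P) := hj
      rw [ord_one] at this
      omega
    · left
      have hj' : P.ord x = -(D P) := hj
      have hx0 : x ≠ 0 := by
        rintro rfl
        rw [ord_zero] at hj'
        omega
      rw [val_eq_exp_neg_ord P hx0, hj', neg_neg]
    · right
      have hj' : P.ord y = -(D P) := hj
      have hy0 : y ≠ 0 := by
        rintro rfl
        rw [ord_zero] at hj'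
        omega
      rw [val_eq_exp_neg_ord P hy0, hj', neg_neg]
  -- a generic linear form
  have hSfin : (D.support : Set (Place k K)).Finite := D.support.finite_toSet
  let extra : Submodule k (Fin 2 → k) := LinearMap.ker (LinearMap.proj 1 : (Fin 2 → k) →ₗ[k] k)
  have hextra : extra ≠ ⊤ := by
    intro h
    have h1 : (Pi.single 1 1 : Fin 2 → k) ∈ extra := by rw [h]; exact Submodule.mem_top
    have h2 : (Pi.single 1 1 : Fin 2 → k) 1 = 0 := h1
    rw [Pi.single_eq_same] at h2
    exact one_ne_zero h2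
  obtain ⟨a, ha1, hamax⟩ := exists_generic_max_val ![x, y] _ hSfin extra hextra
  have ha1' : a 1 ≠ 0 := fun h => ha1 h
  have hu' : ∑ i, a i • ![x, y] i = a 0 • x + a 1 • y := by
    rw [Fin.sum_univ_two]
    rfl
  rw [hu'] at hamax
  set u := a 0 • x + a 1 • y with hu
  have huL : u ∈ L D :=
    Submodule.add_mem _ (Submodule.smul_mem _ _ hxL) (Submodule.smul_mem _ _ hyL)
  have huval : ∀ P, 0 < D P → P.1 u = exp (D P) := by
    intro P hP
    have hmem : P ∈ (D.support : Set (Place k K)) := by
      rw [Finset.mem_coe, Finsupp.mem_support_iff]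
      omega
    apply le_antisymm (huL P)
    rcases hattain P hP with h | h
    · rw [← h]; exact hamax P hmem 0
    · rw [← h]; exact hamax P hmem 1
  have hpole : poleDiv k u = D := by
    ext P
    rw [poleDiv_apply hK]
    rcases (hD0 P).lt_or_eq with hP | hP
    · have h1 := huval P hP
      have hu0 : u ≠ 0 := by
        intro h0
        rw [h0, map_zero] at h1
        exact exp_ne_zero h1.symm
      rw [val_eq_exp_neg_ord P hu0, exp_inj] at h1
      omega
    · have h1 := huL P
      rw [← hP, exp_zero] at h1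
      by_cases hu0 : u = 0
      · rw [hu0, ord_zero]
        omega
      · rw [val_le_one_iff P hu0] at h1
        omega
  have hunc : u ∉ Set.range (algebraMap k K) := by
    intro hur
    have hDz : ∀ P, D P = 0 := by
      intro P
      by_contra hne
      have hP : 0 < D P := lt_of_le_of_ne (hD0 P) (Ne.symm hne)
      obtain ⟨c, hc⟩ := hur
      have h1 := huval P hP
      rw [← hc] at h1
      have h2 := val_algebraMap_le P c
      rw [h1, ← exp_zero, exp_le_exp] at h2
      omega
    have hxr : x ∈ Set.range (algebraMap k K) := mem_range_of_forall_val_le_one hK (fun Q => by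
      have := hxL Q
      rwa [hDz Q, exp_zero] at this)
    have hyr : y ∈ Set.range (algebraMap k K) := mem_range_of_forall_val_le_one hK (fun Q => by
      have := hyL Q
      rwa [hDz Q, exp_zero] at this)
    obtain ⟨z, hz⟩ := exists_not_mem_range hK
    apply hz
    have hz' : z ∈ IntermediateField.adjoin k ({x, y} : Set K) := by
      rw [hxy]; exact IntermediateField.mem_top
    have hbot : IntermediateField.adjoin k ({x, y} : Set K) = ⊥ := by
      rw [IntermediateField.adjoin_eq_bot_iff]
      rintro w (rfl | rfl)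
      · exact IntermediateField.mem_bot.mpr hxr
      · exact IntermediateField.mem_bot.mpr hyr
    rw [hbot] at hz'
    exact IntermediateField.mem_bot.mp hz'
  have htr := transcendental_of_not_mem_range hK hunc
  have hfd := finiteDimensional_of_transcendental hK htr
  have hdeg : D.deg = (finrank k⟮u⟯ K : ℤ) := by
    rw [← hpole]; exact deg_poleDiv_eq hK hunc
  have hux : IntermediateField.adjoin k ({u, x} : Set K) = ⊤ := by
    rw [eq_top_iff, ← hxy, IntermediateField.adjoin_le_iff]
    rintro w (rfl | rfl)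
    · exact IntermediateField.subset_adjoin k _ (by simp)
    · have hw : w = (a 1)⁻¹ • (u - a 0 • x) := by
        rw [hu, add_sub_cancel_left, smul_smul, inv_mul_cancel₀ ha1', one_smul]
      rw [hw]
      have hmu : u ∈ IntermediateField.adjoin k ({u, x} : Set K) :=
        IntermediateField.subset_adjoin k _ (by simp)
      have hmx : x ∈ IntermediateField.adjoin k ({u, x} : Set K) :=
        IntermediateField.subset_adjoin k _ (by simp)
      exact IntermediateField.smul_mem _ (sub_mem hmu (IntermediateField.smul_mem _ hmx))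
  have hFx : (k⟮u⟯)⟮x⟯ = ⊤ := by
    rw [← IntermediateField.restrictScalars_eq_top_iff (K := k),
      IntermediateField.adjoin_adjoin_left]
    rw [← hux]
    congr 1
  have hint : IsIntegral k⟮u⟯ x := Algebra.IsIntegral.isIntegral x
  have hd' : (minpoly k⟮u⟯ x).natDegree = finrank k⟮u⟯ K := by
    rw [← IntermediateField.adjoin.finrank hint, hFx, IntermediateField.finrank_top']
  have hdpos : 0 < finrank k⟮u⟯ K := Module.finrank_pos
  set d := finrank k⟮u⟯ K with hd
  -- choose `n` large
  set n : ℕ := 2 * genus k K + d with hn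
  have hli := linearIndependent_monomials (x := x) htr n
  have hmemL : ∀ i : (Σ b : Fin (minpoly k⟮u⟯ x).natDegree, Fin (n + 1 - b)),
      u ^ (i.2 : ℕ) * x ^ (i.1 : ℕ) ∈ L (n • D) := by
    rintro ⟨b, a⟩ P
    have ha := a.2
    have hb := b.2
    have h1 : (1 : ℤᵐ⁰) ≤ exp (D P) := by rw [← exp_zero, exp_le_exp]; exact hD0 P
    rw [map_mul, map_pow, map_pow, Finsupp.smul_apply, exp_nsmul]
    calc P.1 u ^ (a : ℕ) * P.1 x ^ (b : ℕ)
        ≤ exp (D P) ^ (a : ℕ) * exp (D P) ^ (b : ℕ) :=
          mul_le_mul' (pow_le_pow_left₀ zero_le (huL P) _) (pow_le_pow_left₀ zero_le (hxL P) _)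
      _ = exp (D P) ^ ((a : ℕ) + (b : ℕ)) := (pow_add _ _ _).symm
      _ ≤ exp (D P) ^ n := pow_le_pow_right₀ h1 (by omega)
  have hfdL := finiteDimensional_L hK (n • D)
  have hli' : LinearIndependent k
      (fun i : (Σ b : Fin (minpoly k⟮u⟯ x).natDegree, Fin (n + 1 - b)) =>
        (⟨u ^ (i.2 : ℕ) * x ^ (i.1 : ℕ), hmemL i⟩ : ↥(L (n • D)))) :=
    LinearIndependent.of_comp (L (n • D)).subtype hli
  have hcard := hli'.fintype_card_le_finrank
  rw [Fintype.card_sigma] at hcard
  simp only [Fintype.card_fin] at hcard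
  rw [hd', Fin.sum_univ_eq_sum_range (fun b => n + 1 - b) d] at hcard
  have htri := two_mul_sum_triangle n d (by omega)
  have hell := ell_eq_of_deg_ge hK (D := n • D) (by
    rw [deg_nsmul, hdeg]
    have : (1 : ℤ) ≤ d := by exact_mod_cast hdpos
    have hn' : (n : ℤ) = 2 * genus k K + d := by rw [hn]; push_cast; ring
    nlinarith)
  rw [deg_nsmul, hdeg] at hell
  have hcard' : ((∑ b ∈ Finset.range d, (n + 1 - b) : ℕ) : ℤ) ≤ ell (n • D) := by
    unfold ell
    exact_mod_cast hcard
  rw [hdeg]
  have hn' : (n : ℤ) = 2 * genus k K + d := by rw [hn]; push_cast; ring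
  nlinarith

end Groth.Agent.Lib.helper16.FF
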