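import Groth.Agent.Lib.helper16.Adapted

/-! Helper library (helper16): Wronskians of polynomials and the Plücker inequality for
subspaces of `k[X]`. -/

set_option autoImplicit false

namespace Groth.Agent.Lib.helper16.Wr

open Module Polynomial

variable {k : Type*} [Field k]

/-- the Wronskian matrix -/
noncomputable def wrMat {s : ℕ} (b : Fin s → k[X]) : Matrix (Fin s) (Fin s) k[X] :=
  Matrix.of fun i j => derivative^[(i : ℕ)] (b j)

/-- the Wronskian -/
noncomputable def wr {s : ℕ} (b : Fin s → k[X]) : k[X] := (wrMat b).det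

theorem wr_eq_sum {s : ℕ} (b : Fin s → k[X]) :
    wr b = ∑ σ : Equiv.Perm (Fin s), (Equiv.Perm.sign σ : k[X]) *
      ∏ i, derivative^[((σ i : Fin s) : ℕ)] (b i) := by
  unfold wr
  rw [Matrix.det_apply']
  rfl

/-- change of basis -/
theorem wr_mul {s : ℕ} (b : Fin s → k[X]) (P : Matrix (Fin s) (Fin s) k) :
    wr (fun j => ∑ l, P l j • b l) = wr b * C P.det := by
  unfold wr
  have h : wrMat (fun j => ∑ l, P l j • b l) = wrMat b * P.map C := by
    apply Matrix.ext
    intro i j
    simp only [wrMat, Matrix.of_apply, Matrix.mul_apply, Matrix.map_apply]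
    rw [iterate_derivative_sum]
    apply Finset.sum_congr rfl
    intro l _
    rw [smul_eq_C_mul, iterate_derivative_C_mul, mul_comm]
  rw [h, Matrix.det_mul]
  congr 1
  exact (RingHom.map_det C P).symm

theorem sum_perm_val {s : ℕ} (σ : Equiv.Perm (Fin s)) :
    ∑ i, ((σ i : Fin s) : ℕ) = ∑ i : Fin s, (i : ℕ) :=
  Equiv.sum_comp σ (fun i : Fin s => (i : ℕ))

/-- divisibility of the Wronskian at a point -/
theorem pow_dvd_wr {s : ℕ} (b : Fin s → k[X]) (c : k) (m : Fin s → ℕ)
    (hm : ∀ j, (X - C c) ^ m j ∣ b j) :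
    (X - C c) ^ (∑ j, m j - ∑ i : Fin s, (i : ℕ)) ∣ wr b := by
  rw [wr_eq_sum]
  apply Finset.dvd_sum
  intro σ _
  apply Dvd.dvd.mul_left
  have h1 : ∏ i, (X - C c) ^ (m i - ((σ i : Fin s) : ℕ)) ∣
      ∏ i, derivative^[((σ i : Fin s) : ℕ)] (b i) :=
    Finset.prod_dvd_prod_of_dvd _ _ fun i _ =>
      pow_sub_dvd_iterate_derivative_of_pow_dvd _ (hm i)
  refine dvd_trans ?_ h1
  rw [Finset.prod_pow_eq_pow_sum]
  apply pow_dvd_pow
  have h2 : ∑ j, m j ≤ ∑ i, (m i - ((σ i : Fin s) : ℕ)) + ∑ i, ((σ i : Fin s) : ℕ) := by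
    rw [← Finset.sum_add_distrib]
    exact Finset.sum_le_sum fun i _ => by omega
  rw [sum_perm_val] at h2
  omega

theorem coeff_prod_of_natDegree_le_var {ι : Type*} (s : Finset ι) (f : ι → k[X]) (n : ι → ℕ)
    (h : ∀ i ∈ s, natDegree (f i) ≤ n i) :
    coeff (∏ i ∈ s, f i) (∑ i ∈ s, n i) = ∏ i ∈ s, coeff (f i) (n i) := by
  classical
  induction s using Finset.induction_on with
  | empty => simp
  | insert a t ha ih =>
    rw [Finset.prod_insert ha, Finset.sum_insert ha, Finset.prod_insert ha]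
    have h1 : natDegree (∏ i ∈ t, f i) ≤ ∑ i ∈ t, n i :=
      le_trans (natDegree_prod_le _ _)
        (Finset.sum_le_sum fun i hi => h i (Finset.mem_insert_of_mem hi))
    rw [coeff_mul_add_eq_of_natDegree_le (h a (Finset.mem_insert_self _ _)) h1,
      ih fun i hi => h i (Finset.mem_insert_of_mem hi)]

theorem sign_cases {s : ℕ} (σ : Equiv.Perm (Fin s)) :
    ((Equiv.Perm.sign σ : ℤ) : k[X]) = 1 ∨ ((Equiv.Perm.sign σ : ℤ) : k[X]) = -1 := by
  rcases Int.units_eq_one_or (Equiv.Perm.sign σ) with h | h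
  · left; rw [h]; simp
  · right; rw [h]; simp

/-- the top coefficient of a Wronskian term -/
theorem coeff_term {s : ℕ} (b : Fin s → k[X]) (e : Fin s → ℕ)
    (he : ∀ j, natDegree (b j) ≤ e j) (σ : Equiv.Perm (Fin s)) :
    coeff (∏ i, derivative^[((σ i : Fin s) : ℕ)] (b i)) (∑ j, e j - ∑ i : Fin s, (i : ℕ)) =
      ∏ i, (((e i).descFactorial ((σ i : Fin s) : ℕ) : k) * coeff (b i) (e i)) := by
  by_cases hgood : ∀ i, ((σ i : Fin s) : ℕ) ≤ e i
  · have hN : ∑ j, e j - ∑ i : Fin s, (i : ℕ) = ∑ i, (e i - ((σ i : Fin s) : ℕ)) := by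
      have h2 : ∑ j, e j = ∑ i, (e i - ((σ i : Fin s) : ℕ)) + ∑ i, ((σ i : Fin s) : ℕ) := by
        rw [← Finset.sum_add_distrib]
        exact Finset.sum_congr rfl fun i _ => by have := hgood i; omega
      rw [sum_perm_val] at h2
      omega
    rw [hN, coeff_prod_of_natDegree_le_var]
    · refine Finset.prod_congr rfl fun i _ => ?_
      rw [coeff_iterate_derivative, Nat.sub_add_cancel (hgood i), nsmul_eq_mul]
    · intro i _
      exact le_trans (natDegree_iterate_derivative _ _) (Nat.sub_le_sub_right (he i) _)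
  · push Not at hgood
    obtain ⟨i₀, hi₀⟩ := hgood
    have h1 : derivative^[((σ i₀ : Fin s) : ℕ)] (b i₀) = 0 :=
      iterate_derivative_eq_zero (lt_of_le_of_lt (he i₀) hi₀)
    rw [Finset.prod_eq_zero (Finset.mem_univ i₀) h1, coeff_zero]
    symm
    apply Finset.prod_eq_zero (Finset.mem_univ i₀)
    rw [Nat.descFactorial_eq_zero_iff_lt.mpr hi₀]
    simp

theorem natDegree_term_le {s : ℕ} (b : Fin s → k[X]) (e : Fin s → ℕ)
    (he : ∀ j, natDegree (b j) ≤ e j) (σ : Equiv.Perm (Fin s)) :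
    natDegree (∏ i, derivative^[((σ i : Fin s) : ℕ)] (b i)) ≤
      ∑ j, e j - ∑ i : Fin s, (i : ℕ) := by
  by_cases hgood : ∀ i, ((σ i : Fin s) : ℕ) ≤ e i
  · have hN : ∑ j, e j - ∑ i : Fin s, (i : ℕ) = ∑ i, (e i - ((σ i : Fin s) : ℕ)) := by
      have h2 : ∑ j, e j = ∑ i, (e i - ((σ i : Fin s) : ℕ)) + ∑ i, ((σ i : Fin s) : ℕ) := by
        rw [← Finset.sum_add_distrib]
        exact Finset.sum_congr rfl fun i _ => by have := hgood i; omega
      rw [sum_perm_val] at h2
      omega
    rw [hN]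
    refine le_trans (natDegree_prod_le _ _) (Finset.sum_le_sum fun i _ => ?_)
    exact le_trans (natDegree_iterate_derivative _ _) (Nat.sub_le_sub_right (he i) _)
  · push Not at hgood
    obtain ⟨i₀, hi₀⟩ := hgood
    have h1 : derivative^[((σ i₀ : Fin s) : ℕ)] (b i₀) = 0 :=
      iterate_derivative_eq_zero (lt_of_le_of_lt (he i₀) hi₀)
    rw [Finset.prod_eq_zero (Finset.mem_univ i₀) h1, natDegree_zero]
    exact Nat.zero_le _

theorem natDegree_wr_le {s : ℕ} (b : Fin s → k[X]) (e : Fin s → ℕ)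
    (he : ∀ j, natDegree (b j) ≤ e j) :
    natDegree (wr b) ≤ ∑ j, e j - ∑ i : Fin s, (i : ℕ) := by
  rw [wr_eq_sum]
  apply natDegree_sum_le_of_forall_le
  intro σ _
  rcases sign_cases (k := k) σ with h | h
  · rw [h, one_mul]; exact natDegree_term_le b e he σ
  · rw [h, neg_one_mul, natDegree_neg]; exact natDegree_term_le b e he σ

theorem coeff_wr_top {s : ℕ} (b : Fin s → k[X]) (e : Fin s → ℕ)
    (he : ∀ j, natDegree (b j) ≤ e j) :
    coeff (wr b) (∑ j, e j - ∑ i : Fin s, (i : ℕ)) =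
      (Matrix.of fun i j : Fin s => ((e j).descFactorial (i : ℕ) : k)).det *
        ∏ j, coeff (b j) (e j) := by
  rw [wr_eq_sum, Matrix.det_apply', finsetSum_coeff, Finset.sum_mul]
  refine Finset.sum_congr rfl fun σ _ => ?_
  have hc : coeff (((Equiv.Perm.sign σ : ℤ) : k[X]) *
      ∏ i, derivative^[((σ i : Fin s) : ℕ)] (b i)) (∑ j, e j - ∑ i : Fin s, (i : ℕ)) =
      ((Equiv.Perm.sign σ : ℤ) : k) *
        coeff (∏ i, derivative^[((σ i : Fin s) : ℕ)] (b i)) (∑ j, e j - ∑ i : Fin s, (i : ℕ)) := by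
    rcases Int.units_eq_one_or (Equiv.Perm.sign σ) with h | h
    · rw [h]; simp
    · rw [h]; simp
  rw [hc, coeff_term b e he σ, Finset.prod_mul_distrib]
  simp only [Matrix.of_apply]
  ring

theorem det_descFactorial_ne_zero [CharZero k] {s : ℕ} (e : Fin s → ℕ)
    (hinj : Function.Injective e) :
    (Matrix.of fun i j : Fin s => ((e j).descFactorial (i : ℕ) : k)).det ≠ 0 := by
  have h1 := Matrix.det_eval_matrixOfPolynomials_eq_det_vandermonde (fun i : Fin s => (e i : k))
    (fun j : Fin s => descPochhammer k (j : ℕ)) (fun i => descPochhammer_natDegree k i)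
    (fun i => monic_descPochhammer k i)
  have h2 : (Matrix.of fun i j : Fin s => ((e j).descFactorial (i : ℕ) : k)) =
      (Matrix.of fun i j : Fin s => (descPochhammer k (j : ℕ)).eval ((e i : ℕ) : k)).transpose := by
    apply Matrix.ext
    intro i j
    simp only [Matrix.of_apply, Matrix.transpose_apply]
    rw [descPochhammer_eval_eq_descFactorial]
  rw [h2, Matrix.det_transpose, ← h1, Matrix.det_vandermonde_ne_zero_iff]
  intro i j hij
  exact hinj (Nat.cast_injective hij)

theorem wr_ne_zero [CharZero k] {s : ℕ} (b : Fin s → k[X]) (hb0 : ∀ j, b j ≠ 0)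
    (hinj : Function.Injective fun j => natDegree (b j)) : wr b ≠ 0 := by
  intro h0
  have h1 := coeff_wr_top b (fun j => natDegree (b j)) (fun j => le_rfl)
  rw [h0, coeff_zero] at h1
  have h2 := det_descFactorial_ne_zero (k := k) (fun j => natDegree (b j)) hinj
  have h3 : ∏ j, coeff (b j) (natDegree (b j)) ≠ 0 := by
    rw [Finset.prod_ne_zero_iff]
    intro j _
    exact leadingCoeff_ne_zero.mpr (hb0 j)
  exact mul_ne_zero h2 h3 h1.symm

/-- the filtration of `k[X]` by order of vanishing at `c` -/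
noncomputable def Fc (c : k) (n : ℕ) : Submodule k k[X] :=
  (Ideal.span {(X - C c) ^ n}).restrictScalars k

theorem mem_Fc {c : k} {n : ℕ} {p : k[X]} : p ∈ Fc c n ↔ (X - C c) ^ n ∣ p := by
  unfold Fc
  rw [Submodule.restrictScalars_mem, Ideal.mem_span_singleton]

theorem Fc_antitone (c : k) : Antitone (Fc c) := by
  intro m n hmn p hp
  rw [mem_Fc] at hp ⊢
  exact dvd_trans (pow_dvd_pow _ hmn) hp

theorem finrank_le_inf_ker_add_one {M : Type*} [AddCommGroup M] [Module k M]
    (A : Submodule k M) [FiniteDimensional k A] (f : M →ₗ[k] k) :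
    finrank k ↥A ≤ finrank k ↥(A ⊓ LinearMap.ker f) + 1 := by
  let g : ↥A →ₗ[k] k := f.domRestrict A
  have hker : LinearMap.ker g = (A ⊓ LinearMap.ker f).comap A.subtype := by
    ext x
    rw [LinearMap.mem_ker, Submodule.mem_comap, Submodule.mem_inf, LinearMap.mem_ker]
    constructor
    · intro h; exact ⟨x.2, h⟩
    · intro h; exact h.2
  have h1 : finrank k (LinearMap.ker g) = finrank k ↥(A ⊓ LinearMap.ker f) := by
    rw [hker]
    exact LinearEquiv.finrank_eq (Submodule.comapSubtypeEquivOfLe inf_le_left)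
  have h2 := g.finrank_range_add_finrank_ker
  have h3 : finrank k (LinearMap.range g) ≤ 1 := by
    have := Submodule.finrank_le (LinearMap.range g)
    rwa [finrank_self] at this
  omega

/-- the `n`-th Taylor coefficient at `c` -/
noncomputable def tcoeff (c : k) (n : ℕ) : k[X] →ₗ[k] k := (lcoeff k n) ∘ₗ (taylor c)

theorem Fc_succ (c : k) (n : ℕ) : Fc c (n + 1) = Fc c n ⊓ LinearMap.ker (tcoeff c n) := by
  ext p
  rw [Submodule.mem_inf, mem_Fc, mem_Fc, LinearMap.mem_ker, X_sub_C_pow_dvd_iff,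
    X_sub_C_pow_dvd_iff, X_pow_dvd_iff, X_pow_dvd_iff]
  have : tcoeff c n p = (p.comp (X + C c)).coeff n := rfl
  rw [this]
  constructor
  · intro h
    exact ⟨fun d hd => h d (by omega), h n (by omega)⟩
  · rintro ⟨h1, h2⟩ d hd
    rcases Nat.lt_succ_iff_lt_or_eq.mp hd with h | h
    · exact h1 d h
    · rw [h]; exact h2

theorem Fc_step (c : k) (W : Submodule k k[X]) [FiniteDimensional k W] (n : ℕ) :
    finrank k ↥(W ⊓ Fc c n) ≤ finrank k ↥(W ⊓ Fc c (n + 1)) + 1 := by
  have hfd : FiniteDimensional k ↥(W ⊓ Fc c n) := Submodule.finiteDimensional_of_le inf_le_left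
  have := finrank_le_inf_ker_add_one (W ⊓ Fc c n) (tcoeff c n)
  rwa [inf_assoc, ← Fc_succ] at this

theorem Fc_top_eq_bot (c : k) (W : Submodule k k[X]) (d : ℕ) (hW : W ≤ degreeLT k (d + 1)) :
    W ⊓ Fc c (d + 1) = ⊥ := by
  rw [eq_bot_iff]
  rintro p ⟨hpW, hpF⟩
  rw [Submodule.mem_bot]
  by_contra hp0
  have h1 := mem_degreeLT.mp (hW hpW)
  rw [SetLike.mem_coe, mem_Fc] at hpF
  have h2 := natDegree_le_of_dvd hpF hp0
  rw [natDegree_pow, natDegree_X_sub_C, mul_one] at h2
  have h3 : (p.natDegree : WithBot ℕ) < ((d + 1 : ℕ) : WithBot ℕ) := by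
    rw [← degree_eq_natDegree hp0]; exact h1
  have h4 : p.natDegree < d + 1 := by exact_mod_cast h3
  omega

/-- the filtration by degree -/
noncomputable def Finf (d : ℕ) (n : ℕ) : Submodule k k[X] := degreeLT k (d + 1 - n)

theorem Finf_antitone (d : ℕ) : Antitone (Finf (k := k) d) := by
  intro m n hmn
  exact degreeLT_mono (by omega)

theorem Finf_step (d : ℕ) (W : Submodule k k[X]) [FiniteDimensional k W] (n : ℕ) :
    finrank k ↥(W ⊓ Finf d n) ≤ finrank k ↥(W ⊓ Finf d (n + 1)) + 1 := by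
  rcases le_or_gt n d with hn | hn
  · have hfd : FiniteDimensional k ↥(W ⊓ Finf d n) :=
      Submodule.finiteDimensional_of_le inf_le_left
    have h1 := finrank_le_inf_ker_add_one (W ⊓ Finf d n) (lcoeff k (d - n))
    have h2 : Finf (k := k) d n ⊓ LinearMap.ker (lcoeff k (d - n)) = Finf d (n + 1) := by
      ext p
      unfold Finf
      rw [Submodule.mem_inf, mem_degreeLT, mem_degreeLT, LinearMap.mem_ker, lcoeff_apply]
      have e1 : d + 1 - n = (d - n) + 1 := by omega
      have e2 : d + 1 - (n + 1) = d - n := by omega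
      rw [e1, e2]
      constructor
      · rintro ⟨h3, h4⟩
        by_cases hp0 : p = 0
        · rw [hp0, degree_zero]; exact WithBot.bot_lt_coe _
        · rw [degree_eq_natDegree hp0] at h3 ⊢
          have h5 : p.natDegree < d - n + 1 := by exact_mod_cast h3
          have h6 : p.natDegree ≠ d - n := by
            intro h7
            rw [← h7, coeff_natDegree] at h4
            exact hp0 (leadingCoeff_eq_zero.mp h4)
          have h7 : p.natDegree < d - n := by omega
          exact_mod_cast h7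
      · intro h3
        refine ⟨lt_trans h3 (by exact_mod_cast Nat.lt_succ_self _), ?_⟩
        exact coeff_eq_zero_of_degree_lt h3
    rwa [inf_assoc, h2] at h1
  · have e1 : Finf (k := k) d n = Finf d (n + 1) := by
      unfold Finf
      have : d + 1 - n = d + 1 - (n + 1) := by omega
      rw [this]
    rw [e1]
    exact Nat.le_succ _

theorem Finf_top_eq_bot (d : ℕ) (W : Submodule k k[X]) : W ⊓ Finf d (d + 1) = ⊥ := by
  rw [eq_bot_iff]
  rintro p ⟨-, hp⟩
  unfold Finf at hp
  rw [SetLike.mem_coe, Nat.sub_self, mem_degreeLT] at hp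
  rw [Submodule.mem_bot]
  by_contra hp0
  rw [degree_eq_natDegree hp0] at hp
  have : p.natDegree < 0 := by exact_mod_cast hp
  omega

theorem strictMono_le {s : ℕ} (m : Fin s → ℕ) (hm : StrictMono m) : ∀ j : Fin s, (j : ℕ) ≤ m j := by
  rintro ⟨j, hj⟩
  induction j with
  | zero => exact Nat.zero_le _
  | succ j ih =>
    have h1 : j ≤ m ⟨j, by omega⟩ := ih (by omega)
    have h2 : m ⟨j, by omega⟩ < m ⟨j + 1, hj⟩ := hm (by simp)
    show j + 1 ≤ m ⟨j + 1, hj⟩
    omega

theorem sum_fin_val (r : ℕ) : ∑ i : Fin (r + 1), (i : ℕ) = r * (r + 1) / 2 := by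
  rw [Fin.sum_univ_eq_sum_range (fun i => i) (r + 1), Finset.sum_range_id]
  simp [mul_comm]

/-- Plücker inequality for a space of polynomials of degree at most `d` -/
theorem pluecker_poly [CharZero k] (W : Submodule k k[X]) (d r : ℕ)
    (hW : W ≤ degreeLT k (d + 1)) (hWr : finrank k ↥W = r + 1) (S : Finset k) :
    ∑ c ∈ S, ∑ n ∈ Finset.range d, finrank k ↥(W ⊓ Fc c (n + 1)) +
        ∑ n ∈ Finset.range d, finrank k ↥(W ⊓ Finf d (n + 1)) + r * (r + 1) ≤
      (r + 1) * d + (S.card + 1) * (r * (r + 1) / 2) := by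
  classical
  have hfd : FiniteDimensional k ↥W := Submodule.finiteDimensional_of_le hW
  have heven : r * (r + 1) = 2 * (r * (r + 1) / 2) := by
    obtain ⟨t, ht⟩ := Nat.even_mul_succ_self r
    omega
  set h := r * (r + 1) / 2 with hh
  have hsumi : ∑ i : Fin (r + 1), (i : ℕ) = h := sum_fin_val r
  -- the basis adapted to infinity
  obtain ⟨b, m, hli, hspan, hmem, hnmem, hmono, hmle, hsum⟩ :=
    exists_adapted_basis (Finf (k := k) d) (Finf_antitone d) d (r + 1) W hfd hWr
      (by unfold Finf; simpa using hW) (Finf_top_eq_bot d W) (Finf_step d W)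
  have hbdeg : ∀ j, b j ≠ 0 ∧ natDegree (b j) = d - m j := by
    intro j
    have h1 := hmem j
    have h2 := hnmem j
    unfold Finf at h1 h2
    rw [mem_degreeLT] at h1 h2
    have hm := hmle j
    have hb0 : b j ≠ 0 := by
      intro h0
      apply h2
      rw [h0, degree_zero]
      exact WithBot.bot_lt_coe _
    refine ⟨hb0, ?_⟩
    rw [degree_eq_natDegree hb0] at h1 h2
    have h3 : (b j).natDegree < d + 1 - m j := by exact_mod_cast h1
    have h4 : ¬ (b j).natDegree < d + 1 - (m j + 1) := by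
      intro h; apply h2; exact_mod_cast h
    omega
  have hinj : Function.Injective fun j => natDegree (b j) := by
    intro i j hij
    simp only [(hbdeg i).2, (hbdeg j).2] at hij
    have h1 := hmle i
    have h2 := hmle j
    exact hmono.injective (by omega)
  have hω0 : wr b ≠ 0 := wr_ne_zero b (fun j => (hbdeg j).1) hinj
  have hωdeg := natDegree_wr_le b (fun j => d - m j) (fun j => le_of_eq (hbdeg j).2)
  rw [hsumi] at hωdeg
  have hsume : ∑ j, (d - m j) + ∑ j, m j = (r + 1) * d := by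
    rw [← Finset.sum_add_distrib]
    have : ∀ j ∈ (Finset.univ : Finset (Fin (r + 1))), d - m j + m j = d := fun j _ => by
      have := hmle j; omega
    rw [Finset.sum_congr rfl this, Finset.sum_const, Finset.card_univ, Fintype.card_fin,
      smul_eq_mul]
  -- each point of `S`
  have hpt : ∀ c ∈ S, h ≤ ∑ n ∈ Finset.range d, finrank k ↥(W ⊓ Fc c (n + 1)) ∧
      (X - C c) ^ (∑ n ∈ Finset.range d, finrank k ↥(W ⊓ Fc c (n + 1)) - h) ∣ wr b := by
    intro c _
    obtain ⟨bc, mc, hlic, hspanc, hmemc, -, hmonoc, -, hsumc⟩ :=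
      exists_adapted_basis (Fc c) (Fc_antitone c) d (r + 1) W hfd hWr
        (by intro p _; rw [mem_Fc, pow_zero]; exact one_dvd _) (Fc_top_eq_bot c W d hW)
        (Fc_step c W)
    have hge : h ≤ ∑ j, mc j := by
      rw [← hsumi]
      exact Finset.sum_le_sum fun j _ => strictMono_le mc hmonoc j
    have hP : ∀ j, ∃ f : Fin (r + 1) → k, ∑ l, f l • bc l = b j := by
      intro j
      have : b j ∈ Submodule.span k (Set.range bc) := by
        rw [hspanc, ← hspan]
        exact Submodule.subset_span ⟨j, rfl⟩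
      exact (Submodule.mem_span_range_iff_exists_fun k).mp this
    choose f hf using hP
    have hbeq : b = fun j => ∑ l, (Matrix.of fun l j => f j l) l j • bc l := by
      funext j
      simp only [Matrix.of_apply]
      exact (hf j).symm
    have hdvd := pow_dvd_wr bc c mc (fun j => mem_Fc.mp (hmemc j))
    rw [hsumi, hsumc] at hdvd
    rw [hsumc] at hge
    refine ⟨hge, ?_⟩
    rw [hbeq, wr_mul]
    exact Dvd.dvd.mul_right hdvd _
  have hprod : ∏ c ∈ S, (X - C c) ^
      (∑ n ∈ Finset.range d, finrank k ↥(W ⊓ Fc c (n + 1)) - h) ∣ wr b := by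
    apply Finset.prod_dvd_of_coprime
    · intro c₁ _ c₂ _ hne
      apply IsCoprime.pow
      exact isCoprime_X_sub_C_of_isUnit_sub (sub_ne_zero.mpr hne).isUnit
    · intro c hc
      exact (hpt c hc).2
  have hdeg := natDegree_le_of_dvd hprod hω0
  rw [natDegree_prod_of_monic _ _ (fun c _ => (monic_X_sub_C c).pow _)] at hdeg
  simp only [natDegree_pow, natDegree_X_sub_C, mul_one] at hdeg
  have hS : ∑ c ∈ S, ∑ n ∈ Finset.range d, finrank k ↥(W ⊓ Fc c (n + 1)) =
      ∑ c ∈ S, (∑ n ∈ Finset.range d, finrank k ↥(W ⊓ Fc c (n + 1)) - h) + S.card * h := by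
    rw [← smul_eq_mul, ← Finset.sum_const, ← Finset.sum_add_distrib]
    refine Finset.sum_congr rfl fun c hc => ?_
    have := (hpt c hc).1
    omega
  have hgeInf : h ≤ ∑ j, (d - m j) := by
    -- the degrees are distinct naturals
    have hanti : StrictMono fun j : Fin (r + 1) => d - m (Fin.rev j) := by
      intro i j hij
      have h1 : m (Fin.rev j) < m (Fin.rev i) := hmono (Fin.rev_lt_rev.mpr hij)
      have h2 := hmle (Fin.rev i)
      show d - m (Fin.rev i) < d - m (Fin.rev j)
      omega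
    have h1 : ∑ j : Fin (r + 1), (j : ℕ) ≤ ∑ j : Fin (r + 1), (d - m (Fin.rev j)) :=
      Finset.sum_le_sum fun j _ => strictMono_le _ hanti j
    rw [hsumi] at h1
    have h2 : ∑ j : Fin (r + 1), (d - m (Fin.rev j)) = ∑ j, (d - m j) :=
      Equiv.sum_comp Fin.revPerm (fun j => d - m j)
    omega
  rw [hS, ← hsum]
  have e1 : (S.card + 1) * h = S.card * h + h := by ring
  rw [e1]
  omega

end Groth.Agent.Lib.helper16.Wr
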