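import Groth.Agent.Lib.helper16.FFChain
import Groth.Agent.Lib.helper16.Wronsk

/-! Helper library (helper16): the Plücker inequality on a function field of genus zero. -/

set_option autoImplicit false

namespace Groth.Agent.Lib.helper16.FF

open FunFld WithZero Polynomial Module

variable {k K : Type*} [Field k] [Field K] [Algebra k K]

/-- order of `q(x)` at a place where `x` is a uniformizer -/
theorem val_aeval_le_exp_iff (P : Place k K) {x : K} (hx : P.1 x = exp (-1 : ℤ)) (q : k[X])
    (n : ℕ) : P.1 (aeval x q) ≤ exp (-(n : ℤ)) ↔ X ^ n ∣ q := by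
  have hx1 : P.1 x < 1 := by
    rw [hx, ← exp_zero, exp_lt_exp]; norm_num
  constructor
  · intro h
    by_contra hnd
    have hq0 : q ≠ 0 := by
      rintro rfl
      exact hnd (dvd_zero _)
    obtain ⟨g, hg, hgd⟩ := exists_eq_pow_rootMultiplicity_mul_and_not_dvd q hq0 0
    rw [C_0, sub_zero] at hg hgd
    set μ := q.rootMultiplicity 0
    have hμ : μ < n := by
      by_contra hcon
      apply hnd
      rw [hg]
      exact dvd_mul_of_dvd_left (pow_dvd_pow _ (not_lt.mp hcon)) _
    have hg0 : g.eval 0 ≠ 0 := by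
      intro h0
      apply hgd
      rw [X_dvd_iff, coeff_zero_eq_eval_zero]
      exact h0
    have hval : P.1 (aeval x q) = exp (-(μ : ℤ)) := by
      rw [hg, map_mul, map_pow, aeval_X, map_mul, map_pow, hx,
        gval_aeval_eq_one P.1 P.2.1 hx1 g hg0, mul_one, ← exp_nsmul]
      simp
    rw [hval, exp_le_exp] at h
    omega
  · rintro ⟨g, rfl⟩
    rw [map_mul, map_pow, aeval_X, map_mul, map_pow, hx, ← exp_nsmul]
    calc exp (n • (-1 : ℤ)) * P.1 (aeval x g) ≤ exp (n • (-1 : ℤ)) * 1 := by
          gcongr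
          exact val_aeval_le_one P hx1.le g
      _ = exp (-(n : ℤ)) := by simp

/-- valuation of `p(t)` at a simple pole of `t` -/
theorem val_aeval_of_pole (P : Place k K) {t : K} (ht : P.1 t = exp (1 : ℤ)) {p : k[X]}
    (hp : p ≠ 0) : P.1 (aeval t p) = exp (p.natDegree : ℤ) := by
  have ht0 : t ≠ 0 := by
    rintro rfl
    rw [map_zero] at ht
    exact exp_ne_zero ht.symm
  letI : Invertible t := invertibleOfNonzero ht0
  have h1 := eval₂_reverse_mul_pow (algebraMap k K) t p
  have hinv : P.1 (⅟t) < 1 := by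
    rw [invOf_eq_inv, map_inv₀, ht, ← exp_neg, ← exp_zero, exp_lt_exp]
    norm_num
  have h2 : P.1 (aeval (⅟t) (reverse p)) = 1 := by
    apply gval_aeval_eq_one P.1 P.2.1 hinv
    rw [← coeff_zero_eq_eval_zero, coeff_zero_reverse]
    exact leadingCoeff_ne_zero.mpr hp
  have h3 : aeval t p = aeval (⅟t) (reverse p) * t ^ p.natDegree := h1.symm
  rw [h3, map_mul, h2, one_mul, map_pow, ht, ← exp_nsmul]
  simp

section coordinate

variable [IsAlgClosed k] (hK : IsFunctionField k K) {P₁ Pinf : Place k K} (hP : P₁ ≠ Pinf)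
  {t : K} (ht : FunFld.div k t = Finsupp.single P₁ 1 - Finsupp.single Pinf 1)

include hK hP ht

theorem coord_not_mem_range : t ∉ Set.range (algebraMap k K) := by
  intro hr
  have h1 := div_eq_zero_of_mem_range hK hr
  rw [ht] at h1
  have h2 := DFunLike.congr_fun h1 P₁
  rw [Finsupp.sub_apply, Finsupp.single_eq_same, Finsupp.single_eq_of_ne hP] at h2
  simp at h2

theorem coord_ne_zero : t ≠ 0 := by
  rintro rfl
  exact coord_not_mem_range hK hP ht ⟨0, map_zero _⟩

theorem coord_val_inf : Pinf.1 t = exp (1 : ℤ) := by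
  have ht0 := coord_ne_zero hK hP ht
  rw [val_eq_exp_neg_ord Pinf ht0, ← div_apply hK, ht, Finsupp.sub_apply,
    Finsupp.single_eq_of_ne (Ne.symm hP), Finsupp.single_eq_same]
  norm_num

theorem coord_val_le_one {R : Place k K} (hR : R ≠ Pinf) : R.1 t ≤ 1 := by
  have ht0 := coord_ne_zero hK hP ht
  rw [val_le_one_iff R ht0, ← div_apply hK, ht, Finsupp.sub_apply, Finsupp.single_eq_of_ne hR,
    sub_zero]
  by_cases h : R = P₁
  · subst h; rw [Finsupp.single_eq_same]; norm_num
  · rw [Finsupp.single_eq_of_ne h]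

theorem coord_sub_mem_L (c : k) : t - algebraMap k K c ∈ L (Finsupp.single Pinf (1 : ℤ)) := by
  have ht0 := coord_ne_zero hK hP ht
  have htL : t ∈ L (Finsupp.single Pinf (1 : ℤ)) := by
    rw [nonneg_add_div_iff hK _ ht0, ht]
    have : Finsupp.single Pinf (1 : ℤ) + (Finsupp.single P₁ 1 - Finsupp.single Pinf 1) =
        Finsupp.single P₁ (1 : ℤ) := by abel
    rw [this]
    exact Finsupp.single_nonneg.mpr zero_le_one
  have hcL : algebraMap k K c ∈ L (Finsupp.single Pinf (1 : ℤ)) := by
    have h0 : (0 : Divisor k K) ≤ Finsupp.single Pinf (1 : ℤ) :=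
      Finsupp.single_nonneg.mpr zero_le_one
    apply L_mono h0
    rw [L_zero_eq_one hK, Submodule.mem_one]
    exact ⟨c, rfl⟩
  exact Submodule.sub_mem _ htL hcL

theorem coord_sub_ne_zero (c : k) : t - algebraMap k K c ≠ 0 := by
  intro h0
  exact coord_not_mem_range hK hP ht ⟨c, (sub_eq_zero.mp h0).symm⟩

/-- `t - c` has at most one zero, and it is simple -/
theorem coord_sub_val_eq {R : Place k K} (hR : R ≠ Pinf) {c : k}
    (hc : R.1 (t - algebraMap k K c) < 1) : R.1 (t - algebraMap k K c) = exp (-1 : ℤ) := by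
  have hu0 := coord_sub_ne_zero hK hP ht c
  have huL := coord_sub_mem_L hK hP ht c
  have h1 : 0 < R.ord (t - algebraMap k K c) := (val_lt_one_iff R hu0).mp hc
  have hord : R.ord (t - algebraMap k K c) = 1 := by
    by_contra hne
    have h2 : 2 ≤ R.ord (t - algebraMap k K c) := by omega
    have huL2 : t - algebraMap k K c ∈
        L (Finsupp.single Pinf (1 : ℤ) - Finsupp.single R (2 : ℤ)) := by
      rw [mem_L_iff]
      intro R'
      by_cases hR' : R' = R
      · subst hR'
        rw [Finsupp.sub_apply, Finsupp.single_eq_same, Finsupp.single_eq_of_ne hR,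
          val_le_exp_iff R' hu0]
        omega
      · rw [Finsupp.sub_apply, Finsupp.single_eq_of_ne hR', sub_zero]
        exact (mem_L_iff.mp huL) R'
    rw [L_eq_bot_of_deg_neg hK] at huL2
    · exact hu0 ((Submodule.mem_bot k).mp huL2)
    · rw [deg_sub, deg_single, deg_single, deg_eq_one_of_isAlgClosed hK R,
        deg_eq_one_of_isAlgClosed hK Pinf]
      norm_num
  rw [val_eq_exp_neg_ord R hu0, hord]

theorem coord_exists {R : Place k K} (hR : R ≠ Pinf) :
    ∃ c : k, R.1 (t - algebraMap k K c) = exp (-1 : ℤ) := by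
  obtain ⟨c, hc⟩ := exists_sub_val_lt_one hK R (coord_val_le_one hK hP ht hR)
  exact ⟨c, coord_sub_val_eq hK hP ht hR hc⟩

theorem coord_injective {R R' : Place k K} (hR : R ≠ Pinf) (hR' : R' ≠ Pinf) {c : k}
    (hc : R.1 (t - algebraMap k K c) < 1) (hc' : R'.1 (t - algebraMap k K c) < 1) : R = R' := by
  by_contra hne
  have hu0 := coord_sub_ne_zero hK hP ht c
  have huL := coord_sub_mem_L hK hP ht c
  have huL2 : t - algebraMap k K c ∈
      L (Finsupp.single Pinf (1 : ℤ) - Finsupp.single R (1 : ℤ) - Finsupp.single R' (1 : ℤ)) := by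
    rw [mem_L_iff]
    intro R''
    simp only [Finsupp.sub_apply]
    by_cases h1 : R'' = R
    · subst h1
      rw [Finsupp.single_eq_same, Finsupp.single_eq_of_ne hR, Finsupp.single_eq_of_ne hne,
        val_le_exp_iff R'' hu0]
      have := (val_lt_one_iff R'' hu0).mp hc
      omega
    · by_cases h2 : R'' = R'
      · subst h2
        rw [Finsupp.single_eq_same, Finsupp.single_eq_of_ne hR', Finsupp.single_eq_of_ne h1,
          val_le_exp_iff R'' hu0]
        have := (val_lt_one_iff R'' hu0).mp hc'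
        omega
      · rw [Finsupp.single_eq_of_ne h1, Finsupp.single_eq_of_ne h2, sub_zero, sub_zero]
        exact (mem_L_iff.mp huL) R''
  rw [L_eq_bot_of_deg_neg hK] at huL2
  · exact hu0 ((Submodule.mem_bot k).mp huL2)
  · rw [deg_sub, deg_sub, deg_single, deg_single, deg_single, deg_eq_one_of_isAlgClosed hK R,
      deg_eq_one_of_isAlgClosed hK R', deg_eq_one_of_isAlgClosed hK Pinf]
    norm_num

end coordinate

section transfer

variable [IsAlgClosed k] (hK : IsFunctionField k K) (hg0 : genus k K = 0)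
  {P₁ Pinf : Place k K} (hP : P₁ ≠ Pinf)
  {t : K} (ht : FunFld.div k t = Finsupp.single P₁ 1 - Finsupp.single Pinf 1)

include hK hP ht

theorem coord_aeval_injective : Function.Injective (aeval t : k[X] →ₐ[k] K) :=
  transcendental_iff_injective.mp
    (transcendental_of_not_mem_range hK (coord_not_mem_range hK hP ht))

theorem coord_aeval_val_le {R : Place k K} (hR : R ≠ Pinf) (p : k[X]) :
    R.1 (aeval t p) ≤ 1 := val_aeval_le_one R (coord_val_le_one hK hP ht hR) p

theorem coord_aeval_val_inf {p : k[X]} (hp : p ≠ 0) :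
    Pinf.1 (aeval t p) = exp (p.natDegree : ℤ) :=
  val_aeval_of_pole Pinf (coord_val_inf hK hP ht) hp

/-- order of `p(t)` at the place `t = c` -/
theorem coord_aeval_val_le_exp_iff {R : Place k K} {c : k}
    (hc : R.1 (t - algebraMap k K c) = exp (-1 : ℤ)) (p : k[X]) (n : ℕ) :
    R.1 (aeval t p) ≤ exp (-(n : ℤ)) ↔ (X - C c) ^ n ∣ p := by
  have h1 : aeval t p = aeval (t - algebraMap k K c) (p.comp (X + C c)) := by
    rw [aeval_comp]
    simp
  rw [h1, val_aeval_le_exp_iff R hc, X_sub_C_pow_dvd_iff]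

include hg0 in
theorem L_single_inf_eq_map (d : ℕ) :
    L (Finsupp.single Pinf (d : ℤ)) =
      Submodule.map (aeval t : k[X] →ₐ[k] K).toLinearMap (degreeLT k (d + 1)) := by
  symm
  have hfdL := finiteDimensional_L hK (Finsupp.single Pinf (d : ℤ))
  apply Submodule.eq_of_le_of_finrank_eq
  · rintro y ⟨p, hp, rfl⟩
    rw [mem_L_iff]
    intro R
    by_cases hR : R = Pinf
    · subst hR
      rw [Finsupp.single_eq_same]
      by_cases hp0 : p = 0
      · rw [hp0]; simp
      · show R.1 (aeval t p) ≤ _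
        rw [coord_aeval_val_inf hK hP ht hp0, exp_le_exp]
        have h1 := mem_degreeLT.mp hp
        rw [degree_eq_natDegree hp0] at h1
        have h2 : p.natDegree < d + 1 := by exact_mod_cast h1
        omega
    · rw [Finsupp.single_eq_of_ne hR, exp_zero]
      exact coord_aeval_val_le hK hP ht hR p
  · have h1 := (Submodule.equivMapOfInjective (aeval t : k[X] →ₐ[k] K).toLinearMap
      (coord_aeval_injective hK hP ht) (degreeLT k (d + 1))).finrank_eq
    have h2 := (degreeLTEquiv k (d + 1)).finrank_eq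
    rw [Module.finrank_fin_fun] at h2
    have h3 := ell_eq_of_deg_ge hK (D := Finsupp.single Pinf (d : ℤ))
      (by rw [hg0, deg_single, deg_eq_one_of_isAlgClosed hK Pinf]; push_cast; omega)
    rw [hg0, deg_single, deg_eq_one_of_isAlgClosed hK Pinf] at h3
    have h4 : ell (Finsupp.single Pinf (d : ℤ)) = d + 1 := by
      have : (ell (Finsupp.single Pinf (d : ℤ)) : ℤ) = ((d + 1 : ℕ) : ℤ) := by
        rw [h3]; push_cast; ring
      exact_mod_cast this
    unfold ell at h4
    rw [← h1, h2, h4]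

end transfer

/-- **Plücker inequality** on a function field of genus zero: the weights of a linear series at
finitely many places add up to at most `(r + 1)(d - r)` -/
theorem pluecker_genus_zero [IsAlgClosed k] [CharZero k] (hK : IsFunctionField k K)
    (hg0 : genus k K = 0) {d r : ℕ} {D : Divisor k K} {V : Submodule k K} (hV : V ≤ L D)
    (hD : D.deg = d) (hVr : finrank k ↥V = r + 1) (S : Finset (Place k K)) :
    ∑ P ∈ S, wsum d V D P + r * (r + 1) ≤ (r + 1) * d + S.card * (r * (r + 1) / 2) := by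
  classical
  rcases S.eq_empty_or_nonempty with rfl | ⟨Pinf, hPinf⟩
  · simp only [Finset.sum_empty, Finset.card_empty, zero_mul, add_zero, zero_add]
    have := le_deg_of_finrank hK hV hD hVr
    nlinarith
  obtain ⟨P₁, hP⟩ := exists_place_ne hK Pinf
  have hdeg1 := fun R : Place k K => deg_eq_one_of_isAlgClosed hK R
  obtain ⟨t, -, ht⟩ := exists_div_eq_of_deg_eq_zero hK hg0
    (E := Finsupp.single P₁ 1 - Finsupp.single Pinf 1)
    (by rw [deg_sub, deg_single, deg_single, hdeg1, hdeg1]; norm_num)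
  obtain ⟨u, hu0, hu⟩ := exists_div_eq_of_deg_eq_zero hK hg0
    (E := D - Finsupp.single Pinf (d : ℤ))
    (by rw [deg_sub, deg_single, hdeg1, hD]; push_cast; ring)
  set Dinf : Divisor k K := Finsupp.single Pinf (d : ℤ) with hDinf
  -- multiplication by `u`
  let μ : K ≃ₗ[k] K := LinearEquiv.ofLinearMap (LinearMap.mulLeft k u) (LinearMap.mulLeft k u⁻¹)
    (by ext x; simp [hu0]) (by ext x; simp [hu0])
  have hμ : ∀ x, μ x = u * x := fun x => rfl
  set Vu : Submodule k K := V.map μ.toLinearMap with hVu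
  have key_u : ∀ (R : Place k K) (n : ℤ) (y : K),
      u * y ∈ L (Dinf - Finsupp.single R n) ↔ y ∈ L (D - Finsupp.single R n) := by
    intro R n y
    rw [mul_mem_L_iff hK _ hu0, hu]
    have : Dinf - Finsupp.single R n + (D - Dinf) = D - Finsupp.single R n := by abel
    rw [this]
  have hVu_map : ∀ (R : Place k K) (n : ℤ),
      (V ⊓ L (D - Finsupp.single R n)).map μ.toLinearMap = Vu ⊓ L (Dinf - Finsupp.single R n) := by
    intro R n
    ext y
    constructor
    · rintro ⟨x, ⟨hxV, hxL⟩, rfl⟩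
      exact ⟨⟨x, hxV, rfl⟩, (key_u R n x).mpr hxL⟩
    · rintro ⟨⟨x, hxV, rfl⟩, hL⟩
      exact ⟨x, ⟨hxV, (key_u R n x).mp hL⟩, rfl⟩
  have hfin_u : ∀ (R : Place k K) (n : ℤ), finrank k ↥(Vu ⊓ L (Dinf - Finsupp.single R n)) =
      finrank k ↥(V ⊓ L (D - Finsupp.single R n)) := by
    intro R n
    rw [← hVu_map]
    exact LinearEquiv.finrank_map_eq μ _
  have hVuL : Vu ≤ L Dinf := by
    rintro y ⟨x, hxV, rfl⟩
    have := (key_u Pinf 0 x).mpr (by simpa using hV hxV)
    show u * x ∈ L Dinf
    simpa using this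
  have hVur : finrank k ↥Vu = r + 1 := by
    rw [← hVr]
    exact LinearEquiv.finrank_map_eq μ V
  -- the polynomial model
  have hφinj := coord_aeval_injective hK hP ht
  set φ : k[X] →ₗ[k] K := (aeval t : k[X] →ₐ[k] K).toLinearMap with hφ
  have hφapp : ∀ p, φ p = aeval t p := fun p => rfl
  have hLinf : L Dinf = Submodule.map φ (degreeLT k (d + 1)) := L_single_inf_eq_map hK hg0 hP ht d
  set W : Submodule k k[X] := Vu.comap φ with hW
  have hWmap : W.map φ = Vu := by
    rw [hW, Submodule.map_comap_eq, inf_eq_right]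
    refine le_trans hVuL ?_
    rw [hLinf]
    exact LinearMap.map_le_range
  have hWle : W ≤ degreeLT k (d + 1) := by
    intro p hp
    have h1 : φ p ∈ L Dinf := hVuL hp
    rw [hLinf] at h1
    obtain ⟨q, hq, hqp⟩ := h1
    have : q = p := hφinj hqp
    rwa [← this]
  have hWr : finrank k ↥W = r + 1 := by
    rw [← hVur, ← hWmap]
    exact (Submodule.equivMapOfInjective φ hφinj W).finrank_eq
  have hmemW : ∀ {y : K}, y ∈ Vu → ∃ p ∈ W, φ p = y := by
    intro y hy
    rw [← hWmap] at hy
    exact hy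
  -- coordinates of the finite places
  have hcex : ∀ R : Place k K, R ≠ Pinf → ∃ c : k, R.1 (t - algebraMap k K c) = exp (-1 : ℤ) :=
    fun R hR => coord_exists hK hP ht hR
  choose! cR hcR using hcex
  have hmapR : ∀ R : Place k K, R ≠ Pinf → ∀ n : ℕ,
      (W ⊓ Wr.Fc (cR R) n).map φ = Vu ⊓ L (Dinf - Finsupp.single R (n : ℤ)) := by
    intro R hR n
    ext y
    constructor
    · rintro ⟨p, ⟨hpW, hpF⟩, rfl⟩
      have hpVu : φ p ∈ Vu := hpW
      refine ⟨hpVu, ?_⟩
      rw [SetLike.mem_coe, mem_L_iff]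
      intro R'
      by_cases hR' : R' = R
      · subst hR'
        rw [Finsupp.sub_apply, Finsupp.single_eq_same, hDinf, Finsupp.single_eq_of_ne hR, zero_sub,
          hφapp, coord_aeval_val_le_exp_iff hK hP ht (hcR R' hR)]
        exact Wr.mem_Fc.mp hpF
      · rw [Finsupp.sub_apply, Finsupp.single_eq_of_ne hR', sub_zero]
        exact (mem_L_iff.mp (hVuL hpVu)) R'
    · rintro ⟨hyVu, hyL⟩
      obtain ⟨p, hpW, rfl⟩ := hmemW hyVu
      refine ⟨p, ⟨hpW, ?_⟩, rfl⟩
      have h1 := (mem_L_iff.mp hyL) R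
      rw [Finsupp.sub_apply, Finsupp.single_eq_same, hDinf, Finsupp.single_eq_of_ne hR, zero_sub,
        hφapp, coord_aeval_val_le_exp_iff hK hP ht (hcR R hR)] at h1
      exact Wr.mem_Fc.mpr h1
  have hmapInf : ∀ n : ℕ,
      (W ⊓ Wr.Finf d n).map φ = Vu ⊓ L (Dinf - Finsupp.single Pinf (n : ℤ)) := by
    intro n
    have hval : ∀ R' : Place k K, (Dinf - Finsupp.single Pinf (n : ℤ)) R' =
        if R' = Pinf then (d : ℤ) - n else Dinf R' := by
      intro R'
      split_ifs with h
      · rw [h, Finsupp.sub_apply, hDinf, Finsupp.single_eq_same, Finsupp.single_eq_same]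
      · rw [Finsupp.sub_apply, Finsupp.single_eq_of_ne h, Finsupp.single_eq_of_ne h, sub_zero]
    ext y
    constructor
    · rintro ⟨p, ⟨hpW, hpF⟩, rfl⟩
      have hpVu : φ p ∈ Vu := hpW
      refine ⟨hpVu, ?_⟩
      rw [SetLike.mem_coe, mem_L_iff]
      intro R'
      rw [hval R']
      split_ifs with hR'
      · rw [hR']
        by_cases hp0 : p = 0
        · rw [hp0]; simp
        · rw [hφapp, coord_aeval_val_inf hK hP ht hp0, exp_le_exp]
          have h1 : p ∈ degreeLT k (d + 1 - n) := hpF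
          rw [mem_degreeLT, degree_eq_natDegree hp0] at h1
          have h2 : p.natDegree < d + 1 - n := by exact_mod_cast h1
          omega
      · exact (mem_L_iff.mp (hVuL hpVu)) R'
    · rintro ⟨hyVu, hyL⟩
      obtain ⟨p, hpW, rfl⟩ := hmemW hyVu
      refine ⟨p, ⟨hpW, ?_⟩, rfl⟩
      show p ∈ degreeLT k (d + 1 - n)
      rw [mem_degreeLT]
      by_cases hp0 : p = 0
      · rw [hp0, degree_zero]; exact WithBot.bot_lt_coe _
      · have h1 := (mem_L_iff.mp hyL) Pinf
        rw [hval Pinf, if_pos rfl, hφapp, coord_aeval_val_inf hK hP ht hp0, exp_le_exp] at h1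
        rw [degree_eq_natDegree hp0]
        have h2 : p.natDegree < d + 1 - n := by omega
        exact_mod_cast h2
  have hfinR : ∀ R : Place k K, R ≠ Pinf → ∀ n : ℕ,
      finrank k ↥(W ⊓ Wr.Fc (cR R) n) = finrank k ↥(V ⊓ L (D - Finsupp.single R (n : ℤ))) := by
    intro R hR n
    rw [← hfin_u, ← hmapR R hR n]
    exact (Submodule.equivMapOfInjective φ hφinj _).finrank_eq
  have hfinInf : ∀ n : ℕ,
      finrank k ↥(W ⊓ Wr.Finf d n) = finrank k ↥(V ⊓ L (D - Finsupp.single Pinf (n : ℤ))) := by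
    intro n
    rw [← hfin_u, ← hmapInf n]
    exact (Submodule.equivMapOfInjective φ hφinj _).finrank_eq
  have hwR : ∀ R : Place k K, R ≠ Pinf →
      ∑ n ∈ Finset.range d, finrank k ↥(W ⊓ Wr.Fc (cR R) (n + 1)) = wsum d V D R := by
    intro R hR
    unfold wsum
    refine Finset.sum_congr rfl fun n _ => ?_
    rw [hfinR R hR (n + 1), Nat.cast_add, Nat.cast_one]
  have hwInf : ∑ n ∈ Finset.range d, finrank k ↥(W ⊓ Wr.Finf d (n + 1)) = wsum d V D Pinf := by
    unfold wsum
    refine Finset.sum_congr rfl fun n _ => ?_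
    rw [hfinInf (n + 1), Nat.cast_add, Nat.cast_one]
  -- injectivity of the coordinate
  have hinjOn : Set.InjOn cR (S.erase Pinf : Set (Place k K)) := by
    intro R hR R' hR' hcc
    have hRne : R ≠ Pinf := (Finset.mem_erase.mp hR).1
    have hR'ne : R' ≠ Pinf := (Finset.mem_erase.mp hR').1
    apply coord_injective hK hP ht hRne hR'ne (c := cR R)
    · rw [hcR R hRne, ← exp_zero, exp_lt_exp]; norm_num
    · rw [hcc, hcR R' hR'ne, ← exp_zero, exp_lt_exp]; norm_num
  have hpl := Wr.pluecker_poly W d r hWle hWr ((S.erase Pinf).image cR)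
  rw [Finset.sum_image hinjOn, Finset.card_image_of_injOn hinjOn, hwInf,
    Finset.sum_congr rfl (fun R hR => hwR R (Finset.mem_erase.mp hR).1)] at hpl
  have hcard : (S.erase Pinf).card + 1 = S.card := Finset.card_erase_add_one hPinf
  rw [hcard] at hpl
  have key : ∑ x ∈ S.erase Pinf, wsum d V D x + wsum d V D Pinf + r * (r + 1) ≤
      (r + 1) * d + S.card * (r * (r + 1) / 2) := hpl
  have h2 : wsum d V D Pinf + ∑ x ∈ S.erase Pinf, wsum d V D x = ∑ x ∈ S, wsum d V D x :=
    Finset.add_sum_erase S (fun P => wsum d V D P) hPinf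
  omega

/-- list form of the Plücker inequality -/
theorem pluecker_list [IsAlgClosed k] [CharZero k] (hK : IsFunctionField k K)
    (hg0 : genus k K = 0) {d r : ℕ} {D : Divisor k K} {V : Submodule k K} (hV : V ≤ L D)
    (hD : D.deg = d) (hVr : finrank k ↥V = r + 1) (l : List (Place k K)) (hl : l.Nodup) :
    (l.map (wsum d V D)).sum + r * (r + 1) ≤ (r + 1) * d + l.length * (r * (r + 1) / 2) := by
  classical
  have := pluecker_genus_zero hK hg0 hV hD hVr l.toFinset
  rwa [List.sum_toFinset _ hl, List.toFinset_card_of_nodup hl] at this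

end Groth.Agent.Lib.helper16.FF
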