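import Groth.Agent.Lib.helper16.FFAut

/-! Helper library (helper16): higher ramification groups at a place (local arguments). -/

set_option autoImplicit false

namespace Groth.Agent.Lib.helper16.FF

open FunFld WithZero Polynomial Module

variable {k K : Type*} [Field k] [Field K] [Algebra k K]

/-- the inclusion `O_P → K` as a `k`-algebra homomorphism -/
def ιO (P : Place k K) : P.O →ₐ[k] K := { P.O.subtype with commutes' := fun _ => rfl }

/-- the residue map `O_P → F_P` as a `k`-algebra homomorphism -/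
def ρO (P : Place k K) : P.O →ₐ[k] IsLocalRing.ResidueField P.O :=
  { IsLocalRing.residue P.O with commutes' := fun _ => rfl }

theorem ιO_apply (P : Place k K) (z : P.O) : ιO P z = (z : K) := rfl

theorem ρO_apply (P : Place k K) (z : P.O) : ρO P z = IsLocalRing.residue P.O z := rfl

theorem coe_eval_map (P : Place k K) (g : k[X]) (z : P.O) :
    (((g.map (algebraMap k P.O)).eval z : P.O) : K) = aeval (z : K) g := by
  rw [eval_map, ← aeval_def, ← ιO_apply, ← aeval_algHom_apply]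
  rfl

theorem residue_eval_map (P : Place k K) (g : k[X]) (z : P.O) :
    IsLocalRing.residue P.O ((g.map (algebraMap k P.O)).eval z) =
      aeval (IsLocalRing.residue P.O z) g := by
  rw [eval_map, ← aeval_def, ← ρO_apply, ← aeval_algHom_apply]
  rfl

theorem exp_neg_one_lt_one : (exp (-1 : ℤ) : ℤᵐ⁰) < 1 := by
  rw [← exp_zero, exp_lt_exp]; omega

/-- one step of the ramification filtration: if `σ` moves every integral element by order `≥ j`
and a uniformizer by order `≥ j + 1`, then it moves every integral element by order `≥ j + 1`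
(residue field separable over `k`) -/
theorem ram_step (Q : Place k K) [Algebra.IsSeparable k (IsLocalRing.ResidueField Q.O)]
    (σ : K →ₐ[k] K) {t : K} (ht : Q.1 t = exp (-1)) (j : ℕ) (hj1 : 1 ≤ j)
    (hσ : ∀ x, Q.1 x ≤ 1 → Q.1 (σ x - x) ≤ exp (-(j : ℤ)))
    (htj : Q.1 (σ t - t) ≤ exp (-((j : ℤ) + 1))) :
    ∀ x, Q.1 x ≤ 1 → Q.1 (σ x - x) ≤ exp (-((j : ℤ) + 1)) := by
  have ht0 : t ≠ 0 := by
    rintro rfl
    rw [map_zero] at ht
    exact exp_ne_zero ht.symm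
  have hσt : Q.1 (σ t) ≤ exp (-1) := by
    have e : σ t = t + (σ t - t) := by ring
    rw [e]
    refine le_trans (Q.1.map_add _ _) (max_le ht.le (le_trans htj (exp_le_exp.mpr (by omega))))
  have hmul : ∀ w, Q.1 w ≤ 1 → Q.1 (σ (t * w) - t * w) ≤ exp (-((j : ℤ) + 1)) := by
    intro w hw
    have e : σ (t * w) - t * w = σ t * (σ w - w) + w * (σ t - t) := by
      rw [map_mul]; ring
    rw [e]
    refine le_trans (Q.1.map_add _ _) (max_le ?_ ?_)
    · rw [map_mul]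
      calc Q.1 (σ t) * Q.1 (σ w - w) ≤ exp (-1) * exp (-(j : ℤ)) := mul_le_mul' hσt (hσ w hw)
        _ = exp (-((j : ℤ) + 1)) := by rw [← exp_add]; congr 1; ring
    · rw [map_mul]
      calc Q.1 w * Q.1 (σ t - t) ≤ 1 * exp (-((j : ℤ) + 1)) := mul_le_mul' hw htj
        _ = exp (-((j : ℤ) + 1)) := one_mul _
  have hmul' : ∀ z, Q.1 z < 1 → Q.1 (σ z - z) ≤ exp (-((j : ℤ) + 1)) := by
    intro z hz
    have e : z = t * (z / t) := by field_simp
    rw [e]
    apply hmul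
    rw [map_div₀, ht, div_le_one₀ exp_pos]
    exact lt_one_iff_le_exp_neg_one.mp hz
  intro x hx
  by_cases hxu : Q.1 x < 1
  · exact hmul' x hxu
  · set xO : Q.O := ⟨x, hx⟩ with hxO
    set g := minpoly k (IsLocalRing.residue Q.O xO) with hg
    have hsep : g.Separable := Algebra.IsSeparable.isSeparable k _
    have hgu : aeval (IsLocalRing.residue Q.O xO) g = 0 := minpoly.aeval k _
    have hh : Q.1 (σ x - x) ≤ exp (-1) := le_trans (hσ x hx) (exp_le_exp.mpr (by omega))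
    set hO : Q.O := ⟨σ x - x, le_trans hh exp_neg_one_lt_one.le⟩ with hhO
    set G := g.map (algebraMap k Q.O) with hG
    obtain ⟨c, hc⟩ := Polynomial.binomExpansion G xO hO
    have e2 : ((xO + hO : Q.O) : K) = σ x := by
      show x + (σ x - x) = σ x
      ring
    have hc' : aeval (σ x) g = aeval x g + ((G.derivative.eval xO : Q.O) : K) * (σ x - x) +
        (c : K) * (σ x - x) ^ 2 := by
      have h1 : ((G.eval (xO + hO) : Q.O) : K) =
          ((G.eval xO + G.derivative.eval xO * hO + c * hO ^ 2 : Q.O) : K) := by rw [hc]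
      rw [hG, coe_eval_map, e2] at h1
      rw [h1]
      push_cast
      rw [← hG, coe_eval_map]
    have e3 : σ (aeval x g) = aeval (σ x) g := (aeval_algHom_apply σ x g).symm
    have e4 : Q.1 (aeval x g) < 1 := by
      have : aeval x g = ((G.eval xO : Q.O) : K) := by rw [hG, coe_eval_map]
      rw [this, ← residue_eq_zero_iff, hG, residue_eval_map]
      exact hgu
    have e5 := hmul' _ e4
    have e6 : Q.1 ((G.derivative.eval xO : Q.O) : K) = 1 := by
      have hne : IsLocalRing.residue Q.O (G.derivative.eval xO) ≠ 0 := by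
        rw [hG, derivative_map, residue_eval_map]
        exact hsep.aeval_derivative_ne_zero hgu
      rw [Ne, residue_eq_zero_iff, not_lt] at hne
      exact le_antisymm (G.derivative.eval xO).2 hne
    have e7 : σ (aeval x g) - aeval x g =
        (σ x - x) * (((G.derivative.eval xO : Q.O) : K) + (c : K) * (σ x - x)) := by
      rw [e3, hc']; ring
    have e8 : Q.1 (((G.derivative.eval xO : Q.O) : K) + (c : K) * (σ x - x)) = 1 := by
      rw [Valuation.map_add_eq_of_lt_left, e6]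
      rw [e6, map_mul]
      calc Q.1 (c : K) * Q.1 (σ x - x) ≤ 1 * exp (-1) := mul_le_mul' c.2 hh
        _ < 1 := by rw [one_mul]; exact exp_neg_one_lt_one
    rw [e7, map_mul, e8, mul_one] at e5
    exact e5

/-- **Ramification groups via a uniformizer**: for `σ` in the inertia group, `σ ∈ G_j` iff
`σ t ≡ t mod m^j` -/
theorem ram_iff (Q : Place k K) [Algebra.IsSeparable k (IsLocalRing.ResidueField Q.O)]
    (σ : K →ₐ[k] K) (hσ : ∀ x, Q.1 x ≤ 1 → Q.1 (σ x - x) ≤ exp (-1)) {t : K}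
    (ht : Q.1 t = exp (-1)) (j : ℕ) (hj : 1 ≤ j) :
    (∀ x, Q.1 x ≤ 1 → Q.1 (σ x - x) ≤ exp (-(j : ℤ))) ↔ Q.1 (σ t - t) ≤ exp (-(j : ℤ)) := by
  constructor
  · intro h
    exact h t (by rw [ht]; exact exp_neg_one_lt_one.le)
  · induction j, hj using Nat.le_induction with
    | base => intro _; exact_mod_cast hσ
    | succ j hj ih =>
      intro htj
      have h1 : Q.1 (σ t - t) ≤ exp (-(j : ℤ)) :=
        le_trans htj (exp_le_exp.mpr (by push_cast; omega))
      have h2 := ram_step Q σ ht j hj (ih h1) (by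
        refine le_trans htj (le_of_eq ?_)
        congr 1)
      intro x hx
      refine le_trans (h2 x hx) (le_of_eq ?_)
      congr 1

section Galois

variable {F : Type*} [Field F] [Algebra k F] [Algebra F K] [IsScalarTower k F K]

/-- an automorphism preserving the valuation ring of `Q` preserves the valuation -/
theorem val_map_eq (Q : Place k K) (σ : K ≃ₐ[F] K) (h : ∀ x, Q.1 x ≤ 1 → Q.1 (σ x) ≤ 1) (x : K) :
    Q.1 (σ x) = Q.1 x := by
  have h1 : Q = comapPlace (σ.restrictScalars k) Q := eq_of_valuationRing_le _ _ (fun y hy => h y hy)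
  have h2 : (comapPlace (σ.restrictScalars k) Q).1 x = Q.1 (σ x) := rfl
  rw [← h2, ← h1]

theorem val_map_le_of_sub_le (Q : Place k K) (σ : K ≃ₐ[F] K) {i : ℕ}
    (hσ : ∀ x, Q.1 x ≤ 1 → Q.1 (σ x - x) ≤ exp (-(i : ℤ))) : ∀ x, Q.1 x ≤ 1 → Q.1 (σ x) ≤ 1 := by
  intro x hx
  have e : σ x = x + (σ x - x) := by ring
  rw [e]
  refine le_trans (Q.1.map_add _ _) (max_le hx (le_trans (hσ x hx) ?_))
  rw [← exp_zero, exp_le_exp]
  omega

/-- the `i`-th ramification group of `Q` (`i = 1`: inertia group) -/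
def ramGroup (Q : Place k K) (i : ℕ) : Subgroup (K ≃ₐ[F] K) where
  carrier := {σ | ∀ x, Q.1 x ≤ 1 → Q.1 (σ x - x) ≤ exp (-(i : ℤ))}
  one_mem' := by
    intro x _
    show Q.1 (x - x) ≤ _
    rw [sub_self, map_zero]
    exact zero_le
  mul_mem' := by
    intro σ τ hσ hτ x hx
    have e : (σ * τ) x - x = σ (τ x - x) + (σ x - x) := by
      show σ (τ x) - x = _
      rw [map_sub]; ring
    rw [e]
    refine le_trans (Q.1.map_add _ _) (max_le ?_ (hσ x hx))
    rw [val_map_eq Q σ (val_map_le_of_sub_le Q σ hσ)]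
    exact hτ x hx
  inv_mem' := by
    intro σ hσ x hx
    have hv := val_map_eq Q σ (val_map_le_of_sub_le Q σ hσ)
    have hx' : Q.1 (σ⁻¹ x) ≤ 1 := by
      have : Q.1 (σ (σ⁻¹ x)) = Q.1 (σ⁻¹ x) := hv _
      rw [← this]
      show Q.1 (σ (σ.symm x)) ≤ 1
      rw [σ.apply_symm_apply]
      exact hx
    have h1 := hσ (σ⁻¹ x) hx'
    have e : σ (σ⁻¹ x) - σ⁻¹ x = -(σ⁻¹ x - x) := by
      have : σ (σ⁻¹ x) = x := σ.apply_symm_apply x
      rw [this]; ring
    rw [e, Valuation.map_neg] at h1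
    exact h1

theorem mem_ramGroup {Q : Place k K} {i : ℕ} {σ : K ≃ₐ[F] K} :
    σ ∈ ramGroup (F := F) Q i ↔ ∀ x, Q.1 x ≤ 1 → Q.1 (σ x - x) ≤ exp (-(i : ℤ)) := Iff.rfl

theorem ramGroup_antitone (Q : Place k K) {i j : ℕ} (hij : i ≤ j) :
    ramGroup (F := F) Q j ≤ ramGroup (F := F) Q i := by
  intro σ hσ x hx
  exact le_trans (hσ x hx) (exp_le_exp.mpr (by omega))

theorem val_map_eq_of_mem {Q : Place k K} {i : ℕ} {σ : K ≃ₐ[F] K}
    (hσ : σ ∈ ramGroup (F := F) Q i) (x : K) : Q.1 (σ x) = Q.1 x :=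
  val_map_eq Q σ (val_map_le_of_sub_le Q σ hσ) x

/-- `{z | v_Q(z) ≤ exp m}` as a `k`-submodule -/
def valBall (Q : Place k K) (m : ℤ) : Submodule k K where
  carrier := {z | Q.1 z ≤ exp m}
  add_mem' := fun {a b} ha hb => le_trans (Q.1.map_add a b) (max_le ha hb)
  zero_mem' := by
    show Q.1 0 ≤ exp m
    rw [map_zero]; exact zero_le
  smul_mem' := fun c z hz => le_trans (val_smul_le Q c z) hz

theorem mem_valBall {Q : Place k K} {m : ℤ} {z : K} : z ∈ valBall Q m ↔ Q.1 z ≤ exp m :=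
  Iff.rfl

/-- elements of `G_i` move elements of `m^m` by order `≥ m + i - 1` -/
theorem val_map_sub_le {Q : Place k K} {i : ℕ} (hi : 1 ≤ i) {σ : K ≃ₐ[F] K}
    (hσ : σ ∈ ramGroup (F := F) Q i) {t : K} (ht : Q.1 t = exp (-1)) (m : ℕ) :
    ∀ z, Q.1 z ≤ exp (-(m : ℤ)) → Q.1 (σ z - z) ≤ exp (-((m : ℤ) + i - 1)) := by
  have ht0 : t ≠ 0 := by
    rintro rfl
    rw [map_zero] at ht
    exact exp_ne_zero ht.symm
  induction m with
  | zero =>
    intro z hz
    refine le_trans (hσ z (by simpa using hz)) (exp_le_exp.mpr ?_)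
    push_cast; omega
  | succ m ih =>
    intro z hz
    have hw : Q.1 (z / t) ≤ exp (-(m : ℤ)) := by
      rw [map_div₀, ht, div_le_iff₀ exp_pos, ← exp_add]
      refine le_trans hz (exp_le_exp.mpr ?_)
      push_cast; omega
    have e : σ z - z = σ t * (σ (z / t) - z / t) + z / t * (σ t - t) := by
      have : z = t * (z / t) := by field_simp
      conv_lhs => rw [this, map_mul]
      ring
    rw [e]
    refine le_trans (Q.1.map_add _ _) (max_le ?_ ?_)
    · rw [map_mul, val_map_eq_of_mem hσ, ht]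
      calc exp (-1) * Q.1 (σ (z / t) - z / t) ≤ exp (-1) * exp (-((m : ℤ) + i - 1)) :=
            mul_le_mul' le_rfl (ih _ hw)
        _ = exp (-(((m + 1 : ℕ) : ℤ) + i - 1)) := by
          rw [← exp_add]; congr 1; push_cast; ring
    · rw [map_mul]
      have h1 := hσ t (by rw [ht]; exact exp_neg_one_lt_one.le)
      calc Q.1 (z / t) * Q.1 (σ t - t) ≤ exp (-(m : ℤ)) * exp (-(i : ℤ)) := mul_le_mul' hw h1
        _ = exp (-(((m + 1 : ℕ) : ℤ) + i - 1)) := by
          rw [← exp_add]; congr 1; push_cast; ring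

/-- additivity of `σ ↦ σ t - t` on `G_i`, `i ≥ 2`, modulo `m^(i+1)` -/
theorem sub_additive {Q : Place k K} {i : ℕ} (hi : 2 ≤ i) {σ τ : K ≃ₐ[F] K}
    (hσ : σ ∈ ramGroup (F := F) Q i) (hτ : τ ∈ ramGroup (F := F) Q i) {t : K}
    (ht : Q.1 t = exp (-1)) :
    Q.1 (((σ * τ) t - t) - ((σ t - t) + (τ t - t))) ≤ exp (-((i : ℤ) + 1)) := by
  have e : ((σ * τ) t - t) - ((σ t - t) + (τ t - t)) = σ (τ t - t) - (τ t - t) := by
    show (σ (τ t) - t) - ((σ t - t) + (τ t - t)) = _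
    rw [map_sub]; ring
  rw [e]
  have h1 := hτ t (by rw [ht]; exact exp_neg_one_lt_one.le)
  refine le_trans (val_map_sub_le (by omega) hσ ht i _ h1) (exp_le_exp.mpr ?_)
  omega

/-- the homomorphism `G_i → m^i/m^(i+1)`, `σ ↦ σ t - t`, for `i ≥ 2` -/
noncomputable def ramHom (Q : Place k K) {i : ℕ} (hi : 2 ≤ i) {t : K} (ht : Q.1 t = exp (-1)) :
    ramGroup (F := F) Q i →* Multiplicative (K ⧸ valBall Q (-((i : ℤ) + 1))) :=
  MonoidHom.mk' (fun σ => Multiplicative.ofAdd (Submodule.Quotient.mk ((σ : K ≃ₐ[F] K) t - t)))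
    (by
      intro σ τ
      rw [← ofAdd_add, ← Submodule.Quotient.mk_add]
      congr 1
      rw [Submodule.Quotient.eq]
      exact sub_additive hi σ.2 τ.2 ht)

theorem ramHom_apply (Q : Place k K) {i : ℕ} (hi : 2 ≤ i) {t : K} (ht : Q.1 t = exp (-1))
    (σ : ramGroup (F := F) Q i) :
    ramHom Q hi ht σ = Multiplicative.ofAdd (Submodule.Quotient.mk ((σ : K ≃ₐ[F] K) t - t)) := rfl

theorem ramHom_eq_one_iff (Q : Place k K) {i : ℕ} (hi : 2 ≤ i) {t : K} (ht : Q.1 t = exp (-1))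
    (σ : ramGroup (F := F) Q i) :
    ramHom Q hi ht σ = 1 ↔ Q.1 ((σ : K ≃ₐ[F] K) t - t) ≤ exp (-((i : ℤ) + 1)) := by
  rw [ramHom_apply, ← ofAdd_zero, Multiplicative.ofAdd.injective.eq_iff,
    Submodule.Quotient.mk_eq_zero]
  rfl

/-- membership in `G_(i+1)` through the homomorphism `ramHom` -/
theorem mem_ramGroup_succ_of_ramHom_eq_one (Q : Place k K)
    [Algebra.IsSeparable k (IsLocalRing.ResidueField Q.O)] {i : ℕ} (hi : 2 ≤ i) {t : K}
    (ht : Q.1 t = exp (-1)) (σ : ramGroup (F := F) Q i) (h : ramHom Q hi ht σ = 1) :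
    (σ : K ≃ₐ[F] K) ∈ ramGroup (F := F) Q (i + 1) := by
  rw [ramHom_eq_one_iff] at h
  have h1 : (σ : K ≃ₐ[F] K) ∈ ramGroup (F := F) Q 1 := ramGroup_antitone Q (by omega) σ.2
  have := (ram_iff Q (((σ : K ≃ₐ[F] K) : K →ₐ[F] K).restrictScalars k)
    (fun x hx => by exact_mod_cast h1 x hx) ht (i + 1) (by omega)).mpr (by
      refine le_trans h (le_of_eq ?_)
      congr 1)
  intro x hx
  exact this x hx

theorem ramHom_pow (Q : Place k K) {i : ℕ} (hi : 2 ≤ i) {t : K} (ht : Q.1 t = exp (-1))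
    (σ : ramGroup (F := F) Q i) (n : ℕ) :
    ramHom Q hi ht (σ ^ n) = Multiplicative.ofAdd
      (Submodule.Quotient.mk ((n : K) * ((σ : K ≃ₐ[F] K) t - t))) := by
  rw [map_pow, ramHom_apply, ← ofAdd_nsmul, ← nsmul_eq_mul]
  rfl

theorem pow_mem_ramGroup_succ (Q : Place k K)
    [Algebra.IsSeparable k (IsLocalRing.ResidueField Q.O)] {i : ℕ} (hi : 2 ≤ i)
    {σ : K ≃ₐ[F] K} (hσ : σ ∈ ramGroup (F := F) Q i) (n : ℕ) {t : K} (ht : Q.1 t = exp (-1))
    (h : Q.1 ((n : K) * (σ t - t)) ≤ exp (-((i : ℤ) + 1))) :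
    σ ^ n ∈ ramGroup (F := F) Q (i + 1) := by
  have h1 : ramHom Q hi ht ((⟨σ, hσ⟩ : ramGroup (F := F) Q i) ^ n) = 1 := by
    rw [ramHom_pow, ← ofAdd_zero, Multiplicative.ofAdd.injective.eq_iff,
      Submodule.Quotient.mk_eq_zero]
    exact h
  exact mem_ramGroup_succ_of_ramHom_eq_one Q hi ht _ h1

theorem mem_ramGroup_succ_of_pow_eq_one (Q : Place k K)
    [Algebra.IsSeparable k (IsLocalRing.ResidueField Q.O)] {i : ℕ} (hi : 2 ≤ i)
    {σ : K ≃ₐ[F] K} (hσ : σ ∈ ramGroup (F := F) Q i) {n : ℕ} (hn : σ ^ n = 1)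
    (hnk : (n : k) ≠ 0) : σ ∈ ramGroup (F := F) Q (i + 1) := by
  obtain ⟨t, ht⟩ := exists_uniformizer Q
  have h1 : ramHom Q hi ht ((⟨σ, hσ⟩ : ramGroup (F := F) Q i) ^ n) = 1 := by
    have : (⟨σ, hσ⟩ : ramGroup (F := F) Q i) ^ n = 1 := by
      apply Subtype.ext
      rw [SubgroupClass.coe_pow]
      exact hn
    rw [this, map_one]
  rw [ramHom_pow, ← ofAdd_zero, Multiplicative.ofAdd.injective.eq_iff,
    Submodule.Quotient.mk_eq_zero] at h1
  have h2 : Q.1 ((n : K) * (σ t - t)) ≤ exp (-((i : ℤ) + 1)) := h1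
  have h3 : Q.1 (n : K) = 1 := by
    have : (n : K) = algebraMap k K (n : k) := (map_natCast (algebraMap k K) n).symm
    rw [this, val_algebraMap Q hnk]
  rw [map_mul, h3, one_mul] at h2
  exact mem_ramGroup_succ_of_ramHom_eq_one Q hi ht ⟨σ, hσ⟩ ((ramHom_eq_one_iff Q hi ht _).mpr h2)

theorem commutator_mem_ramGroup_succ (Q : Place k K)
    [Algebra.IsSeparable k (IsLocalRing.ResidueField Q.O)] {i : ℕ} (hi : 2 ≤ i)
    {σ τ : K ≃ₐ[F] K} (hσ : σ ∈ ramGroup (F := F) Q i) (hτ : τ ∈ ramGroup (F := F) Q i) :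
    σ * τ * σ⁻¹ * τ⁻¹ ∈ ramGroup (F := F) Q (i + 1) := by
  obtain ⟨t, ht⟩ := exists_uniformizer Q
  have h1 : ramHom Q hi ht ((⟨σ, hσ⟩ : ramGroup (F := F) Q i) * ⟨τ, hτ⟩ * ⟨σ, hσ⟩⁻¹ * ⟨τ, hτ⟩⁻¹) =
      1 := by
    rw [map_mul, map_mul, map_mul, map_inv, map_inv, mul_comm (ramHom Q hi ht ⟨σ, hσ⟩),
      mul_inv_cancel_right, mul_inv_cancel]
  exact mem_ramGroup_succ_of_ramHom_eq_one Q hi ht _ h1

theorem val_ratio_eq_one {Q : Place k K} {t : K} (ht : Q.1 t = exp (-1))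
    (σ : ramGroup (F := F) Q 1) : Q.1 ((σ : K ≃ₐ[F] K) t / t) = 1 := by
  rw [map_div₀, val_map_eq_of_mem σ.2, ht]
  exact div_self exp_ne_zero

/-- `σ t / t` as an element of the valuation ring -/
def ratioO (Q : Place k K) {t : K} (ht : Q.1 t = exp (-1)) (σ : ramGroup (F := F) Q 1) : Q.O :=
  ⟨(σ : K ≃ₐ[F] K) t / t, (val_ratio_eq_one ht σ).le⟩

theorem residue_ratioO_ne_zero (Q : Place k K) {t : K} (ht : Q.1 t = exp (-1))
    (σ : ramGroup (F := F) Q 1) : IsLocalRing.residue Q.O (ratioO Q ht σ) ≠ 0 := by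
  rw [Ne, residue_eq_zero_iff]
  show ¬ Q.1 ((σ : K ≃ₐ[F] K) t / t) < 1
  rw [val_ratio_eq_one ht σ]
  exact lt_irrefl _

/-- the tame character `G_1 → F_Q^×`, `σ ↦ σ t / t` -/
noncomputable def inertiaHom (Q : Place k K) {t : K} (ht : Q.1 t = exp (-1)) :
    ramGroup (F := F) Q 1 →* (IsLocalRing.ResidueField Q.O)ˣ :=
  MonoidHom.mk' (fun σ => Units.mk0 (IsLocalRing.residue Q.O (ratioO Q ht σ))
    (residue_ratioO_ne_zero Q ht σ))
    (by
      intro σ τ
      apply Units.ext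
      show IsLocalRing.residue Q.O (ratioO Q ht (σ * τ)) =
        IsLocalRing.residue Q.O (ratioO Q ht σ) * IsLocalRing.residue Q.O (ratioO Q ht τ)
      rw [← map_mul, ← sub_eq_zero, ← map_sub, residue_eq_zero_iff]
      have ht0 : t ≠ 0 := by
        rintro rfl
        rw [map_zero] at ht
        exact exp_ne_zero ht.symm
      have e : ((ratioO Q ht (σ * τ) - ratioO Q ht σ * ratioO Q ht τ : Q.O) : K) =
          ((σ : K ≃ₐ[F] K) t / t) *
            ((σ : K ≃ₐ[F] K) ((τ : K ≃ₐ[F] K) t / t) - (τ : K ≃ₐ[F] K) t / t) := by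
        show (σ : K ≃ₐ[F] K) ((τ : K ≃ₐ[F] K) t) / t -
          (σ : K ≃ₐ[F] K) t / t * ((τ : K ≃ₐ[F] K) t / t) = _
        rw [map_div₀]
        have hσt0 : (σ : K ≃ₐ[F] K) t ≠ 0 := by
          intro h
          exact ht0 ((map_eq_zero _).mp h)
        field_simp
      rw [e, map_mul, val_ratio_eq_one ht σ, one_mul]
      exact lt_of_le_of_lt (σ.2 _ (val_ratio_eq_one ht τ).le) (by exact_mod_cast exp_neg_one_lt_one))

theorem inertiaHom_eq_one_iff (Q : Place k K) {t : K} (ht : Q.1 t = exp (-1))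
    (σ : ramGroup (F := F) Q 1) :
    inertiaHom Q ht σ = 1 ↔ Q.1 ((σ : K ≃ₐ[F] K) t - t) ≤ exp (-2) := by
  have ht0 : t ≠ 0 := by
    rintro rfl
    rw [map_zero] at ht
    exact exp_ne_zero ht.symm
  rw [Units.ext_iff]
  show IsLocalRing.residue Q.O (ratioO Q ht σ) = 1 ↔ _
  rw [← sub_eq_zero, ← map_one (IsLocalRing.residue Q.O), ← map_sub, residue_eq_zero_iff]
  have e : ((ratioO Q ht σ - 1 : Q.O) : K) = ((σ : K ≃ₐ[F] K) t - t) / t := by
    show (σ : K ≃ₐ[F] K) t / t - 1 = _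
    field_simp
  rw [e, map_div₀, ht, div_lt_one₀ exp_pos]
  by_cases h0 : (σ : K ≃ₐ[F] K) t - t = 0
  · rw [h0, map_zero]
    exact ⟨fun _ => zero_le, fun _ => exp_pos⟩
  · rw [val_lt_exp_iff Q h0, val_le_exp_iff Q h0]
    omega

/-- **`G_1/G_2` is cyclic** -/
theorem exists_generator_ramGroup_one (Q : Place k K)
    [Algebra.IsSeparable k (IsLocalRing.ResidueField Q.O)] [Finite (K ≃ₐ[F] K)] :
    ∃ σ₀ ∈ ramGroup (F := F) Q 1, ∀ σ ∈ ramGroup (F := F) Q 1,
      ∃ n : ℕ, (σ₀ ^ n)⁻¹ * σ ∈ ramGroup (F := F) Q 2 := by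
  classical
  obtain ⟨t, ht⟩ := exists_uniformizer Q
  set θ := inertiaHom (F := F) Q ht with hθ
  have hinj : Function.Injective
      ((Units.coeHom (IsLocalRing.ResidueField Q.O)).comp (QuotientGroup.kerLift θ)) :=
    Units.val_injective.comp (QuotientGroup.kerLift_injective θ)
  have hcyc : IsCyclic (ramGroup (F := F) Q 1 ⧸ θ.ker) := isCyclic_of_injective_ringHom _ hinj
  obtain ⟨g, hg⟩ := IsCyclic.exists_monoid_generator (α := ramGroup (F := F) Q 1 ⧸ θ.ker)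
  obtain ⟨σ₀, rfl⟩ := QuotientGroup.mk_surjective g
  refine ⟨σ₀, σ₀.2, ?_⟩
  intro σ hσ
  obtain ⟨n, hn⟩ := hg (QuotientGroup.mk ⟨σ, hσ⟩)
  refine ⟨n, ?_⟩
  have h1 : ((σ₀ ^ n)⁻¹ * ⟨σ, hσ⟩ : ramGroup (F := F) Q 1) ∈ θ.ker := by
    rw [← QuotientGroup.eq]
    exact hn
  rw [MonoidHom.mem_ker, inertiaHom_eq_one_iff] at h1
  have h2 : ((σ₀ ^ n)⁻¹ * ⟨σ, hσ⟩ : ramGroup (F := F) Q 1).1 ∈ ramGroup (F := F) Q 1 :=
    ((σ₀ ^ n)⁻¹ * ⟨σ, hσ⟩ : ramGroup (F := F) Q 1).2
  have h3 := (ram_iff Q (((((σ₀ ^ n)⁻¹ * ⟨σ, hσ⟩ : ramGroup (F := F) Q 1) : K ≃ₐ[F] K) :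
    K →ₐ[F] K).restrictScalars k) (fun x hx => by exact_mod_cast h2 x hx) ht 2 (by omega)).mpr
    (by exact_mod_cast h1)
  intro x hx
  exact h3 x hx

end Galois

end Groth.Agent.Lib.helper16.FF
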