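import Groth.Agent.Lib.helper16.FFIneq
import Mathlib.FieldTheory.FinTrdeg
import Mathlib.FieldTheory.IntermediateField.Adjoin.Algebra
import Mathlib.RingTheory.AlgebraicIndependent.TranscendenceBasis

/-! Helper library (helper16): transcendence facts in function fields. -/

set_option autoImplicit false

namespace Groth.Agent.Lib.helper16.FF

open FunFld WithZero Polynomial
open scoped IntermediateField IntermediateField.algebraAdjoinAdjoin

variable {k K : Type*} [Field k] [Field K] [Algebra k K]

theorem transcendental_of_not_mem_range (hK : IsFunctionField k K) {x : K}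
    (hx : x ∉ Set.range (algebraMap k K)) : Transcendental k x := fun h => hx (hK.2 x h)

theorem not_mem_range_of_val_lt_one (P : Place k K) {x : K} (hx0 : x ≠ 0) (hx : P.1 x < 1) :
    x ∉ Set.range (algebraMap k K) := by
  rintro ⟨c, rfl⟩
  have hc : c ≠ 0 := by
    rintro rfl
    exact hx0 (map_zero _)
  rw [val_algebraMap P hc] at hx
  exact lt_irrefl _ hx

theorem not_mem_range_of_val_ne_one (P : Place k K) {x : K} (hx0 : x ≠ 0) (hx : P.1 x ≠ 1) :
    x ∉ Set.range (algebraMap k K) := by
  rintro ⟨c, rfl⟩
  have hc : c ≠ 0 := by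
    rintro rfl
    exact hx0 (map_zero _)
  exact hx (val_algebraMap P hc)

/-- In a function field, `K` is finite over `k(x)` for every transcendental `x`. -/
theorem finiteDimensional_of_transcendental (hK : IsFunctionField k K) {x : K}
    (hx : Transcendental k x) : FiniteDimensional k⟮x⟯ K := by
  obtain ⟨⟨x₀, hx₀, hfin⟩, -⟩ := hK
  have halg0 : Algebra.IsAlgebraic k⟮x₀⟯ K := inferInstance
  have halg1 : Algebra.IsAlgebraic (Algebra.adjoin k {x₀}) k⟮x₀⟯ :=
    IsLocalization.isAlgebraic _ (nonZeroDivisors (Algebra.adjoin k {x₀}))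
  have halg2 : Algebra.IsAlgebraic (Algebra.adjoin k {x₀}) K :=
    Algebra.IsAlgebraic.trans (Algebra.adjoin k {x₀}) k⟮x₀⟯ K
  have htr : Algebra.trdeg k K ≤ 1 := by
    have := Algebra.IsAlgebraic.trdeg_le_cardinalMk k ({x₀} : Set K)
    simpa using this
  have hind : AlgebraicIndependent k (fun _ : Unit => x) :=
    algebraicIndependent_unique_type_iff.mpr hx
  have hbasis : IsTranscendenceBasis k (fun _ : Unit => x) :=
    hind.isTranscendenceBasis_of_lift_trdeg_le_of_finite (by simpa using htr)
  have halg : Algebra.IsAlgebraic k⟮x⟯ K := by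
    have := hbasis.isAlgebraic_field
    rwa [Set.range_const] at this
  have h1 : Algebra.EssFiniteType k k⟮x₀⟯ :=
    IntermediateField.essFiniteType_iff.mpr ⟨{x₀}, by simp⟩
  have h2 : Algebra.EssFiniteType k⟮x₀⟯ K := inferInstance
  have h3 : Algebra.EssFiniteType k K := Algebra.EssFiniteType.comp k k⟮x₀⟯ K
  have h4 : Algebra.EssFiniteType k⟮x⟯ K := Algebra.EssFiniteType.of_comp k k⟮x⟯ K
  exact Algebra.finite_of_essFiniteType_of_isAlgebraic

end Groth.Agent.Lib.helper16.FF
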