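import Groth.Agent.Lib.helper16.FFAdele
import Groth.Agent.S10986
import Groth.Agent.S10975

/-! Helper library (helper16): Weil differentials. -/

set_option autoImplicit false

namespace Groth.Agent.Lib.helper16.FF

open FunFld WithZero Polynomial Module
open Groth.Agent.Lib.helper16.RelDim

variable {k K : Type*} [Field k] [Field K] [Algebra k K]

theorem deg_place_pos (hK : IsFunctionField k K) (P : Place k K) : 1 ≤ P.deg := by
  have := finiteDimensional_residueField hK P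
  exact Module.finrank_pos

theorem eq_of_le_of_deg_eq (hK : IsFunctionField k K) {D₁ D₂ : Divisor k K} (h : D₁ ≤ D₂)
    (hdeg : D₁.deg = D₂.deg) : D₁ = D₂ := by
  have h1 : 0 ≤ D₂ - D₁ := sub_nonneg.mpr h
  have h2 : (D₂ - D₁).deg = 0 := by rw [deg_sub]; omega
  have h3 : D₂ - D₁ = 0 := by
    ext P
    by_contra hP
    have hpos : 0 < (D₂ - D₁) P := lt_of_le_of_ne (h1 P) (Ne.symm hP)
    have : 0 < (D₂ - D₁).deg := by
      unfold Divisor.deg Finsupp.sum
      apply Finset.sum_pos'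
      · intro Q _
        have : 0 ≤ (D₂ - D₁) Q := h1 Q
        positivity
      · refine ⟨P, Finsupp.mem_support_iff.mpr hP, ?_⟩
        have := deg_place_pos hK P
        positivity
    omega
  exact (sub_eq_zero.mp h3).symm

theorem smul_mem_adele (hK : IsFunctionField k K) (x : K) :
    ∀ a ∈ adele k K, x • a ∈ adele k K := by
  intro a ha
  rw [mem_adele_iff] at ha ⊢
  have hx : {P : Place k K | ¬ P.1 x ≤ 1}.Finite := by
    have := diag_le_adele hK ⟨x, rfl⟩
    rwa [mem_adele_iff] at this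
  refine (ha.union hx).subset ?_
  intro P hP
  by_contra hcon
  rw [Set.mem_union, not_or] at hcon
  apply hP
  have h1 : P.1 (a P) ≤ 1 := not_not.mp hcon.1
  have h2 : P.1 x ≤ 1 := not_not.mp hcon.2
  change P.1 (x • a P) ≤ 1
  rw [smul_eq_mul, map_mul]
  exact mul_le_one' h2 h1

theorem mem_WD_iff {ω : Module.Dual k (adele k K)} {D : Divisor k K} :
    ω ∈ WD D ↔ ∀ a : adele k K,
      (a : Place k K → K) ∈ AD D ⊔ LinearMap.range (diag k K) → ω a = 0 := by
  unfold WD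
  rw [Submodule.mem_dualAnnihilator]
  rfl

theorem WD_antitone {D₁ D₂ : Divisor k K} (h : D₁ ≤ D₂) : WD D₂ ≤ WD D₁ := by
  intro ω hω
  rw [mem_WD_iff] at hω ⊢
  intro a ha
  exact hω a (sup_le_sup_right (AD_mono h) _ ha)

theorem mulW_apply (x : K) (hx : ∀ a ∈ adele k K, x • a ∈ adele k K)
    (ω : Module.Dual k (adele k K)) (a : adele k K) :
    mulW x hx ω a = ω ⟨x • (a : Place k K → K), hx a.1 a.2⟩ := rfl

theorem mulW_mulW (x y : K) (hx : ∀ a ∈ adele k K, x • a ∈ adele k K)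
    (hy : ∀ a ∈ adele k K, y • a ∈ adele k K) (hxy : ∀ a ∈ adele k K, (x * y) • a ∈ adele k K)
    (ω : Module.Dual k (adele k K)) :
    mulW y hy (mulW x hx ω) = mulW (x * y) hxy ω := by
  ext a
  rw [mulW_apply, mulW_apply, mulW_apply]
  congr 1
  apply Subtype.ext
  change x • y • (a : Place k K → K) = (x * y) • (a : Place k K → K)
  rw [smul_smul]

theorem mulW_one (h1 : ∀ a ∈ adele k K, (1 : K) • a ∈ adele k K)
    (ω : Module.Dual k (adele k K)) : mulW 1 h1 ω = ω := by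
  ext a
  rw [mulW_apply]
  congr 1
  apply Subtype.ext
  change (1 : K) • (a : Place k K → K) = a
  rw [one_smul]

theorem mulW_zero (h0 : ∀ a ∈ adele k K, (0 : K) • a ∈ adele k K)
    (ω : Module.Dual k (adele k K)) : mulW 0 h0 ω = 0 := by
  ext a
  rw [mulW_apply]
  have : (⟨(0 : K) • (a : Place k K → K), h0 a.1 a.2⟩ : adele k K) = 0 := by
    apply Subtype.ext
    change (0 : K) • (a : Place k K → K) = 0
    rw [zero_smul]
  rw [this, map_zero]
  rfl

theorem mulW_add_left (x y : K) (hx : ∀ a ∈ adele k K, x • a ∈ adele k K)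
    (hy : ∀ a ∈ adele k K, y • a ∈ adele k K) (hxy : ∀ a ∈ adele k K, (x + y) • a ∈ adele k K)
    (ω : Module.Dual k (adele k K)) :
    mulW (x + y) hxy ω = mulW x hx ω + mulW y hy ω := by
  ext a
  rw [LinearMap.add_apply, mulW_apply, mulW_apply, mulW_apply, ← map_add]
  congr 1
  apply Subtype.ext
  change (x + y) • (a : Place k K → K) = x • (a : Place k K → K) + y • (a : Place k K → K)
  rw [add_smul]

theorem mulW_smul_left (c : k) (x : K) (hx : ∀ a ∈ adele k K, x • a ∈ adele k K)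
    (hcx : ∀ a ∈ adele k K, (c • x) • a ∈ adele k K)
    (ω : Module.Dual k (adele k K)) :
    mulW (c • x) hcx ω = c • mulW x hx ω := by
  ext a
  rw [LinearMap.smul_apply, mulW_apply, mulW_apply, ← map_smul]
  congr 1
  apply Subtype.ext
  change (c • x) • (a : Place k K → K) = c • (x • (a : Place k K → K))
  rw [smul_assoc]

theorem mulW_add_right (x : K) (hx : ∀ a ∈ adele k K, x • a ∈ adele k K)
    (ω₁ ω₂ : Module.Dual k (adele k K)) :
    mulW x hx (ω₁ + ω₂) = mulW x hx ω₁ + mulW x hx ω₂ := by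
  ext a
  rw [LinearMap.add_apply, mulW_apply, mulW_apply, mulW_apply, LinearMap.add_apply]

theorem mulW_sub_right (x : K) (hx : ∀ a ∈ adele k K, x • a ∈ adele k K)
    (ω₁ ω₂ : Module.Dual k (adele k K)) :
    mulW x hx (ω₁ - ω₂) = mulW x hx ω₁ - mulW x hx ω₂ := by
  ext a
  rw [LinearMap.sub_apply, mulW_apply, mulW_apply, mulW_apply, LinearMap.sub_apply]

theorem mem_L_neg_div (hK : IsFunctionField k K) (x : K) : x ∈ L (-FunFld.div k x) := by
  intro P
  by_cases hx : x = 0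
  · rw [hx, map_zero]; exact zero_le
  · rw [val_eq_exp_neg_ord P hx, Finsupp.neg_apply, div_apply hK]

theorem mulW_mem_WD_iff (hK : IsFunctionField k K) {x : K} (hx0 : x ≠ 0)
    (hx : ∀ a ∈ adele k K, x • a ∈ adele k K) (ω : Module.Dual k (adele k K))
    (E : Divisor k K) :
    mulW x hx ω ∈ WD E ↔ ω ∈ WD (E - FunFld.div k x) := by
  constructor
  · intro h
    have h1 := Groth.Agent.S10986.result k K E (-FunFld.div k x⁻¹) x⁻¹ (mem_L_neg_div hK x⁻¹)
      (smul_mem_adele hK x⁻¹) _ h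
    rw [mulW_mulW x x⁻¹ hx (smul_mem_adele hK x⁻¹) (smul_mem_adele hK _)] at h1
    have h2 : mulW (x * x⁻¹) (smul_mem_adele hK _) ω = ω := by
      have : x * x⁻¹ = 1 := mul_inv_cancel₀ hx0
      simp only [this]
      exact mulW_one _ ω
    rw [h2, div_inv hK, neg_neg] at h1
    exact h1
  · intro h
    have h1 := Groth.Agent.S10986.result k K (E - FunFld.div k x) (-FunFld.div k x) x
      (mem_L_neg_div hK x) hx ω h
    have : E - FunFld.div k x - -FunFld.div k x = E := by abel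
    rwa [this] at h1

theorem WD_sup (hK : IsFunctionField k K) {ω : Module.Dual k (adele k K)} {D₁ D₂ : Divisor k K}
    (h₁ : ω ∈ WD D₁) (h₂ : ω ∈ WD D₂) : ω ∈ WD (D₁ ⊔ D₂) := by
  rw [mem_WD_iff] at h₁ h₂ ⊢
  intro a ha
  obtain ⟨b, hb, w, hw, hsum⟩ := Submodule.mem_sup.mp ha
  rw [Groth.Agent.S10975.result] at hb
  obtain ⟨b₁, hb₁, b₂, hb₂, hb12⟩ := Submodule.mem_sup.mp hb
  have e1 : a = (⟨b₁, AD_le_adele D₁ hb₁⟩ : adele k K) + ⟨b₂, AD_le_adele D₂ hb₂⟩ +
      ⟨w, diag_le_adele hK hw⟩ := by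
    apply Subtype.ext
    change (a : Place k K → K) = b₁ + b₂ + w
    rw [hb12, hsum]
  rw [e1, map_add, map_add, h₁ ⟨b₁, _⟩ (Submodule.mem_sup_left hb₁),
    h₂ ⟨b₂, _⟩ (Submodule.mem_sup_left hb₂), h₁ ⟨w, _⟩ (Submodule.mem_sup_right hw)]
  simp

theorem WD_finrank_pos (hK : IsFunctionField k K) {ω : Module.Dual k (adele k K)}
    {D : Divisor k K} (h : ω ∈ WD D) (h0 : ω ≠ 0) : 0 < finrank k (WD D) := by
  have := (finrank_WD hK D).1
  by_contra hcon
  have h1 : finrank k (WD D) = 0 := by omega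
  have h2 : WD D = ⊥ := (Submodule.finrank_eq_zero (R := k) (S := WD D)).mp h1
  rw [h2, Submodule.mem_bot] at h
  exact h0 h

theorem deg_lt_of_mem_WD (hK : IsFunctionField k K) {N : ℤ}
    (hN : ∀ D : Divisor k K, N ≤ D.deg → delta D = genus k K)
    {ω : Module.Dual k (adele k K)} {D : Divisor k K} (h : ω ∈ WD D) (h0 : ω ≠ 0) :
    D.deg < N := by
  by_contra hcon
  push Not at hcon
  have h1 := WD_finrank_pos hK h h0
  have h2 := (finrank_WD hK D).2
  rw [hN D hcon, sub_self] at h2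
  omega

theorem exists_isDivOf (hK : IsFunctionField k K) (ω : Module.Dual k (adele k K))
    (hω : IsWeil ω) (h0 : ω ≠ 0) : ∃ C : Divisor k K, IsDivOf ω C := by
  obtain ⟨N, hN⟩ := riemann hK
  obtain ⟨D₀, hD₀⟩ := hω
  have hex : ∃ d : ℤ, (∃ D : Divisor k K, ω ∈ WD D ∧ D.deg = d) ∧
      ∀ z : ℤ, (∃ D : Divisor k K, ω ∈ WD D ∧ D.deg = z) → z ≤ d := by
    apply Int.exists_greatest_of_bdd
    · refine ⟨N, ?_⟩
      rintro z ⟨D, hD, rfl⟩
      exact (deg_lt_of_mem_WD hK hN hD h0).le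
    · exact ⟨D₀.deg, D₀, hD₀, rfl⟩
  obtain ⟨d, ⟨C, hC, rfl⟩, hmax⟩ := hex
  refine ⟨C, fun E => ⟨fun hE => ?_, fun hE => WD_antitone hE hC⟩⟩
  have h1 := WD_sup hK hE hC
  have h2 := hmax _ ⟨E ⊔ C, h1, rfl⟩
  have h3 : C.deg ≤ (E ⊔ C).deg := deg_mono le_sup_right
  have h4 : C = E ⊔ C := eq_of_le_of_deg_eq hK le_sup_right (le_antisymm h3 h2)
  rw [h4]
  exact le_sup_left

theorem isDivOf_ne_zero' {ω : Module.Dual k (adele k K)} {C : Divisor k K}
    (h : IsDivOf ω C) (P : Place k K) : ω ≠ 0 := by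
  rintro rfl
  have h1 : (0 : Module.Dual k (adele k K)) ∈ WD (C + Finsupp.single P 1) := Submodule.zero_mem _
  have h2 := (h _).mp h1 P
  simp at h2

theorem isDivOf_unique {ω : Module.Dual k (adele k K)} {C₁ C₂ : Divisor k K}
    (h₁ : IsDivOf ω C₁) (h₂ : IsDivOf ω C₂) : C₁ = C₂ :=
  le_antisymm ((h₂ _).mp ((h₁ _).mpr le_rfl)) ((h₁ _).mp ((h₂ _).mpr le_rfl))

theorem isDivOf_mulW (hK : IsFunctionField k K) {x : K} (hx0 : x ≠ 0)
    (hx : ∀ a ∈ adele k K, x • a ∈ adele k K) {ω : Module.Dual k (adele k K)}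
    {C : Divisor k K} (hω : IsDivOf ω C) : IsDivOf (mulW x hx ω) (C + FunFld.div k x) := by
  intro E
  rw [mulW_mem_WD_iff hK hx0, hω]
  exact sub_le_iff_le_add

theorem mulW_inv_mulW (hK : IsFunctionField k K) {x : K} (hx0 : x ≠ 0)
    (ω : Module.Dual k (adele k K)) :
    mulW x⁻¹ (smul_mem_adele hK x⁻¹) (mulW x (smul_mem_adele hK x) ω) = ω := by
  rw [mulW_mulW x x⁻¹ _ _ (smul_mem_adele hK _)]
  have : x * x⁻¹ = 1 := mul_inv_cancel₀ hx0
  simp only [this]
  exact mulW_one _ ω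

theorem mulW_eq_zero (hK : IsFunctionField k K) {x : K} {ω : Module.Dual k (adele k K)}
    (h0 : ω ≠ 0) (h : mulW x (smul_mem_adele hK x) ω = 0) : x = 0 := by
  by_contra hx0
  apply h0
  rw [← mulW_inv_mulW hK hx0 ω, h]
  ext a
  rw [mulW_apply]
  rfl

/-- multiplication by `ω ∈ W(W)` as a linear map `L(E) → W(W - E)` -/
noncomputable def mulWL (hK : IsFunctionField k K) {ω : Module.Dual k (adele k K)}
    {W E D : Divisor k K} (hω : ω ∈ WD W) (hE : W - E = D) : L E →ₗ[k] WD D where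
  toFun x := ⟨mulW x.1 (smul_mem_adele hK x.1) ω, by
    have := Groth.Agent.S10986.result k K W E x.1 x.2 (smul_mem_adele hK _) ω hω
    rwa [hE] at this⟩
  map_add' x y := Subtype.ext (mulW_add_left x.1 y.1 (smul_mem_adele hK _) (smul_mem_adele hK _)
    (smul_mem_adele hK _) ω)
  map_smul' c x := Subtype.ext (mulW_smul_left c x.1 (smul_mem_adele hK _)
    (smul_mem_adele hK _) ω)

theorem mulWL_apply (hK : IsFunctionField k K) {ω : Module.Dual k (adele k K)}
    {W E D : Divisor k K} (hω : ω ∈ WD W) (hE : W - E = D) (x : L E) :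
    ((mulWL hK hω hE x : WD D) : Module.Dual k (adele k K)) =
      mulW x.1 (smul_mem_adele hK x.1) ω := rfl

theorem mulWL_injective (hK : IsFunctionField k K) {ω : Module.Dual k (adele k K)}
    {W E D : Divisor k K} (hω : ω ∈ WD W) (h0 : ω ≠ 0) (hE : W - E = D) :
    Function.Injective (mulWL hK hω hE) := by
  refine (injective_iff_map_eq_zero (mulWL hK hω hE)).mpr ?_
  intro x hx
  have h1 : mulW x.1 (smul_mem_adele hK x.1) ω = 0 := congrArg Subtype.val hx
  exact Subtype.ext (mulW_eq_zero hK h0 h1)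

/-- `dim_K W_K = 1` -/
theorem exists_mulW_eq (hK : IsFunctionField k K) {ω₁ ω₂ : Module.Dual k (adele k K)}
    (h₁ : IsWeil ω₁) (h0 : ω₁ ≠ 0) (h₂ : IsWeil ω₂) :
    ∃ x : K, mulW x (smul_mem_adele hK x) ω₁ = ω₂ := by
  by_cases h20 : ω₂ = 0
  · exact ⟨0, by rw [h20]; exact mulW_zero _ ω₁⟩
  obtain ⟨W₁, hW₁⟩ := h₁
  obtain ⟨W₂, hW₂⟩ := h₂
  obtain ⟨P₀⟩ := nonempty_place hK
  set g : ℤ := ((genus k K : ℕ) : ℤ) with hg
  -- choose `n` large
  let n : ℕ := (3 * g - 3 - W₁.deg - W₂.deg).toNat + 1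
  let B : Divisor k K := Finsupp.single P₀ (n : ℤ)
  have hBdeg : B.deg = n * P₀.deg := deg_single P₀ n
  have hP₀ := deg_place_pos hK P₀
  have hBn : (n : ℤ) ≤ B.deg := by
    rw [hBdeg]
    have : (1 : ℤ) ≤ P₀.deg := by exact_mod_cast hP₀
    nlinarith
  have hn : 3 * g - 3 - W₁.deg - W₂.deg < n := by
    have := Int.self_le_toNat (3 * g - 3 - W₁.deg - W₂.deg)
    push_cast
    omega
  have hBpos : 0 < B.deg := by
    have : (1 : ℤ) ≤ n := by push_cast; omega
    omega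
  have hℓ : ell (-B) = 0 := by
    unfold ell
    rw [L_eq_bot_of_deg_neg hK (-B) (by rw [deg_neg]; omega)]
    exact finrank_bot k K
  have hWD := finrank_WD hK (-B)
  have hfd := hWD.1
  have hWDdim : (finrank k (WD (-B)) : ℤ) = g + B.deg - 1 := by
    rw [hWD.2]
    unfold delta
    rw [hℓ, deg_neg]
    push_cast
    ring
  have hE₁ : W₁ - (W₁ + B) = -B := by abel
  have hE₂ : W₂ - (W₂ + B) = -B := by abel
  let φ₁ := mulWL hK hW₁ hE₁
  let φ₂ := mulWL hK hW₂ hE₂
  have hφ₁ := mulWL_injective hK hW₁ h0 hE₁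
  have hφ₂ := mulWL_injective hK hW₂ h20 hE₂
  have hr₁ : finrank k (LinearMap.range φ₁) = ell (W₁ + B) :=
    LinearMap.finrank_range_of_inj hφ₁
  have hr₂ : finrank k (LinearMap.range φ₂) = ell (W₂ + B) :=
    LinearMap.finrank_range_of_inj hφ₂
  have hd₁ := delta_le_genus hK (W₁ + B)
  have hd₂ := delta_le_genus hK (W₂ + B)
  unfold delta at hd₁ hd₂
  rw [deg_add] at hd₁ hd₂
  have hnd : ¬ Disjoint (LinearMap.range φ₁) (LinearMap.range φ₂) := by
    intro hdis
    have := Submodule.finrank_add_finrank_le_of_disjoint (K := k) (V := WD (-B)) hdis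
    rw [hr₁, hr₂] at this
    have h' : ((ell (W₁ + B) + ell (W₂ + B) : ℕ) : ℤ) ≤ (finrank k (WD (-B)) : ℤ) :=
      Int.ofNat_le.mpr this
    push_cast at h'
    omega
  rw [Submodule.disjoint_def] at hnd
  push Not at hnd
  obtain ⟨η, ⟨x₁, hx₁⟩, ⟨x₂, hx₂⟩, hη⟩ := hnd
  have e1 : mulW x₁.1 (smul_mem_adele hK x₁.1) ω₁ = (η : Module.Dual k (adele k K)) := by
    rw [← hx₁]; rfl
  have e2 : mulW x₂.1 (smul_mem_adele hK x₂.1) ω₂ = (η : Module.Dual k (adele k K)) := by
    rw [← hx₂]; rfl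
  have hx₂0 : x₂.1 ≠ 0 := by
    intro h
    apply hη
    apply Subtype.ext
    rw [← e2]
    simp only [h]
    exact mulW_zero _ ω₂
  refine ⟨x₁.1 * x₂.1⁻¹, ?_⟩
  rw [← mulW_mulW x₁.1 x₂.1⁻¹ (smul_mem_adele hK _) (smul_mem_adele hK _), e1, ← e2]
  exact mulW_inv_mulW hK hx₂0 ω₂

theorem isDivOf_mem_WD {ω : Module.Dual k (adele k K)} {C : Divisor k K} (h : IsDivOf ω C) :
    ω ∈ WD C := (h C).mpr le_rfl

theorem isDivOf_ne_zero (hK : IsFunctionField k K) {ω : Module.Dual k (adele k K)}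
    {C : Divisor k K} (h : IsDivOf ω C) : ω ≠ 0 := by
  obtain ⟨P⟩ := nonempty_place hK
  exact isDivOf_ne_zero' h P

/-- canonical divisors are linearly equivalent -/
theorem isCanonical_equiv (hK : IsFunctionField k K) {C₁ C₂ : Divisor k K}
    (h₁ : IsCanonical k K C₁) (h₂ : IsCanonical k K C₂) :
    ∃ x : K, x ≠ 0 ∧ C₂ = C₁ + FunFld.div k x := by
  obtain ⟨ω₁, h10, hd₁⟩ := h₁
  obtain ⟨ω₂, h20, hd₂⟩ := h₂
  obtain ⟨x, hx⟩ := exists_mulW_eq hK ⟨C₁, isDivOf_mem_WD hd₁⟩ h10 ⟨C₂, isDivOf_mem_WD hd₂⟩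
  have hx0 : x ≠ 0 := by
    rintro rfl
    apply h20
    rw [← hx]
    exact mulW_zero (smul_mem_adele hK 0) ω₁
  refine ⟨x, hx0, ?_⟩
  have := isDivOf_mulW hK hx0 (smul_mem_adele hK x) hd₁
  rw [hx] at this
  exact isDivOf_unique hd₂ this

theorem exists_mem_L_mulW_eq (hK : IsFunctionField k K) {ω : Module.Dual k (adele k K)}
    {C : Divisor k K} (hω : IsDivOf ω C) {D : Divisor k K} {ω' : Module.Dual k (adele k K)}
    (hω' : ω' ∈ WD D) : ∃ x : K, x ∈ L (C - D) ∧ mulW x (smul_mem_adele hK x) ω = ω' := by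
  obtain ⟨x, hx⟩ := exists_mulW_eq hK ⟨C, isDivOf_mem_WD hω⟩ (isDivOf_ne_zero hK hω) ⟨D, hω'⟩
  refine ⟨x, ?_, hx⟩
  by_cases hx0 : x = 0
  · rw [hx0]; exact Submodule.zero_mem _
  · have h1 := isDivOf_mulW hK hx0 (smul_mem_adele hK x) hω
    rw [hx] at h1
    have h2 : D ≤ C + FunFld.div k x := (h1 D).mp hω'
    rw [nonneg_add_div_iff hK _ hx0]
    have : C - D + FunFld.div k x = C + FunFld.div k x - D := by abel
    rw [this]
    exact sub_nonneg.mpr h2

theorem mulW_left_injective (hK : IsFunctionField k K) {ω : Module.Dual k (adele k K)}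
    (h0 : ω ≠ 0) {x y : K}
    (h : mulW x (smul_mem_adele hK x) ω = mulW y (smul_mem_adele hK y) ω) : x = y := by
  have h1 := mulW_add_left (x - y) y (smul_mem_adele hK _) (smul_mem_adele hK _)
    (smul_mem_adele hK _) ω
  have h2 : mulW (x - y + y) (smul_mem_adele hK _) ω = mulW x (smul_mem_adele hK x) ω := by
    have : x - y + y = x := by ring
    simp only [this]
  rw [h2, h, right_eq_add] at h1
  have := mulW_eq_zero hK h0 h1
  exact sub_eq_zero.mp this

/-- `L(C - D) ≃ W(D)` -/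
theorem finrank_WD_eq_ell (hK : IsFunctionField k K) {ω : Module.Dual k (adele k K)}
    {C : Divisor k K} (hω : IsDivOf ω C) (D : Divisor k K) :
    finrank k (WD D) = ell (C - D) := by
  have hE : C - (C - D) = D := by abel
  let φ := mulWL hK (isDivOf_mem_WD hω) hE
  have hinj := mulWL_injective hK (isDivOf_mem_WD hω) (isDivOf_ne_zero hK hω) hE
  have hsurj : Function.Surjective φ := by
    intro η
    obtain ⟨x, hx, hxη⟩ := exists_mem_L_mulW_eq hK hω η.2
    exact ⟨⟨x, hx⟩, Subtype.ext hxη⟩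
  exact (LinearEquiv.ofBijective φ ⟨hinj, hsurj⟩).finrank_eq.symm

/-- **Riemann–Roch** -/
theorem riemann_roch (hK : IsFunctionField k K) {C : Divisor k K} (hC : IsCanonical k K C)
    (D : Divisor k K) :
    (ell D : ℤ) = D.deg + 1 - genus k K + ell (C - D) := by
  obtain ⟨ω, -, hω⟩ := hC
  have h1 := (finrank_WD hK D).2
  rw [finrank_WD_eq_ell hK hω D] at h1
  unfold delta at h1
  omega

theorem ell_eq_zero_of_deg_neg (hK : IsFunctionField k K) {D : Divisor k K} (h : D.deg < 0) :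
    ell D = 0 := by
  unfold ell
  rw [L_eq_bot_of_deg_neg hK D h]
  exact finrank_bot k K

theorem exists_isCanonical (hK : IsFunctionField k K) : ∃ C : Divisor k K, IsCanonical k K C := by
  obtain ⟨P₀⟩ := nonempty_place hK
  let D : Divisor k K := Finsupp.single P₀ (-2)
  have hP₀ := deg_place_pos hK P₀
  have hdeg : D.deg = -2 * P₀.deg := deg_single P₀ (-2)
  have hneg : D.deg < 0 := by
    have : (1 : ℤ) ≤ P₀.deg := by exact_mod_cast hP₀
    omega
  have h1 := (finrank_WD hK D).2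
  have hfd := (finrank_WD hK D).1
  unfold delta at h1
  rw [ell_eq_zero_of_deg_neg hK hneg] at h1
  have h2 : 0 < finrank k (WD D) := by
    have : (1 : ℤ) ≤ P₀.deg := by exact_mod_cast hP₀
    have : (0 : ℤ) ≤ genus k K := by positivity
    push_cast at h1
    omega
  have h3 : WD D ≠ ⊥ := by
    intro h
    rw [h, finrank_bot] at h2
    exact lt_irrefl _ h2
  obtain ⟨ω, hω, hω0⟩ := (Submodule.ne_bot_iff _).mp h3
  obtain ⟨C, hC⟩ := exists_isDivOf hK ω ⟨D, hω⟩ hω0
  exact ⟨C, ω, hω0, hC⟩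

theorem isCanonical_ell_deg (hK : IsFunctionField k K) {C : Divisor k K}
    (hC : IsCanonical k K C) :
    ell C = genus k K ∧ C.deg = 2 * (genus k K : ℤ) - 2 := by
  have h1 := riemann_roch hK hC 0
  rw [ell_zero hK, deg_zero, sub_zero] at h1
  have h2 := riemann_roch hK hC C
  rw [sub_self, ell_zero hK] at h2
  push_cast at h1 h2
  constructor
  · omega
  · omega

theorem isCanonical_iff (hK : IsFunctionField k K) (C : Divisor k K) :
    IsCanonical k K C ↔ (ell C = genus k K ∧ C.deg = 2 * (genus k K : ℤ) - 2) := by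
  constructor
  · exact isCanonical_ell_deg hK
  · rintro ⟨h1, h2⟩
    obtain ⟨C₀, hC₀⟩ := exists_isCanonical hK
    obtain ⟨h3, h4⟩ := isCanonical_ell_deg hK hC₀
    have h5 := riemann_roch hK hC₀ C
    have h6 : 0 < ell (C₀ - C) := by
      have : (0 : ℤ) < ell (C₀ - C) := by
        rw [h1, h2] at h5
        omega
      exact_mod_cast this
    obtain ⟨z, hz0, hz⟩ := exists_ne_zero_mem_L hK h6
    have h7 := (nonneg_add_div_iff hK _ hz0).mp hz
    have h8 : (C₀ - C + FunFld.div k z).deg = 0 := by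
      rw [deg_add, deg_sub, deg_div_eq_zero hK, h2, h4]
      ring
    have h9 : (0 : Divisor k K) = C₀ - C + FunFld.div k z :=
      eq_of_le_of_deg_eq hK h7 (by rw [deg_zero, h8])
    have h10 : C = C₀ + FunFld.div k z := by
      have : C = C + (C₀ - C + FunFld.div k z) := by rw [← h9, add_zero]
      rw [this]
      abel
    obtain ⟨ω₀, hω₀, hd⟩ := hC₀
    refine ⟨mulW z (smul_mem_adele hK z) ω₀, ?_, ?_⟩
    · intro h
      exact hz0 (mulW_eq_zero hK hω₀ h)
    · rw [h10]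
      exact isDivOf_mulW hK hz0 _ hd

theorem ell_eq_of_deg_ge (hK : IsFunctionField k K) {D : Divisor k K}
    (h : 2 * (genus k K : ℤ) - 1 ≤ D.deg) :
    (ell D : ℤ) = D.deg + 1 - genus k K := by
  obtain ⟨C, hC⟩ := exists_isCanonical hK
  have h1 := riemann_roch hK hC D
  obtain ⟨-, h2⟩ := isCanonical_ell_deg hK hC
  have h3 : (C - D).deg < 0 := by
    rw [deg_sub]
    omega
  rw [ell_eq_zero_of_deg_neg hK h3] at h1
  push_cast at h1
  omega

end Groth.Agent.Lib.helper16.FF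




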