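import Groth.Agent.Lib.helper16.FSepPlaces
import Groth.Agent.Lib.helper16.FXExt
import Mathlib.FieldTheory.Finite.Basic
import Mathlib.LinearAlgebra.TensorProduct.Basis
import Mathlib.RingTheory.TensorProduct.Maps

/-! Helper library (helper16): places of the constant extension to an algebraic closure fixed by
the Frobenius map (S11068). -/

set_option autoImplicit false

namespace Groth.Agent.Lib.helper16.FFr

open FunFld WithZero Polynomial TensorProduct
open Groth.Agent.Lib.helper16 Groth.Agent.Lib.helper16.FF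

section finite

variable {k kb : Type*} [Field k] [Finite k] [Field kb] [Algebra k kb]

/-- the elements of an extension of a finite field fixed by the `q`-th power are the elements of
the finite field -/
theorem exists_of_pow_card_eq {α : kb} (h : α ^ Nat.card k = α) :
    ∃ c : k, algebraMap k kb c = α := by
  classical
  haveI := Fintype.ofFinite k
  obtain ⟨q, hqdef⟩ : ∃ q : ℕ, q = Nat.card k := ⟨_, rfl⟩
  rw [← hqdef] at h
  have hq : q = Fintype.card k := by rw [hqdef]; exact Nat.card_eq_fintype_card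
  have hq2 : 1 < q := by rw [hq]; exact Fintype.one_lt_card
  obtain ⟨p, hpdef⟩ : ∃ p : kb[X], p = X ^ q - X := ⟨_, rfl⟩
  have hp0 : p ≠ 0 := by rw [hpdef]; exact FiniteField.X_pow_card_sub_X_ne_zero kb hq2
  have hdeg : p.natDegree = q := by
    rw [hpdef]; exact FiniteField.X_pow_card_sub_X_natDegree_eq kb hq2
  have himg : Finset.univ.image (algebraMap k kb) ⊆ p.roots.toFinset := by
    intro β hβ
    obtain ⟨c, -, rfl⟩ := Finset.mem_image.mp hβ
    rw [Multiset.mem_toFinset, mem_roots hp0, IsRoot, hpdef, eval_sub, eval_pow, eval_X,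
      ← map_pow, hq, FiniteField.pow_card, sub_self]
  have hcard : p.roots.toFinset.card ≤ (Finset.univ.image (algebraMap k kb)).card := by
    rw [Finset.card_image_of_injective _ (algebraMap k kb).injective, Finset.card_univ, ← hq,
      ← hdeg]
    exact le_trans (Multiset.toFinset_card_le _) (card_roots' p)
  have heq := Finset.eq_of_subset_of_card_le himg hcard
  have hα : α ∈ p.roots.toFinset := by
    rw [Multiset.mem_toFinset, mem_roots hp0, IsRoot, hpdef, eval_sub, eval_pow, eval_X, h,
      sub_self]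
  rw [← heq] at hα
  obtain ⟨c, -, hc⟩ := Finset.mem_image.mp hα
  exact ⟨c, hc⟩

end finite

section repr

universe u1 u2 u3 u4

variable {k : Type u1} {K : Type u2} {kb : Type u3} {Kb : Type u4} [Field k] [Field K] [Algebra k K] [Field kb] [Algebra k kb]
  [Field Kb] [Algebra K Kb] [Algebra kb Kb] [Algebra k Kb] [IsScalarTower k K Kb]
  [IsScalarTower k kb Kb]

/-- every element of `K̄ = K[k̄]` is a combination of `k`-linearly independent constants with
coefficients in `K` -/
theorem exists_repr (hgen : Algebra.adjoin K (Set.range (algebraMap kb Kb)) = ⊤) (z : Kb) :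
    ∃ (ι : Type u3) (s : Finset ι) (b : ι → kb) (x : ι → K), LinearIndependent k b ∧
      z = ∑ i ∈ s, algebraMap kb Kb (b i) * algebraMap K Kb (x i) := by
  classical
  let f : kb →ₐ[k] Kb := IsScalarTower.toAlgHom k kb Kb
  let g : K →ₐ[k] Kb := IsScalarTower.toAlgHom k K Kb
  have hmem : ∀ z : Kb, z ∈ (Algebra.TensorProduct.productMap f g).range := by
    intro z
    rw [Algebra.TensorProduct.productMap_range]
    have hz : z ∈ Algebra.adjoin K (Set.range (algebraMap kb Kb)) := by
      rw [hgen]; exact Algebra.mem_top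
    refine Algebra.adjoin_induction (p := fun w _ => w ∈ f.range ⊔ g.range) ?_ ?_ ?_ ?_ hz
    · rintro _ ⟨c, rfl⟩
      exact (le_sup_left : f.range ≤ f.range ⊔ g.range) ⟨c, rfl⟩
    · intro r
      exact (le_sup_right : g.range ≤ f.range ⊔ g.range) ⟨r, rfl⟩
    · intro a b _ _ ha hb
      exact Subalgebra.add_mem _ ha hb
    · intro a b _ _ ha hb
      exact Subalgebra.mul_mem _ ha hb
  obtain ⟨t, ht⟩ := hmem z
  let ℬ := Module.Basis.ofVectorSpace k kb
  obtain ⟨c, hc⟩ := TensorProduct.eq_repr_basis_left ℬ t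
  refine ⟨_, c.support, ℬ, c, ℬ.linearIndependent, ?_⟩
  rw [← ht, ← hc, Finsupp.sum, map_sum]
  apply Finset.sum_congr rfl
  intro i _
  rfl

end repr

section val

variable {k K kb Kb : Type*} [Field k] [Field K] [Algebra k K] [Field kb] [Algebra k kb]
  [Field Kb] [Algebra K Kb] [Algebra kb Kb]

/-- strict inequalities transfer between a place and its restriction -/
theorem lt_one_iff_of_le_one_iff (P : Place k K) (Q : Place kb Kb)
    (hPQ : ∀ x : K, Q.1 (algebraMap K Kb x) ≤ 1 ↔ P.1 x ≤ 1) (x : K) :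
    Q.1 (algebraMap K Kb x) < 1 ↔ P.1 x < 1 := by
  by_cases hx : x = 0
  · rw [hx, map_zero, map_zero, map_zero]
  have hx' : algebraMap K Kb x ≠ 0 := by rwa [Ne, map_eq_zero]
  have h1 := hPQ x⁻¹
  rw [map_inv₀, map_inv₀, map_inv₀] at h1
  have hQ0 : Q.1 (algebraMap K Kb x) ≠ 0 := (Valuation.ne_zero_iff _).mpr hx'
  have hP0 : P.1 x ≠ 0 := (Valuation.ne_zero_iff _).mpr hx
  rw [inv_le_one₀ (zero_lt_iff.mpr hQ0), inv_le_one₀ (zero_lt_iff.mpr hP0)] at h1
  constructor
  · intro h
    by_contra hcon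
    rw [not_lt] at hcon
    exact absurd (h1.mpr hcon) (not_le.mpr h)
  · intro h
    by_contra hcon
    rw [not_lt] at hcon
    exact absurd (h1.mp hcon) (not_le.mpr h)

/-- **the key valuation computation** above a place of degree one -/
theorem val_sum_lt_one_iff (hc : ∀ c : k, algebraMap K Kb (algebraMap k K c) =
      algebraMap kb Kb (algebraMap k kb c))
    (P : Place k K) (hdeg : P.deg = 1) (Q : Place kb Kb)
    (hPQ : ∀ x : K, Q.1 (algebraMap K Kb x) ≤ 1 ↔ P.1 x ≤ 1)
    {ι : Type*} (s : Finset ι) (b : ι → kb) (hb : LinearIndependent k b) (x : ι → K) :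
    Q.1 (∑ i ∈ s, algebraMap kb Kb (b i) * algebraMap K Kb (x i)) < 1 ↔
      ∀ i ∈ s, Q.1 (algebraMap K Kb (x i)) < 1 := by
  classical
  constructor
  · intro hlt
    by_contra hcon
    push Not at hcon
    obtain ⟨i₀, hi₀s, hi₀⟩ := hcon
    obtain ⟨m, hms, hm⟩ := Finset.exists_max_image s (fun i => Q.1 (algebraMap K Kb (x i)))
      ⟨i₀, hi₀s⟩
    have hm1 : 1 ≤ Q.1 (algebraMap K Kb (x m)) := le_trans hi₀ (hm i₀ hi₀s)
    have hxm0 : x m ≠ 0 := by
      intro h0
      rw [h0, map_zero, map_zero] at hm1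
      exact absurd hm1 (not_le.mpr zero_lt_one)
    have hxm0' : algebraMap K Kb (x m) ≠ 0 := by rwa [Ne, map_eq_zero]
    have hQm0 : Q.1 (algebraMap K Kb (x m)) ≠ 0 := (Valuation.ne_zero_iff _).mpr hxm0'
    -- the normalised coefficients
    have hy1 : ∀ i ∈ s, P.1 (x i / x m) ≤ 1 := by
      intro i hi
      rw [← hPQ, map_div₀, map_div₀]
      exact div_le_one_of_le₀ (hm i hi) zero_le
    have hex : ∀ i, ∃ a : k, i ∈ s → P.1 (x i / x m - algebraMap k K a) < 1 := by
      intro i
      by_cases hi : i ∈ s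
      · obtain ⟨a, ha⟩ := FSPl.exists_sub_val_lt_one_of_deg_one P hdeg (hy1 i hi)
        exact ⟨a, fun _ => ha⟩
      · exact ⟨0, fun h => absurd h hi⟩
    choose a ha using hex
    have ham : a m ≠ 0 := by
      intro h0
      have := ha m hms
      rw [h0, map_zero, sub_zero, div_self hxm0, map_one] at this
      exact lt_irrefl _ this
    obtain ⟨γ, hγdef⟩ : ∃ γ : kb, γ = ∑ i ∈ s, a i • b i := ⟨_, rfl⟩
    have hγ0 : γ ≠ 0 := by
      intro h0
      rw [hγdef] at h0
      have := linearIndependent_iff'.mp hb s a h0 m hms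
      exact ham this
    have hsplit : ∑ i ∈ s, algebraMap kb Kb (b i) * algebraMap K Kb (x i) =
        algebraMap K Kb (x m) * (algebraMap kb Kb γ +
          ∑ i ∈ s, algebraMap kb Kb (b i) *
            algebraMap K Kb (x i / x m - algebraMap k K (a i))) := by
      rw [hγdef, map_sum, ← Finset.sum_add_distrib, Finset.mul_sum]
      apply Finset.sum_congr rfl
      intro i _
      rw [Algebra.smul_def, map_mul, map_sub, map_div₀, hc]
      field_simp
      ring
    have hrest : Q.1 (∑ i ∈ s, algebraMap kb Kb (b i) *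
        algebraMap K Kb (x i / x m - algebraMap k K (a i))) < 1 := by
      apply Valuation.map_sum_lt _ one_ne_zero
      intro i hi
      rw [map_mul]
      have h1 := (lt_one_iff_of_le_one_iff P Q hPQ _).mpr (ha i hi)
      exact lt_of_le_of_lt (mul_le_of_le_one_left' (Q.2.1 (b i))) h1
    have hunit : Q.1 (algebraMap kb Kb γ + ∑ i ∈ s, algebraMap kb Kb (b i) *
        algebraMap K Kb (x i / x m - algebraMap k K (a i))) = 1 := by
      rw [Valuation.map_add_eq_of_lt_left, val_algebraMap Q hγ0]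
      rw [val_algebraMap Q hγ0]
      exact hrest
    rw [hsplit, map_mul, hunit, mul_one] at hlt
    exact absurd hm1 (not_le.mpr hlt)
  · intro h
    apply Valuation.map_sum_lt _ one_ne_zero
    intro i hi
    rw [map_mul]
    exact lt_of_le_of_lt (mul_le_of_le_one_left' (Q.2.1 (b i))) (h i hi)

end val


section res

variable {k K : Type*} [Field k] [Field K] [Algebra k K]

/-- residues of polynomial expressions -/
theorem residue_aeval (P : Place k K) (y : P.O) (p : k[X]) :
    IsLocalRing.residue P.O (aeval y p) = aeval (IsLocalRing.residue P.O y) p := by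
  rw [aeval_def, aeval_def]
  exact hom_eval₂ p (algebraMap k P.O) (IsLocalRing.residue P.O) y

theorem coe_aeval (P : Place k K) (y : P.O) (p : k[X]) :
    ((aeval y p : P.O) : K) = aeval (y : K) p := by
  rw [aeval_def, aeval_def]
  exact hom_eval₂ p (algebraMap k P.O) P.O.subtype y

end res

section main

variable {k K kb Kb : Type*} [Field k] [Finite k] [Field K] [Algebra k K] [Field kb]
  [Algebra k kb] [IsAlgClosure k kb] [Field Kb] [Algebra K Kb] [Algebra kb Kb]

/-- **S11068** -/
theorem main (hK : IsFunctionField k K)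
    (hc : ∀ c : k, algebraMap K Kb (algebraMap k K c) = algebraMap kb Kb (algebraMap k kb c))
    (hgen : Algebra.adjoin K (Set.range (algebraMap kb Kb)) = ⊤)
    (F : Kb →+* Kb) (hF1 : ∀ c : kb, F (algebraMap kb Kb c) = algebraMap kb Kb c)
    (hF2 : ∀ x : K, F (algebraMap K Kb x) = algebraMap K Kb x ^ Nat.card k)
    (Q : Place kb Kb) :
    (∀ z : Kb, Q.1 (F z) < 1 ↔ Q.1 z < 1) ↔
      ∃ P : Place k K, (∀ x : K, Q.1 (algebraMap K Kb x) ≤ 1 ↔ P.1 x ≤ 1) ∧ P.deg = 1 := by
  classical
  letI : Algebra k Kb := ((algebraMap K Kb).comp (algebraMap k K)).toAlgebra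
  haveI : IsScalarTower k K Kb := IsScalarTower.of_algebraMap_eq (fun _ => rfl)
  haveI : IsScalarTower k kb Kb := IsScalarTower.of_algebraMap_eq (fun c => hc c)
  haveI : IsAlgClosed kb := IsAlgClosure.isAlgClosed k
  haveI : Algebra.IsAlgebraic k kb := IsAlgClosure.isAlgebraic
  obtain ⟨q, hqdef⟩ : ∃ q : ℕ, q = Nat.card k := ⟨_, rfl⟩
  rw [← hqdef] at hF2
  have hq1 : 1 < q := by rw [hqdef]; exact Finite.one_lt_card
  have hq0 : q ≠ 0 := by omega
  constructor
  · intro hFQ
    -- the place below `Q`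
    haveI halg : Algebra.IsAlgebraic K Kb := by
      have h1 : ∀ c : kb, IsIntegral K (algebraMap kb Kb c) := by
        intro c
        have h2 : IsIntegral k c := Algebra.IsIntegral.isIntegral c
        have h3 : IsIntegral k (algebraMap kb Kb c) :=
          h2.map (IsScalarTower.toAlgHom k kb Kb)
        exact h3.tower_top
      have h2 : Algebra.adjoin K (Set.range (algebraMap kb Kb)) ≤ integralClosure K Kb :=
        Algebra.adjoin_le (by rintro _ ⟨c, rfl⟩; exact h1 c)
      rw [hgen] at h2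
      exact ⟨fun z => (h2 Algebra.mem_top : IsIntegral K z).isAlgebraic⟩
    let Q' : Place k Kb := ⟨Q.1, ⟨fun c => by
      rw [IsScalarTower.algebraMap_apply k kb Kb]
      exact Q.2.1 _, Q.2.2⟩⟩
    obtain ⟨P₀, e, he⟩ := FX.exists_isOverWith hK.1 Q'
    have he1 := FX.isOverWith_pos he
    have hP₀Q : ∀ x : K, Q.1 (algebraMap K Kb x) ≤ 1 ↔ P₀.1 x ≤ 1 := by
      intro x
      have h1 : Q.1 (algebraMap K Kb x) = P₀.1 x ^ e := he x
      rw [h1, pow_le_one_iff (by omega)]
    refine ⟨P₀, hP₀Q, ?_⟩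
    have hfd := finiteDimensional_residueField hK P₀
    show Module.finrank k (IsLocalRing.ResidueField P₀.O) = 1
    rw [finrank_eq_one_iff_of_nonzero' (1 : IsLocalRing.ResidueField P₀.O) one_ne_zero]
    intro ξ
    obtain ⟨x, rfl⟩ := IsLocalRing.residue_surjective ξ
    obtain ⟨h, hhdef⟩ : ∃ h : k[X], h = minpoly k (IsLocalRing.residue P₀.O x) := ⟨_, rfl⟩
    haveI hai : Algebra.IsIntegral k (IsLocalRing.ResidueField P₀.O) :=
      @Algebra.IsIntegral.of_finite k _ _ _ _ hfd
    have hint : IsIntegral k (IsLocalRing.residue P₀.O x) := Algebra.IsIntegral.isIntegral _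
    have hmonic : h.Monic := by rw [hhdef]; exact minpoly.monic hint
    have hPh : P₀.1 (aeval (x : K) h) < 1 := by
      rw [← coe_aeval, ← residue_eq_zero_iff, residue_aeval, hhdef, minpoly.aeval]
    have hQh : Q.1 (algebraMap K Kb (aeval (x : K) h)) < 1 :=
      (lt_one_iff_of_le_one_iff P₀ Q hP₀Q _).mpr hPh
    -- the residue of `x` at `Q`
    obtain ⟨xb, hxbdef⟩ : ∃ xb : Kb, xb = algebraMap K Kb (x : K) := ⟨_, rfl⟩
    have hxb1 : Q.1 xb ≤ 1 := by rw [hxbdef, hP₀Q]; exact x.2
    obtain ⟨ρ, hρdef⟩ : ∃ ρ : IsLocalRing.ResidueField Q.O,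
        ρ = IsLocalRing.residue Q.O ⟨xb, hxb1⟩ := ⟨_, rfl⟩
    have hρint : IsIntegral kb ρ := by
      refine ⟨h.map (algebraMap k kb), hmonic.map _, ?_⟩
      have h1 : eval₂ (algebraMap kb (IsLocalRing.ResidueField Q.O)) ρ (h.map (algebraMap k kb)) =
          aeval ρ (h.map (algebraMap k kb)) := (aeval_def _ _).symm
      rw [h1, hρdef, ← residue_aeval, residue_eq_zero_iff, coe_aeval]
      show Q.1 (aeval xb (h.map (algebraMap k kb))) < 1
      rw [aeval_map_algebraMap, hxbdef, aeval_algebraMap_apply]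
      exact hQh
    have hdeg1 : (minpoly kb ρ).degree = 1 :=
      IsAlgClosed.degree_eq_one_of_irreducible kb (minpoly.irreducible hρint)
    obtain ⟨α, hα⟩ := minpoly.mem_range_of_degree_eq_one kb ρ hdeg1
    have hxα : Q.1 (xb - algebraMap kb Kb α) < 1 := by
      have h1 : IsLocalRing.residue Q.O (⟨xb, hxb1⟩ - algebraMap kb Q.O α) = 0 := by
        rw [map_sub, ← hρdef, ← hα]
        exact sub_self _
      rw [residue_eq_zero_iff] at h1
      exact h1
    -- apply the Frobenius map
    have h1 : Q.1 (xb ^ q - algebraMap kb Kb α) < 1 := by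
      have h2 := (hFQ (xb - algebraMap kb Kb α)).mpr hxα
      rw [map_sub, hF1, hxbdef, hF2] at h2
      rw [hxbdef]
      exact h2
    have hα1 : Q.1 (algebraMap kb Kb α) ≤ 1 := Q.2.1 α
    have h2 : Q.1 (xb ^ q - algebraMap kb Kb α ^ q) < 1 := by
      rw [← geom_sum₂_mul, map_mul]
      refine lt_of_le_of_lt (mul_le_of_le_one_left' ?_) hxα
      apply Valuation.map_sum_le
      intro i _
      rw [map_mul, map_pow, map_pow]
      exact mul_le_one' (pow_le_one₀ zero_le hxb1) (pow_le_one₀ zero_le hα1)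
    have h3 : Q.1 (algebraMap kb Kb (α ^ q - α)) < 1 := by
      have e1 : algebraMap kb Kb (α ^ q - α) =
          (xb ^ q - algebraMap kb Kb α) - (xb ^ q - algebraMap kb Kb α ^ q) := by
        rw [map_sub, map_pow]; ring
      rw [e1]
      exact lt_of_le_of_lt (Valuation.map_sub _ _ _) (max_lt h1 h2)
    have hαq : α ^ q = α := by
      by_contra hne
      rw [val_algebraMap Q (sub_ne_zero.mpr hne)] at h3
      exact lt_irrefl _ h3
    rw [hqdef] at hαq
    obtain ⟨c, hcα⟩ := exists_of_pow_card_eq (k := k) hαq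
    refine ⟨c, ?_⟩
    have h4 : P₀.1 ((x : K) - algebraMap k K c) < 1 := by
      rw [← lt_one_iff_of_le_one_iff P₀ Q hP₀Q, map_sub, hc, hcα, ← hxbdef]
      exact hxα
    have h5 : IsLocalRing.residue P₀.O (x - algebraMap k P₀.O c) = 0 := by
      rw [residue_eq_zero_iff]
      exact h4
    rw [map_sub, sub_eq_zero] at h5
    rw [h5]
    exact (Algebra.algebraMap_eq_smul_one c).symm
  · rintro ⟨P, hPQ, hdeg⟩ z
    obtain ⟨ι, s, b, x, hb, rfl⟩ := exists_repr (k := k) (K := K) hgen z
    have hFz : F (∑ i ∈ s, algebraMap kb Kb (b i) * algebraMap K Kb (x i)) =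
        ∑ i ∈ s, algebraMap kb Kb (b i) * algebraMap K Kb (x i ^ q) := by
      rw [map_sum]
      apply Finset.sum_congr rfl
      intro i _
      rw [map_mul, hF1, hF2, map_pow]
    rw [hFz, val_sum_lt_one_iff hc P hdeg Q hPQ s b hb, val_sum_lt_one_iff hc P hdeg Q hPQ s b hb]
    constructor
    · intro h i hi
      have := h i hi
      rwa [map_pow, map_pow, pow_lt_one_iff hq0] at this
    · intro h i hi
      rw [map_pow, map_pow, pow_lt_one_iff hq0]
      exact h i hi

end main

end Groth.Agent.Lib.helper16.FFr
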