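import Groth.Agent.Lib.helper16.FHasseLoc
import Groth.Agent.Lib.helper16.FFIndep

/-! Helper library (helper16): orders of a projective map at a place and adapted bases. -/

set_option autoImplicit false

namespace Groth.Agent.Lib.helper16.FHL

open FunFld WithZero LocRes
open Groth.Agent.Lib.helper16

universe u v

variable {k : Type u} {K : Type v} [Field k] [Field K] [Algebra k K]

section adapt

variable [IsAlgClosed k] (hK : IsFunctionField k K) (P : Place k K) {t : K}
  (ht : P.1 t = exp (-1))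

theorem cf_div_pow (z : K) (m j : ℕ) :
    cf hK P ht j (z / t ^ m) = cf hK P ht (j + m) z := by
  have ht0 : t ≠ 0 := by
    rintro rfl
    rw [map_zero] at ht
    exact exp_ne_zero ht.symm
  have h1 : Φ hK P ht z = Φ hK P ht (z / t ^ m) * HahnSeries.single (m : ℤ) 1 := by
    rw [← map_natCast_smul_one_eq_single m, ← Φ_t hK P ht, ← map_pow, ← map_mul,
      div_mul_cancel₀ _ (pow_ne_zero _ ht0)]
  rw [cf_apply, cf_apply, h1]
  push_cast
  rw [HahnSeries.coeff_mul_single_add, mul_one]
where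
  map_natCast_smul_one_eq_single (m : ℕ) :
      (HahnSeries.single (1 : ℤ) (1 : k)) ^ m = HahnSeries.single (m : ℤ) 1 := by
    rw [HahnSeries.single_pow, one_pow]
    simp

variable {Ht : K →ₐ[k] PowerSeries K} (hHt : IsHasseFamily t Ht)

include hHt in
/-- pairing a coefficient vector with the columns of values of Hasse derivatives -/
theorem sum_mul_hcolAt_succ {n : ℕ} (φ : Fin n → K) (hnorm : ∀ i, P.1 (φ i) ≤ 1) (a : Fin n → k)
    (m : ℕ) :
    ∑ i, algebraMap k (IsLocalRing.ResidueField P.O) (a i) * hcolAt P Ht φ (m + 1) i =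
      algebraMap k (IsLocalRing.ResidueField P.O) (cf hK P ht m (∑ i, a i • φ i)) := by
  rw [map_sum, map_sum]
  apply Finset.sum_congr rfl
  intro i _
  show _ * evalP P (hasseD Ht m (φ i)) = _
  rw [evalP_hasseD hK P ht hHt (hnorm i), map_smul, smul_eq_mul, map_mul]

omit [IsAlgClosed k] in
include hHt in
theorem hcolAt_zero_eq_one {n : ℕ} (φ : Fin n → K) : hcolAt P Ht φ 0 = hcolAt P Ht φ 1 := by
  funext i
  show evalP P (φ i) = evalP P (hasseD Ht 0 (φ i))
  rw [FHs.hasseD_zero hHt]

omit [IsAlgClosed k] in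
theorem val_sum_smul_le {n : ℕ} (φ : Fin n → K) (hnorm : ∀ i, P.1 (φ i) ≤ 1) (a : Fin n → k) :
    P.1 (∑ i, a i • φ i) ≤ 1 := by
  apply Valuation.map_sum_le
  intro i _
  exact (FF.val_smul_le P _ _).trans (hnorm i)

include hK ht hHt in
/-- `j ≥ 1` is an order at `P` iff some function in the span has order `j` at `P` -/
theorem isJump_hcolAt_succ_iff {n : ℕ} (φ : Fin n → K) (hnorm : ∀ i, P.1 (φ i) ≤ 1) (j : ℕ)
    (hj : 1 ≤ j) :
    IsJump (IsLocalRing.ResidueField P.O) (hcolAt P Ht φ) (j + 1) ↔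
      ∃ f ∈ Submodule.span k (Set.range φ), P.1 f = exp (-(j : ℤ)) := by
  classical
  set κ := IsLocalRing.ResidueField P.O with hκ
  set c := hcolAt P Ht φ with hc
  have hbij := algebraMap_residue_bijective hK P
  constructor
  · intro hjump
    obtain ⟨Lf, hne, hle⟩ := Submodule.exists_le_ker_of_notMem hjump
    choose a ha using fun i => hbij.2 (Lf (fun i' => if i = i' then 1 else 0))
    have hLf : ∀ v, Lf v = ∑ i, algebraMap k κ (a i) * v i := by
      intro v
      rw [LinearMap.pi_apply_eq_sum_univ Lf v]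
      apply Finset.sum_congr rfl
      intro i _
      rw [ha i, smul_eq_mul, mul_comm]
    refine ⟨∑ i, a i • φ i, ?_, ?_⟩
    · apply Submodule.sum_mem
      intro i _
      exact Submodule.smul_mem _ _ (Submodule.subset_span ⟨i, rfl⟩)
    · rw [val_eq_exp_iff_cf hK P ht (val_sum_smul_le P φ hnorm a)]
      constructor
      · intro m hm
        apply hbij.1
        rw [map_zero, ← sum_mul_hcolAt_succ hK P ht hHt φ hnorm a m, ← hLf]
        exact hle (Submodule.subset_span ⟨m + 1, by rw [Set.mem_Iio]; omega, rfl⟩)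
      · intro h0
        apply hne
        rw [hLf, sum_mul_hcolAt_succ hK P ht hHt φ hnorm a j, h0, map_zero]
  · rintro ⟨f, hfW, hf⟩
    obtain ⟨a, rfl⟩ := (Submodule.mem_span_range_iff_exists_fun k).mp hfW
    obtain ⟨h1, h2⟩ := (val_eq_exp_iff_cf hK P ht (val_sum_smul_le P φ hnorm a) j).mp hf
    let Lf : (Fin n → κ) →ₗ[κ] κ := ∑ i, algebraMap k κ (a i) • LinearMap.proj i
    have hLf : ∀ v, Lf v = ∑ i, algebraMap k κ (a i) * v i := by
      intro v
      simp only [Lf, LinearMap.sum_apply, LinearMap.smul_apply, LinearMap.proj_apply, smul_eq_mul]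
    intro hmem
    have hle : Submodule.span κ (c '' Set.Iio (j + 1)) ≤ LinearMap.ker Lf := by
      rw [Submodule.span_le]
      rintro _ ⟨m', hm', rfl⟩
      rw [Set.mem_Iio] at hm'
      rw [SetLike.mem_coe, LinearMap.mem_ker]
      cases m' with
      | zero =>
        rw [hc, hcolAt_zero_eq_one P hHt φ, hLf, sum_mul_hcolAt_succ hK P ht hHt φ hnorm a 0,
          h1 0 (by omega), map_zero]
      | succ m =>
        rw [hLf, sum_mul_hcolAt_succ hK P ht hHt φ hnorm a m, h1 m (by omega), map_zero]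
    have h3 := hle hmem
    rw [LinearMap.mem_ker, hLf, sum_mul_hcolAt_succ hK P ht hHt φ hnorm a j, map_eq_zero] at h3
    exact h2 h3

omit [IsAlgClosed k] in
include hHt in
theorem not_isJump_hcolAt_one {n : ℕ} (φ : Fin n → K) :
    ¬ IsJump (IsLocalRing.ResidueField P.O) (hcolAt P Ht φ) 1 := by
  intro h
  apply h
  apply Submodule.subset_span
  exact ⟨0, by simp, hcolAt_zero_eq_one P hHt φ⟩

omit [IsAlgClosed k] in
theorem evalP_one : evalP P (1 : K) = 1 := by
  unfold evalP
  rw [dif_pos (by rw [map_one])]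
  exact map_one _

include hK ht hHt in
/-- S12607 -/
theorem exists_adapted_basis {n : ℕ} (φ : Fin (n + 1) → K) (hφ : LinearIndependent k φ)
    (heff : (1 : K) ∈ Submodule.span k (Set.range φ)) (hnorm : ∀ i, P.1 (φ i) ≤ 1)
    (J' : Fin n → ℕ) (hJ' : IsOrders (IsLocalRing.ResidueField P.O) (hcolAt P Ht φ) J') :
    (∃ φ' : Fin (n + 1) → K,
      Submodule.span k (Set.range φ') = Submodule.span k (Set.range φ) ∧
      P.1 (φ' 0) = 1 ∧ evalP P (φ' 0) = 1 ∧
      ∀ l : Fin n, P.1 (φ' l.succ) = exp (-(J' l : ℤ)) ∧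
        evalP P (φ' l.succ / t ^ J' l) = 1) ∧
    ∀ j : ℕ, (j = 0 ∨ j ∈ Set.range J') ↔
      ∃ f ∈ Submodule.span k (Set.range φ), P.1 f = exp (-(j : ℤ)) := by
  classical
  obtain ⟨hmono, hiff⟩ := hJ'
  have hJpos : ∀ l, 1 ≤ J' l := by
    intro l
    by_contra h
    have h0 : J' l = 0 := by omega
    exact not_isJump_hcolAt_one P hHt φ ((hiff 0).mp ⟨l, h0⟩)
  have hW1 : ∀ f ∈ Submodule.span k (Set.range φ), P.1 f ≤ 1 := by
    intro f hf
    obtain ⟨a, rfl⟩ := (Submodule.mem_span_range_iff_exists_fun k).mp hf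
    exact val_sum_smul_le P φ hnorm a
  have hsecond : ∀ j : ℕ, (j = 0 ∨ j ∈ Set.range J') ↔
      ∃ f ∈ Submodule.span k (Set.range φ), P.1 f = exp (-(j : ℤ)) := by
    intro j
    by_cases hj : j = 0
    · subst hj
      simp only [true_or, true_iff]
      exact ⟨1, heff, by simp⟩
    · have hj1 : 1 ≤ j := Nat.one_le_iff_ne_zero.mpr hj
      rw [← isJump_hcolAt_succ_iff hK P ht hHt φ hnorm j hj1, ← hiff j]
      simp [hj]
  refine ⟨?_, hsecond⟩
  -- choose functions of the prescribed orders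
  have hex : ∀ l : Fin n, ∃ f ∈ Submodule.span k (Set.range φ), P.1 f = exp (-(J' l : ℤ)) :=
    fun l => (hsecond (J' l)).mp (Or.inr ⟨l, rfl⟩)
  choose f hfW hf using hex
  have hcfne : ∀ l, cf hK P ht (J' l) (f l) ≠ 0 := fun l =>
    ((val_eq_exp_iff_cf hK P ht (hW1 _ (hfW l)) (J' l)).mp (hf l)).2
  let φ' : Fin (n + 1) → K := Fin.cases 1 (fun l => (cf hK P ht (J' l) (f l))⁻¹ • f l)
  have hφ'0 : φ' 0 = 1 := rfl
  have hφ's : ∀ l : Fin n, φ' l.succ = (cf hK P ht (J' l) (f l))⁻¹ • f l := fun l => rfl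
  have hφ'W : ∀ i, φ' i ∈ Submodule.span k (Set.range φ) := by
    intro i
    refine Fin.cases ?_ (fun l => ?_) i
    · exact heff
    · rw [hφ's]
      exact Submodule.smul_mem _ _ (hfW l)
  have hval : ∀ l : Fin n, P.1 (φ' l.succ) = exp (-(J' l : ℤ)) := by
    intro l
    rw [hφ's, FF.val_smul P (inv_ne_zero (hcfne l)), hf l]
  have hφ'ne : ∀ i, φ' i ≠ 0 := by
    intro i
    refine Fin.cases ?_ (fun l => ?_) i
    · exact one_ne_zero
    · intro h0
      have := hval l
      rw [h0, map_zero] at this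
      exact exp_ne_zero this.symm
  have hord0 : P.ord (φ' 0) = 0 := by rw [hφ'0, FF.ord_one]
  have hords : ∀ l : Fin n, P.ord (φ' l.succ) = J' l := by
    intro l
    have := hval l
    rw [FF.val_eq_exp_neg_ord P (hφ'ne _), exp_inj] at this
    omega
  have hinj : Function.Injective (fun i => P.ord (φ' i)) := by
    intro i₁ i₂
    refine Fin.cases ?_ (fun a => ?_) i₁ <;> refine Fin.cases ?_ (fun b => ?_) i₂
    · intro _; rfl
    · intro h
      simp only [hord0, hords] at h
      have := hJpos b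
      omega
    · intro h
      simp only [hord0, hords] at h
      have := hJpos a
      omega
    · intro h
      simp only [hords] at h
      have : J' a = J' b := by exact_mod_cast h
      rw [hmono.injective this]
  have hli : LinearIndependent k φ' := FF.linearIndependent_of_ord_injective P φ' hφ'ne hinj
  refine ⟨φ', ?_, by rw [hφ'0, map_one], by rw [hφ'0]; exact evalP_one P, fun l => ⟨hval l, ?_⟩⟩
  · haveI : FiniteDimensional k ↥(Submodule.span k (Set.range φ)) :=
      FiniteDimensional.span_of_finite k (Set.finite_range φ)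
    apply Submodule.eq_of_le_of_finrank_eq
    · rw [Submodule.span_le]
      rintro _ ⟨i, rfl⟩
      exact hφ'W i
    · rw [finrank_span_eq_card hli, finrank_span_eq_card hφ]
  · have hle : P.1 (φ' l.succ / t ^ J' l) ≤ 1 := by
      rw [map_div₀, map_pow, hval l, ht, ← exp_nsmul, ← exp_sub, ← exp_zero, exp_le_exp]
      simp
    rw [evalP_eq hK P ht hle, cf_div_pow, zero_add, hφ's, map_smul, smul_eq_mul,
      inv_mul_cancel₀ (hcfne l), map_one]

end adapt

end Groth.Agent.Lib.helper16.FHL
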