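import Mathlib
import Groth.Prelude.Def_LocRes

/-! Helper library (helper16): existence of the total Hasse derivative with respect to a separating
element (via formal smoothness and completeness of power series). -/

set_option autoImplicit false

namespace Groth.Agent.Lib.helper16.FHE

open LocRes Polynomial IntermediateField

section base

variable (k : Type*) {K : Type*} [Field k] [Field K] [Algebra k K] (s : K)

/-- a copy of `k(s)` without the algebra structures inherited from `K` -/
def Base : Type _ := k⟮s⟯

noncomputable instance : Field (Base k s) := inferInstanceAs (Field k⟮s⟯)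
noncomputable instance : Algebra k (Base k s) := inferInstanceAs (Algebra k k⟮s⟯)
noncomputable instance : Algebra (Base k s) K := inferInstanceAs (Algebra k⟮s⟯ K)
instance : IsScalarTower k (Base k s) K := inferInstanceAs (IsScalarTower k k⟮s⟯ K)
instance [h : Algebra.IsSeparable k⟮s⟯ K] : Algebra.IsSeparable (Base k s) K := h

end base

variable {k K : Type*} [Field k] [Field K] [Algebra k K]

/-- a total Hasse derivative exists for every separating transcendental element -/
theorem exists_isHasseFamily_of_isSeparable (s : K) (hs : Transcendental k s)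
    [Algebra.IsSeparable k⟮s⟯ K] : ∃ H : K →ₐ[k] PowerSeries K, IsHasseFamily s H := by
  classical
  let g : k[X] →ₐ[k] PowerSeries K := Polynomial.aeval (PowerSeries.C s + PowerSeries.X)
  have hg_cc : ∀ p : k[X], PowerSeries.constantCoeff (g p) = Polynomial.aeval s p := by
    intro p
    have h1 : (PowerSeries.constantCoeff (R := K)).comp g.toRingHom =
        (Polynomial.aeval s : k[X] →ₐ[k] K).toRingHom := by
      apply Polynomial.ringHom_ext
      · intro c
        simp [g, PowerSeries.algebraMap_apply]
      · simp [g]
    exact RingHom.congr_fun h1 p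
  have hg_unit : ∀ y : nonZeroDivisors k[X], IsUnit (g.toRingHom y) := by
    intro y
    rw [PowerSeries.isUnit_iff_constantCoeff]
    show IsUnit (PowerSeries.constantCoeff (g y))
    rw [hg_cc, isUnit_iff_ne_zero]
    intro h0
    exact nonZeroDivisors.ne_zero y.2 (transcendental_iff.mp hs _ h0)
  let ι₀ : RatFunc k →+* PowerSeries K := IsLocalization.lift (M := nonZeroDivisors k[X]) hg_unit
  have hι₀ : ∀ p : k[X], ι₀ (algebraMap k[X] (RatFunc k) p) = g p := fun p =>
    IsLocalization.lift_eq hg_unit p
  let e : RatFunc k ≃ₐ[k] Base k s := RatFunc.algEquivOfTranscendental s hs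
  let gen : Base k s := AdjoinSimple.gen k s
  have hgen : algebraMap (Base k s) K gen = s := AdjoinSimple.algebraMap_gen k s
  have he_alg : ∀ p : k[X], algebraMap (Base k s) K (e (algebraMap k[X] (RatFunc k) p)) =
      Polynomial.aeval s p := by
    intro p
    have h1 : e (algebraMap k[X] (RatFunc k) p) = Polynomial.aeval (AdjoinSimple.gen k s) p :=
      RatFunc.algEquivOfTranscendental_algebraMap s hs p
    rw [h1]
    have h2 := Polynomial.aeval_algebraMap_apply K (AdjoinSimple.gen k s) p
    rw [AdjoinSimple.algebraMap_gen] at h2
    exact h2.symm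
  have he_gen : e.symm gen = (RatFunc.X : RatFunc k) :=
    RatFunc.algEquivOfTranscendental_symm_gen s hs
  let ι : Base k s →+* PowerSeries K := ι₀.comp (e.symm : Base k s →+* RatFunc k)
  have hcc₀ : ∀ u : RatFunc k, PowerSeries.constantCoeff (ι₀ u) = algebraMap (Base k s) K (e u) := by
    have h1 : (PowerSeries.constantCoeff (R := K)).comp ι₀ =
        (algebraMap (Base k s) K).comp (e : RatFunc k →+* Base k s) := by
      apply IsLocalization.ringHom_ext (nonZeroDivisors k[X])
      apply RingHom.ext
      intro p
      show PowerSeries.constantCoeff (ι₀ (algebraMap k[X] (RatFunc k) p)) =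
        algebraMap (Base k s) K (e (algebraMap k[X] (RatFunc k) p))
      rw [hι₀, hg_cc, he_alg]
    exact fun u => RingHom.congr_fun h1 u
  have hι_cc : ∀ r : Base k s, PowerSeries.constantCoeff (ι r) = algebraMap (Base k s) K r := by
    intro r
    show PowerSeries.constantCoeff (ι₀ (e.symm r)) = _
    rw [hcc₀, AlgEquiv.apply_symm_apply]
  have hι_gen : ι gen = PowerSeries.C s + PowerSeries.X := by
    show ι₀ (e.symm gen) = _
    rw [he_gen, ← RatFunc.algebraMap_X, hι₀]
    simp [g]
  have hι_k : ∀ c : k, ι (algebraMap k (Base k s) c) = algebraMap k (PowerSeries K) c := by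
    intro c
    show ι₀ (e.symm (algebraMap k (Base k s) c)) = _
    rw [AlgEquiv.commutes, IsScalarTower.algebraMap_apply k k[X] (RatFunc k), hι₀]
    exact g.commutes c
  letI alg : Algebra (Base k s) (PowerSeries K) := ι.toAlgebra
  haveI tower : IsScalarTower k (Base k s) (PowerSeries K) :=
    IsScalarTower.of_algebraMap_eq (fun c => (hι_k c).symm)
  let I : Ideal (PowerSeries K) := Ideal.span {PowerSeries.X}
  have hmem : ∀ a b : PowerSeries K, PowerSeries.constantCoeff a = PowerSeries.constantCoeff b →
      Ideal.Quotient.mk I a = Ideal.Quotient.mk I b := by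
    intro a b hab
    rw [Ideal.Quotient.eq, Ideal.mem_span_singleton, PowerSeries.X_dvd_iff, map_sub, hab, sub_self]
  have hmem' : ∀ a b : PowerSeries K, Ideal.Quotient.mk I a = Ideal.Quotient.mk I b →
      PowerSeries.constantCoeff a = PowerSeries.constantCoeff b := by
    intro a b hab
    rw [Ideal.Quotient.eq, Ideal.mem_span_singleton, PowerSeries.X_dvd_iff, map_sub,
      sub_eq_zero] at hab
    exact hab
  let f : K →ₐ[Base k s] PowerSeries K ⧸ I :=
    { toRingHom := (Ideal.Quotient.mk I).comp (PowerSeries.C : K →+* PowerSeries K)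
      commutes' := fun r => by
        change Ideal.Quotient.mk I (PowerSeries.C (algebraMap (Base k s) K r)) =
          Ideal.Quotient.mk I (ι r)
        apply hmem
        rw [hι_cc, PowerSeries.constantCoeff_C] }
  haveI : Algebra.FormallyEtale (Base k s) K := Algebra.FormallyEtale.of_isSeparable (Base k s) K
  obtain ⟨G, hG⟩ := Algebra.FormallySmooth.exists_mkₐ_comp_eq_of_isAdicComplete (I := I) f
  refine ⟨G.restrictScalars k, ?_, ?_⟩
  · show G s = _
    have h1 : G (algebraMap (Base k s) K gen) = ι gen := G.commutes gen
    rw [hgen] at h1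
    rw [h1]
    exact hι_gen
  · intro y
    show PowerSeries.constantCoeff (G y) = y
    have h1 := congrArg (fun F => F y) hG
    have h2 : Ideal.Quotient.mk I (G y) = Ideal.Quotient.mk I (PowerSeries.C y) := h1
    rw [hmem' _ _ h2, PowerSeries.constantCoeff_C]

end Groth.Agent.Lib.helper16.FHE
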