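import Groth.Agent.Lib.helper16.FWDivSF
import Groth.Agent.Lib.helper16.FHasseAdapt
import Groth.Agent.Lib.helper16.FHasseEx

/-! Helper library (helper16): the orders at `P₀` of the complete linear system `|m P₀|` and the
bound for the number of strong fixed points (S11053). -/

set_option autoImplicit false

namespace Groth.Agent.Lib.helper16.FGO

open FunFld WithZero LocRes Module
open Groth.Agent.Lib.helper16

universe u v

variable {k : Type u} {K : Type v} [Field k] [Field K] [Algebra k K] [IsAlgClosed k]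

section single

variable (hK : IsFunctionField k K) (P₀ : Place k K)

include hK

theorem deg_single' (m : ℤ) : Divisor.deg (k := k) (K := K) (Finsupp.single P₀ m) = m := by
  rw [FF.deg_single, FF.deg_eq_one_of_isAlgClosed hK P₀, Nat.cast_one, mul_one]

theorem ell_single {m : ℤ} (hm : 2 * (genus k K : ℤ) - 1 ≤ m) :
    (ell (Finsupp.single P₀ m : Divisor k K) : ℤ) = m + 1 - genus k K := by
  rw [FF.ell_eq_of_deg_ge hK (by rw [deg_single' hK]; exact hm), deg_single' hK]

omit hK [IsAlgClosed k] in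
theorem mem_L_single_of_le {m m' : ℤ} {f : K} (hf : f ∈ L (Finsupp.single P₀ m : Divisor k K))
    (h : P₀.1 f ≤ exp m') : f ∈ L (Finsupp.single P₀ m' : Divisor k K) := by
  classical
  intro Q
  by_cases hQ : Q = P₀
  · rw [hQ, Finsupp.single_eq_same]
    exact h
  · have := hf Q
    rw [Finsupp.single_apply, if_neg (Ne.symm hQ)] at this ⊢
    exact this

/-- a nonzero element of `L(m P₀)` has no zero at `P₀` -/
theorem not_lt_one_of_mem {m : ℤ} {f : K} (hf : f ∈ L (Finsupp.single P₀ m : Divisor k K))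
    (hf0 : f ≠ 0) : ¬ P₀.1 f < 1 := by
  intro hlt
  have h1 : f ∈ L (Finsupp.single P₀ (-1) : Divisor k K) :=
    mem_L_single_of_le P₀ hf (FF.lt_one_iff_le_exp_neg_one.mp hlt)
  rw [FF.L_eq_bot_of_deg_neg hK _ (by rw [deg_single' hK]; norm_num), Submodule.mem_bot] at h1
  exact hf0 h1

/-- elements with a pole of exact order `m ≥ 2g` at `P₀` and no other poles -/
theorem exists_exact_pole {m : ℤ} (hm : 2 * (genus k K : ℤ) ≤ m) :
    ∃ h ∈ L (Finsupp.single P₀ m : Divisor k K), P₀.1 h = exp m := by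
  classical
  have h1 := ell_single hK P₀ (m := m) (by omega)
  have h2 := ell_single hK P₀ (m := m - 1) (by omega)
  have hlt : ell (Finsupp.single P₀ (m - 1) : Divisor k K) < ell (Finsupp.single P₀ m) := by
    have : (ell (Finsupp.single P₀ (m - 1) : Divisor k K) : ℤ) < ell (Finsupp.single P₀ m) := by
      rw [h1, h2]; omega
    exact_mod_cast this
  have hsub : (Finsupp.single P₀ (m - 1) : Divisor k K) =
      Finsupp.single P₀ m - Finsupp.single P₀ 1 := by
    rw [← Finsupp.single_sub]
  have hex : ∃ h ∈ L (Finsupp.single P₀ m : Divisor k K),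
      h ∉ L (Finsupp.single P₀ (m - 1) : Divisor k K) := by
    by_contra hcon
    push Not at hcon
    have := FF.finiteDimensional_L hK (Finsupp.single P₀ (m - 1) : Divisor k K)
    have hle : ell (Finsupp.single P₀ m : Divisor k K) ≤ ell (Finsupp.single P₀ (m - 1)) :=
      Submodule.finrank_mono hcon
    omega
  obtain ⟨h, hh1, hh2⟩ := hex
  refine ⟨h, hh1, ?_⟩
  have hh0 : h ≠ 0 := by
    rintro rfl
    exact hh2 (Submodule.zero_mem _)
  rw [hsub, FF.mem_L_sub_single_iff, not_and] at hh2
  have h3 := hh2 hh1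
  have h4 := hh1 P₀
  rw [Finsupp.single_eq_same] at h3 h4
  rw [FF.val_eq_exp_neg_ord P₀ hh0] at h3 h4 ⊢
  rw [exp_le_exp] at h3 h4
  rw [exp_inj]
  omega

end single

section orders

variable (hK : IsFunctionField k K) (P₀ : Place k K) {t : K} (ht : P₀.1 t = exp (-1))
  {Ht : K →ₐ[k] PowerSeries K} (hHt : IsHasseFamily t Ht)

include hK ht hHt

/-- the orders at `P₀` of the complete linear system `|(n+g) P₀|` -/
theorem orders_bound {n : ℕ} (hng : genus k K < n) (φ : Fin (n + 1) → K)
    (hspan : Submodule.span k (Set.range φ) =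
      L (Finsupp.single P₀ ((n : ℤ) + genus k K) : Divisor k K))
    {y : K} (hy : y ≠ 0) (φ'' : Fin (n + 1) → K) (hφ'' : ∀ i, φ'' i = y * φ i)
    (hli : LinearIndependent k φ'')
    (heff : (1 : K) ∈ Submodule.span k (Set.range φ'')) (hnorm : ∀ i, P₀.1 (φ'' i) ≤ 1)
    (J' : Fin n → ℕ) (hJ' : IsOrders (IsLocalRing.ResidueField P₀.O) (hcolAt P₀ Ht φ'') J') :
    (∀ l : Fin n, J' l ≤ (l : ℕ) + 1 + genus k K) ∧
    ∀ l : Fin n, (l : ℕ) + 1 + genus k K ≤ n → J' l = (l : ℕ) + 1 := by
  classical
  set g := genus k K with hg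
  set D : Divisor k K := Finsupp.single P₀ ((n : ℤ) + g) with hD
  obtain ⟨-, horders⟩ := FHL.exists_adapted_basis hK P₀ ht hHt φ'' hli heff hnorm J' hJ'
  -- description of the span of `φ''`
  have hmem : ∀ f : K, f ∈ Submodule.span k (Set.range φ'') ↔ ∃ h ∈ L D, f = y * h := by
    intro f
    constructor
    · intro hf
      obtain ⟨c, rfl⟩ := (Submodule.mem_span_range_iff_exists_fun k).mp hf
      refine ⟨∑ i, c i • φ i, ?_, ?_⟩
      · rw [← hspan]
        exact Submodule.sum_mem _ fun i _ => Submodule.smul_mem _ _ (Submodule.subset_span ⟨i, rfl⟩)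
      · rw [Finset.mul_sum]
        apply Finset.sum_congr rfl
        intro i _
        rw [hφ'', mul_smul_comm]
    · rintro ⟨h, hh, rfl⟩
      rw [← hspan] at hh
      obtain ⟨c, rfl⟩ := (Submodule.mem_span_range_iff_exists_fun k).mp hh
      rw [Finset.mul_sum]
      refine Submodule.sum_mem _ fun i _ => ?_
      rw [mul_smul_comm, ← hφ'']
      exact Submodule.smul_mem _ _ (Submodule.subset_span ⟨i, rfl⟩)
  have hint : ∀ f ∈ Submodule.span k (Set.range φ''), P₀.1 f ≤ 1 := by
    intro f hf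
    obtain ⟨c, rfl⟩ := (Submodule.mem_span_range_iff_exists_fun k).mp hf
    exact FHL.val_sum_smul_le P₀ φ'' hnorm c
  -- the valuation of `y`
  have hyval : P₀.1 y = exp (-((n : ℤ) + g)) := by
    apply le_antisymm
    · obtain ⟨h₁, hh₁, hv₁⟩ := exists_exact_pole hK P₀ (m := (n : ℤ) + g) (by omega)
      have h1 := hint (y * h₁) ((hmem _).mpr ⟨h₁, hh₁, rfl⟩)
      rw [map_mul, hv₁] at h1
      have hy' : P₀.1 y = exp (-P₀.ord y) := FF.val_eq_exp_neg_ord P₀ hy
      rw [hy', ← exp_add, ← exp_zero, exp_le_exp] at h1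
      rw [hy', exp_le_exp]
      omega
    · obtain ⟨h, hh, h1⟩ := (hmem 1).mp heff
      have hh0 : h ≠ 0 := by
        rintro rfl
        rw [mul_zero] at h1
        exact one_ne_zero h1
      have h2 := hh P₀
      rw [hD, Finsupp.single_eq_same] at h2
      have h3 := congrArg P₀.1 h1
      rw [map_one, map_mul] at h3
      have hy' : P₀.1 y = exp (-P₀.ord y) := FF.val_eq_exp_neg_ord P₀ hy
      rw [FF.val_eq_exp_neg_ord P₀ hh0, exp_le_exp] at h2
      rw [hy', FF.val_eq_exp_neg_ord P₀ hh0, ← exp_add, ← exp_zero, exp_inj] at h3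
      rw [hy', exp_le_exp]
      omega
  have hJpos : ∀ l, 1 ≤ J' l := fun l => FHL.one_le_of_isOrders P₀ hHt φ'' hJ' l
  have hJlow : ∀ l : Fin n, (l : ℕ) + 1 ≤ J' l := by
    intro l
    obtain ⟨l, hl⟩ := l
    induction l with
    | zero => exact hJpos _
    | succ l ih =>
      have h1 := ih (by omega)
      have h2 : J' ⟨l, by omega⟩ < J' ⟨l + 1, hl⟩ := hJ'.1 (by
        rw [Fin.lt_def]; simp)
      simp only at h1 ⊢
      omega
  -- upper bound for the last order
  have hJmax : ∀ l : Fin n, J' l ≤ n + g := by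
    intro l
    obtain ⟨f, hf, hfv⟩ := (horders (J' l)).mp (Or.inr ⟨l, rfl⟩)
    obtain ⟨h, hh, rfl⟩ := (hmem f).mp hf
    have hh0 : h ≠ 0 := by
      rintro rfl
      rw [mul_zero, map_zero] at hfv
      exact exp_ne_zero hfv.symm
    have h1 := not_lt_one_of_mem hK P₀ hh hh0
    rw [not_lt] at h1
    rw [map_mul, hyval] at hfv
    have h2 : exp (-((n : ℤ) + g)) * 1 ≤ exp (-(J' l : ℤ)) := by
      rw [← hfv]
      exact mul_le_mul' le_rfl h1
    rw [mul_one, exp_le_exp] at h2
    omega
  constructor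
  · intro l
    -- `J' l + (n - 1 - l) ≤ J' (n - 1) ≤ n + g`
    have hn0 : 0 < n := by have := l.2; omega
    have key : ∀ d : ℕ, ∀ hd : (l : ℕ) + d < n, J' l + d ≤ J' ⟨(l : ℕ) + d, hd⟩ := by
      intro d
      induction d with
      | zero => intro hd; simp
      | succ d ih =>
        intro hd
        have h1 := ih (by omega)
        have h2 : J' ⟨(l : ℕ) + d, by omega⟩ < J' ⟨(l : ℕ) + (d + 1), hd⟩ := hJ'.1 (by
          rw [Fin.lt_def]; simp)
        omega
    have h1 := key (n - 1 - l) (by omega)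
    have h2 := hJmax ⟨(l : ℕ) + (n - 1 - l), by omega⟩
    omega
  · -- the first `n - g` orders are `1, 2, …`
    intro l
    obtain ⟨l, hl⟩ := l
    induction l using Nat.strong_induction_on with
    | _ l ih =>
      intro hlg
      simp only at hlg ⊢
      -- an element of the span of order `l + 1`
      obtain ⟨h₁, hh₁, hv₁⟩ := exists_exact_pole hK P₀
        (m := (n : ℤ) + g - ((l : ℤ) + 1)) (by omega)
      have hh₁D : h₁ ∈ L D := by
        refine FF.L_mono ?_ hh₁
        rw [hD]
        intro Q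
        rw [Finsupp.single_apply, Finsupp.single_apply]
        split_ifs
        · omega
        · exact le_rfl
      have hfv : P₀.1 (y * h₁) = exp (-(((l + 1 : ℕ) : ℤ))) := by
        rw [map_mul, hyval, hv₁, ← exp_add]
        congr 1
        push_cast
        ring
      have h1 := (horders (l + 1)).mpr ⟨y * h₁, (hmem _).mpr ⟨h₁, hh₁D, rfl⟩, hfv⟩
      rcases h1 with h1 | ⟨l', hl'⟩
      · omega
      · obtain ⟨l', hl'n⟩ := l'
        have h2 := hJlow ⟨l', hl'n⟩
        simp only at h2
        have hle : l' ≤ l := by omega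
        rcases Nat.lt_or_eq_of_le hle with hlt | heq
        · have h3 := ih l' hlt hl'n (by simp only; omega)
          simp only at h3
          omega
        · subst heq
          exact hl'

end orders

section count

/-- an elementary bound for a sum -/
theorem sum_bound (n g : ℕ) (hg : g ≤ n) (f : ℕ → ℕ) (h1 : ∀ l < n, f l ≤ l + g)
    (h2 : ∀ l, l + g < n → f l ≤ l) :
    2 * ∑ l ∈ Finset.range n, f l ≤ n * (n - 1) + 2 * (g * g) := by
  have hsplit := Finset.sum_range_add_sum_Ico f (Nat.sub_le n g)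
  have hsplit' := Finset.sum_range_add_sum_Ico (fun l => l) (Nat.sub_le n g)
  have hA : ∑ l ∈ Finset.range (n - g), f l ≤ ∑ l ∈ Finset.range (n - g), l := by
    apply Finset.sum_le_sum
    intro l hl
    rw [Finset.mem_range] at hl
    exact h2 l (by omega)
  have hB : ∑ l ∈ Finset.Ico (n - g) n, f l ≤ ∑ l ∈ Finset.Ico (n - g) n, (l + g) := by
    apply Finset.sum_le_sum
    intro l hl
    rw [Finset.mem_Ico] at hl
    exact h1 l hl.2
  have hC : ∑ l ∈ Finset.Ico (n - g) n, (l + g) = ∑ l ∈ Finset.Ico (n - g) n, l + g * g := by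
    rw [Finset.sum_add_distrib, Finset.sum_const, Nat.card_Ico, smul_eq_mul]
    congr 2
    omega
  have hG := Finset.sum_range_id_mul_two n
  rw [← hsplit]
  calc 2 * (∑ l ∈ Finset.range (n - g), f l + ∑ l ∈ Finset.Ico (n - g) n, f l)
      ≤ 2 * (∑ l ∈ Finset.range (n - g), l + (∑ l ∈ Finset.Ico (n - g) n, l + g * g)) := by
        rw [← hC]
        exact Nat.mul_le_mul_left 2 (Nat.add_le_add hA hB)
    _ = n * (n - 1) + 2 * (g * g) := by
        rw [← add_assoc, hsplit', mul_add, mul_comm 2 (∑ i ∈ Finset.range n, i), hG]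

end count

section main

variable (hK : IsFunctionField k K)

include hK

/-- the core estimate, for a given strong fixed point `P₀` -/
theorem core_estimate (τ : K →ₐ[k] K) (P₀ : Place k K) (hP₀ : IsStrongFixedPt τ P₀)
    (n : ℕ) (hng : genus k K < n) :
    {P : Place k K | IsStrongFixedPt τ P}.Finite ∧
    ∃ S : ℤ, 0 ≤ S ∧ 2 * S ≤ (n : ℤ) * ((n : ℤ) - 1) + 2 * ((genus k K : ℤ) * genus k K) ∧
      (n : ℤ) * (Set.ncard {P : Place k K | IsStrongFixedPt τ P} : ℤ) ≤
        ((n : ℤ) + Module.finrank τ.fieldRange K) * ((n : ℤ) + genus k K) +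
          (2 * (genus k K : ℤ) - 2) * S := by
  classical
  have hg := FG.isGeometric_of_perfectField k K hK.2
  set g := genus k K with hgdef
  have hn0 : 0 < n := by omega
  -- a Hasse family
  obtain ⟨t, ht⟩ := FF.exists_uniformizer P₀
  have hDt := FWP.D_ne_zero_of_uniformizer hK P₀ ht
  have hsep := FHs.isSeparable_of_D_ne_zero hK hg hDt
  have htr : Transcendental k t := FS.transcendental_of_isSeparable hK hsep
  obtain ⟨Ht, hHt⟩ := FHE.exists_isHasseFamily_of_isSeparable t htr
  -- the complete linear system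
  set D : Divisor k K := Finsupp.single P₀ ((n : ℤ) + g) with hD
  have hfd := FF.finiteDimensional_L hK D
  have hell : Module.finrank k (L D) = n + 1 := by
    have h1 := ell_single hK P₀ (m := (n : ℤ) + g) (by omega)
    have h2 : (ell D : ℤ) = n + 1 := by rw [hD, h1]; ring
    have h3 : ell D = n + 1 := by exact_mod_cast h2
    exact h3
  let b := Module.finBasisOfFinrankEq k (L D) hell
  set φ : Fin (n + 1) → K := fun i => (b i : K) with hφdef
  have hφ : LinearIndependent k φ :=
    b.linearIndependent.map' (L D).subtype (Submodule.ker_subtype _)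
  have hspan : Submodule.span k (Set.range φ) = L D := by
    have h1 : Set.range φ = (L D).subtype '' Set.range b := by
      rw [← Set.range_comp]
      rfl
    rw [h1, Submodule.span_image, b.span_eq, Submodule.map_subtype_top]
  have hφmem : ∀ i, φ i ∈ L D := fun i => (b i).2
  -- `τ(φ)` is not a multiple of `φ`
  have hτφ : ¬ ∃ y : K, ∀ i, τ (φ i) = y * φ i := by
    rintro ⟨y, hy⟩
    have hall : ∀ f ∈ L D, τ f = y * f := by
      intro f hf
      rw [← hspan] at hf
      obtain ⟨c, rfl⟩ := (Submodule.mem_span_range_iff_exists_fun k).mp hf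
      rw [map_sum, Finset.mul_sum]
      apply Finset.sum_congr rfl
      intro i _
      rw [map_smul, hy i, mul_smul_comm]
    have h1D : (1 : K) ∈ L D := by
      intro Q
      rw [map_one, ← exp_zero, exp_le_exp, hD, Finsupp.single_apply]
      split_ifs
      · positivity
      · exact le_rfl
    have hy1 : y = 1 := by
      have := hall 1 h1D
      rw [map_one, mul_one] at this
      exact this.symm
    obtain ⟨h₁, hh₁, hv₁⟩ := exists_exact_pole hK P₀ (m := (n : ℤ) + g) (by omega)
    obtain ⟨h₂, hh₂, hv₂⟩ := exists_exact_pole hK P₀ (m := (n : ℤ) + g - 1) (by omega)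
    have hh₂D : h₂ ∈ L D := by
      refine FF.L_mono ?_ hh₂
      rw [hD]
      intro Q
      rw [Finsupp.single_apply, Finsupp.single_apply]
      split_ifs
      · omega
      · exact le_rfl
    have hh₁0 : h₁ ≠ 0 := by
      rintro rfl
      rw [map_zero] at hv₁
      exact exp_ne_zero hv₁.symm
    set u := h₂ / h₁ with hu
    have huv : P₀.1 u = exp (-1) := by
      rw [hu, map_div₀, hv₁, hv₂, ← exp_sub]
      congr 1
      ring
    have hτu : τ u = u := by
      rw [hu, map_div₀, hall h₁ hh₁, hall h₂ hh₂D, hy1, one_mul, one_mul]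
    have h3 := hP₀ u (by rw [huv, ← exp_zero, exp_lt_exp]; norm_num)
    rw [hτu, huv, exp_le_exp] at h3
    omega
  -- the `τ`-orders
  obtain ⟨J, hJ, -⟩ := FHs.exists_isOrders_det_ne_zero hK hg φ hφ τ hHt
  obtain ⟨hfin, hcount⟩ := FWN.strongFixedPt_finite_card_le hK τ φ hφ hτφ hHt J hJ
  refine ⟨hfin, ∑ l, (J l : ℤ), Finset.sum_nonneg fun l _ => by positivity, ?_, ?_⟩
  · -- the bound for the sum of the `τ`-orders
    set Φ : Place k K → (K →ₐ[k] LaurentSeries k) := fun P => FHL.Φ hK P (FRG.htP P) with hΦdef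
    have hΦ : ∀ P : Place k K, IsExpansionAt P.1 (Φ P) := fun P => FHL.isExp hK P (FRG.htP P)
    obtain ⟨t', Ht', φ'', ht', hHt', hli, heff, hnorm, hJ'', -, y, hy0, hφ''i⟩ :=
      FWN.exists_normalization hK φ hφ τ P₀ hHt J hJ Φ hΦ
    obtain ⟨J', hJ'⟩ := FWP.exists_isOrdersAt hK P₀ ht' hHt' φ'' hli heff hnorm
    obtain ⟨hb1, hb2⟩ := orders_bound hK P₀ ht' hHt' hng φ hspan hy0 φ'' hφ''i hli heff hnorm J' hJ'
    have hJle : ∀ l : Fin n, J l + 1 ≤ J' l := by
      intro l
      have h1 := FHL.isOrders_add_le_of_isStrongFixedPt hK P₀ ht' hHt' hn0 τ hP₀ φ'' hli heff hnorm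
        J hJ'' J' hJ' l
      have h2 := FHL.one_le_of_isOrders P₀ hHt' φ'' hJ' ⟨0, hn0⟩
      omega
    let f : ℕ → ℕ := fun l => if h : l < n then J ⟨l, h⟩ else 0
    have hf : ∀ l : Fin n, f l = J l := fun l => by simp [f]
    have hsum : ∑ l : Fin n, J l = ∑ l ∈ Finset.range n, f l := by
      rw [Finset.sum_range]
      exact Finset.sum_congr rfl fun l _ => (hf l).symm
    have hbound := sum_bound n g (by omega) f
      (fun l hl => by
        have h1 := hb1 ⟨l, hl⟩
        have h2 := hJle ⟨l, hl⟩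
        simp only [f, dif_pos hl]
        simp only at h1
        omega)
      (fun l hl => by
        have hl' : l < n := by omega
        have h1 := hb2 ⟨l, hl'⟩ (by simp only; omega)
        have h2 := hJle ⟨l, hl'⟩
        simp only [f, dif_pos hl']
        simp only at h1
        omega)
    rw [← hsum] at hbound
    have hcast : ((2 * ∑ l : Fin n, J l : ℕ) : ℤ) ≤ ((n * (n - 1) + 2 * (g * g) : ℕ) : ℤ) := by
      exact_mod_cast hbound
    push_cast [Nat.cast_sub hn0] at hcast
    simpa using hcast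
  · -- the count
    have hmap : mapDiv k φ ≤ D := by
      intro P
      obtain ⟨j, hj⟩ := FF.exists_ord_eq_neg_mapDiv hK φ P
      have h1 := hφmem j P
      rw [FF.val_le_exp_iff P (hφ.ne_zero j)] at h1
      omega
    have hdeg : (mapDiv k φ).deg ≤ (n : ℤ) + g := by
      have := FF.deg_mono hmap
      rwa [hD, deg_single' hK] at this
    have hq : (0 : ℤ) ≤ (n : ℤ) + Module.finrank τ.fieldRange K := by positivity
    calc (n : ℤ) * (Set.ncard {P : Place k K | IsStrongFixedPt τ P} : ℤ)
        ≤ ((n : ℤ) + Module.finrank τ.fieldRange K) * (mapDiv k φ).deg +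
          (2 * (g : ℤ) - 2) * ∑ l, (J l : ℤ) := hcount
      _ ≤ ((n : ℤ) + Module.finrank τ.fieldRange K) * ((n : ℤ) + g) +
          (2 * (g : ℤ) - 2) * ∑ l, (J l : ℤ) := by
        have := mul_le_mul_of_nonneg_left hdeg hq
        linarith

/-- S11053 -/
theorem strongFixed_bound (τ : K →ₐ[k] K) (n : ℕ) (hn : genus k K < n) :
    {P : Place k K | IsStrongFixedPt τ P}.Finite ∧
    (Set.ncard {P : Place k K | IsStrongFixedPt τ P} : ℝ) ≤
      1 + Module.finrank τ.fieldRange K +
        (n + (Module.finrank τ.fieldRange K : ℝ) / n) * genus k K +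
        2 * (genus k K : ℝ) ^ 2 * (genus k K - 1) / n := by
  set g := genus k K with hg
  set q := Module.finrank τ.fieldRange K with hq
  set N := Set.ncard {P : Place k K | IsStrongFixedPt τ P} with hN
  have hn0 : 0 < n := by omega
  have hnR : (0 : ℝ) < n := by exact_mod_cast hn0
  by_cases hex : ∃ P₀ : Place k K, IsStrongFixedPt τ P₀
  · obtain ⟨P₀, hP₀⟩ := hex
    rcases Nat.eq_zero_or_pos g with hg0 | hgpos
    · -- genus zero: use `n = 1`
      obtain ⟨hfin, S, hS0, -, hcount⟩ := core_estimate hK τ P₀ hP₀ 1 (by omega)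
      refine ⟨hfin, ?_⟩
      rw [← hg, hg0] at hcount
      have h1 : (N : ℤ) ≤ 1 + q := by
        push_cast at hcount
        nlinarith
      have h2 : (N : ℝ) ≤ 1 + q := by exact_mod_cast h1
      rw [hg0]
      simpa using h2
    · obtain ⟨hfin, S, hS0, hS, hcount⟩ := core_estimate hK τ P₀ hP₀ n hn
      refine ⟨hfin, ?_⟩
      rw [← hg] at hS hcount
      have hg1 : (0 : ℤ) ≤ (g : ℤ) - 1 := by
        have : (1 : ℤ) ≤ g := by exact_mod_cast hgpos
        omega
      have h1 : (n : ℤ) * N ≤ ((n : ℤ) + q) * ((n : ℤ) + g) +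
          ((g : ℤ) - 1) * ((n : ℤ) * ((n : ℤ) - 1) + 2 * ((g : ℤ) * g)) := by
        have := mul_le_mul_of_nonneg_left hS hg1
        nlinarith
      have h2 : (n : ℝ) * N ≤ ((n : ℝ) + q) * ((n : ℝ) + g) +
          ((g : ℝ) - 1) * ((n : ℝ) * ((n : ℝ) - 1) + 2 * ((g : ℝ) * g)) := by
        exact_mod_cast h1
      have h3 : (1 + (q : ℝ) + ((n : ℝ) + (q : ℝ) / n) * g + 2 * (g : ℝ) ^ 2 * (g - 1) / n) =
          (((n : ℝ) + q) * ((n : ℝ) + g) +
            ((g : ℝ) - 1) * ((n : ℝ) * ((n : ℝ) - 1) + 2 * ((g : ℝ) * g))) / n := by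
        field_simp
        ring
      rw [h3, le_div_iff₀ hnR]
      linarith
  · have hempty : {P : Place k K | IsStrongFixedPt τ P} = ∅ := by
      ext P
      simp only [Set.mem_ofPred_eq, Set.mem_empty_iff_false, iff_false]
      exact fun h => hex ⟨P, h⟩
    refine ⟨by rw [hempty]; exact Set.finite_empty, ?_⟩
    have hN0 : N = 0 := by rw [hN, hempty, Set.ncard_empty]
    rw [hN0, Nat.cast_zero]
    rcases Nat.eq_zero_or_pos g with hg0 | hgpos
    · rw [hg0]
      simp only [Nat.cast_zero, mul_zero, add_zero]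
      have : (0 : ℝ) ≤ q := by positivity
      have h2 : (0 : ℝ) ≤ 2 * (0 : ℝ) ^ 2 * (0 - 1) / n := by simp
      linarith
    · have hg1 : (1 : ℝ) ≤ g := by exact_mod_cast hgpos
      have h1 : (0 : ℝ) ≤ 2 * (g : ℝ) ^ 2 * (g - 1) / n := by
        apply div_nonneg _ hnR.le
        have : (0 : ℝ) ≤ (g : ℝ) - 1 := by linarith
        positivity
      have h2 : (0 : ℝ) ≤ ((n : ℝ) + (q : ℝ) / n) * g := by positivity
      have h3 : (0 : ℝ) ≤ q := by positivity
      linarith

end main

end Groth.Agent.Lib.helper16.FGO
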