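import Groth.Agent.Lib.helper16.FSepT

/-! Helper library (helper16): weakly separable extensions of function fields. -/

set_option autoImplicit false

namespace Groth.Agent.Lib.helper16.FS

open FunFld WithZero Polynomial Module KaehlerDifferential Groth.Agent.Lib.helper16.FF
  Groth.Agent.Lib.helper16.FX
open scoped IntermediateField

universe u v

/-- separability passes to a larger base subfield -/
theorem isSeparable_of_le {F E : Type*} [Field F] [Field E] [Algebra F E]
    (A : Subfield E) (L : IntermediateField F E) (hAL : A ≤ L.toSubfield)
    (hsep : ∀ z : E, IsSeparable A z) : Algebra.IsSeparable L E := by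
  refine ⟨fun z => ?_⟩
  let ι : A →+* L := Subfield.inclusion hAL
  have h1 : ((minpoly A z).map ι).Separable := Polynomial.Separable.map (hsep z)
  have h2 : aeval z ((minpoly A z).map ι) = 0 := by
    rw [aeval_def, eval₂_map]
    have : (algebraMap L E).comp ι = algebraMap A E := rfl
    rw [this, ← aeval_def, minpoly.aeval]
  exact h1.of_dvd (minpoly.dvd L z h2)

/-- S11026 -/
theorem isSeparable_over_compositum (k k' : Type u) (K K' : Type v) [Field k] [Field k']
    [Field K] [Field K'] [Algebra k k'] [Algebra k K] [Algebra K K'] [Algebra k' K']
    [Algebra k K'] [IsScalarTower k k' K'] [IsScalarTower k K K'] [FiniteDimensional K K']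
    (hK : IsFunctionField k K) (hg : IsGeometric k K)
    (hK' : IsFunctionField k' K') (hg' : IsGeometric k' K')
    (hw : Function.Injective (KaehlerDifferential.map k k' K K')) :
    Algebra.IsSeparable (IntermediateField.adjoin K (Set.range (algebraMap k' K'))) K' := by
  obtain _ | ⟨p, hp, hpK⟩ := CharP.exists' K'
  · have : CharZero (IntermediateField.adjoin K (Set.range (algebraMap k' K'))) :=
      RingHom.charZero (algebraMap (IntermediateField.adjoin K (Set.range (algebraMap k' K'))) K')
    exact Algebra.IsAlgebraic.isSeparable_of_perfectField
  · obtain ⟨x, hx, hsep⟩ := exists_separating hK hg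
    have hDx : D k K x ≠ 0 := D_ne_zero_of_isSeparable hK hsep
    have hDx' : D k' K' (algebraMap K K' x) ≠ 0 := by
      rw [← KaehlerDifferential.map_D k k' K K']
      intro h0
      exact hDx (hw (by rw [h0, map_zero]))
    have hnm : algebraMap K K' x ∉
        IntermediateField.adjoin k' (Set.range fun y : K' => y ^ p) :=
      fun hmem => hDx' (D_eq_zero_of_mem p hmem)
    have hsep' := isSeparable_of_not_mem p hK' hg' hnm
    apply isSeparable_of_le (k'⟮algebraMap K K' x⟯).toSubfield _ _
      (fun z => Algebra.IsSeparable.isSeparable k'⟮algebraMap K K' x⟯ z)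
    show k'⟮algebraMap K K' x⟯.toSubfield ≤ _
    intro w hw
    have hw' : w ∈ k'⟮algebraMap K K' x⟯ := hw
    clear hw
    show w ∈ IntermediateField.adjoin K (Set.range (algebraMap k' K'))
    induction hw' using IntermediateField.adjoin_induction with
    | mem z hz =>
      rw [Set.mem_singleton_iff] at hz
      rw [hz]
      exact IntermediateField.algebraMap_mem _ x
    | algebraMap c => exact IntermediateField.subset_adjoin _ _ ⟨c, rfl⟩
    | add x y _ _ hx hy => exact add_mem hx hy
    | inv x _ hx => exact inv_mem hx
    | mul x y _ _ hx hy => exact mul_mem hx hy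

end Groth.Agent.Lib.helper16.FS
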