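import Groth.Agent.Lib.helper16.FUniquePl
import Groth.Agent.Lib.helper16.FSepC

set_option autoImplicit false
set_option linter.style.haveILetI false

/-! Helper library (helper16): function fields with a separating variable are geometric. -/

namespace Groth.Agent.Lib.helper16.FCE

open FunFld TensorProduct Module Polynomial
open scoped IntermediateField

section ratfunc

variable {k : Type*} [Field k]

/-- `k[X] ⊗ E` is a domain -/
theorem isDomain_polynomial_tensor (E : Type*) [Field E] [Algebra k E] :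
    IsDomain (k[X] ⊗[k] E) := by
  let e : k[X] ⊗[k] E ≃ₐ[k] E[X] :=
    (Algebra.TensorProduct.comm k k[X] E).trans (polyEquivTensor k E).symm
  exact e.toMulEquiv.isDomain

attribute [local instance] Algebra.TensorProduct.rightAlgebra in
/-- `k(X) ⊗ E` is a domain -/
theorem isDomain_ratFunc_tensor (E : Type*) [Field E] [Algebra k E] :
    IsDomain (RatFunc k ⊗[k] E) := by
  haveI hS : IsDomain (k[X] ⊗[k] E) := isDomain_polynomial_tensor E
  have hloc : IsLocalization (Algebra.algebraMapSubmonoid (k[X] ⊗[k] E) (nonZeroDivisors k[X]))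
      (RatFunc k ⊗[k[X]] (k[X] ⊗[k] E)) := inferInstance
  have hle : Algebra.algebraMapSubmonoid (k[X] ⊗[k] E) (nonZeroDivisors k[X]) ≤
      nonZeroDivisors (k[X] ⊗[k] E) := by
    rintro _ ⟨p, hp, rfl⟩
    apply mem_nonZeroDivisors_of_ne_zero
    have hinj : Function.Injective (algebraMap k[X] (k[X] ⊗[k] E)) :=
      Algebra.TensorProduct.includeLeft_injective (S := k) (algebraMap k E).injective
    rw [Ne, map_eq_zero_iff _ hinj]
    exact nonZeroDivisors.ne_zero hp
  haveI hdom : IsDomain (RatFunc k ⊗[k[X]] (k[X] ⊗[k] E)) :=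
    @IsLocalization.isDomain_of_le_nonZeroDivisors (k[X] ⊗[k] E) _ _
      (RatFunc k ⊗[k[X]] (k[X] ⊗[k] E)) _ _ hloc _ hle
  exact (Algebra.TensorProduct.cancelBaseChange k k[X] k[X] (RatFunc k) E).symm.toMulEquiv.isDomain

end ratfunc

section reduced

/-- base change of a finite separable field extension to a ring embedded in a field is reduced -/
theorem isReduced_tensor_of_injective {F₀ K R L : Type*} [Field F₀] [Field K] [Algebra F₀ K]
    [FiniteDimensional F₀ K] [Algebra.IsSeparable F₀ K] [CommRing R] [Algebra F₀ R]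
    [Field L] [Algebra F₀ L] (f : R →ₐ[F₀] L) (hf : Function.Injective f) :
    IsReduced (R ⊗[F₀] K) := by
  haveI : Algebra.FormallyUnramified F₀ K := Algebra.FormallyUnramified.of_isSeparable F₀ K
  haveI hred1 : IsReduced (L ⊗[F₀] K) :=
    Algebra.FormallyUnramified.isReduced_of_field L _
  have hinj : Function.Injective (Algebra.TensorProduct.map f (AlgHom.id F₀ K)) :=
    Module.Flat.rTensor_preserves_injective_linearMap (R := F₀) (M := K) f.toLinearMap hf
  exact isReduced_of_injective _ hinj

/-- a function field with a separating variable is "separable": `K ⊗ E` is reduced for every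
field extension `E/k` (abstract form) -/
theorem isReduced_tensor_of_separating' {k F₀ K : Type*} [Field k] [Field F₀] [Field K]
    [Algebra k F₀] [Algebra F₀ K] [Algebra k K] [IsScalarTower k F₀ K]
    (e₀ : RatFunc k ≃ₐ[k] F₀) [FiniteDimensional F₀ K] [Algebra.IsSeparable F₀ K]
    (E : Type*) [Field E] [Algebra k E] : IsReduced (K ⊗[k] E) := by
  haveI hdomR : IsDomain (RatFunc k ⊗[k] E) := isDomain_ratFunc_tensor E
  haveI hdom : IsDomain (F₀ ⊗[k] E) :=
    (Algebra.TensorProduct.congr e₀.symm
      (AlgEquiv.refl (R := k) (A₁ := E))).toMulEquiv.isDomain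
  haveI hred2 : IsReduced ((F₀ ⊗[k] E) ⊗[F₀] K) :=
    isReduced_tensor_of_injective
      (IsScalarTower.toAlgHom F₀ (F₀ ⊗[k] E) (FractionRing (F₀ ⊗[k] E)))
      (IsFractionRing.injective _ _)
  let e : K ⊗[k] E ≃ₐ[F₀] (F₀ ⊗[k] E) ⊗[F₀] K :=
    (Algebra.TensorProduct.cancelBaseChange k F₀ F₀ K E).symm.trans
      (Algebra.TensorProduct.comm F₀ K (F₀ ⊗[k] E))
  exact isReduced_of_injective e.toRingEquiv.toRingHom e.injective

theorem isReduced_tensor_of_separating {k K : Type*} [Field k] [Field K] [Algebra k K] {x : K}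
    (hx : Transcendental k x)
    [FiniteDimensional k⟮x⟯ K] [Algebra.IsSeparable k⟮x⟯ K] (E : Type*) [Field E] [Algebra k E] :
    IsReduced (K ⊗[k] E) :=
  isReduced_tensor_of_separating' (RatFunc.algEquivOfTranscendental x hx) E

end reduced

section geometric

/-- `F ⊗ A` is a field for `F/k` finite purely inseparable and `A` a field (as a ring), as soon
as it is reduced -/
theorem isField_tensor_of_isPurelyInseparable' {k : Type*} [Field k] (F : Type*) [Field F]
    [Algebra k F] [FiniteDimensional k F] [IsPurelyInseparable k F] (A : Type*) [CommRing A]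
    [Algebra k A] (hA : IsField A) [hred : IsReduced (F ⊗[k] A)] : IsField (F ⊗[k] A) := by
  haveI : Nontrivial A := hA.nontrivial
  have hinjA : Function.Injective (Algebra.TensorProduct.includeRight : A →ₐ[k] F ⊗[k] A) :=
    Algebra.TensorProduct.includeRight_injective (algebraMap k F).injective
  haveI : Nontrivial (F ⊗[k] A) := hinjA.nontrivial
  obtain ⟨q, hq⟩ := ExpChar.exists k
  haveI : ExpChar (F ⊗[k] A) q :=
    expChar_of_injective_ringHom (algebraMap k (F ⊗[k] A)).injective q
  obtain ⟨N, hN⟩ : ∃ N, N = q ^ IsPurelyInseparable.exponent k F := ⟨_, rfl⟩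
  have hN0 : N ≠ 0 := by
    rw [hN]
    exact pow_ne_zero _ (expChar_pos k q).ne'
  have hFN : ∀ f : F, ∃ φ : k, f ^ N = algebraMap k F φ := by
    intro f
    obtain ⟨φ, hφ⟩ := IsPurelyInseparable.exponent_def' k q f
    exact ⟨φ, by rw [hN, ← hφ]⟩
  have hpow : ∀ ξ : F ⊗[k] A, ∃ γ : A, ξ ^ N = 1 ⊗ₜ γ := by
    intro ξ
    induction ξ using TensorProduct.induction_on with
    | zero => exact ⟨0, by rw [zero_pow hN0, TensorProduct.tmul_zero]⟩
    | tmul f c =>
      obtain ⟨φ, hφ⟩ := hFN f
      refine ⟨φ • c ^ N, ?_⟩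
      rw [Algebra.TensorProduct.tmul_pow, hφ, Algebra.algebraMap_eq_smul_one,
        TensorProduct.smul_tmul]
    | add x y hx hy =>
      obtain ⟨γ, hγ⟩ := hx
      obtain ⟨γ', hγ'⟩ := hy
      refine ⟨γ + γ', ?_⟩
      rw [hN, add_pow_expChar_pow, ← hN, hγ, hγ', TensorProduct.tmul_add]
  refine ⟨⟨0, 1, zero_ne_one⟩, mul_comm, ?_⟩
  intro ξ hξ
  obtain ⟨γ, hγ⟩ := hpow ξ
  have hξN : ξ ^ N ≠ 0 := by
    intro h0
    exact hξ (IsNilpotent.eq_zero ⟨N, h0⟩)
  have hγ0 : γ ≠ 0 := by
    rintro rfl
    rw [TensorProduct.tmul_zero] at hγ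
    exact hξN hγ
  obtain ⟨γ', hγ'⟩ := hA.mul_inv_cancel hγ0
  obtain ⟨M, hM⟩ : ∃ M, N = M + 1 := ⟨N - 1, by omega⟩
  refine ⟨ξ ^ M * (1 ⊗ₜ γ'), ?_⟩
  rw [← mul_assoc, ← pow_succ', ← hM, hγ, Algebra.TensorProduct.tmul_mul_tmul, one_mul, hγ']
  rfl

/-- the purely inseparable step -/
theorem isField_of_tower {k E k'' K : Type*} [Field k] [Field E] [Field k''] [Field K]
    [Algebra k E] [Algebra E k''] [Algebra k k''] [IsScalarTower k E k''] [Algebra k K]
    [FiniteDimensional E k''] [IsPurelyInseparable E k''] (hA : IsField (E ⊗[k] K))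
    [hred : IsReduced (k'' ⊗[k] K)] : IsField (k'' ⊗[k] K) := by
  let e : k'' ⊗[E] (E ⊗[k] K) ≃ₐ[E] k'' ⊗[k] K :=
    Algebra.TensorProduct.cancelBaseChange k E E k'' K
  haveI : IsReduced (k'' ⊗[E] (E ⊗[k] K)) :=
    isReduced_of_injective e.toRingEquiv.toRingHom e.injective
  have h1 : IsField (k'' ⊗[E] (E ⊗[k] K)) := isField_tensor_of_isPurelyInseparable' k'' _ hA
  exact MulEquiv.isField h1 e.symm.toMulEquiv

/-- the separable step: if `k` is algebraically closed in `K` and `E/k` is finite separable,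
then `E ⊗ K` is a field -/
theorem isField_tensor_of_algClosedIn {k K : Type*} [Field k] [Field K] [Algebra k K]
    (hcl : ∀ y : K, IsAlgebraic k y → y ∈ Set.range (algebraMap k K))
    (E : Type*) [Field E] [Algebra k E] [FiniteDimensional k E] [Algebra.IsSeparable k E] :
    IsField (E ⊗[k] K) := by
  let pb : PowerBasis k E := Field.powerBasisOfFiniteOfSeparable k E
  let f : k[X] := minpoly k pb.gen
  have hfm : f.Monic := minpoly.monic pb.isIntegral_gen
  have hfi : Irreducible f := minpoly.irreducible pb.isIntegral_gen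
  have hfK : Irreducible (f.map (algebraMap k K)) :=
    Groth.Agent.Lib.helper16.FG.irreducible_map_of_algClosedIn hcl hfm hfi
  have : Fact (Irreducible (f.map (algebraMap k K))) := ⟨hfK⟩
  let E' := AdjoinRoot (f.map (algebraMap k K))
  have hroot : aeval (AdjoinRoot.root (f.map (algebraMap k K))) f = 0 := by
    rw [aeval_def, IsScalarTower.algebraMap_eq k K (AdjoinRoot (f.map (algebraMap k K))),
      ← Polynomial.eval₂_map, AdjoinRoot.algebraMap_eq]
    exact AdjoinRoot.eval₂_root _
  let g : E →ₐ[k] E' := pb.lift (AdjoinRoot.root (f.map (algebraMap k K))) hroot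
  let ψ : K ⊗[k] E →ₐ[K] E' :=
    Algebra.TensorProduct.productLeftAlgHom (Algebra.ofId K E') g
  have hsurj : Function.Surjective ψ := by
    rw [← AlgHom.range_eq_top, eq_top_iff, ← AdjoinRoot.adjoinRoot_eq_top]
    apply Algebra.adjoin_le
    rintro x hx
    rw [Set.mem_singleton_iff] at hx
    rw [hx]
    refine ⟨(1 : K) ⊗ₜ[k] pb.gen, ?_⟩
    show ψ ((1 : K) ⊗ₜ[k] pb.gen) = _
    simp only [ψ, Algebra.TensorProduct.productLeftAlgHom, Algebra.TensorProduct.lift_tmul,
      map_one, one_mul, g, PowerBasis.lift_gen]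
  have hdim : finrank K (K ⊗[k] E) = finrank K E' := by
    rw [Module.finrank_baseChange, pb.finrank,
      (AdjoinRoot.powerBasis hfK.ne_zero).finrank, AdjoinRoot.powerBasis_dim,
      Polynomial.natDegree_map, pb.natDegree_minpoly]
  have hfinE : FiniteDimensional K E' := (AdjoinRoot.powerBasis hfK.ne_zero).finite
  have hinj : Function.Injective ψ :=
    (LinearMap.injective_iff_surjective_of_finrank_eq_finrank
      (f := ψ.toLinearMap) hdim).mpr hsurj
  let e : K ⊗[k] E ≃+* E' := RingEquiv.ofBijective ψ.toRingHom ⟨hinj, hsurj⟩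
  have hfld : IsField (K ⊗[k] E) := e.toMulEquiv.isField (Field.toIsField E')
  exact (Algebra.TensorProduct.comm k E K).toMulEquiv.isField hfld

universe u v

/-- **a function field with a separating variable is geometric** -/
theorem isGeometric_of_separating {k : Type u} {K : Type v} [Field k] [Field K] [Algebra k K]
    (hcl : ∀ y : K, IsAlgebraic k y → y ∈ Set.range (algebraMap k K)) {x : K}
    (hx : Transcendental k x) [FiniteDimensional k⟮x⟯ K] [Algebra.IsSeparable k⟮x⟯ K] :
    IsGeometric k K := by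
  intro k'' _ _ hfd
  haveI : IsReduced (K ⊗[k] k'') := isReduced_tensor_of_separating hx k''
  haveI : IsReduced (k'' ⊗[k] K) :=
    isReduced_of_injective (Algebra.TensorProduct.comm k k'' K).toRingEquiv.toRingHom
      (Algebra.TensorProduct.comm k k'' K).injective
  have hA : IsField ((separableClosure k k'') ⊗[k] K) :=
    isField_tensor_of_algClosedIn hcl (separableClosure k k'')
  exact isField_of_tower (E := separableClosure k k'') hA

end geometric

section sepext

universe u v

open Groth.Agent.Lib.helper16.FX Groth.Agent.Lib.helper16.FS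

theorem finiteDimensional_adjoin_of_le' {k k' K' : Type*} [Field k] [Field k'] [Field K']
    [Algebra k k'] [Algebra k' K'] [Algebra k K'] [IsScalarTower k k' K'] (x : K')
    (hfd : FiniteDimensional k⟮x⟯ K') : FiniteDimensional k'⟮x⟯ K' := by
  have hle : k⟮x⟯ ≤ (k'⟮x⟯).restrictScalars k := by
    rw [IntermediateField.adjoin_le_iff]
    intro y hy
    rw [Set.mem_singleton_iff.mp hy]
    exact IntermediateField.mem_adjoin_simple_self k' x
  letI : Algebra k⟮x⟯ k'⟮x⟯ := (IntermediateField.inclusion hle).toRingHom.toAlgebra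
  haveI : IsScalarTower k⟮x⟯ k'⟮x⟯ K' := IsScalarTower.of_algebraMap_eq fun _ => rfl
  exact Module.Finite.of_restrictScalars_finite k⟮x⟯ k'⟮x⟯ K'

/-- **S11010**: a finite separable extension of a geometric function field is geometric over its
constant field -/
theorem isGeometric_finite_separable (k k' : Type u) (K K' : Type v) [Field k] [Field k']
    [Field K] [Field K'] [Algebra k k'] [Algebra k K] [Algebra K K'] [Algebra k' K']
    [Algebra k K'] [IsScalarTower k k' K'] [IsScalarTower k K K'] [FiniteDimensional K K']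
    [Algebra.IsSeparable K K'] (hK : IsFunctionField k K) (hg : IsGeometric k K)
    (hK' : IsFunctionField k' K') : IsGeometric k' K' := by
  obtain ⟨x, hx, hsep⟩ := exists_separating hK hg
  haveI hfdx : FiniteDimensional k⟮x⟯ K := finiteDimensional_of_transcendental hK.1 hx
  obtain ⟨x', hx'def⟩ : ∃ x' : K', x' = algebraMap K K' x := ⟨_, rfl⟩
  have hx'k : Transcendental k x' := by
    rw [hx'def]
    exact (transcendental_algebraMap_iff (algebraMap K K').injective).mpr hx
  have hfd1 : FiniteDimensional k⟮x'⟯ K' :=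
    finiteDimensional_of_transcendental (isFF1_of_finite K' hK.1) hx'k
  haveI hfd2 : FiniteDimensional k'⟮x'⟯ K' := finiteDimensional_adjoin_of_le' x' hfd1
  have hx' : Transcendental k' x' := by
    intro halg
    obtain ⟨x₁, hx₁, -⟩ := hK'.1
    apply hx₁
    haveI h1 : Algebra.IsAlgebraic k' k'⟮x'⟯ :=
      IntermediateField.isAlgebraic_adjoin_simple halg.isIntegral
    haveI h2 : Algebra.IsAlgebraic k'⟮x'⟯ K' := inferInstance
    haveI h3 : Algebra.IsAlgebraic k' K' := Algebra.IsAlgebraic.trans k' k'⟮x'⟯ K'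
    exact Algebra.IsAlgebraic.isAlgebraic x₁
  -- separability over `k'(x')`
  haveI hsepK' : Algebra.IsSeparable k⟮x⟯ K' := Algebra.IsSeparable.trans k⟮x⟯ K K'
  have hmem : ∀ a : k⟮x⟯, algebraMap K K' (a : K) ∈ k'⟮x'⟯ := by
    intro a
    obtain ⟨a, ha⟩ := a
    show algebraMap K K' a ∈ k'⟮x'⟯
    induction ha using IntermediateField.adjoin_induction with
    | mem z hz =>
      rw [Set.mem_singleton_iff] at hz
      rw [hz, ← hx'def]
      exact IntermediateField.mem_adjoin_simple_self k' x'
    | algebraMap c =>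
      rw [← IsScalarTower.algebraMap_apply k K K', IsScalarTower.algebraMap_apply k k' K']
      exact IntermediateField.algebraMap_mem _ _
    | add x y _ _ hx hy => rw [map_add]; exact add_mem hx hy
    | inv x _ hx => rw [map_inv₀]; exact inv_mem hx
    | mul x y _ _ hx hy => rw [map_mul]; exact mul_mem hx hy
  let ι : k⟮x⟯ →+* k'⟮x'⟯ :=
    RingHom.codRestrict ((algebraMap K K').comp (algebraMap k⟮x⟯ K)) k'⟮x'⟯ hmem
  haveI hsep' : Algebra.IsSeparable k'⟮x'⟯ K' := by
    refine ⟨fun z => ?_⟩
    have h1 : ((minpoly k⟮x⟯ z).map ι).Separable :=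
      Polynomial.Separable.map (Algebra.IsSeparable.isSeparable k⟮x⟯ z)
    have h2 : aeval z ((minpoly k⟮x⟯ z).map ι) = 0 := by
      rw [aeval_def, eval₂_map]
      have : (algebraMap k'⟮x'⟯ K').comp ι = algebraMap k⟮x⟯ K' := rfl
      rw [this, ← aeval_def, minpoly.aeval]
    exact h1.of_dvd (minpoly.dvd k'⟮x'⟯ z h2)
  exact isGeometric_of_separating hK'.2 hx'

end sepext

end Groth.Agent.Lib.helper16.FCE
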