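import Groth.Prelude.Def_W4bk4goldsch45p2
import Mathlib

set_option autoImplicit false
set_option linter.style.haveILetI false

/-! Helper library (helper16): order sequences and Wronskians under scaling of the map. -/

namespace Groth.Agent.Lib.helper16.FW

open FunFld

section jumps

variable {R M : Type*} [Field R] [AddCommGroup M] [Module R M]

theorem image_Iio_succ (c : ℕ → M) (j : ℕ) :
    c '' Set.Iio (j + 1) = insert (c j) (c '' Set.Iio j) := by
  rw [← Set.image_insert_eq]
  congr 1
  ext m
  simp only [Set.mem_Iio, Set.mem_insert_iff]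
  omega

/-- triangular change of the column sequence does not change the spans of initial segments -/
theorem span_image_Iio_eq (c c' : ℕ → M) (u : ℕ → R) (hu : ∀ j, u j ≠ 0)
    (h : ∀ j, c' j - u j • c j ∈ Submodule.span R (c '' Set.Iio j)) (N : ℕ) :
    Submodule.span R (c' '' Set.Iio N) = Submodule.span R (c '' Set.Iio N) := by
  induction N with
  | zero => simp
  | succ N ih =>
    rw [image_Iio_succ, image_Iio_succ, Submodule.span_insert, Submodule.span_insert, ih]
    apply le_antisymm
    · apply sup_le _ le_sup_right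
      rw [Submodule.span_singleton_le_iff_mem]
      have : c' N = u N • c N + (c' N - u N • c N) := by abel
      rw [this]
      exact Submodule.add_mem _
        (Submodule.mem_sup_left (Submodule.smul_mem _ _ (Submodule.mem_span_singleton_self _)))
        (Submodule.mem_sup_right (h N))
    · apply sup_le _ le_sup_right
      rw [Submodule.span_singleton_le_iff_mem]
      have : c N = (u N)⁻¹ • c' N - (u N)⁻¹ • (c' N - u N • c N) := by
        rw [smul_sub, smul_smul, inv_mul_cancel₀ (hu N), one_smul]
        abel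
      rw [this]
      exact Submodule.sub_mem _
        (Submodule.mem_sup_left (Submodule.smul_mem _ _ (Submodule.mem_span_singleton_self _)))
        (Submodule.mem_sup_right (Submodule.smul_mem _ _ (h N)))

theorem isJump_iff_of_triangular (c c' : ℕ → M) (u : ℕ → R) (hu : ∀ j, u j ≠ 0)
    (h : ∀ j, c' j - u j • c j ∈ Submodule.span R (c '' Set.Iio j)) (j : ℕ) :
    IsJump R c' j ↔ IsJump R c j := by
  unfold IsJump
  rw [span_image_Iio_eq c c' u hu h j, not_iff_not]
  constructor
  · intro h1
    have : c j = (u j)⁻¹ • c' j - (u j)⁻¹ • (c' j - u j • c j) := by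
      rw [smul_sub, smul_smul, inv_mul_cancel₀ (hu j), one_smul]
      abel
    rw [this]
    exact Submodule.sub_mem _ (Submodule.smul_mem _ _ h1) (Submodule.smul_mem _ _ (h j))
  · intro h1
    have : c' j = u j • c j + (c' j - u j • c j) := by abel
    rw [this]
    exact Submodule.add_mem _ (Submodule.smul_mem _ _ h1) (h j)

/-- initial segments are spanned by their jump columns -/
theorem span_image_Iio_eq_span_jumps (c : ℕ → M) (N : ℕ) :
    Submodule.span R (c '' Set.Iio N) =
      Submodule.span R (c '' {j | j < N ∧ IsJump R c j}) := by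
  induction N with
  | zero =>
    have : {j | j < 0 ∧ IsJump R c j} = (∅ : Set ℕ) := by
      ext j; simp
    rw [this]
    simp
  | succ N ih =>
    rw [image_Iio_succ, Submodule.span_insert, ih]
    by_cases hj : IsJump R c N
    · have : {j | j < N + 1 ∧ IsJump R c j} = insert N {j | j < N ∧ IsJump R c j} := by
        ext j
        simp only [Set.mem_setOf_eq, Set.mem_insert_iff]
        constructor
        · rintro ⟨h1, h2⟩
          rcases Nat.lt_succ_iff_lt_or_eq.mp h1 with h | h
          · exact Or.inr ⟨h, h2⟩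
          · exact Or.inl h
        · rintro (h | ⟨h1, h2⟩)
          · rw [h]; exact ⟨Nat.lt_succ_self N, hj⟩
          · exact ⟨Nat.lt_succ_of_lt h1, h2⟩
      rw [this, Set.image_insert_eq, Submodule.span_insert]
    · have hmem : c N ∈ Submodule.span R (c '' Set.Iio N) := by
        unfold IsJump at hj
        exact not_not.mp hj
      rw [ih] at hmem
      have : {j | j < N + 1 ∧ IsJump R c j} = {j | j < N ∧ IsJump R c j} := by
        ext j
        simp only [Set.mem_setOf_eq]
        constructor
        · rintro ⟨h1, h2⟩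
          rcases Nat.lt_succ_iff_lt_or_eq.mp h1 with h | h
          · exact ⟨h, h2⟩
          · rw [h] at h2; exact absurd h2 hj
        · rintro ⟨h1, h2⟩
          exact ⟨Nat.lt_succ_of_lt h1, h2⟩
      rw [this]
      apply le_antisymm
      · exact sup_le ((Submodule.span_singleton_le_iff_mem _ _).mpr hmem) le_rfl
      · exact le_sup_right

/-- determinant of a matrix of selected columns under a triangular change of the column
sequence -/
theorem det_of_triangular {n : ℕ} (c c' : ℕ → (Fin n → R)) (u : ℕ → R)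
    (h : ∀ j, c' j - u j • c j ∈ Submodule.span R (c '' Set.Iio j))
    (colIdx : Fin n → ℕ)
    (hstar : ∀ (l' : Fin n) (j : ℕ), j < colIdx l' → IsJump R c j → ∃ m : Fin n, m < l' ∧
      colIdx m = j) :
    (Matrix.of fun i l' => c' (colIdx l') i).det =
      (∏ l', u (colIdx l')) * (Matrix.of fun i l' => c (colIdx l') i).det := by
  classical
  -- coefficients
  have hcoef : ∀ l' : Fin n, ∃ f : Fin n → R, (∀ m, ¬ m < l' → f m = 0) ∧
      c' (colIdx l') - u (colIdx l') • c (colIdx l') = ∑ m, f m • c (colIdx m) := by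
    intro l'
    have h1 := h (colIdx l')
    rw [span_image_Iio_eq_span_jumps] at h1
    have h2 : Submodule.span R (c '' {j | j < colIdx l' ∧ IsJump R c j}) ≤
        Submodule.span R ((fun m : Fin n => c (colIdx m)) '' {m | m < l'}) := by
      apply Submodule.span_mono
      rintro _ ⟨j, ⟨hj1, hj2⟩, rfl⟩
      obtain ⟨m, hm, hmj⟩ := hstar l' j hj1 hj2
      exact ⟨m, hm, by rw [← hmj]⟩
    obtain ⟨g, hg1, hg2⟩ := (Finsupp.mem_span_image_iff_linearCombination R).mp (h2 h1)
    refine ⟨fun m => g m, fun m hm => ?_, ?_⟩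
    · by_contra hne
      have : m ∈ g.support := Finsupp.mem_support_iff.mpr hne
      exact hm ((Finsupp.mem_supported R g).mp hg1 this)
    · rw [← hg2, Finsupp.linearCombination_apply, Finsupp.sum_fintype]
      intro m
      rw [zero_smul]
  choose f hf0 hf using hcoef
  let U : Matrix (Fin n) (Fin n) R := fun m l' => f l' m + if m = l' then u (colIdx l') else 0
  have hMU : (Matrix.of fun i l' => c' (colIdx l') i) =
      (Matrix.of fun i l' => c (colIdx l') i) * U := by
    ext i l'
    rw [Matrix.mul_apply]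
    simp only [Matrix.of_apply, U]
    have h1 : c' (colIdx l') = u (colIdx l') • c (colIdx l') + ∑ m, f l' m • c (colIdx m) := by
      rw [← hf l']; abel
    rw [h1]
    simp only [Pi.add_apply, Pi.smul_apply, Finset.sum_apply, smul_eq_mul, mul_add,
      Finset.sum_add_distrib, mul_ite, mul_zero, Finset.sum_ite_eq', Finset.mem_univ, if_true]
    rw [add_comm]
    congr 1
    · exact Finset.sum_congr rfl fun m _ => mul_comm _ _
    · exact mul_comm _ _
  have hU : U.BlockTriangular id := by
    intro m l' hlt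
    simp only [id] at hlt
    simp only [U]
    rw [hf0 l' m (not_lt.mpr hlt.le), if_neg (ne_of_gt hlt), add_zero]
  rw [hMU, Matrix.det_mul, Matrix.det_of_upperTriangular hU, mul_comm]
  congr 1
  apply Finset.prod_congr rfl
  intro l' _
  simp only [U]
  rw [hf0 l' l' (lt_irrefl _), zero_add]
  simp

end jumps

section hasse

variable {k K : Type*} [Field k] [Field K] [Algebra k K]

/-- Leibniz rule for the columns of `H(y φ)` -/
theorem hcol_smul_succ {ι : Type*} (τ : K →ₐ[k] K) (H : K →ₐ[k] PowerSeries K) (y : K)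
    (φ : ι → K) (j : ℕ) :
    hcol τ H (y • φ) (j + 1) =
      ∑ p ∈ Finset.HasAntidiagonal.antidiagonal j, LocRes.hasseD H p.1 y • hcol τ H φ (p.2 + 1) := by
  ext i
  show LocRes.hasseD H j ((y • φ) i) = _
  rw [Finset.sum_apply, Pi.smul_apply, smul_eq_mul, LocRes.hasseD_apply, map_mul,
    PowerSeries.coeff_mul]
  apply Finset.sum_congr rfl
  intro p _
  rfl

theorem hcol_smul_zero {ι : Type*} (τ : K →ₐ[k] K) (H : K →ₐ[k] PowerSeries K) (y : K)
    (φ : ι → K) : hcol τ H (y • φ) 0 = τ y • hcol τ H φ 0 := by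
  ext i
  show τ ((y • φ) i) = τ y • τ (φ i)
  rw [Pi.smul_apply, smul_eq_mul, map_mul, smul_eq_mul]

/-- the scaling factors -/
def scal (τ : K →ₐ[k] K) (y : K) : ℕ → K
  | 0 => τ y
  | _ + 1 => y

theorem scal_ne_zero (τ : K →ₐ[k] K) {y : K} (hy : y ≠ 0) (j : ℕ) : scal τ y j ≠ 0 := by
  cases j with
  | zero => exact (map_ne_zero_iff τ τ.toRingHom.injective).mpr hy
  | succ j => exact hy

theorem hcol_smul_sub_mem {ι : Type*} (τ : K →ₐ[k] K) {s : K} (H : K →ₐ[k] PowerSeries K)
    (hH : LocRes.IsHasseFamily s H) (y : K) (φ : ι → K) (j : ℕ) :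
    hcol τ H (y • φ) j - scal τ y j • hcol τ H φ j ∈
      Submodule.span K (hcol τ H φ '' Set.Iio j) := by
  cases j with
  | zero =>
    rw [hcol_smul_zero]
    show τ y • hcol τ H φ 0 - τ y • hcol τ H φ 0 ∈ _
    rw [sub_self]
    exact Submodule.zero_mem _
  | succ j =>
    have h0 : LocRes.hasseD H 0 y = y := by
      rw [LocRes.hasseD_apply, PowerSeries.coeff_zero_eq_constantCoeff]
      exact hH.2 y
    have hmem : ((0, j) : ℕ × ℕ) ∈ Finset.HasAntidiagonal.antidiagonal j := by
      rw [Finset.HasAntidiagonal.mem_antidiagonal]; simp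
    rw [hcol_smul_succ, ← Finset.add_sum_erase _ _ hmem]
    show (LocRes.hasseD H 0 y • hcol τ H φ (j + 1) + _) - y • hcol τ H φ (j + 1) ∈ _
    rw [h0, add_sub_cancel_left]
    refine Submodule.sum_mem _ fun p hp => ?_
    refine Submodule.smul_mem _ _ (Submodule.subset_span ⟨p.2 + 1, ?_, rfl⟩)
    rw [Finset.mem_erase, Finset.HasAntidiagonal.mem_antidiagonal] at hp
    obtain ⟨hne, hsum⟩ := hp
    rw [Set.mem_Iio]
    have : p.1 ≠ 0 := by
      intro h0'
      apply hne
      ext
      · exact h0'
      · show p.2 = j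
        omega
    omega

theorem isJump_hcol_smul {ι : Type*} (τ : K →ₐ[k] K) {s : K} (H : K →ₐ[k] PowerSeries K)
    (hH : LocRes.IsHasseFamily s H) {y : K} (hy : y ≠ 0) (φ : ι → K) (j : ℕ) :
    IsJump K (hcol τ H (y • φ)) j ↔ IsJump K (hcol τ H φ) j :=
  isJump_iff_of_triangular _ _ (scal τ y) (scal_ne_zero τ hy) (hcol_smul_sub_mem τ H hH y φ) j

theorem isOrders_hcol_smul {ι : Type*} (τ : K →ₐ[k] K) {s : K} (H : K →ₐ[k] PowerSeries K)
    (hH : LocRes.IsHasseFamily s H) {y : K} (hy : y ≠ 0) (φ : ι → K) {n : ℕ} (J : Fin n → ℕ) :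
    IsOrders K (hcol τ H (y • φ)) J ↔ IsOrders K (hcol τ H φ) J := by
  unfold IsOrders
  simp only [isJump_hcol_smul τ H hH hy φ]

/-- column indices of the Wronskian matrix -/
def colIdx {n : ℕ} (J : Fin n → ℕ) : Fin (n + 1) → ℕ :=
  Fin.cases 0 (fun l => J l + 1)

theorem wrMat_eq {n : ℕ} (τ : K →ₐ[k] K) (H : K →ₐ[k] PowerSeries K) (φ : Fin (n + 1) → K)
    (J : Fin n → ℕ) :
    wrMat τ H φ J = Matrix.of fun i l' => hcol τ H φ (colIdx J l') i := by
  ext i l'
  refine Fin.cases ?_ (fun l => ?_) l'
  · rfl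
  · rfl

theorem det_wrMat_smul {n : ℕ} (τ : K →ₐ[k] K) {s : K} (H : K →ₐ[k] PowerSeries K)
    (hH : LocRes.IsHasseFamily s H) (y : K) (φ : Fin (n + 1) → K) (J : Fin n → ℕ)
    (hJ : IsOrders K (hcol τ H φ) J) :
    (wrMat τ H (y • φ) J).det = τ y * y ^ n * (wrMat τ H φ J).det := by
  rw [wrMat_eq, wrMat_eq,
    det_of_triangular (hcol τ H φ) (hcol τ H (y • φ)) (scal τ y) (hcol_smul_sub_mem τ H hH y φ)
      (colIdx J)]
  · congr 1
    rw [Fin.prod_univ_succ]
    have h1 : ∀ l : Fin n, scal τ y (colIdx J l.succ) = y := fun l => rfl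
    simp only [h1, Finset.prod_const, Finset.card_univ, Fintype.card_fin]
    rfl
  · intro l' j hj hjump
    obtain ⟨hmono, hiff⟩ := hJ
    cases j with
    | zero =>
      refine ⟨0, ?_, rfl⟩
      refine Fin.cases ?_ (fun l => ?_) l' (motive := fun l' => 0 < colIdx J l' → 0 < l') hj
      · intro h; exact absurd h (lt_irrefl _)
      · intro _; exact Fin.succ_pos l
    | succ j =>
      obtain ⟨m, hm⟩ := (hiff j).mpr hjump
      refine ⟨m.succ, ?_, ?_⟩
      · refine Fin.cases ?_ (fun l => ?_) l'
          (motive := fun l' => j + 1 < colIdx J l' → m.succ < l') hj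
        · intro h; exact absurd h (Nat.not_lt_zero _)
        · intro h
          have h' : j + 1 < J l + 1 := h
          have h2 : J m < J l := by
            rw [hm]; omega
          exact Fin.succ_lt_succ_iff.mpr (hmono.lt_iff_lt.mp h2)
      · show J m + 1 = j + 1
        rw [hm]

end hasse

end Groth.Agent.Lib.helper16.FW
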