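import Groth.Agent.Lib.helper16.FHasseU
import Groth.Agent.Lib.helper16.FWronskSmul

/-! Helper library (helper16): change of the separating variable in Hasse derivatives. -/

set_option autoImplicit false

namespace Groth.Agent.Lib.helper16.FHs

open scoped IntermediateField
open FunFld LocRes

section cv

universe u v

variable {k : Type u} {K : Type v} [Field k] [Field K] [Algebra k K]

/-- the colIdx condition needed by `FW.det_of_triangular`, from `IsOrders` -/
theorem hstar_of_isOrders {M : Type*} [AddCommGroup M] [Module K M] {c : ℕ → M} {n : ℕ}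
    {J : Fin n → ℕ} (hJ : IsOrders K c J) (l' : Fin (n + 1)) (j : ℕ) (hj : j < FW.colIdx J l')
    (hjump : IsJump K c j) : ∃ m : Fin (n + 1), m < l' ∧ FW.colIdx J m = j := by
  obtain ⟨hmono, hiff⟩ := hJ
  cases j with
  | zero =>
    refine ⟨0, ?_, rfl⟩
    refine Fin.cases ?_ (fun l => ?_) l' (motive := fun l' => 0 < FW.colIdx J l' → 0 < l') hj
    · intro h; exact absurd h (lt_irrefl _)
    · intro _; exact Fin.succ_pos l
  | succ j =>
    obtain ⟨m, hm⟩ := (hiff j).mpr hjump
    refine ⟨m.succ, ?_, ?_⟩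
    · refine Fin.cases ?_ (fun l => ?_) l'
        (motive := fun l' => j + 1 < FW.colIdx J l' → m.succ < l') hj
      · intro h; exact absurd h (Nat.not_lt_zero _)
      · intro h
        have h' : j + 1 < J l + 1 := h
        have h2 : J m < J l := by
          rw [hm]; omega
        exact Fin.succ_lt_succ_iff.mpr (hmono.lt_iff_lt.mp h2)
    · show J m + 1 = j + 1
      rw [hm]

/-- the substitution series `H_t(s) - s` -/
noncomputable def subSer (Ht : K →ₐ[k] PowerSeries K) (s : K) : PowerSeries K :=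
  Ht s - PowerSeries.C s

theorem constantCoeff_subSer {t : K} {Ht : K →ₐ[k] PowerSeries K} (hHt : IsHasseFamily t Ht)
    (s : K) : PowerSeries.constantCoeff (subSer Ht s) = 0 := by
  unfold subSer
  rw [map_sub, hHt.2, PowerSeries.constantCoeff_C, sub_self]

theorem hasSubst_subSer {t : K} {Ht : K →ₐ[k] PowerSeries K} (hHt : IsHasseFamily t Ht) (s : K) :
    PowerSeries.HasSubst (subSer Ht s) :=
  PowerSeries.HasSubst.of_constantCoeff_zero' (constantCoeff_subSer hHt s)

theorem coeff_pow_of_lt {b : PowerSeries K} (hb : PowerSeries.constantCoeff b = 0) {j d : ℕ}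
    (hjd : j < d) : PowerSeries.coeff j (b ^ d) = 0 := by
  have h1 : (PowerSeries.X : PowerSeries K) ∣ b := PowerSeries.X_dvd_iff.mpr hb
  have h2 : (PowerSeries.X : PowerSeries K) ^ d ∣ b ^ d := pow_dvd_pow_of_dvd h1 d
  exact PowerSeries.X_pow_dvd_iff.mp h2 j hjd

theorem coeff_pow_self {b : PowerSeries K} (hb : PowerSeries.constantCoeff b = 0) (j : ℕ) :
    PowerSeries.coeff j (b ^ j) = (PowerSeries.coeff 1 b) ^ j := by
  obtain ⟨b', rfl⟩ : (PowerSeries.X : PowerSeries K) ∣ b := PowerSeries.X_dvd_iff.mpr hb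
  rw [mul_pow, PowerSeries.coeff_X_pow_mul', if_pos le_rfl, Nat.sub_self,
    PowerSeries.coeff_zero_eq_constantCoeff_apply, map_pow]
  congr 1
  rw [show (1 : ℕ) = 0 + 1 from rfl, PowerSeries.coeff_succ_X_mul,
    PowerSeries.coeff_zero_eq_constantCoeff_apply]

/-- `H_t = (substitute H_t(s) - s) ∘ H_s` -/
theorem hasse_change (hK : IsFunctionField k K) (hg : IsGeometric k K) {s t : K}
    {Hs Ht : K →ₐ[k] PowerSeries K} (hHs : IsHasseFamily s Hs) (hHt : IsHasseFamily t Ht) (y : K) :
    Ht y = PowerSeries.subst (subSer Ht s) (Hs y) := by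
  haveI := isSeparable_of_isHasseFamily hK hg hHs
  have hb := hasSubst_subSer hHt s
  let Ψ : K →+* PowerSeries K :=
    (PowerSeries.substAlgHom (R := K) hb).toRingHom.comp Hs.toRingHom
  have hΨ : ∀ z, Ψ z = PowerSeries.subst (subSer Ht s) (Hs z) := by
    intro z
    show PowerSeries.substAlgHom (R := K) hb (Hs z) = _
    rw [PowerSeries.coe_substAlgHom]
  have hcc : ∀ f : PowerSeries K, PowerSeries.constantCoeff (PowerSeries.subst (subSer Ht s) f) =
      PowerSeries.constantCoeff f := by
    intro f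
    rw [← PowerSeries.coeff_zero_eq_constantCoeff_apply, PowerSeries.coeff_subst' hb,
      finsum_eq_single _ 0]
    · rw [pow_zero, PowerSeries.coeff_one, if_pos rfl, smul_eq_mul, mul_one,
        PowerSeries.coeff_zero_eq_constantCoeff_apply]
    · intro d hd
      rw [coeff_pow_of_lt (constantCoeff_subSer hHt s) (Nat.pos_of_ne_zero hd), smul_zero]
  have hAB : Ht.toRingHom = Ψ := by
    apply eq_of_agree (k := k) (PowerSeries.constantCoeff (R := K)) Ht.toRingHom Ψ _ _ s
    · show Ht s = Ψ s
      rw [hΨ, hHs.1, ← PowerSeries.coe_substAlgHom hb, map_add, PowerSeries.substAlgHom_X]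
      have : PowerSeries.substAlgHom (R := K) hb (PowerSeries.C s) = PowerSeries.C s := by
        have := (PowerSeries.substAlgHom (R := K) hb).commutes s
        rwa [PowerSeries.algebraMap_apply, Algebra.algebraMap_self, RingHom.id_apply] at this
      rw [this]
      unfold subSer
      ring
    · apply RingHom.ext
      intro z
      show PowerSeries.constantCoeff (Ht z) = PowerSeries.constantCoeff (Ψ z)
      rw [hΨ, hcc, hHt.2, hHs.2]
    · intro c
      show Ht (algebraMap k K c) = Ψ (algebraMap k K c)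
      rw [hΨ, Ht.commutes, Hs.commutes, PowerSeries.algebraMap_apply,
        ← PowerSeries.coe_substAlgHom hb]
      have := (PowerSeries.substAlgHom (R := K) hb).commutes (algebraMap k K c)
      rw [PowerSeries.algebraMap_apply, Algebra.algebraMap_self, RingHom.id_apply] at this
      exact this.symm
  rw [← hΨ]
  exact RingHom.congr_fun hAB y

/-- Hasse derivatives with respect to `t` in terms of those with respect to `s` -/
theorem hasseD_change (hK : IsFunctionField k K) (hg : IsGeometric k K) {s t : K}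
    {Hs Ht : K →ₐ[k] PowerSeries K} (hHs : IsHasseFamily s Hs) (hHt : IsHasseFamily t Ht)
    (j : ℕ) (y : K) :
    hasseD Ht j y = ∑ d ∈ Finset.range (j + 1),
      PowerSeries.coeff j (subSer Ht s ^ d) * hasseD Hs d y := by
  have hb := hasSubst_subSer hHt s
  rw [hasseD_apply, hasse_change hK hg hHs hHt y, PowerSeries.coeff_subst' hb,
    finsum_eq_sum_of_support_subset]
  · apply Finset.sum_congr rfl
    intro d _
    rw [smul_eq_mul, mul_comm, hasseD_apply]
  · intro d hd
    rw [Function.mem_support] at hd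
    rw [Finset.coe_range, Set.mem_Iio]
    by_contra hlt
    apply hd
    rw [coeff_pow_of_lt (constantCoeff_subSer hHt s) (by omega), smul_zero]

theorem coeff_one_subSer (Ht : K →ₐ[k] PowerSeries K) (s : K) :
    PowerSeries.coeff 1 (subSer Ht s) = hasseD Ht 1 s := by
  unfold subSer
  rw [map_sub, PowerSeries.coeff_C, if_neg one_ne_zero, sub_zero, hasseD_apply]

/-- chain rule for first Hasse derivatives -/
theorem hasseD_one_mul (hK : IsFunctionField k K) (hg : IsGeometric k K) {s t : K}
    {Hs Ht : K →ₐ[k] PowerSeries K} (hHs : IsHasseFamily s Hs) (hHt : IsHasseFamily t Ht) :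
    hasseD Ht 1 s * hasseD Hs 1 t = 1 := by
  have h1 := hasseD_change hK hg hHs hHt 1 t
  rw [Finset.sum_range_succ, Finset.sum_range_one, pow_zero, PowerSeries.coeff_one,
    if_neg one_ne_zero, zero_mul, zero_add, pow_one, coeff_one_subSer] at h1
  rw [← h1, hasseD_apply, hHt.1, map_add, PowerSeries.coeff_C, if_neg one_ne_zero,
    PowerSeries.coeff_one_X, zero_add]

theorem hasseD_one_ne_zero (hK : IsFunctionField k K) (hg : IsGeometric k K) {s t : K}
    {Hs Ht : K →ₐ[k] PowerSeries K} (hHs : IsHasseFamily s Hs) (hHt : IsHasseFamily t Ht) :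
    hasseD Ht 1 s ≠ 0 := by
  intro h
  have := hasseD_one_mul hK hg hHs hHt
  rw [h, zero_mul] at this
  exact zero_ne_one this

/-- scaling factors for the change of variable -/
noncomputable def cvScal (Ht : K →ₐ[k] PowerSeries K) (s : K) : ℕ → K
  | 0 => 1
  | j + 1 => hasseD Ht 1 s ^ j

theorem hcol_change_sub_mem {ι : Type*} (hK : IsFunctionField k K) (hg : IsGeometric k K)
    (τ : K →ₐ[k] K) {s t : K}
    {Hs Ht : K →ₐ[k] PowerSeries K} (hHs : IsHasseFamily s Hs) (hHt : IsHasseFamily t Ht)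
    (φ : ι → K) (j : ℕ) :
    hcol τ Ht φ j - cvScal Ht s j • hcol τ Hs φ j ∈
      Submodule.span K (hcol τ Hs φ '' Set.Iio j) := by
  cases j with
  | zero =>
    show hcol τ Ht φ 0 - (1 : K) • hcol τ Hs φ 0 ∈ _
    rw [one_smul]
    have : hcol τ Ht φ 0 = hcol τ Hs φ 0 := rfl
    rw [this, sub_self]
    exact Submodule.zero_mem _
  | succ j =>
    have h1 : hcol τ Ht φ (j + 1) = ∑ d ∈ Finset.range (j + 1),
        PowerSeries.coeff j (subSer Ht s ^ d) • hcol τ Hs φ (d + 1) := by
      funext i
      show hasseD Ht j (φ i) = _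
      rw [hasseD_change hK hg hHs hHt, Finset.sum_apply]
      apply Finset.sum_congr rfl
      intro d _
      rfl
    rw [h1, Finset.sum_range_succ, coeff_pow_self (constantCoeff_subSer hHt s), coeff_one_subSer]
    show _ + hasseD Ht 1 s ^ j • hcol τ Hs φ (j + 1) - hasseD Ht 1 s ^ j • hcol τ Hs φ (j + 1) ∈ _
    rw [add_sub_cancel_right]
    apply Submodule.sum_mem
    intro d hd
    apply Submodule.smul_mem
    apply Submodule.subset_span
    refine ⟨d + 1, ?_, rfl⟩
    rw [Finset.mem_range] at hd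
    rw [Set.mem_Iio]
    omega

theorem cvScal_ne_zero (hK : IsFunctionField k K) (hg : IsGeometric k K) {s t : K}
    {Hs Ht : K →ₐ[k] PowerSeries K} (hHs : IsHasseFamily s Hs) (hHt : IsHasseFamily t Ht)
    (j : ℕ) : cvScal Ht s j ≠ 0 := by
  cases j with
  | zero => exact one_ne_zero
  | succ j => exact pow_ne_zero _ (hasseD_one_ne_zero hK hg hHs hHt)

/-- S12598 -/
theorem isOrders_change_variable (hK : IsFunctionField k K) (hg : IsGeometric k K) {n : ℕ}
    (φ : Fin (n + 1) → K) (τ : K →ₐ[k] K) {s t : K}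
    {Hs Ht : K →ₐ[k] PowerSeries K} (hHs : IsHasseFamily s Hs) (hHt : IsHasseFamily t Ht) :
    (∀ J : Fin n → ℕ, IsOrders K (hcol τ Ht φ) J ↔ IsOrders K (hcol τ Hs φ) J) ∧
    ∀ J : Fin n → ℕ, IsOrders K (hcol τ Hs φ) J →
      (wrMat τ Ht φ J).det = hasseD Ht 1 s ^ (∑ l, J l) * (wrMat τ Hs φ J).det := by
  have hjump : ∀ j, IsJump K (hcol τ Ht φ) j ↔ IsJump K (hcol τ Hs φ) j :=
    FW.isJump_iff_of_triangular _ _ (cvScal Ht s) (cvScal_ne_zero hK hg hHs hHt)
      (hcol_change_sub_mem hK hg τ hHs hHt φ)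
  refine ⟨fun J => ?_, fun J hJ => ?_⟩
  · unfold IsOrders
    simp only [hjump]
  · rw [FW.wrMat_eq, FW.wrMat_eq,
      FW.det_of_triangular (hcol τ Hs φ) (hcol τ Ht φ) (cvScal Ht s)
        (hcol_change_sub_mem hK hg τ hHs hHt φ) (FW.colIdx J) (hstar_of_isOrders hJ)]
    congr 1
    rw [Fin.prod_univ_succ]
    have h1 : ∀ l : Fin n, cvScal Ht s (FW.colIdx J l.succ) = hasseD Ht 1 s ^ J l := fun l => rfl
    have h0 : cvScal Ht s (FW.colIdx J 0) = 1 := rfl
    simp only [h1, h0, one_mul]
    rw [Finset.prod_pow_eq_pow_sum]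

end cv

end Groth.Agent.Lib.helper16.FHs
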