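import Groth.Agent.Lib.helper16.FHasseAdapt
import Groth.Agent.Lib.helper16.FFWeil
import Groth.Agent.Lib.helper16.FFMore

/-! Helper library (helper16): canonical orders at a place and gap numbers. -/

set_option autoImplicit false

namespace Groth.Agent.Lib.helper16.FHL

open FunFld WithZero LocRes
open Groth.Agent.Lib.helper16

universe u v

variable {k : Type u} {K : Type v} [Field k] [Field K] [Algebra k K]

theorem mem_span_smul_iff {n : ℕ} (φ : Fin n → K) (y f : K) :
    f ∈ Submodule.span k (Set.range (y • φ)) ↔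
      ∃ g ∈ Submodule.span k (Set.range φ), f = y * g := by
  constructor
  · intro hf
    obtain ⟨a, rfl⟩ := (Submodule.mem_span_range_iff_exists_fun k).mp hf
    refine ⟨∑ i, a i • φ i, ?_, ?_⟩
    · exact Submodule.sum_mem _ fun i _ => Submodule.smul_mem _ _ (Submodule.subset_span ⟨i, rfl⟩)
    · rw [Finset.mul_sum]
      apply Finset.sum_congr rfl
      intro i _
      rw [Pi.smul_apply, smul_eq_mul, mul_smul_comm]
  · rintro ⟨g, hg, rfl⟩
    obtain ⟨a, rfl⟩ := (Submodule.mem_span_range_iff_exists_fun k).mp hg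
    rw [Finset.mul_sum]
    apply Submodule.sum_mem
    intro i _
    rw [mul_smul_comm]
    apply Submodule.smul_mem
    exact Submodule.subset_span ⟨i, rfl⟩

theorem mem_L_sub_single_nat {D : Divisor k K} {P : Place k K} {f : K} (m : ℕ) :
    f ∈ L (D - Finsupp.single P (m : ℤ)) ↔ f ∈ L D ∧ P.1 f ≤ exp (D P - m) := by
  classical
  constructor
  · intro hf
    refine ⟨FF.L_mono (sub_le_self _ ?_) hf, ?_⟩
    · intro R
      rw [Finsupp.single_apply]
      split_ifs <;> simp
    · have := hf P
      rwa [Finsupp.sub_apply, Finsupp.single_eq_same] at this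
  · rintro ⟨hf, hP⟩ R
    by_cases hR : R = P
    · subst hR
      rwa [Finsupp.sub_apply, Finsupp.single_eq_same]
    · rw [Finsupp.sub_apply, Finsupp.single_eq_of_ne hR, sub_zero]
      exact hf R

/-- S12609 -/
theorem isJump_canonical_iff_gap [IsAlgClosed k] (hK : IsFunctionField k K) (C : Divisor k K)
    (hC : IsCanonical k K C) {n : ℕ} (φ : Fin (n + 1) → K) (hφ : LinearIndependent k φ)
    (hspan : Submodule.span k (Set.range φ) = L C)
    (P : Place k K) (y : K) (hy : y ≠ 0)
    (heff : (1 : K) ∈ Submodule.span k (Set.range (y • φ))) (hnorm : ∀ i, P.1 (y * φ i) ≤ 1)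
    {t : K} (ht : P.1 t = exp (-1))
    {Ht : K →ₐ[k] PowerSeries K} (hHt : IsHasseFamily t Ht) (j : ℕ) (hj : 1 ≤ j) :
    IsJump (IsLocalRing.ResidueField P.O) (hcolAt P Ht (y • φ)) (j + 1) ↔
      L (Finsupp.single P ((j : ℤ) + 1)) = L (Finsupp.single P (j : ℤ)) := by
  classical
  have hdegP : P.deg = 1 := FF.deg_eq_one_of_isAlgClosed hK P
  have hfdL : ∀ D : Divisor k K, FiniteDimensional k (L D) := FF.finiteDimensional_L hK
  -- genus is positive
  have hg1 : 0 < genus k K := by
    rw [← (FF.isCanonical_ell_deg hK hC).1]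
    unfold ell
    rw [Module.finrank_pos_iff_exists_ne_zero]
    refine ⟨⟨φ 0, ?_⟩, ?_⟩
    · rw [← hspan]
      exact Submodule.subset_span ⟨0, rfl⟩
    · intro h
      exact hφ.ne_zero 0 (congrArg Subtype.val h)
  have hnorm' : ∀ i, P.1 ((y • φ) i) ≤ 1 := fun i => by
    rw [Pi.smul_apply, smul_eq_mul]; exact hnorm i
  have hW1 : ∀ g ∈ L C, P.1 (y * g) ≤ 1 := by
    intro g hg
    rw [← hspan] at hg
    have : y * g ∈ Submodule.span k (Set.range (y • φ)) :=
      (mem_span_smul_iff φ y _).mpr ⟨g, hg, rfl⟩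
    obtain ⟨a, ha⟩ := (Submodule.mem_span_range_iff_exists_fun k).mp this
    rw [← ha]
    exact val_sum_smul_le P _ hnorm' a
  -- the order of `y`
  have hordy : P.1 y = exp (-(C P)) := by
    obtain ⟨g₀, hg₀, h1⟩ := (mem_span_smul_iff φ y 1).mp heff
    rw [hspan] at hg₀
    have hg₀0 : g₀ ≠ 0 := by
      rintro rfl
      rw [mul_zero] at h1
      exact one_ne_zero h1
    have h2 : P.ord y + P.ord g₀ = 0 := by
      rw [← FF.ord_mul P hy hg₀0, ← h1, FF.ord_one]
    have h3 : -(C P) ≤ P.ord g₀ := by
      have := hg₀ P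
      rwa [FF.val_le_exp_iff P hg₀0] at this
    rw [FF.val_eq_exp_neg_ord P hy]
    congr 2
    by_contra hne
    have hlt : P.ord y < C P := lt_of_le_of_ne (by omega) hne
    have hle : L C ≤ L (C - Finsupp.single P 1) := by
      intro g hg
      rw [FF.mem_L_sub_single_iff]
      refine ⟨hg, ?_⟩
      by_cases hg0 : g = 0
      · rw [hg0, map_zero]; exact zero_le
      · have h4 := hW1 g hg
        rw [FF.val_le_one_iff P (mul_ne_zero hy hg0), FF.ord_mul P hy hg0] at h4
        rw [FF.val_le_exp_iff P hg0]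
        omega
    have h5 : ell C ≤ ell (C - Finsupp.single P 1) := Submodule.finrank_mono hle
    have h6 := FF.riemann_roch hK hC (Finsupp.single P (1 : ℤ))
    rw [FF.deg_single, hdegP, FF.ell_single_eq_one hK hg1 hdegP,
      ← (FF.isCanonical_ell_deg hK hC).1] at h6
    push_cast at h6
    omega
  rw [isJump_hcolAt_succ_iff hK P ht hHt (y • φ) hnorm' j hj]
  -- reformulate through `L (C - jP)`
  have hstep : (∃ f ∈ Submodule.span k (Set.range (y • φ)), P.1 f = exp (-(j : ℤ))) ↔
      ell (C - Finsupp.single P ((j + 1 : ℕ) : ℤ)) < ell (C - Finsupp.single P (j : ℤ)) := by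
    constructor
    · rintro ⟨f, hf, hfv⟩
      obtain ⟨g, hg, rfl⟩ := (mem_span_smul_iff φ y f).mp hf
      rw [hspan] at hg
      rw [map_mul, hordy] at hfv
      have hgv : P.1 g = exp (C P - j) := by
        have : P.1 g = exp (C P) * (exp (-(C P)) * P.1 g) := by
          rw [← mul_assoc, ← exp_add]; simp
        rw [this, hfv, ← exp_add]
        congr 1
      apply Submodule.finrank_lt_finrank_of_lt
      rw [lt_iff_le_and_ne]
      refine ⟨FF.L_mono ?_, ?_⟩
      · apply sub_le_sub_left
        apply Finsupp.single_mono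
        push_cast
        omega
      · intro heq
        have h1 : g ∈ L (C - Finsupp.single P (j : ℤ)) :=
          (mem_L_sub_single_nat j).mpr ⟨hg, hgv.le⟩
        rw [← heq, mem_L_sub_single_nat] at h1
        have h2 := h1.2
        rw [hgv, exp_le_exp] at h2
        push_cast at h2
        omega
    · intro hlt
      by_contra hcon
      push Not at hcon
      have hle : L (C - Finsupp.single P (j : ℤ)) ≤ L (C - Finsupp.single P ((j + 1 : ℕ) : ℤ)) := by
        intro g hg
        rw [mem_L_sub_single_nat] at hg ⊢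
        refine ⟨hg.1, ?_⟩
        by_cases hg0 : g = 0
        · rw [hg0, map_zero]; exact zero_le
        have h1 : y * g ∈ Submodule.span k (Set.range (y • φ)) :=
          (mem_span_smul_iff φ y _).mpr ⟨g, by rw [hspan]; exact hg.1, rfl⟩
        have h2 := hcon _ h1
        rw [map_mul, hordy, FF.val_eq_exp_neg_ord P hg0, ← exp_add] at h2
        have h3 := hg.2
        rw [FF.val_eq_exp_neg_ord P hg0, exp_le_exp] at h3 ⊢
        have h4 : -(C P) + -(P.ord g) ≠ -(j : ℤ) := fun h => h2 (by rw [h])
        push_cast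
        omega
      have := Submodule.finrank_mono hle
      unfold ell at hlt
      omega
  rw [hstep]
  have hrr1 := FF.riemann_roch hK hC (Finsupp.single P (j : ℤ))
  have hrr2 := FF.riemann_roch hK hC (Finsupp.single P ((j + 1 : ℕ) : ℤ))
  rw [FF.deg_single, hdegP, Nat.cast_one, mul_one] at hrr1 hrr2
  have hmono : ell (Finsupp.single P (j : ℤ)) ≤ ell (Finsupp.single P ((j + 1 : ℕ) : ℤ)) := by
    apply FF.ell_mono hK
    apply Finsupp.single_mono
    push_cast
    omega
  have hcast : ((j : ℤ) + 1) = ((j + 1 : ℕ) : ℤ) := by push_cast; rfl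
  rw [hcast]
  constructor
  · intro hlt
    symm
    apply Submodule.eq_of_le_of_finrank_eq
    · apply FF.L_mono
      apply Finsupp.single_mono
      push_cast
      omega
    · have h1 : ell (Finsupp.single P (j : ℤ)) = ell (Finsupp.single P ((j + 1 : ℕ) : ℤ)) := by
        omega
      exact h1
  · intro heq
    have h1 : ell (Finsupp.single P ((j + 1 : ℕ) : ℤ)) = ell (Finsupp.single P (j : ℤ)) := by
      unfold ell
      rw [heq]
    omega

end Groth.Agent.Lib.helper16.FHL
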