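import Groth.Agent.Lib.helper16.FHasseWr

/-! Helper library (helper16): comparison of the global orders with the orders at a place. -/

set_option autoImplicit false

namespace Groth.Agent.Lib.helper16.FHL

open FunFld WithZero LocRes
open Groth.Agent.Lib.helper16

universe u v

section count

/-- comparing two strictly increasing sequences through their counting functions -/
theorem le_of_count_le {m : ℕ} (f g : Fin m → ℕ) (hf : StrictMono f) (hg : StrictMono g)
    (h : ∀ N : ℕ, (Finset.univ.filter fun l => f l < N).card ≤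
      (Finset.univ.filter fun l => g l < N).card) (l : Fin m) : g l ≤ f l := by
  by_contra hlt
  push Not at hlt
  have h1 := h (f l + 1)
  have h2 : (Finset.univ.filter fun l' : Fin m => l' ≤ l) ⊆
      (Finset.univ.filter fun l' => f l' < f l + 1) := by
    intro l' hl'
    rw [Finset.mem_filter] at hl' ⊢
    exact ⟨Finset.mem_univ _, Nat.lt_succ_of_le (hf.monotone hl'.2)⟩
  have h3 : (Finset.univ.filter fun l' => g l' < f l + 1) ⊆
      (Finset.univ.filter fun l' : Fin m => l' < l) := by
    intro l' hl'
    rw [Finset.mem_filter] at hl' ⊢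
    refine ⟨Finset.mem_univ _, ?_⟩
    by_contra hge
    push Not at hge
    have := hg.monotone hge
    omega
  have h4 := Finset.card_le_card h2
  have h5 := Finset.card_le_card h3
  have h6 : (Finset.univ.filter fun l' : Fin m => l' ≤ l).card = l + 1 := by
    have : (Finset.univ.filter fun l' : Fin m => l' ≤ l) = Finset.Iic l := by
      ext; simp
    rw [this, Fin.card_Iic]
  have h7 : (Finset.univ.filter fun l' : Fin m => l' < l).card = l := by
    have : (Finset.univ.filter fun l' : Fin m => l' < l) = Finset.Iio l := by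
      ext; simp
    rw [this, Fin.card_Iio]
  omega

end count

section minimal

variable {R M : Type*} [Field R] [AddCommGroup M] [Module R M] [FiniteDimensional R M]

theorem colIdx_strictMono {n : ℕ} {J : Fin n → ℕ} (hJ : StrictMono J) :
    StrictMono (FW.colIdx J) := by
  intro a b hab
  revert hab
  refine Fin.cases ?_ (fun a' => ?_) a <;> refine Fin.cases ?_ (fun b' => ?_) b
  · intro h; exact absurd h (lt_irrefl _)
  · intro _; exact Nat.succ_pos _
  · intro h; exact absurd h (Fin.not_lt_zero _)
  · intro h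
    exact Nat.succ_lt_succ (hJ (Fin.succ_lt_succ_iff.mp h))

/-- the order sequence is minimal among index sequences with linearly independent columns -/
theorem le_of_linearIndependent_cols (c : ℕ → M) {n : ℕ} {J I : Fin n → ℕ}
    (hJ : IsOrders R c J) (hI : StrictMono I)
    (hli : LinearIndependent R (fun l' : Fin (n + 1) => c (FW.colIdx I l'))) (l : Fin n) :
    J l ≤ I l := by
  classical
  have hc0 : IsJump R c 0 := by
    unfold IsJump
    have : c '' Set.Iio 0 = ∅ := by ext; simp
    rw [this, Submodule.span_empty, Submodule.mem_bot]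
    exact hli.ne_zero 0
  have key : ∀ N : ℕ, (Finset.univ.filter fun l' => FW.colIdx I l' < N).card ≤
      (Finset.univ.filter fun l' => FW.colIdx J l' < N).card := by
    intro N
    set S := Submodule.span R (c '' Set.Iio N) with hS
    -- upper bound
    have hup : Module.finrank R S ≤ (Finset.univ.filter fun l' => FW.colIdx J l' < N).card := by
      have h1 : S = Submodule.span R
          (((Finset.univ.filter fun l' => FW.colIdx J l' < N).image
            fun l' => c (FW.colIdx J l') : Finset M) : Set M) := by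
        rw [hS, FW.span_image_Iio_eq_span_jumps]
        congr 1
        ext v
        simp only [Set.mem_image, Set.mem_ofPred_eq, Finset.coe_image, Finset.coe_filter,
          Finset.mem_univ, true_and]
        constructor
        · rintro ⟨j, ⟨hjN, hjump⟩, rfl⟩
          cases j with
          | zero => exact ⟨0, hjN, rfl⟩
          | succ j =>
            obtain ⟨m, hm⟩ := (hJ.2 j).mpr hjump
            refine ⟨m.succ, ?_, ?_⟩
            · show J m + 1 < N
              rw [hm]; exact hjN
            · show c (J m + 1) = _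
              rw [hm]
        · rintro ⟨l', hl', rfl⟩
          refine ⟨FW.colIdx J l', ⟨hl', ?_⟩, rfl⟩
          refine Fin.cases ?_ (fun a => ?_) l'
          · exact hc0
          · exact (hJ.2 (J a)).mp ⟨a, rfl⟩
      rw [h1]
      exact (finrank_span_finset_le_card _).trans Finset.card_image_le
    -- lower bound
    have hlow : (Finset.univ.filter fun l' => FW.colIdx I l' < N).card ≤ Module.finrank R S := by
      let v' : {l' : Fin (n + 1) // FW.colIdx I l' < N} → S := fun l' =>
        ⟨c (FW.colIdx I l'), Submodule.subset_span ⟨_, l'.2, rfl⟩⟩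
      have hv' : LinearIndependent R v' := by
        apply LinearIndependent.of_comp S.subtype
        exact hli.comp _ Subtype.val_injective
      have := hv'.fintype_card_le_finrank
      rwa [Fintype.card_subtype] at this
    exact hlow.trans hup
  have := le_of_count_le (FW.colIdx I) (FW.colIdx J) (colIdx_strictMono hI)
    (colIdx_strictMono hJ.1) key l.succ
  exact Nat.le_of_succ_le_succ this

end minimal

section S12608

variable {k : Type u} {K : Type v} [Field k] [Field K] [Algebra k K]
variable [IsAlgClosed k] (hK : IsFunctionField k K) (P : Place k K) {t : K}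
  (ht : P.1 t = exp (-1)) {Ht : K →ₐ[k] PowerSeries K} (hHt : IsHasseFamily t Ht)

omit [IsAlgClosed k] in
theorem det_binomMat_self {n : ℕ} {J : Fin n → ℕ} (hJ : StrictMono J) :
    (binomMat k J J).det = 1 := by
  rw [Matrix.det_of_isLowerTriangular]
  · apply Finset.prod_eq_one
    intro i _
    show (((J i).choose (J i) : ℕ) : k) = 1
    rw [Nat.choose_self, Nat.cast_one]
  · intro i j hij
    have hij' : i < j := hij
    show (((J i).choose (J j) : ℕ) : k) = 0
    rw [Nat.choose_eq_zero_of_lt (hJ hij'), Nat.cast_zero]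

omit [IsAlgClosed k] in
include hK in
theorem mapDiv_eq_zero_of_norm_eff {n : ℕ} (φ : Fin (n + 1) → K) (hφ0 : ∀ i, φ i ≠ 0)
    (heff : (1 : K) ∈ Submodule.span k (Set.range φ)) (hnorm : ∀ i, P.1 (φ i) ≤ 1) :
    mapDiv k φ P = 0 := by
  obtain ⟨j, hj⟩ := FF.exists_ord_eq_neg_mapDiv hK φ P
  have h1 : ∀ i, 0 ≤ P.ord (φ i) := fun i => (FF.val_le_one_iff P (hφ0 i)).mp (hnorm i)
  have h2 : mapDiv k φ P ≤ 0 := by
    have := h1 j
    omega
  have h3 : (1 : K) ∈ L (mapDiv k φ) := FF.span_le_L_mapDiv hK φ heff
  have h4 := h3 P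
  rw [map_one, ← exp_zero, exp_le_exp] at h4
  omega

omit [IsAlgClosed k] in
theorem divDiff_uniformizer (Φ' : Place k K → (K →ₐ[k] LaurentSeries k))
    (hΦ' : ∀ P : Place k K, IsExpansionAt P.1 (Φ' P)) (P : Place k K) {t : K}
    (ht : P.1 t = exp (-1)) : divDiff Φ' 1 t P = 0 := by
  unfold divDiff
  split_ifs with hfin
  · show ordDiff (Φ' P) 1 t = 0
    unfold ordDiff
    rw [FDE.vDiff_one]
    have h1 : Valued.v (Φ' P t) = exp (-(1 : ℤ)) := by rw [(hΦ' P).1, ht]
    have h2 := (FDE.val_D_of_val_eq h1).1 (by simp)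
    rw [h2]
    simp
  · rfl

include hK ht hHt

/-- S12608 -/
theorem isOrders_le_isOrdersAt_and_eq_iff {n : ℕ} (φ : Fin (n + 1) → K)
    (hφ : LinearIndependent k φ)
    (heff : (1 : K) ∈ Submodule.span k (Set.range φ)) (hnorm : ∀ i, P.1 (φ i) ≤ 1)
    (J : Fin n → ℕ) (hJ : IsOrders K (hcol (AlgHom.id k K) Ht φ) J)
    (J' : Fin n → ℕ) (hJ' : IsOrders (IsLocalRing.ResidueField P.O) (hcolAt P Ht φ) J')
    (Φ' : Place k K → (K →ₐ[k] LaurentSeries k))
    (hΦ' : ∀ P : Place k K, IsExpansionAt P.1 (Φ' P)) :
    (∀ l, J l ≤ J' l) ∧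
    ((∀ l, J' l = J l) ↔ evalP P (wrMat (AlgHom.id k K) Ht φ J).det ≠ 0) ∧
    ((∀ l, J' l = J l) ↔ wDiv (AlgHom.id k K) Ht Φ' t φ J P = 0) := by
  classical
  have hg := FG.isGeometric_of_perfectField k K hK.2
  have hfix : IsFixedPt (AlgHom.id k K) P := fun z hz => hz
  have hJ'pos : ∀ l, 0 < J' l := fun l => one_le_of_isOrders P hHt φ hJ' l
  -- the determinant at the local orders does not vanish
  have hdetJ' : (wrMat (AlgHom.id k K) Ht φ J').det ≠ 0 := by
    have h1 := (val_det_wrMat_le_and_eq_iff hK P ht hHt (AlgHom.id k K) hfix φ hφ heff hnorm J' hJ'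
      J').2 (Or.inl hJ'pos)
    have h2 := h1.mpr (by rw [det_binomMat_self hJ'.1]; exact one_ne_zero)
    intro h0
    rw [h0, map_zero] at h2
    exact exp_ne_zero h2.symm
  have hle : ∀ l, J l ≤ J' l := by
    apply le_of_linearIndependent_cols (hcol (AlgHom.id k K) Ht φ) hJ hJ'.1
    have h1 : IsUnit (wrMat (AlgHom.id k K) Ht φ J') :=
      (Matrix.isUnit_iff_isUnit_det _).mpr (isUnit_iff_ne_zero.mpr hdetJ')
    rw [FW.wrMat_eq, ← Matrix.linearIndependent_cols_iff_isUnit] at h1
    exact h1
  -- the global Wronskian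
  set W := (wrMat (AlgHom.id k K) Ht φ J).det with hW
  have hW0 : W ≠ 0 := by
    obtain ⟨J₀, hJ₀, hdet₀⟩ := FHs.exists_isOrders_det_ne_zero hK hg φ hφ (AlgHom.id k K) hHt
    have : J₀ = J := by
      rw [← StrictMono.range_inj hJ₀.1 hJ.1]
      ext j
      rw [hJ₀.2 j, hJ.2 j]
    rw [hW, ← this]
    exact hdet₀
  have hWle : P.1 W ≤ 1 := by
    apply FX.val_det_le_one
    intro i c
    refine Fin.cases ?_ (fun l => ?_) c
    · exact hnorm i
    · exact hasseD_le hK P ht hHt (hnorm i) (J l)
  have hkey := val_det_wrMat_le_and_eq_iff hK P ht hHt (AlgHom.id k K) hfix φ hφ heff hnorm J' hJ' J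
  have hevalP : evalP P W ≠ 0 ↔ P.1 W = 1 := by
    unfold evalP
    rw [dif_pos hWle, Ne, FF.residue_eq_zero_iff]
    constructor
    · intro h; exact le_antisymm hWle (not_lt.mp h)
    · intro h; rw [h]; exact lt_irrefl _
  have hiff1 : (∀ l, J' l = J l) ↔ P.1 W = 1 := by
    constructor
    · intro heq
      have hJJ' : J' = J := funext heq
      have h1 := hkey.2 (Or.inl (fun l => by rw [← heq l]; exact hJ'pos l))
      rw [hJJ'] at h1
      have h2 := h1.mpr (by rw [det_binomMat_self hJ.1]; exact one_ne_zero)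
      rw [h2]
      simp
    · intro h1
      have h2 := hkey.1
      rw [← hW, h1, ← exp_zero, exp_le_exp] at h2
      have h3 : ∑ l, ((J' l : ℤ) - J l) = 0 := by
        apply le_antisymm (by omega)
        apply Finset.sum_nonneg
        intro l _
        have := hle l
        omega
      rw [Finset.sum_eq_zero_iff_of_nonneg (fun l _ => by have := hle l; omega)] at h3
      intro l
      have := h3 l (Finset.mem_univ l)
      omega
  refine ⟨hle, ?_, ?_⟩
  · rw [hevalP, hiff1]
  · rw [hiff1]
    have hφ0 : ∀ i, φ i ≠ 0 := fun i => hφ.ne_zero i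
    have hw : wDiv (AlgHom.id k K) Ht Φ' t φ J P = P.ord W := by
      unfold wDiv
      have hcomp : (⇑(AlgHom.id k K) ∘ φ) = φ := rfl
      rw [Finsupp.add_apply, Finsupp.add_apply, Finsupp.add_apply, Finsupp.smul_apply,
        Finsupp.smul_apply, hcomp, mapDiv_eq_zero_of_norm_eff hK P φ hφ0 heff hnorm,
        divDiff_uniformizer Φ' hΦ' P ht, FF.div_apply hK, ← hW]
      simp
    rw [hw, FF.val_eq_exp_neg_ord P hW0, ← exp_zero, exp_inj]
    omega

end S12608

end Groth.Agent.Lib.helper16.FHL
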