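import Groth.Agent.Lib.helper16.FHasseMin

/-! Helper library (helper16): orders at a strong fixed point (S12606). -/

set_option autoImplicit false

namespace Groth.Agent.Lib.helper16.FHL

open FunFld WithZero LocRes
open Groth.Agent.Lib.helper16

universe u v

section binom

variable {k : Type u} [Field k]

theorem taylor_one_coeff_sum {m : ℕ} (e : Fin m → ℕ) (g : Fin m → k) (d : ℕ) :
    (Polynomial.taylor 1 (∑ a, Polynomial.monomial (e a) (g a))).coeff d =
      ∑ a, g a * ((e a).choose d : k) := by
  rw [Polynomial.taylor_coeff, map_sum, Polynomial.eval_finsetSum]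
  apply Finset.sum_congr rfl
  intro a _
  rw [Polynomial.hasseDeriv_monomial, Polynomial.eval_monomial, one_pow, mul_one, mul_comm]

/-- rows of binomial coefficients `C(e a, d)`, `d ≤ M`, for distinct exponents in a window of
length `M` are linearly independent -/
theorem linearIndependent_binom {m : ℕ} (e : Fin m → ℕ) (he : Function.Injective e) (e₁ M : ℕ)
    (h1 : ∀ a, e₁ ≤ e a) (h2 : ∀ a, e a ≤ e₁ + M) (g : Fin m → k)
    (hg : ∀ d ≤ M, ∑ a, g a * ((e a).choose d : k) = 0) (a : Fin m) : g a = 0 := by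
  classical
  set R : Polynomial k := ∑ a, Polynomial.monomial (e a - e₁) (g a) with hR
  set Q : Polynomial k := ∑ a, Polynomial.monomial (e a) (g a) with hQ
  have hQR : Q = Polynomial.X ^ e₁ * R := by
    rw [hQ, hR, Finset.mul_sum]
    apply Finset.sum_congr rfl
    intro a _
    rw [Polynomial.X_pow_mul_monomial, Nat.sub_add_cancel (h1 a)]
  have hdvd : Polynomial.X ^ (M + 1) ∣ Polynomial.taylor 1 Q := by
    rw [Polynomial.X_pow_dvd_iff]
    intro d hd
    rw [hQ, taylor_one_coeff_sum]
    exact hg d (by omega)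
  rw [hQR, Polynomial.taylor_mul, Polynomial.taylor_X_pow] at hdvd
  have hcop : IsCoprime (Polynomial.X ^ (M + 1) : Polynomial k)
      ((Polynomial.X + Polynomial.C 1) ^ e₁) := by
    apply IsCoprime.pow
    exact ⟨-1, 1, by rw [map_one]; ring⟩
  have hdvd2 : Polynomial.X ^ (M + 1) ∣ Polynomial.taylor 1 R :=
    hcop.dvd_of_dvd_mul_left hdvd
  have hdeg : (Polynomial.taylor 1 R).natDegree ≤ M := by
    rw [Polynomial.natDegree_taylor, hR]
    apply Polynomial.natDegree_sum_le_of_forall_le
    intro a _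
    refine (Polynomial.natDegree_monomial_le _).trans ?_
    have := h2 a
    omega
  have hzero : Polynomial.taylor 1 R = 0 := by
    apply Polynomial.eq_zero_of_dvd_of_natDegree_lt hdvd2
    rw [Polynomial.natDegree_X_pow]
    omega
  have hR0 : R = 0 := Polynomial.taylor_injective 1 (by rw [hzero, map_zero])
  have hc : R.coeff (e a - e₁) = g a := by
    rw [hR, Polynomial.finsetSum_coeff, Finset.sum_eq_single a]
    · rw [Polynomial.coeff_monomial, if_pos rfl]
    · intro b _ hb
      rw [Polynomial.coeff_monomial, if_neg]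
      intro h
      apply hb
      apply he
      have := h1 a
      have := h1 b
      omega
    · intro h
      exact absurd (Finset.mem_univ _) h
  rw [← hc, hR0, Polynomial.coeff_zero]

end binom

section residues

variable {k : Type u} {K : Type v} [Field k] [Field K] [Algebra k K]
variable [IsAlgClosed k] (hK : IsFunctionField k K) (P : Place k K) {t : K}
  (ht : P.1 t = exp (-1))

include hK ht

theorem cf_zero_one : cf hK P ht 0 1 = 1 := by
  apply cf_zero_eq_of_val_sub_lt hK P ht
  rw [map_one, sub_self, map_zero]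
  exact zero_lt_one

theorem cf_zero_mul {x y : K} (hx : P.1 x ≤ 1) (hy : P.1 y ≤ 1) :
    cf hK P ht 0 (x * y) = cf hK P ht 0 x * cf hK P ht 0 y := by
  apply cf_zero_eq_of_val_sub_lt hK P ht
  have h1 := val_sub_cf_lt hK P ht hx
  have h2 := val_sub_cf_lt hK P ht hy
  have : x * y - algebraMap k K (cf hK P ht 0 x * cf hK P ht 0 y) =
      (x - algebraMap k K (cf hK P ht 0 x)) * y +
        algebraMap k K (cf hK P ht 0 x) * (y - algebraMap k K (cf hK P ht 0 y)) := by
    rw [map_mul]; ring
  rw [this]
  refine (Valuation.map_add P.1 _ _).trans_lt (max_lt ?_ ?_)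
  · rw [map_mul]
    calc _ ≤ P.1 (x - algebraMap k K (cf hK P ht 0 x)) * 1 := mul_le_mul' le_rfl hy
      _ < 1 := by rwa [mul_one]
  · rw [map_mul]
    calc _ ≤ 1 * P.1 (y - algebraMap k K (cf hK P ht 0 y)) :=
          mul_le_mul' (FF.val_algebraMap_le P _) le_rfl
      _ < 1 := by rwa [one_mul]

/-- linear independence lifts from the residues -/
theorem linearIndependent_of_residues {ι κ : Type*} [Fintype ι] (M' : ι → κ → K)
    (r : ι → κ → k) (hres : ∀ a c, P.1 (M' a c - algebraMap k K (r a c)) < 1)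
    (hr : LinearIndependent k r) : LinearIndependent K M' := by
  classical
  rw [Fintype.linearIndependent_iff]
  intro g hg
  by_contra hne
  push Not at hne
  obtain ⟨a₁, ha₁⟩ := hne
  obtain ⟨a₀, -, hmax⟩ := Finset.exists_max_image Finset.univ (fun a => P.1 (g a))
    ⟨a₁, Finset.mem_univ _⟩
  have hg0 : g a₀ ≠ 0 := by
    intro h
    have h3 := hmax a₁ (Finset.mem_univ _)
    rw [h, map_zero, le_zero_iff, map_eq_zero] at h3
    exact ha₁ h3
  have hv0 : P.1 (g a₀) ≠ 0 := by rwa [ne_eq, map_eq_zero]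
  set b : ι → K := fun a => g a / g a₀ with hb
  have hble : ∀ a, P.1 (b a) ≤ 1 := by
    intro a
    rw [hb, map_div₀, div_le_iff₀ (zero_lt_iff.mpr hv0), one_mul]
    exact hmax a (Finset.mem_univ _)
  have hMle : ∀ a c, P.1 (M' a c) ≤ 1 := by
    intro a c
    have : M' a c = (M' a c - algebraMap k K (r a c)) + algebraMap k K (r a c) := by ring
    rw [this]
    exact (Valuation.map_add P.1 _ _).trans (max_le (hres a c).le (FF.val_algebraMap_le P _))
  have hsum : ∀ c, ∑ a, b a * M' a c = 0 := by
    intro c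
    have h3 := congrFun hg c
    rw [Finset.sum_apply] at h3
    simp only [Pi.smul_apply, smul_eq_mul, Pi.zero_apply] at h3
    have : ∑ a, b a * M' a c = (∑ a, g a * M' a c) / g a₀ := by
      rw [Finset.sum_div]
      apply Finset.sum_congr rfl
      intro a _
      rw [hb]; ring
    rw [this, h3, zero_div]
  have hβ : ∑ a, cf hK P ht 0 (b a) • r a = 0 := by
    funext c
    rw [Finset.sum_apply]
    simp only [Pi.smul_apply, smul_eq_mul, Pi.zero_apply]
    have h3 := congrArg (cf hK P ht 0) (hsum c)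
    rw [map_sum, map_zero] at h3
    rw [← h3]
    apply Finset.sum_congr rfl
    intro a _
    rw [cf_zero_mul hK P ht (hble a) (hMle a c),
      cf_zero_eq_of_val_sub_lt hK P ht (hres a c)]
  have h4 := Fintype.linearIndependent_iff.mp hr _ hβ a₀
  have h5 : b a₀ = 1 := by rw [hb]; exact div_self hg0
  rw [h5, cf_zero_one hK P ht] at h4
  exact one_ne_zero h4

end residues

section count2

variable {R M : Type*} [Field R] [AddCommGroup M] [Module R M]

theorem finrank_span_Iio_le (c : ℕ → M) {n : ℕ} {J : Fin n → ℕ} (hJ : IsOrders R c J) (N : ℕ) :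
    Module.finrank R (Submodule.span R (c '' Set.Iio N)) ≤
      (Finset.univ.filter fun l' : Fin (n + 1) => FW.colIdx J l' < N).card := by
  classical
  have h1 : Submodule.span R (c '' Set.Iio N) ≤ Submodule.span R
      (((Finset.univ.filter fun l' => FW.colIdx J l' < N).image
        fun l' => c (FW.colIdx J l') : Finset M) : Set M) := by
    rw [FW.span_image_Iio_eq_span_jumps]
    apply Submodule.span_mono
    rintro _ ⟨j, ⟨hjN, hjump⟩, rfl⟩
    simp only [Finset.coe_image, Finset.coe_filter, Finset.mem_univ, true_and, Set.mem_image,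
      Set.mem_ofPred_eq]
    cases j with
    | zero => exact ⟨0, hjN, rfl⟩
    | succ j =>
      obtain ⟨m, hm⟩ := (hJ.2 j).mpr hjump
      refine ⟨m.succ, ?_, ?_⟩
      · show J m + 1 < N
        rw [hm]; exact hjN
      · show c (J m + 1) = _
        rw [hm]
  exact (Submodule.finrank_mono h1).trans
    ((finrank_span_finset_le_card _).trans Finset.card_image_le)

end count2

section rank

variable {k : Type u} {K : Type v} [Field k] [Field K] [Algebra k K]
variable [IsAlgClosed k] (hK : IsFunctionField k K) (P : Place k K) {t : K}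
  (ht : P.1 t = exp (-1)) {Ht : K →ₐ[k] PowerSeries K} (hHt : IsHasseFamily t Ht)

include hK ht hHt

/-- at a strong fixed point the first columns of the matrix of an adapted tuple span everything -/
theorem span_hcol_adapted_eq_top {m : ℕ} (τ : K →ₐ[k] K) (hP : IsStrongFixedPt τ P)
    (ψ : Fin (m + 1) → K) (e : Fin (m + 1) → ℕ) (he0 : e 0 = 0) (he : StrictMono e)
    (hψv : ∀ i, P.1 (ψ i) = exp (-(e i : ℤ))) (hψc : ∀ i, cf hK P ht (e i) (ψ i) = 1)
    (e₁ M : ℕ) (h1 : ∀ a : Fin m, e₁ ≤ e a.succ) (h2 : ∀ a : Fin m, e a.succ ≤ e₁ + M) :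
    Submodule.span K (hcol τ Ht ψ '' Set.Iio (M + 2)) = ⊤ := by
  classical
  have ht0 := t_ne_zero hK P ht
  have hPf : IsFixedPt τ P := fun z hz =>
    (hP z hz).trans_lt (by rw [← exp_zero, exp_lt_exp]; omega)
  have hψle : ∀ i, P.1 (ψ i) ≤ exp (-(e i : ℤ)) := fun i => (hψv i).le
  have hψ1 : ∀ i, P.1 (ψ i) ≤ 1 := fun i =>
    (hψle i).trans (by rw [← exp_zero, exp_le_exp]; omega)
  let M' : Fin (m + 1) → Fin (M + 1 + 1) → K := fun a c =>
    Fin.cases (motive := fun _ => K) (τ (ψ a) / t ^ e a)
      (fun d : Fin (M + 1) => hasseD Ht d (ψ a) * t ^ (d : ℕ) / t ^ e a) c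
  let r : Fin (m + 1) → Fin (M + 1 + 1) → k := fun a c =>
    Fin.cases (motive := fun _ => k) (if a = 0 then 1 else 0)
      (fun d : Fin (M + 1) => (((e a).choose d : ℕ) : k)) c
  have hM0 : ∀ a, M' a 0 = τ (ψ a) / t ^ e a := fun a => rfl
  have hMs : ∀ a (d : Fin (M + 1)), M' a d.succ = hasseD Ht d (ψ a) * t ^ (d : ℕ) / t ^ e a :=
    fun a d => rfl
  have hr0 : ∀ a, r a 0 = if a = 0 then 1 else 0 := fun a => rfl
  have hrs : ∀ a (d : Fin (M + 1)), r a d.succ = (((e a).choose d : ℕ) : k) := fun a d => rfl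
  have hres : ∀ a c, P.1 (M' a c - algebraMap k K (r a c)) < 1 := by
    intro a c
    refine Fin.cases ?_ (fun d => ?_) c
    · rw [hM0, hr0]
      by_cases ha : a = 0
      · subst ha
        rw [if_pos rfl, he0, pow_zero, div_one]
        have h3 := val_tau_sub_lt hK P ht hPf (hψ1 0)
        have h4 := hψc 0
        rw [he0] at h4
        rwa [h4] at h3
      · rw [if_neg ha, map_zero, sub_zero, map_div₀, map_pow, ht, ← exp_nsmul,
          div_lt_iff₀ exp_pos, one_mul]
        refine (val_tau_le_strong hK P ht hP (hψle a)).trans_lt ?_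
        rw [exp_lt_exp]
        have h5 : e 0 < e a := he (Fin.pos_iff_ne_zero.mpr ha)
        simp
        omega
    · have hw : M' a d.succ * t ^ e a = hasseD Ht d (ψ a) * t ^ (d : ℕ) := by
        rw [hMs, div_mul_cancel₀ _ (pow_ne_zero _ ht0)]
      have h3 := entry_le_one hK P ht hHt (hψle a) d hw
      have h4 := cf_zero_entry hK P ht hHt (hψ1 a) d (e a) hw
      rw [hψc a, mul_one] at h4
      rw [hrs, ← h4]
      exact val_sub_cf_lt hK P ht h3
  have hr : LinearIndependent k r := by
    rw [Fintype.linearIndependent_iff]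
    intro g hg
    have hgc : ∀ c, ∑ a, g a * r a c = 0 := by
      intro c
      have h3 := congrFun hg c
      rw [Finset.sum_apply] at h3
      simpa only [Pi.smul_apply, smul_eq_mul, Pi.zero_apply] using h3
    have hg0 : g 0 = 0 := by
      have h3 := hgc 0
      rw [Finset.sum_eq_single 0] at h3
      · rwa [hr0, if_pos rfl, mul_one] at h3
      · intro b _ hb
        rw [hr0, if_neg hb, mul_zero]
      · intro h
        exact absurd (Finset.mem_univ _) h
    have hgs : ∀ a : Fin m, g a.succ = 0 := by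
      apply linearIndependent_binom (fun a : Fin m => e a.succ)
        (fun a b hab => Fin.succ_injective _ (he.injective hab)) e₁ M h1 h2
      intro d hd
      have h3 := hgc (⟨d, by omega⟩ : Fin (M + 1)).succ
      rw [Fin.sum_univ_succ, hg0, zero_mul, zero_add] at h3
      rw [← h3]
      apply Finset.sum_congr rfl
      intro a _
      rw [hrs]
    intro a
    refine Fin.cases hg0 hgs a
  have hli := linearIndependent_of_residues hK P ht M' r hres hr
  by_contra hne
  obtain ⟨f, hf0, hle⟩ := Submodule.exists_le_ker_of_lt_top _ (lt_top_iff_ne_top.mpr hne)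
  set a : Fin (m + 1) → K := fun i => f (fun j => if i = j then 1 else 0) with ha
  have hfa : ∀ v : Fin (m + 1) → K, f v = ∑ i, a i * v i := by
    intro v
    rw [LinearMap.pi_apply_eq_sum_univ f v]
    apply Finset.sum_congr rfl
    intro i _
    rw [smul_eq_mul, mul_comm]
  have harel : ∀ j < M + 2, ∑ i, a i * hcol τ Ht ψ j i = 0 := by
    intro j hj
    rw [← hfa (hcol τ Ht ψ j)]
    exact hle (Submodule.subset_span ⟨j, hj, rfl⟩)
  have hsum : ∑ i, (a i * t ^ e i) • M' i = 0 := by
    funext c
    rw [Finset.sum_apply]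
    simp only [Pi.smul_apply, smul_eq_mul, Pi.zero_apply]
    refine Fin.cases ?_ (fun d => ?_) c
    · have h3 := harel 0 (by omega)
      rw [← h3]
      apply Finset.sum_congr rfl
      intro i _
      rw [hM0]
      show _ = a i * τ (ψ i)
      field_simp
    · have h3 := harel ((d : ℕ) + 1) (by omega)
      have h4 : ∑ i, a i * t ^ e i * M' i d.succ =
          (∑ i, a i * hcol τ Ht ψ ((d : ℕ) + 1) i) * t ^ (d : ℕ) := by
        rw [Finset.sum_mul]
        apply Finset.sum_congr rfl
        intro i _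
        rw [hMs]
        show _ = a i * hasseD Ht d (ψ i) * t ^ (d : ℕ)
        field_simp
      rw [h4, h3, zero_mul]
  apply hf0
  apply LinearMap.ext
  intro v
  rw [hfa, LinearMap.zero_apply]
  apply Finset.sum_eq_zero
  intro i _
  have h3 := Fintype.linearIndependent_iff.mp hli _ hsum i
  rcases mul_eq_zero.mp h3 with h | h
  · rw [h, zero_mul]
  · exact absurd h (pow_ne_zero _ ht0)

end rank

section S12606

variable {k : Type u} {K : Type v} [Field k] [Field K] [Algebra k K]
variable [IsAlgClosed k] (hK : IsFunctionField k K) (P : Place k K) {t : K}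
  (ht : P.1 t = exp (-1)) {Ht : K →ₐ[k] PowerSeries K} (hHt : IsHasseFamily t Ht)

omit [IsAlgClosed k] in
/-- the columns of a tuple in the `k`-span of `φ` are the images of the columns of `φ` under a
`K`-linear map -/
theorem exists_linearMap_hcol {n m : ℕ} (τ : K →ₐ[k] K) (H : K →ₐ[k] PowerSeries K)
    (φ : Fin n → K) (ψ : Fin m → K) (h : ∀ a, ψ a ∈ Submodule.span k (Set.range φ)) :
    ∃ g : (Fin n → K) →ₗ[K] (Fin m → K), ∀ j, g (hcol τ H φ j) = hcol τ H ψ j := by
  choose B hB using fun a => (Submodule.mem_span_range_iff_exists_fun k).mp (h a)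
  refine ⟨Matrix.mulVecLin (Matrix.of fun a i => algebraMap k K (B a i)), fun j => ?_⟩
  funext a
  rw [Matrix.mulVecLin_apply, Matrix.mulVec, dotProduct]
  simp only [Matrix.of_apply]
  cases j with
  | zero =>
    show ∑ i, algebraMap k K (B a i) * τ (φ i) = τ (ψ a)
    rw [← hB a, map_sum]
    apply Finset.sum_congr rfl
    intro i _
    rw [map_smul, Algebra.smul_def]
  | succ j =>
    show ∑ i, algebraMap k K (B a i) * hasseD H j (φ i) = hasseD H j (ψ a)
    rw [← hB a, FHs.hasseD_sum]
    apply Finset.sum_congr rfl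
    intro i _
    rw [hasseD_smul]

include hK ht hHt

/-- S12606 -/
theorem isOrders_add_le_of_isStrongFixedPt {n : ℕ} (hn : 0 < n) (τ : K →ₐ[k] K)
    (hP : IsStrongFixedPt τ P) (φ : Fin (n + 1) → K) (hφ : LinearIndependent k φ)
    (heff : (1 : K) ∈ Submodule.span k (Set.range φ)) (hnorm : ∀ i, P.1 (φ i) ≤ 1)
    (J : Fin n → ℕ) (hJ : IsOrders K (hcol τ Ht φ) J)
    (J' : Fin n → ℕ) (hJ' : IsOrders (IsLocalRing.ResidueField P.O) (hcolAt P Ht φ) J')
    (l : Fin n) : J l + J' ⟨0, hn⟩ ≤ J' l := by
  classical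
  obtain ⟨ψ, hspan, hψv, hψc⟩ := exists_adapted hK P ht hHt φ hφ heff hnorm J' hJ'
  by_contra hlt
  push Not at hlt
  have hJ'mono := hJ'.1
  have hJ'0l : J' ⟨0, hn⟩ ≤ J' l := hJ'mono.monotone (Fin.mk_le_of_le_val (Nat.zero_le _))
  set M := J' l - J' ⟨0, hn⟩ with hM
  have hJl : M + 1 ≤ J l := by omega
  have hl := l.2
  -- the sub-tuple
  have hle : (l : ℕ) + 1 + 1 ≤ n + 1 := by omega
  have hle' : (l : ℕ) + 1 ≤ n := by omega
  let ι : Fin ((l : ℕ) + 1 + 1) → Fin (n + 1) := Fin.castLE hle
  let ee : Fin (n + 1) → ℕ := fun i => (Fin.cases 0 J' i : ℕ)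
  have hee : StrictMono ee := by
    intro a b hab
    revert hab
    refine Fin.cases ?_ (fun a' => ?_) a <;> refine Fin.cases ?_ (fun b' => ?_) b
    · intro h; exact absurd h (lt_irrefl _)
    · intro _
      exact one_le_of_isOrders P hHt φ hJ' b'
    · intro h; exact absurd h (Fin.not_lt_zero _)
    · intro h
      exact hJ'mono (Fin.succ_lt_succ_iff.mp h)
  have hι0 : ι 0 = 0 := rfl
  have hιs : ∀ a : Fin ((l : ℕ) + 1), ι a.succ = (Fin.castLE hle' a).succ := fun a => rfl
  have hes : ∀ a : Fin ((l : ℕ) + 1), ee (ι a.succ) = J' (Fin.castLE hle' a) := fun a => rfl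
  have htop := span_hcol_adapted_eq_top hK P ht hHt τ hP (fun a => ψ (ι a)) (fun a => ee (ι a))
    rfl (hee.comp (Fin.strictMono_castLE hle)) (fun i => hψv (ι i)) (fun i => hψc (ι i))
    (J' ⟨0, hn⟩) M
    (fun a => by
      rw [hes]
      exact hJ'mono.monotone (Fin.mk_le_of_le_val (Nat.zero_le _)))
    (fun a => by
      rw [hes, hM, Nat.add_sub_cancel' hJ'0l]
      apply hJ'mono.monotone
      rw [Fin.le_def]
      have := a.2
      simp only [Fin.val_castLE]
      omega)
  obtain ⟨g, hg⟩ := exists_linearMap_hcol τ Ht φ (fun a => ψ (ι a)) (fun a => by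
    rw [← hspan]; exact Submodule.subset_span ⟨ι a, rfl⟩)
  have himg : hcol τ Ht (fun a => ψ (ι a)) '' Set.Iio (M + 2) =
      g '' (hcol τ Ht φ '' Set.Iio (M + 2)) := by
    rw [Set.image_image]
    apply Set.image_congr
    intro j _
    rw [hg]
  rw [himg, ← Submodule.map_span] at htop
  have h3 := Submodule.finrank_map_le g (Submodule.span K (hcol τ Ht φ '' Set.Iio (M + 2)))
  rw [htop, finrank_top, Module.finrank_fin_fun] at h3
  have h4 := finrank_span_Iio_le (hcol τ Ht φ) hJ (M + 2)
  have h5 : (Finset.univ.filter fun l' : Fin (n + 1) => FW.colIdx J l' < M + 2) ⊆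
      Finset.Iic l.castSucc := by
    intro l' hl'
    rw [Finset.mem_filter] at hl'
    rw [Finset.mem_Iic]
    have h6 := hl'.2
    revert h6
    refine Fin.cases ?_ (fun a => ?_) l'
    · intro _; exact Fin.zero_le _
    · intro h6
      have h7 : J a + 1 < M + 2 := h6
      have h8 : a < l := by
        by_contra h9
        push Not at h9
        have := hJ.1.monotone h9
        omega
      rw [Fin.le_def, Fin.val_succ, Fin.val_castSucc]
      exact h8
  have h6 := Finset.card_le_card h5
  rw [Fin.card_Iic, Fin.val_castSucc] at h6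
  omega

end S12606

end Groth.Agent.Lib.helper16.FHL
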