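import Groth.Agent.Lib.helper16.FHasseSF

/-! Helper library (helper16): the coefficient of the Weierstrass divisor at a fixed point (S12615). -/

set_option autoImplicit false

namespace Groth.Agent.Lib.helper16.FHL

open FunFld WithZero LocRes
open Groth.Agent.Lib.helper16

universe u v

section S12615

variable {k : Type u} {K : Type v} [Field k] [Field K] [Algebra k K]
variable [IsAlgClosed k] (hK : IsFunctionField k K) (P : Place k K) {t : K}
  (ht : P.1 t = exp (-1)) {Ht : K →ₐ[k] PowerSeries K} (hHt : IsHasseFamily t Ht)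

omit [IsAlgClosed k] in
/-- uniqueness of the order sequence -/
theorem isOrders_unique {R M : Type*} [Semiring R] [AddCommMonoid M] [Module R M] {c : ℕ → M}
    {n : ℕ} {J₁ J₂ : Fin n → ℕ} (h1 : IsOrders R c J₁) (h2 : IsOrders R c J₂) : J₁ = J₂ := by
  rw [← StrictMono.range_inj h1.1 h2.1]
  ext j
  rw [h1.2 j, h2.2 j]

omit [IsAlgClosed k] in
include hHt in
/-- for `τ = id` all the orders are positive -/
theorem pos_of_isOrders_id {n m : ℕ} (φ : Fin m → K) {J : Fin n → ℕ}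
    (hJ : IsOrders K (hcol (AlgHom.id k K) Ht φ) J) (l : Fin n) : 0 < J l := by
  by_contra h
  have h0 : J l = 0 := by omega
  have h1 := (hJ.2 0).mp ⟨l, h0⟩
  apply h1
  apply Submodule.subset_span
  refine ⟨0, by simp, ?_⟩
  funext i
  show (AlgHom.id k K) (φ i) = hasseD Ht 0 (φ i)
  rw [FHs.hasseD_zero hHt]
  rfl

include hK ht hHt

omit hHt in
/-- the coefficient of the Weierstrass divisor at a fixed point, for a local parameter -/
theorem wDiv_apply_of_isFixedPt {n : ℕ} (τ : K →ₐ[k] K) (hP : IsFixedPt τ P)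
    (φ : Fin (n + 1) → K) (hφ : LinearIndependent k φ)
    (heff : (1 : K) ∈ Submodule.span k (Set.range φ)) (hnorm : ∀ i, P.1 (φ i) ≤ 1)
    (J : Fin n → ℕ)
    (Φ' : Place k K → (K →ₐ[k] LaurentSeries k))
    (hΦ' : ∀ P : Place k K, IsExpansionAt P.1 (Φ' P)) :
    wDiv τ Ht Φ' t φ J P = P.ord (wrMat τ Ht φ J).det := by
  have hφ0 : ∀ i, φ i ≠ 0 := fun i => hφ.ne_zero i
  have hτφ0 : ∀ i, (τ ∘ φ) i ≠ 0 := fun i => by
    show τ (φ i) ≠ 0
    rw [Ne, map_eq_zero_iff τ τ.injective]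
    exact hφ0 i
  have heffτ : (1 : K) ∈ Submodule.span k (Set.range (τ ∘ φ)) := by
    obtain ⟨c, hc⟩ := (Submodule.mem_span_range_iff_exists_fun k).mp heff
    rw [Submodule.mem_span_range_iff_exists_fun]
    refine ⟨c, ?_⟩
    have h1 := congrArg τ hc
    rw [map_sum, map_one] at h1
    rw [← h1]
    apply Finset.sum_congr rfl
    intro i _
    rw [map_smul]
    rfl
  have hnormτ : ∀ i, P.1 ((τ ∘ φ) i) ≤ 1 := fun i => val_tau_le_one hK P ht hP (hnorm i)
  unfold wDiv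
  rw [Finsupp.add_apply, Finsupp.add_apply, Finsupp.add_apply, Finsupp.smul_apply,
    Finsupp.smul_apply, mapDiv_eq_zero_of_norm_eff hK P φ hφ0 heff hnorm,
    mapDiv_eq_zero_of_norm_eff hK P (τ ∘ φ) hτφ0 heffτ hnormτ,
    divDiff_uniformizer Φ' hΦ' P ht, FF.div_apply hK]
  simp

/-- S12615 -/
theorem sum_sub_le_wDiv_of_isFixedPt_and_eq_iff {n : ℕ} (τ : K →ₐ[k] K) (hP : IsFixedPt τ P)
    (φ : Fin (n + 1) → K) (hφ : LinearIndependent k φ)
    (heff : (1 : K) ∈ Submodule.span k (Set.range φ)) (hnorm : ∀ i, P.1 (φ i) ≤ 1)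
    (J : Fin n → ℕ) (hJ : IsOrders K (hcol τ Ht φ) J)
    (J' : Fin n → ℕ) (hJ' : IsOrders (IsLocalRing.ResidueField P.O) (hcolAt P Ht φ) J')
    (Φ' : Place k K → (K →ₐ[k] LaurentSeries k))
    (hΦ' : ∀ P : Place k K, IsExpansionAt P.1 (Φ' P)) :
    (∑ l, ((J' l : ℤ) - J l)) ≤ wDiv τ Ht Φ' t φ J P ∧
    ((τ = AlgHom.id k K ∨ IsStrongFixedPt τ P) →
      (wDiv τ Ht Φ' t φ J P = ∑ l, ((J' l : ℤ) - J l) ↔ (binomMat k J' J).det ≠ 0)) := by
  classical
  have hg := FG.isGeometric_of_perfectField k K hK.2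
  set W := (wrMat τ Ht φ J).det with hW
  have hW0 : W ≠ 0 := by
    obtain ⟨J₀, hJ₀, hdet₀⟩ := FHs.exists_isOrders_det_ne_zero hK hg φ hφ τ hHt
    rw [hW, ← isOrders_unique hJ₀ hJ]
    exact hdet₀
  have hw := wDiv_apply_of_isFixedPt hK P ht (Ht := Ht) τ hP φ hφ heff hnorm J Φ' hΦ'
  have hkey := val_det_wrMat_le_and_eq_iff hK P ht hHt τ hP φ hφ heff hnorm J' hJ' J
  rw [← hW, FF.val_eq_exp_neg_ord P hW0, exp_le_exp, exp_inj] at hkey
  rw [hw, ← hW]
  refine ⟨by have := hkey.1; omega, fun hcond => ?_⟩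
  have hcond' : (∀ l, 0 < J l) ∨ IsStrongFixedPt τ P := by
    rcases hcond with h | h
    · left
      subst h
      exact fun l => pos_of_isOrders_id hHt φ hJ l
    · exact Or.inr h
  rw [← hkey.2 hcond']
  constructor <;> intro h <;> omega

end S12615

end Groth.Agent.Lib.helper16.FHL
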