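import Groth.Agent.Lib.helper16.FXIntCl

/-! Helper library (helper16): discriminants and ramification — in a finite separable extension
only finitely many places ramify. -/

set_option autoImplicit false

namespace Groth.Agent.Lib.helper16.FX

open FunFld WithZero Polynomial Module Groth.Agent.Lib.helper16.FF
open scoped IntermediateField

section matrix

variable {k K : Type*} [Field k] [Field K] [Algebra k K]

/-- lift a matrix with integral entries to a matrix over `O_P` -/
def liftMatrix (P : Place k K) {n : Type*} (A : Matrix n n K) (hA : ∀ i j, P.1 (A i j) ≤ 1) :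
    Matrix n n P.O := fun i j => ⟨A i j, hA i j⟩

theorem mapMatrix_liftMatrix (P : Place k K) {n : Type*} [Fintype n] [DecidableEq n]
    (A : Matrix n n K) (hA : ∀ i j, P.1 (A i j) ≤ 1) :
    (algebraMap P.O K).mapMatrix (liftMatrix P A hA) = A := by
  ext i j
  rfl

theorem val_det_le_one (P : Place k K) {n : Type*} [Fintype n] [DecidableEq n]
    (A : Matrix n n K) (hA : ∀ i j, P.1 (A i j) ≤ 1) : P.1 A.det ≤ 1 := by
  have h := (algebraMap P.O K).map_det (liftMatrix P A hA)
  rw [mapMatrix_liftMatrix] at h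
  rw [← h]
  exact ((liftMatrix P A hA).det).2

theorem val_adjugate_le_one (P : Place k K) {n : Type*} [Fintype n] [DecidableEq n]
    (A : Matrix n n K) (hA : ∀ i j, P.1 (A i j) ≤ 1) (i j : n) : P.1 (A.adjugate i j) ≤ 1 := by
  have h := (algebraMap P.O K).map_adjugate (liftMatrix P A hA)
  rw [mapMatrix_liftMatrix] at h
  rw [← h]
  exact ((liftMatrix P A hA).adjugate i j).2

/-- an integral matrix which is nilpotent modulo `m_P` has trace in `m_P` -/
theorem val_trace_lt_one_of_pow (P : Place k K) {n : Type*} [Fintype n] [DecidableEq n]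
    (A : Matrix n n K) (hA : ∀ i j, P.1 (A i j) ≤ 1) (N : ℕ)
    (hN : ∀ i j, P.1 ((A ^ N) i j) < 1) : P.1 A.trace < 1 := by
  let A₀ := liftMatrix P A hA
  let res := IsLocalRing.residue P.O
  have h1 : (algebraMap P.O K).mapMatrix (A₀ ^ N) = A ^ N := by
    rw [map_pow, mapMatrix_liftMatrix]
  have h2 : res.mapMatrix (A₀ ^ N) = 0 := by
    ext i j
    rw [RingHom.mapMatrix_apply, Matrix.map_apply, Matrix.zero_apply, residue_eq_zero_iff]
    have := hN i j
    rw [← h1] at this
    exact this
  have h3 : IsNilpotent (res.mapMatrix A₀) := ⟨N, by rw [← map_pow, h2]⟩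
  have h4 := (Matrix.isNilpotent_trace_of_isNilpotent h3).eq_zero
  have h5 : (res.mapMatrix A₀).trace = res A₀.trace := by
    rw [Matrix.trace, Matrix.trace, map_sum]
    rfl
  rw [h5, residue_eq_zero_iff] at h4
  have h6 : ((A₀.trace : P.O) : K) = A.trace := by
    rw [Matrix.trace, Matrix.trace, coe_sum_O]
    rfl
  rw [← h6]
  exact h4

end matrix

section disc

variable {k K K' : Type*} [Field k] [Field K] [Field K'] [Algebra k K] [Algebra K K']
  [Algebra k K'] [IsScalarTower k K K'] [FiniteDimensional K K']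

/-- the `K`-basis of `K'` given by an integral basis -/
noncomputable def basisOfIndep {P : Place k K} {b : Fin (finrank K K') → K'}
    (hb : IndepModT P b) : Basis (Fin (finrank K K')) K K' :=
  basisOfLinearIndependentOfCardEqFinrank' b (linearIndependent_of_indepModT hb)
    (Fintype.card_fin _)

theorem coe_basisOfIndep {P : Place k K} {b : Fin (finrank K K') → K'}
    (hb : IndepModT P b) : ⇑(basisOfIndep hb) = b :=
  coe_basisOfLinearIndependentOfCardEqFinrank' _ _ _

theorem basisOfIndep_apply {P : Place k K} {b : Fin (finrank K K') → K'}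
    (hb : IndepModT P b) (i : Fin (finrank K K')) : basisOfIndep hb i = b i := by
  rw [coe_basisOfIndep]

theorem sum_repr_basisOfIndep {P : Place k K} {b : Fin (finrank K K') → K'}
    (hb : IndepModT P b) (y : K') : ∑ i, (basisOfIndep hb).repr y i • b i = y := by
  have := (basisOfIndep hb).sum_repr y
  rwa [coe_basisOfIndep] at this

/-- coordinates of elements of `B_P` are integral -/
theorem val_repr_le_one {P : Place k K} {b : Fin (finrank K K') → K'}
    (hb : IndepModT P b) {y : K'} (hy : y ∈ semiLocal K' P) (i : Fin (finrank K K')) :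
    P.1 ((basisOfIndep hb).repr y i) ≤ 1 :=
  coeff_integral hb _ (by rw [sum_repr_basisOfIndep]; exact hy) i

/-- coordinates of elements of `t B_P` are in `m_P` -/
theorem val_repr_lt_one {P : Place k K} {b : Fin (finrank K K') → K'}
    (hb : IndepModT P b) {y : K'} (hy : y ∈ semiLocalT K' P) (i : Fin (finrank K K')) :
    P.1 ((basisOfIndep hb).repr y i) < 1 :=
  hb _ (fun i => val_repr_le_one hb (semiLocalT_le_semiLocal hy) i)
    (by rw [sum_repr_basisOfIndep]; exact hy) i

omit [FiniteDimensional K K'] in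
theorem mul_mem_semiLocalT {P : Place k K} {y w : K'} (hy : y ∈ semiLocalT K' P)
    (hw : w ∈ semiLocal K' P) : y * w ∈ semiLocalT K' P := by
  intro Q hQ
  rw [map_mul]
  calc Q.1 y * Q.1 w ≤ exp (-(ramIdx Q P : ℤ)) * 1 := by
        gcongr
        · exact hy Q hQ
        · exact hw Q hQ
    _ = _ := mul_one _

/-- the trace of an element of `B_P` is integral -/
theorem val_trace_le_one {P : Place k K} {b : Fin (finrank K K') → K'}
    (hb : IndepModT P b) (hbB : ∀ i, b i ∈ semiLocal K' P) {y : K'}
    (hy : y ∈ semiLocal K' P) : P.1 (Algebra.trace K K' y) ≤ 1 := by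
  rw [Algebra.trace_eq_matrix_trace (basisOfIndep hb), Matrix.trace]
  apply Valuation.map_sum_le
  intro i _
  rw [Matrix.diag_apply, Algebra.leftMulMatrix_eq_repr_mul, basisOfIndep_apply]
  exact val_repr_le_one hb ((semiLocal K' P).mul_mem hy (hbB i)) i

/-- the trace of an element of `B_P` nilpotent modulo `t` lies in `m_P` -/
theorem val_trace_lt_one {P : Place k K} {b : Fin (finrank K K') → K'}
    (hb : IndepModT P b) (hbB : ∀ i, b i ∈ semiLocal K' P) {y : K'}
    (hy : y ∈ semiLocal K' P) (N : ℕ) (hN : y ^ N ∈ semiLocalT K' P) :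
    P.1 (Algebra.trace K K' y) < 1 := by
  rw [Algebra.trace_eq_matrix_trace (basisOfIndep hb)]
  apply val_trace_lt_one_of_pow P _ _ N
  · intro i j
    rw [← map_pow, Algebra.leftMulMatrix_eq_repr_mul, basisOfIndep_apply]
    exact val_repr_lt_one hb (mul_mem_semiLocalT hN (hbB j)) i
  · intro i j
    rw [Algebra.leftMulMatrix_eq_repr_mul, basisOfIndep_apply]
    exact val_repr_le_one hb ((semiLocal K' P).mul_mem hy (hbB j)) i

theorem val_traceMatrix_le_one {P : Place k K} {b : Fin (finrank K K') → K'}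
    (hb : IndepModT P b) (hbB : ∀ i, b i ∈ semiLocal K' P) (i j : Fin (finrank K K')) :
    P.1 (Algebra.traceMatrix K b i j) ≤ 1 := by
  rw [Algebra.traceMatrix_apply, Algebra.traceForm_apply]
  exact val_trace_le_one hb hbB ((semiLocal K' P).mul_mem (hbB i) (hbB j))

theorem val_discr_le_one {P : Place k K} {b : Fin (finrank K K') → K'}
    (hb : IndepModT P b) (hbB : ∀ i, b i ∈ semiLocal K' P) :
    P.1 (Algebra.discr K b) ≤ 1 := by
  rw [Algebra.discr_def]
  exact val_det_le_one P _ (val_traceMatrix_le_one hb hbB)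

/-- if `B_P / t B_P` has a nilpotent element, the discriminant of an integral basis is in `m_P` -/
theorem val_discr_lt_one {P : Place k K} {b : Fin (finrank K K') → K'}
    (hb : IndepModT P b) (hbB : ∀ i, b i ∈ semiLocal K' P) {z : K'}
    (hz : z ∈ semiLocal K' P) (hzT : z ∉ semiLocalT K' P) (N : ℕ)
    (hN : ∀ w ∈ semiLocal K' P, (z * w) ^ N ∈ semiLocalT K' P) :
    P.1 (Algebra.discr K b) < 1 := by
  classical
  let c := fun i => (basisOfIndep hb).repr z i
  have hc1 : ∀ i, P.1 (c i) ≤ 1 := fun i => val_repr_le_one hb hz i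
  have hcsum : ∑ i, c i • b i = z := sum_repr_basisOfIndep hb z
  obtain ⟨l, hl⟩ : ∃ l, P.1 (c l) = 1 := by
    by_contra hcon
    push Not at hcon
    apply hzT
    rw [← hcsum]
    refine (semiLocalT K' P).sum_mem fun i _ => ?_
    exact smul_mem_semiLocalT (lt_of_le_of_ne (hc1 i) (hcon i)) (hbB i)
  let Tm := Algebra.traceMatrix K b
  have hv : ∀ j, P.1 (Matrix.vecMul c Tm j) < 1 := by
    intro j
    have h1 : Matrix.vecMul c Tm j = Algebra.trace K K' (z * b j) := by
      rw [← hcsum, Finset.sum_mul, map_sum]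
      simp only [Matrix.vecMul, dotProduct, Tm, Algebra.traceMatrix_apply,
        Algebra.traceForm_apply]
      apply Finset.sum_congr rfl
      intro i _
      rw [smul_mul_assoc, map_smul, smul_eq_mul]
    rw [h1]
    exact val_trace_lt_one hb hbB ((semiLocal K' P).mul_mem hz (hbB j)) N (hN _ (hbB j))
  have h2 : Matrix.vecMul (Matrix.vecMul c Tm) Tm.adjugate = Tm.det • c := by
    rw [Matrix.vecMul_vecMul, Matrix.mul_adjugate, Matrix.vecMul_smul, Matrix.vecMul_one]
  have h3 := congrFun h2 l
  have h4 : P.1 (Matrix.vecMul (Matrix.vecMul c Tm) Tm.adjugate l) < 1 := by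
    show P.1 (∑ j, Matrix.vecMul c Tm j * Tm.adjugate j l) < 1
    apply Valuation.map_sum_lt _ one_ne_zero
    intro j _
    rw [map_mul]
    calc _ ≤ P.1 (Matrix.vecMul c Tm j) * 1 := by
          gcongr
          exact val_adjugate_le_one P _ (val_traceMatrix_le_one hb hbB) j l
      _ = P.1 (Matrix.vecMul c Tm j) := mul_one _
      _ < 1 := hv j
  rw [h3, Pi.smul_apply, smul_eq_mul, map_mul, hl, mul_one] at h4
  exact h4

/-- a basis of `K'/K` inside `B_P` with unit discriminant forces unit discriminant of integral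
bases -/
theorem val_discr_eq_one {P : Place k K} {b : Fin (finrank K K') → K'}
    (hb : IndepModT P b) (hbB : ∀ i, b i ∈ semiLocal K' P)
    (c : Fin (finrank K K') → K') (hcB : ∀ i, c i ∈ semiLocal K' P)
    (hc : P.1 (Algebra.discr K c) = 1) : P.1 (Algebra.discr K b) = 1 := by
  classical
  let M : Matrix (Fin (finrank K K')) (Fin (finrank K K')) K :=
    fun i j => (basisOfIndep hb).repr (c i) j
  have hM : ∀ i j, P.1 (M i j) ≤ 1 := fun i j => val_repr_le_one hb (hcB i) j
  have hcM : c = Matrix.mulVec (M.map (algebraMap K K')) b := by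
    ext i
    rw [← sum_repr_basisOfIndep hb (c i)]
    simp only [Matrix.mulVec, dotProduct, Matrix.map_apply, M, Algebra.smul_def]
  rw [hcM, Algebra.discr_of_matrix_mulVec, map_mul, map_pow] at hc
  apply le_antisymm (val_discr_le_one hb hbB)
  calc (1 : ℤᵐ⁰) = P.1 M.det ^ 2 * P.1 (Algebra.discr K b) := hc.symm
    _ ≤ 1 * P.1 (Algebra.discr K b) := by
        gcongr
        exact pow_le_one₀ zero_le (val_det_le_one P M hM)
    _ = _ := one_mul _

end disc

section ramified

variable {k K K' : Type*} [Field k] [Field K] [Field K'] [Algebra k K] [Algebra K K']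
  [Algebra k K'] [IsScalarTower k K K'] [FiniteDimensional K K']

/-- a place below which a basis with unit discriminant is integral is unramified -/
theorem ramIdx_eq_one_of_discr (hK : IsFunctionField k K) (P : Place k K)
    (c : Fin (finrank K K') → K') (hcB : ∀ i, c i ∈ semiLocal K' P)
    (hc : P.1 (Algebra.discr K c) = 1) {Q : Place k K'} (hQ : IsOver Q P) :
    ramIdx Q P = 1 := by
  classical
  obtain ⟨b, hbB, hb⟩ := exists_integral_basis (K' := K') hK P
  have hdisc := val_discr_eq_one hb hbB c hcB hc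
  by_contra hne
  have hpos : 1 ≤ ramIdx Q P := isOverWith_pos (isOverWith_ramIdx hQ)
  have he2 : 2 ≤ ramIdx Q P := by omega
  have hfin := finite_isOver (K' := K') hK.1 P
  let ι := ↥hfin.toFinset
  let i₀ : ι := ⟨Q, hfin.mem_toFinset.mpr hQ⟩
  let M : ℤ := ∑ i : ι, (ramIdx (i : Place k K') P : ℤ) + 2
  have hM : ∀ j : ι, (ramIdx (j : Place k K') P : ℤ) ≤ M := by
    intro j
    have : (ramIdx (j : Place k K') P : ℤ) ≤ ∑ i : ι, (ramIdx (i : Place k K') P : ℤ) :=
      Finset.single_le_sum (f := fun i : ι => (ramIdx (i : Place k K') P : ℤ))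
        (fun i _ => by positivity) (Finset.mem_univ j)
    omega
  have hM2 : 2 ≤ M := by
    have : (0 : ℤ) ≤ ∑ i : ι, (ramIdx (i : Place k K') P : ℤ) :=
      Finset.sum_nonneg (fun i _ => by positivity)
    omega
  obtain ⟨π, hπ⟩ := exists_uniformizer Q
  obtain ⟨z, hz⟩ := weak_approximation (fun i : ι => (i : Place k K')) Subtype.val_injective
    (fun i => if i = i₀ then π else 0) M
  have hzQ : Q.1 z = exp (-1) := by
    have h1 := hz i₀
    simp only [if_true] at h1
    have h2 : z = π + (z - π) := by ring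
    rw [h2, Valuation.map_add_eq_of_lt_left, hπ]
    rw [hπ]
    refine lt_of_le_of_lt h1 ?_
    rw [exp_lt_exp]; omega
  have hzQ' : ∀ Q' : Place k K', IsOver Q' P → Q' ≠ Q →
      Q'.1 z ≤ exp (-(ramIdx Q' P : ℤ)) := by
    intro Q' hQ' hne'
    let j : ι := ⟨Q', hfin.mem_toFinset.mpr hQ'⟩
    have h1 := hz j
    have hj : j ≠ i₀ := fun h => hne' (congrArg Subtype.val h)
    rw [if_neg hj, sub_zero] at h1
    refine le_trans h1 ?_
    rw [exp_le_exp]
    have h3 : (ramIdx Q' P : ℤ) ≤ M := hM j
    omega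
  have hzB : z ∈ semiLocal K' P := by
    intro Q' hQ'
    by_cases h : Q' = Q
    · rw [h, hzQ, ← exp_zero, exp_le_exp]; omega
    · refine le_trans (hzQ' Q' hQ' h) ?_
      rw [← exp_zero, exp_le_exp]; omega
  have hzT : z ∉ semiLocalT K' P := by
    intro h
    have := h Q hQ
    rw [hzQ, exp_le_exp] at this
    omega
  have hN : ∀ w ∈ semiLocal K' P, (z * w) ^ (ramIdx Q P) ∈ semiLocalT K' P := by
    intro w hw Q' hQ'
    rw [map_pow, map_mul]
    by_cases h : Q' = Q
    · rw [h, hzQ]
      calc (exp (-1 : ℤ) * Q.1 w) ^ ramIdx Q P ≤ (exp (-1 : ℤ) * 1) ^ ramIdx Q P := by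
            gcongr
            exact hw Q hQ
        _ = exp (-(ramIdx Q P : ℤ)) := by
            rw [mul_one, ← exp_nsmul]
            simp
    · have hpos' : 1 ≤ ramIdx Q' P := isOverWith_pos (isOverWith_ramIdx hQ')
      calc (Q'.1 z * Q'.1 w) ^ ramIdx Q P ≤ (exp (-(ramIdx Q' P : ℤ)) * 1) ^ ramIdx Q P := by
            gcongr
            · exact hzQ' Q' hQ' h
            · exact hw Q' hQ'
        _ = exp ((ramIdx Q P) • (-(ramIdx Q' P : ℤ))) := by rw [mul_one, ← exp_nsmul]
        _ ≤ exp (-(ramIdx Q' P : ℤ)) := by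
            rw [exp_le_exp]
            simp only [nsmul_eq_mul, mul_neg, neg_le_neg_iff]
            have h1 : (1 : ℤ) ≤ (ramIdx Q P : ℤ) := by exact_mod_cast hpos
            have h2 : (0 : ℤ) ≤ (ramIdx Q' P : ℤ) := by positivity
            nlinarith
  have := val_discr_lt_one hb hbB hzB hzT (ramIdx Q P) hN
  rw [hdisc] at this
  exact lt_irrefl _ this

/-- **in a finite separable extension only finitely many places ramify** -/
theorem finite_ramified [Algebra.IsSeparable K K'] (hK : IsFunctionField k K) :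
    {Q : Place k K' | ∃ P : Place k K, IsOver Q P ∧ ramIdx Q P ≠ 1}.Finite := by
  classical
  have hK1 : IsFF1 k K := hK.1
  have hK' : IsFF1 k K' := isFF1_of_finite K' hK1
  let c : Basis (Fin (finrank K K')) K K' := Module.finBasis K K'
  have hD : Algebra.discr K c ≠ 0 := Algebra.discr_not_zero_of_basis K c
  have hD' : algebraMap K K' (Algebra.discr K c) ≠ 0 := by
    rwa [Ne, map_eq_zero_iff _ (algebraMap K K').injective]
  let S : Set (Place k K') :=
    (⋃ i, Function.support fun Q : Place k K' => Q.ord (c i)) ∪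
      Function.support fun Q : Place k K' => Q.ord (algebraMap K K' (Algebra.discr K c))
  have hS : S.Finite :=
    (Set.finite_iUnion fun i => finite_support_ord hK' (c i)).union (finite_support_ord hK' _)
  have hbelow : ∀ Q : Place k K', ∃ P : Place k K, IsOver Q P := fun Q => by
    obtain ⟨P, e, he⟩ := exists_isOverWith hK1 Q
    exact ⟨P, e, he⟩
  choose below hbelow using hbelow
  have hfin2 : (⋃ P ∈ below '' S, {Q : Place k K' | IsOver Q P}).Finite :=
    (hS.image below).biUnion fun P _ => finite_isOver hK1 P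
  refine hfin2.subset ?_
  rintro Q ⟨P, hQP, hne⟩
  by_contra hcon
  have hPbad : P ∉ below '' S := by
    intro hP
    apply hcon
    exact Set.mem_biUnion hP hQP
  have hgood : ∀ Q' : Place k K', IsOver Q' P → Q' ∉ S := by
    intro Q' hQ' hQ'S
    apply hPbad
    refine ⟨Q', hQ'S, ?_⟩
    obtain ⟨e₁, he₁⟩ := hbelow Q'
    obtain ⟨e₂, he₂⟩ := hQ'
    exact (isOverWith_unique he₁ he₂).1
  apply hne
  refine ramIdx_eq_one_of_discr hK P c ?_ ?_ hQP
  · intro i Q' hQ'
    have h1 := hgood Q' hQ'
    by_contra hlt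
    rw [not_le] at hlt
    apply h1
    left
    rw [Set.mem_iUnion]
    refine ⟨i, ?_⟩
    rw [Function.mem_support]
    have hci0 : c i ≠ 0 := c.ne_zero i
    have := (one_lt_val_iff Q' hci0).mp hlt
    omega
  · have h1 := hgood Q hQP
    have h2 : Q.ord (algebraMap K K' (Algebra.discr K c)) = 0 := by
      by_contra h
      exact h1 (Or.inr h)
    have h3 : Q.1 (algebraMap K K' (Algebra.discr K c)) = 1 := by
      rw [val_eq_exp_neg_ord Q hD', h2, neg_zero, exp_zero]
    have hpos : 1 ≤ ramIdx Q P := isOverWith_pos (isOverWith_ramIdx hQP)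
    rw [isOverWith_ramIdx hQP, pow_eq_one_iff] at h3
    rcases h3 with h3 | h3
    · exact h3
    · omega

end ramified

end Groth.Agent.Lib.helper16.FX
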