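import Groth.Agent.Lib.helper16.FHasseAdapt
import Groth.Agent.Lib.helper16.FXDisc

/-! Helper library (helper16): order of Wronskian-type determinants at a place. -/

set_option autoImplicit false

namespace Groth.Agent.Lib.helper16.FHL

open FunFld WithZero LocRes
open Groth.Agent.Lib.helper16

universe u v

variable {k : Type u} {K : Type v} [Field k] [Field K] [Algebra k K]

section general

theorem exp_sum' {ι : Type*} (s : Finset ι) (f : ι → ℤ) :
    (exp (∑ i ∈ s, f i) : ℤᵐ⁰) = ∏ i ∈ s, exp (f i) := by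
  classical
  induction s using Finset.induction_on with
  | empty => simp
  | insert a s ha ih => rw [Finset.sum_insert ha, Finset.prod_insert ha, exp_add, ih]

theorem hasseD_smul (H : K →ₐ[k] PowerSeries K) (j : ℕ) (b : k) (x : K) :
    hasseD H j (b • x) = algebraMap k K b * hasseD H j x := by
  rw [hasseD_apply, Algebra.smul_def, map_mul, H.commutes, PowerSeries.algebraMap_apply,
    PowerSeries.coeff_C_mul, hasseD_apply]

/-- linear change of the tuple multiplies the Wronskian-type determinant by a constant -/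
theorem exists_det_wrMat_eq {n : ℕ} (τ : K →ₐ[k] K) (H : K →ₐ[k] PowerSeries K)
    (φ φ' : Fin (n + 1) → K) (I : Fin n → ℕ)
    (h : ∀ i, φ' i ∈ Submodule.span k (Set.range φ)) :
    ∃ c : k, (wrMat τ H φ' I).det = algebraMap k K c * (wrMat τ H φ I).det := by
  choose B hB using fun i => (Submodule.mem_span_range_iff_exists_fun k).mp (h i)
  let Bm : Matrix (Fin (n + 1)) (Fin (n + 1)) k := Matrix.of B
  refine ⟨Bm.det, ?_⟩
  have hmul : wrMat τ H φ' I = (algebraMap k K).mapMatrix Bm * wrMat τ H φ I := by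
    ext i c
    rw [Matrix.mul_apply]
    refine Fin.cases ?_ (fun l => ?_) c
    · show τ (φ' i) = ∑ m, algebraMap k K (B i m) * τ (φ m)
      rw [← hB i, map_sum]
      apply Finset.sum_congr rfl
      intro m _
      rw [map_smul, Algebra.smul_def]
    · show hasseD H (I l) (φ' i) = ∑ m, algebraMap k K (B i m) * hasseD H (I l) (φ m)
      rw [← hB i, FHs.hasseD_sum]
      apply Finset.sum_congr rfl
      intro m _
      rw [hasseD_smul]
  rw [hmul, Matrix.det_mul, ← RingHom.map_det]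

/-- valuation of the determinant of a matrix congruent to a constant matrix -/
theorem val_det_eq_one_iff (P : Place k K) {m : Type*} [Fintype m] [DecidableEq m]
    (A : Matrix m m K) (r : Matrix m m k)
    (h : ∀ i j, P.1 (A i j - algebraMap k K (r i j)) < 1) :
    (∀ i j, P.1 (A i j) ≤ 1) ∧ (P.1 A.det = 1 ↔ r.det ≠ 0) := by
  have hA : ∀ i j, P.1 (A i j) ≤ 1 := by
    intro i j
    have : A i j = (A i j - algebraMap k K (r i j)) + algebraMap k K (r i j) := by ring
    rw [this]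
    exact (Valuation.map_add P.1 _ _).trans (max_le (h i j).le (FF.val_algebraMap_le P _))
  refine ⟨hA, ?_⟩
  set A₀ := FX.liftMatrix P A hA with hA₀
  have hdet : ((A₀.det : P.O) : K) = A.det := by
    have h1 := (algebraMap P.O K).map_det A₀
    rw [FX.mapMatrix_liftMatrix] at h1
    exact h1
  have hres : (IsLocalRing.residue P.O).mapMatrix A₀ =
      (algebraMap k (IsLocalRing.ResidueField P.O)).mapMatrix r := by
    ext i j
    show IsLocalRing.residue P.O (A₀ i j) = algebraMap k (IsLocalRing.ResidueField P.O) (r i j)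
    have h2 : IsLocalRing.residue P.O (A₀ i j - algebraMap k P.O (r i j)) = 0 := by
      rw [FF.residue_eq_zero_iff]
      exact h i j
    rw [map_sub, sub_eq_zero] at h2
    rw [h2]
    rfl
  have h3 : IsLocalRing.residue P.O A₀.det =
      algebraMap k (IsLocalRing.ResidueField P.O) r.det := by
    rw [RingHom.map_det, hres, ← RingHom.map_det]
  have h4 : P.1 A.det = 1 ↔ IsLocalRing.residue P.O A₀.det ≠ 0 := by
    rw [Ne, FF.residue_eq_zero_iff, hdet]
    have hle : P.1 A.det ≤ 1 := FX.val_det_le_one P A hA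
    constructor
    · intro h; rw [h]; exact lt_irrefl _
    · intro h; exact le_antisymm hle (not_lt.mp h)
  rw [h4, h3, Ne, map_eq_zero]

end general

section entries

variable [IsAlgClosed k] (hK : IsFunctionField k K) (P : Place k K) {t : K}
  (ht : P.1 t = exp (-1))

omit [IsAlgClosed k] in
theorem single_one_pow (m : ℕ) :
    (HahnSeries.single (1 : ℤ) (1 : k)) ^ m = HahnSeries.single (m : ℤ) 1 := by
  rw [HahnSeries.single_pow, one_pow]
  simp

include hK ht

theorem t_ne_zero : t ≠ 0 := by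
  rintro rfl
  rw [map_zero] at ht
  exact exp_ne_zero ht.symm

theorem coeff_lt_eq_zero {z : K} {e : ℕ} (hz : P.1 z ≤ exp (-(e : ℤ))) {m : ℤ} (hm : m < e) :
    (Φ hK P ht z).coeff m = 0 := by
  rw [← val_Φ hK P ht] at hz
  exact (LaurentSeries.valuation_le_iff_coeff_lt_eq_zero k).mp hz m hm

variable {Ht : K →ₐ[k] PowerSeries K} (hHt : IsHasseFamily t Ht)

include hHt in
theorem coeff_entry {z w : K} (hz : P.1 z ≤ 1) (d e : ℕ)
    (hw : w * t ^ e = hasseD Ht d z * t ^ d) (n : ℤ) :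
    (Φ hK P ht w).coeff n = Ring.choose (n + e) d • (Φ hK P ht z).coeff (n + e) := by
  have h1 : Φ hK P ht w * HahnSeries.single (e : ℤ) 1 =
      LaurentSeries.hasseDeriv k d (Φ hK P ht z) * HahnSeries.single (d : ℤ) 1 := by
    rw [← single_one_pow e, ← single_one_pow d, ← Φ_t hK P ht, ← map_pow, ← map_pow, ← map_mul, hw,
      map_mul, Φ_hasseD hK P ht hHt hz]
  have h2 : (Φ hK P ht w).coeff n = (Φ hK P ht w * HahnSeries.single (e : ℤ) 1).coeff (n + e) := by
    rw [HahnSeries.coeff_mul_single_add, mul_one]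
  have h3 : (LaurentSeries.hasseDeriv k d (Φ hK P ht z) * HahnSeries.single (d : ℤ) 1).coeff
      ((n + e - d) + d) = (LaurentSeries.hasseDeriv k d (Φ hK P ht z)).coeff (n + e - d) := by
    rw [HahnSeries.coeff_mul_single_add, mul_one]
  rw [h2, h1, ← sub_add_cancel (n + (e : ℤ)) (d : ℤ), h3, LaurentSeries.hasseDeriv_coeff]

include hHt in
theorem entry_le_one {z w : K} {e : ℕ} (hz : P.1 z ≤ exp (-(e : ℤ))) (d : ℕ)
    (hw : w * t ^ e = hasseD Ht d z * t ^ d) : P.1 w ≤ 1 := by
  have hz1 : P.1 z ≤ 1 := hz.trans (by rw [← exp_zero, exp_le_exp]; omega)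
  rw [← val_Φ hK P ht, ← exp_zero, ← neg_zero, LaurentSeries.valuation_le_iff_coeff_lt_eq_zero k]
  intro n hn
  rw [coeff_entry hK P ht hHt hz1 d e hw, coeff_lt_eq_zero hK P ht hz (by omega), smul_zero]

include hHt in
theorem cf_zero_entry {z w : K} (hz : P.1 z ≤ 1) (d e : ℕ)
    (hw : w * t ^ e = hasseD Ht d z * t ^ d) :
    cf hK P ht 0 w = (e.choose d : k) * cf hK P ht e z := by
  rw [cf_apply, Nat.cast_zero, coeff_entry hK P ht hHt hz d e hw, zero_add, Ring.choose_natCast,
    cf_apply, zsmul_eq_mul]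
  push_cast
  rfl

/-- a fixed point of `τ`: `τ` preserves the valuation ring and the residue -/
theorem val_tau_sub_lt {τ : K →ₐ[k] K} (hP : IsFixedPt τ P) {z : K} (hz : P.1 z ≤ 1) :
    P.1 (τ z - algebraMap k K (cf hK P ht 0 z)) < 1 := by
  have h1 := hP _ (val_sub_cf_lt hK P ht hz)
  rwa [map_sub, AlgHom.commutes] at h1

theorem val_tau_le_one {τ : K →ₐ[k] K} (hP : IsFixedPt τ P) {z : K} (hz : P.1 z ≤ 1) :
    P.1 (τ z) ≤ 1 := by
  have h1 := val_tau_sub_lt hK P ht hP hz
  have : τ z = (τ z - algebraMap k K (cf hK P ht 0 z)) + algebraMap k K (cf hK P ht 0 z) := by ring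
  rw [this]
  exact (Valuation.map_add P.1 _ _).trans (max_le h1.le (FF.val_algebraMap_le P _))

/-- orders do not drop under an endomorphism fixing the place -/
theorem val_tau_le {τ : K →ₐ[k] K} (hP : IsFixedPt τ P) {z : K} {e : ℕ}
    (hz : P.1 z ≤ exp (-(e : ℤ))) : P.1 (τ z) ≤ exp (-(e : ℤ)) := by
  have ht0 := t_ne_zero hK P ht
  have hu : P.1 (z / t ^ e) ≤ 1 := by
    rw [map_div₀, map_pow, ht, ← exp_nsmul, div_le_iff₀ exp_pos, one_mul]
    simpa using hz
  have h1 := val_tau_le_one hK P ht hP hu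
  have h2 : P.1 (τ t) ≤ exp (-1) := by
    rw [← FF.lt_one_iff_le_exp_neg_one]
    apply hP
    rw [ht, ← exp_zero, exp_lt_exp]; omega
  have h3 : τ z = τ (z / t ^ e) * τ t ^ e := by
    rw [← map_pow, ← map_mul, div_mul_cancel₀ _ (pow_ne_zero _ ht0)]
  rw [h3, map_mul, map_pow]
  calc P.1 (τ (z / t ^ e)) * P.1 (τ t) ^ e ≤ 1 * exp (-1) ^ e :=
        mul_le_mul' h1 (pow_le_pow_left' h2 e)
    _ = exp (-(e : ℤ)) := by rw [one_mul, ← exp_nsmul]; simp

theorem val_tau_le_strong {τ : K →ₐ[k] K} (hP : IsStrongFixedPt τ P) {z : K} {e : ℕ}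
    (hz : P.1 z ≤ exp (-(e : ℤ))) : P.1 (τ z) ≤ exp (-(2 * e : ℤ)) := by
  have ht0 := t_ne_zero hK P ht
  have hPf : IsFixedPt τ P := fun z hz => (hP z hz).trans_lt (by rw [← exp_zero, exp_lt_exp]; omega)
  have hu : P.1 (z / t ^ e) ≤ 1 := by
    rw [map_div₀, map_pow, ht, ← exp_nsmul, div_le_iff₀ exp_pos, one_mul]
    simpa using hz
  have h1 := val_tau_le_one hK P ht hPf hu
  have h2 : P.1 (τ t) ≤ exp (-2) := by
    apply hP
    rw [ht, ← exp_zero, exp_lt_exp]; omega
  have h3 : τ z = τ (z / t ^ e) * τ t ^ e := by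
    rw [← map_pow, ← map_mul, div_mul_cancel₀ _ (pow_ne_zero _ ht0)]
  rw [h3, map_mul, map_pow]
  calc P.1 (τ (z / t ^ e)) * P.1 (τ t) ^ e ≤ 1 * exp (-2) ^ e :=
        mul_le_mul' h1 (pow_le_pow_left' h2 e)
    _ = exp (-(2 * e : ℤ)) := by rw [one_mul, ← exp_nsmul]; congr 1; simp; ring

end entries

section main

variable [IsAlgClosed k] (hK : IsFunctionField k K) (P : Place k K) {t : K}
  (ht : P.1 t = exp (-1))

include hK ht

theorem cf_zero_eq_of_val_sub_lt {x : K} {a : k} (h : P.1 (x - algebraMap k K a) < 1) :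
    cf hK P ht 0 x = a := by
  have h1 : P.1 (x - algebraMap k K a) ≤ 1 := h.le
  have h2 := (val_le_exp_iff_cf hK P ht h1 1).mp
    (by rw [FF.lt_one_iff_le_exp_neg_one] at h; simpa using h) 0 one_pos
  rw [map_sub, sub_eq_zero] at h2
  rw [h2, cf_apply, AlgHom.commutes, HahnSeries.algebraMap_apply', PowerSeries.algebraMap_apply,
    HahnSeries.ofPowerSeries_C, Algebra.algebraMap_self, RingHom.id_apply, HahnSeries.C_apply]
  simp

theorem cf_zero_eq_zero_of_val_lt {x : K} (h : P.1 x < 1) : cf hK P ht 0 x = 0 := by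
  apply cf_zero_eq_of_val_sub_lt hK P ht
  rwa [map_zero, sub_zero]

variable {Ht : K →ₐ[k] PowerSeries K} (hHt : IsHasseFamily t Ht)

include hHt

/-- the local computation for an adapted tuple -/
theorem val_det_wrMat_adapted {n : ℕ} (τ : K →ₐ[k] K) (hP : IsFixedPt τ P)
    (ψ : Fin (n + 1) → K) (e : Fin (n + 1) → ℕ) (he0 : e 0 = 0)
    (he1 : ∀ l : Fin n, 1 ≤ e l.succ)
    (hψv : ∀ i, P.1 (ψ i) = exp (-(e i : ℤ))) (hψc : ∀ i, cf hK P ht (e i) (ψ i) = 1)
    (I : Fin n → ℕ) :
    P.1 (wrMat τ Ht ψ I).det ≤ exp (-((∑ i, (e i : ℤ)) - ∑ l, (I l : ℤ))) ∧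
    (((∀ l, 0 < I l) ∨ IsStrongFixedPt τ P) →
      (P.1 (wrMat τ Ht ψ I).det = exp (-((∑ i, (e i : ℤ)) - ∑ l, (I l : ℤ))) ↔
        (Matrix.of fun a b : Fin n => (((e a.succ).choose (I b) : ℕ) : k)).det ≠ 0)) := by
  classical
  have ht0 := t_ne_zero hK P ht
  let d : Fin (n + 1) → ℕ := Fin.cases 0 I
  have hd0 : d 0 = 0 := rfl
  have hds : ∀ l : Fin n, d l.succ = I l := fun l => rfl
  set M := wrMat τ Ht ψ I with hM
  let M' : Matrix (Fin (n + 1)) (Fin (n + 1)) K := Matrix.of fun i c => M i c * t ^ d c / t ^ e i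
  have hM' : ∀ i c, M' i c = M i c * t ^ d c / t ^ e i := fun i c => rfl
  have hM0 : ∀ i, M i 0 = τ (ψ i) := fun i => rfl
  have hMs : ∀ i (l : Fin n), M i l.succ = hasseD Ht (I l) (ψ i) := fun i l => rfl
  have hψle : ∀ i, P.1 (ψ i) ≤ exp (-(e i : ℤ)) := fun i => (hψv i).le
  have hψ1 : ∀ i, P.1 (ψ i) ≤ 1 := fun i =>
    (hψle i).trans (by rw [← exp_zero, exp_le_exp]; omega)
  -- determinant scaling
  have hdet : M.det = (∏ i, t ^ e i) * ((∏ c, (t ^ d c)⁻¹) * M'.det) := by
    rw [← Matrix.det_mul_row, ← Matrix.det_mul_column]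
    congr 1
    ext i c
    simp only [Matrix.of_apply, hM']
    field_simp
  have hvu : P.1 (∏ i, t ^ e i) = exp (-(∑ i, (e i : ℤ))) := by
    rw [map_prod]
    simp only [map_pow, ht, ← exp_nsmul]
    rw [← exp_sum']
    congr 1
    rw [← Finset.sum_neg_distrib]
    apply Finset.sum_congr rfl
    intro i _
    simp
  have hvw : P.1 (∏ c, (t ^ d c)⁻¹) = exp (∑ l, (I l : ℤ)) := by
    rw [map_prod]
    simp only [map_inv₀, map_pow, ht, ← exp_nsmul, ← exp_neg]
    rw [← exp_sum', Fin.sum_univ_succ, hd0]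
    congr 1
    simp only [hds]
    simp
  -- residues of the entries
  let r : Matrix (Fin (n + 1)) (Fin (n + 1)) k := Matrix.of fun i c =>
    Fin.cases (cf hK P ht 0 (M' i 0)) (fun l => (((e i).choose (I l) : ℕ) : k)) c
  have hr0 : ∀ i, r i 0 = cf hK P ht 0 (M' i 0) := fun i => rfl
  have hrs : ∀ i (l : Fin n), r i l.succ = (((e i).choose (I l) : ℕ) : k) := fun i l => rfl
  have hM'0le : ∀ i, P.1 (M' i 0) ≤ 1 := by
    intro i
    rw [hM', hd0, pow_zero, mul_one, hM0, map_div₀, map_pow, ht, ← exp_nsmul,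
      div_le_iff₀ exp_pos, one_mul]
    simpa using val_tau_le hK P ht hP (hψle i)
  have hres : ∀ i c, P.1 (M' i c - algebraMap k K (r i c)) < 1 := by
    intro i c
    refine Fin.cases ?_ (fun l => ?_) c
    · rw [hr0]
      exact val_sub_cf_lt hK P ht (hM'0le i)
    · have hw : M' i l.succ * t ^ e i = hasseD Ht (I l) (ψ i) * t ^ I l := by
        rw [hM', hds, hMs, div_mul_cancel₀ _ (pow_ne_zero _ ht0)]
      have h1 := entry_le_one hK P ht hHt (hψle i) (I l) hw
      have h2 := cf_zero_entry hK P ht hHt (hψ1 i) (I l) (e i) hw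
      rw [hψc i, mul_one] at h2
      rw [hrs, ← h2]
      exact val_sub_cf_lt hK P ht h1
  obtain ⟨hM'le, hiff⟩ := val_det_eq_one_iff P M' r hres
  have hdetle : P.1 M'.det ≤ 1 := FX.val_det_le_one P M' hM'le
  have hval : P.1 M.det = exp (-((∑ i, (e i : ℤ)) - ∑ l, (I l : ℤ))) * P.1 M'.det := by
    rw [hdet, map_mul, map_mul, hvu, hvw, ← mul_assoc, ← exp_add]
    congr 2
    ring
  refine ⟨?_, fun hcond => ?_⟩
  · rw [hval]
    calc _ ≤ exp (-((∑ i, (e i : ℤ)) - ∑ l, (I l : ℤ))) * 1 := mul_le_mul' le_rfl hdetle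
      _ = _ := mul_one _
  · have h1 : P.1 M.det = exp (-((∑ i, (e i : ℤ)) - ∑ l, (I l : ℤ))) ↔ P.1 M'.det = 1 := by
      rw [hval]
      constructor
      · intro h
        have h2 : exp (-((∑ i, (e i : ℤ)) - ∑ l, (I l : ℤ))) * P.1 M'.det =
            exp (-((∑ i, (e i : ℤ)) - ∑ l, (I l : ℤ))) * 1 := by rw [h, mul_one]
        exact mul_left_cancel₀ exp_ne_zero h2
      · intro h
        rw [h, mul_one]
    rw [h1, hiff]
    -- the residue of the corner entry
    have hr00 : r 0 0 = 1 := by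
      rw [hr0]
      have h2 : M' 0 0 = τ (ψ 0) := by
        rw [hM', hd0, he0, pow_zero, mul_one, div_one, hM0]
      rw [h2]
      apply cf_zero_eq_of_val_sub_lt hK P ht
      have h3 := val_tau_sub_lt hK P ht hP (hψ1 0)
      have h4 := hψc 0
      rw [he0] at h4
      rwa [h4] at h3
    have hsub : r.submatrix Fin.succ Fin.succ =
        Matrix.of fun a b : Fin n => (((e a.succ).choose (I b) : ℕ) : k) := by
      ext a b
      rfl
    have hdetr : r.det = (Matrix.of fun a b : Fin n => (((e a.succ).choose (I b) : ℕ) : k)).det := by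
      rcases hcond with hI | hS
      · rw [Matrix.det_succ_row_zero, Finset.sum_eq_single 0]
        · rw [hr00, Fin.succAbove_zero, hsub]
          simp
        · intro j _ hj
          obtain ⟨l, rfl⟩ := Fin.exists_succ_eq.mpr hj
          rw [hrs, he0, Nat.choose_eq_zero_of_lt (hI l), Nat.cast_zero, mul_zero, zero_mul]
        · intro h
          exact absurd (Finset.mem_univ _) h
      · rw [Matrix.det_succ_column_zero, Finset.sum_eq_single 0]
        · rw [hr00, Fin.succAbove_zero, hsub]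
          simp
        · intro i _ hi
          obtain ⟨a, rfl⟩ := Fin.exists_succ_eq.mpr hi
          have h2 : r a.succ 0 = 0 := by
            rw [hr0]
            apply cf_zero_eq_zero_of_val_lt hK P ht
            rw [hM', hd0, pow_zero, mul_one, hM0, map_div₀, map_pow, ht, ← exp_nsmul,
              div_lt_iff₀ exp_pos, one_mul]
            refine (val_tau_le_strong hK P ht hS (hψle a.succ)).trans_lt ?_
            rw [exp_lt_exp]
            have := he1 a
            simp
            omega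
          rw [h2, mul_zero, zero_mul]
        · intro h
          exact absurd (Finset.mem_univ _) h
    rw [hdetr]

end main

section S12605

variable [IsAlgClosed k] (hK : IsFunctionField k K) (P : Place k K) {t : K}
  (ht : P.1 t = exp (-1)) {Ht : K →ₐ[k] PowerSeries K} (hHt : IsHasseFamily t Ht)

include hK ht hHt

omit [IsAlgClosed k] hK ht in
theorem one_le_of_isOrders {n m : ℕ} (φ : Fin m → K) {J : Fin n → ℕ}
    (hJ : IsOrders (IsLocalRing.ResidueField P.O) (hcolAt P Ht φ) J) (l : Fin n) : 1 ≤ J l := by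
  by_contra h
  have h0 : J l = 0 := by omega
  exact not_isJump_hcolAt_one P hHt φ ((hJ.2 0).mp ⟨l, h0⟩)

/-- the adapted tuple with its normalisations expressed through `cf` -/
theorem exists_adapted {n : ℕ} (φ : Fin (n + 1) → K) (hφ : LinearIndependent k φ)
    (heff : (1 : K) ∈ Submodule.span k (Set.range φ)) (hnorm : ∀ i, P.1 (φ i) ≤ 1)
    (J : Fin n → ℕ) (hJ : IsOrders (IsLocalRing.ResidueField P.O) (hcolAt P Ht φ) J) :
    ∃ ψ : Fin (n + 1) → K,
      Submodule.span k (Set.range ψ) = Submodule.span k (Set.range φ) ∧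
      (∀ i, P.1 (ψ i) = exp (-((Fin.cases 0 J i : ℕ) : ℤ))) ∧
      ∀ i, cf hK P ht (Fin.cases 0 J i : ℕ) (ψ i) = 1 := by
  obtain ⟨⟨ψ, hspan, h0v, h0e, hs⟩, -⟩ := exists_adapted_basis hK P ht hHt φ hφ heff hnorm J hJ
  have hinj := (algebraMap_residue_bijective hK P).1
  refine ⟨ψ, hspan, fun i => ?_, fun i => ?_⟩
  · refine Fin.cases ?_ (fun l => ?_) i
    · simpa using h0v
    · exact (hs l).1
  · refine Fin.cases ?_ (fun l => ?_) i
    · apply hinj
      show algebraMap k (IsLocalRing.ResidueField P.O) (cf hK P ht 0 (ψ 0)) = _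
      rw [← evalP_eq hK P ht (by rw [h0v]), map_one]
      exact h0e
    · have hle : P.1 (ψ l.succ / t ^ J l) ≤ 1 := by
        rw [map_div₀, map_pow, (hs l).1, ht, ← exp_nsmul, ← exp_sub, ← exp_zero, exp_le_exp]
        simp
      have h1 := (hs l).2
      rw [evalP_eq hK P ht hle, cf_div_pow, zero_add] at h1
      apply hinj
      show algebraMap k (IsLocalRing.ResidueField P.O) (cf hK P ht (J l) (ψ l.succ)) = _
      rw [map_one]
      exact h1

/-- S12605 -/
theorem val_det_wrMat_le_and_eq_iff {n : ℕ} (τ : K →ₐ[k] K) (hP : IsFixedPt τ P)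
    (φ : Fin (n + 1) → K) (hφ : LinearIndependent k φ)
    (heff : (1 : K) ∈ Submodule.span k (Set.range φ)) (hnorm : ∀ i, P.1 (φ i) ≤ 1)
    (J : Fin n → ℕ) (hJ : IsOrders (IsLocalRing.ResidueField P.O) (hcolAt P Ht φ) J)
    (I : Fin n → ℕ) :
    P.1 (wrMat τ Ht φ I).det ≤ exp (-(∑ l, ((J l : ℤ) - I l))) ∧
    (((∀ l, 0 < I l) ∨ IsStrongFixedPt τ P) →
      (P.1 (wrMat τ Ht φ I).det = exp (-(∑ l, ((J l : ℤ) - I l))) ↔
        (binomMat k J I).det ≠ 0)) := by
  obtain ⟨ψ, hspan, hψv, hψc⟩ := exists_adapted hK P ht hHt φ hφ heff hnorm J hJ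
  -- same valuation of the determinants
  have hvaleq : P.1 (wrMat τ Ht φ I).det = P.1 (wrMat τ Ht ψ I).det := by
    obtain ⟨c₁, h1⟩ := exists_det_wrMat_eq τ Ht φ ψ I (fun i => by
      rw [← hspan]; exact Submodule.subset_span ⟨i, rfl⟩)
    obtain ⟨c₂, h2⟩ := exists_det_wrMat_eq τ Ht ψ φ I (fun i => by
      rw [hspan]; exact Submodule.subset_span ⟨i, rfl⟩)
    apply le_antisymm
    · rw [h2, map_mul]
      calc _ ≤ 1 * P.1 (wrMat τ Ht ψ I).det := mul_le_mul' (FF.val_algebraMap_le P _) le_rfl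
        _ = _ := one_mul _
    · rw [h1, map_mul]
      calc _ ≤ 1 * P.1 (wrMat τ Ht φ I).det := mul_le_mul' (FF.val_algebraMap_le P _) le_rfl
        _ = _ := one_mul _
  have hsum : (∑ i : Fin (n + 1), ((Fin.cases 0 J i : ℕ) : ℤ)) - ∑ l, (I l : ℤ) =
      ∑ l, ((J l : ℤ) - I l) := by
    rw [Fin.sum_univ_succ, Finset.sum_sub_distrib]
    simp
  have key := val_det_wrMat_adapted hK P ht hHt τ hP ψ (fun i => (Fin.cases 0 J i : ℕ)) rfl
    (fun l => by
      show 1 ≤ J l
      exact one_le_of_isOrders P hHt φ hJ l) hψv hψc I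
  rw [hsum, ← hvaleq] at key
  exact key

end S12605

end Groth.Agent.Lib.helper16.FHL
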