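import Groth.Agent.Lib.helper16.FFWeil
import Groth.Agent.Lib.helper16.FFPlane

/-! Helper library (helper16): a function field of genus `≥ 2` has at most one rational subfield
of index two. -/

set_option autoImplicit false

namespace Groth.Agent.Lib.helper16.FHU

open FunFld WithZero Polynomial Module Groth.Agent.Lib.helper16.FF
open scoped IntermediateField

variable {k K : Type*} [Field k] [Field K] [Algebra k K]

theorem mul_mem_L_add {D₁ D₂ : Divisor k K} {a b : K} (ha : a ∈ L D₁) (hb : b ∈ L D₂) :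
    a * b ∈ L (D₁ + D₂) := by
  intro P
  rw [map_mul, Finsupp.add_apply, exp_add]
  exact mul_le_mul' (ha P) (hb P)

theorem not_mem_range_of_finrank_eq_two (hK : IsFunctionField k K) {x : K}
    (hx : finrank k⟮x⟯ K = 2) : x ∉ Set.range (algebraMap k K) := by
  intro hxr
  have h1 : k⟮x⟯ = ⊥ := by
    rw [IntermediateField.adjoin_simple_eq_bot_iff]
    exact IntermediateField.mem_bot.mpr hxr
  rw [h1, IntermediateField.finrank_bot'] at hx
  haveI : FiniteDimensional k K := Module.finite_of_finrank_pos (by omega)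
  obtain ⟨⟨x₀, hx₀, -⟩, -⟩ := hK
  exact hx₀ (Algebra.IsAlgebraic.isAlgebraic x₀)

/-- two distinct double covers of the line force genus `≤ 1` -/
theorem genus_le_one_of_two_double_covers (hK : IsFunctionField k K) {x x' : K}
    (hx : finrank k⟮x⟯ K = 2) (hx' : finrank k⟮x'⟯ K = 2) (hne : x' ∉ k⟮x⟯) :
    genus k K ≤ 1 := by
  classical
  have hxr := not_mem_range_of_finrank_eq_two hK hx
  have hx'r := not_mem_range_of_finrank_eq_two hK hx'
  have htr := transcendental_of_not_mem_range hK hxr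
  haveI : FiniteDimensional k⟮x⟯ K := finiteDimensional_of_transcendental hK htr
  have htop : k⟮x⟯⟮x'⟯ = ⊤ := by
    haveI := IntermediateField.isSimpleOrder_of_finrank_prime k⟮x⟯ K (by rw [hx]; exact Nat.prime_two)
    rcases eq_bot_or_eq_top (k⟮x⟯⟮x'⟯) with h | h
    · exfalso
      rw [IntermediateField.adjoin_simple_eq_bot_iff, IntermediateField.mem_bot] at h
      obtain ⟨a, ha⟩ := h
      apply hne
      rw [← ha]
      exact a.2
    · exact h
  have hdeg : (minpoly k⟮x⟯ x').natDegree = 2 := by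
    rw [← IntermediateField.adjoin.finrank (Algebra.IsIntegral.isIntegral x'), htop,
      IntermediateField.finrank_top', hx]
  have hA : (poleDiv k x).deg = 2 := by rw [deg_poleDiv_eq hK hxr, hx]; rfl
  have hB : (poleDiv k x').deg = 2 := by rw [deg_poleDiv_eq hK hx'r, hx']; rfl
  by_contra hg
  have hg2 : 2 ≤ genus k K := by omega
  obtain ⟨n, hn⟩ : ∃ n : ℕ, n = genus k K := ⟨_, rfl⟩
  obtain ⟨D, hD⟩ : ∃ D : Divisor k K, D = n • poleDiv k x + poleDiv k x' := ⟨_, rfl⟩
  have hDdeg : D.deg = 2 * n + 2 := by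
    rw [hD, deg_add, deg_nsmul, hA, hB]
    ring
  have hell := ell_eq_of_deg_ge hK (D := D) (by rw [hDdeg, hn]; omega)
  have hmem : ∀ i : Fin 2 × Fin (n + 1), x ^ (i.2 : ℕ) * x' ^ (i.1 : ℕ) ∈ L D := by
    intro i
    rw [hD]
    apply mul_mem_L_add
    · exact pow_mem_L_nsmul_poleDiv hK x (by have := i.2.2; omega)
    · have := pow_mem_L_nsmul_poleDiv hK x' (j := (i.1 : ℕ)) (l := 1) (by have := i.1.2; omega)
      rwa [one_smul] at this
  have hli : LinearIndependent k (fun i : Fin 2 × Fin (n + 1) =>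
      (⟨x ^ (i.2 : ℕ) * x' ^ (i.1 : ℕ), hmem i⟩ : L D)) := by
    apply LinearIndependent.of_comp (L D).subtype
    have h0 := linearIndependent_monomials (x := x') htr (n + 1)
    let emb : Fin 2 × Fin (n + 1) → (Σ b : Fin (minpoly k⟮x⟯ x').natDegree, Fin (n + 1 + 1 - b)) :=
      fun i => ⟨⟨i.1, by rw [hdeg]; exact i.1.2⟩, ⟨i.2, by
        have h1 := i.1.2
        have h2 := i.2.2
        show (i.2 : ℕ) < n + 1 + 1 - (i.1 : ℕ)
        omega⟩⟩
    have hemb : Function.Injective emb := by
      intro i j hij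
      simp only [emb, Sigma.mk.injEq, Fin.mk.injEq] at hij
      obtain ⟨h1, h2⟩ := hij
      have h1' : i.1 = j.1 := Fin.ext h1
      refine Prod.ext h1' (Fin.ext ?_)
      have h3 := (Fin.heq_ext_iff (k := n + 1 + 1 - (i.1 : ℕ)) (l := n + 1 + 1 - (j.1 : ℕ))
        (by rw [h1])).mp h2
      exact h3
    exact h0.comp emb hemb
  have hfd := finiteDimensional_L hK D
  have h1 := hli.fintype_card_le_finrank
  rw [Fintype.card_prod, Fintype.card_fin, Fintype.card_fin] at h1
  have h2 : (ell D : ℤ) = finrank k (L D) := rfl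
  have h3 : ((2 * (n + 1) : ℕ) : ℤ) ≤ (finrank k (L D) : ℤ) := by exact_mod_cast h1
  rw [← h2, hell, hDdeg, hn] at h3
  push_cast at h3
  omega

theorem adjoin_eq_of_finrank_eq_two (hK : IsFunctionField k K) (hg : 2 ≤ genus k K) {x x' : K}
    (hx : finrank k⟮x⟯ K = 2) (hx' : finrank k⟮x'⟯ K = 2) : k⟮x⟯ = k⟮x'⟯ := by
  by_contra hne
  by_cases h1 : x' ∈ k⟮x⟯
  · by_cases h2 : x ∈ k⟮x'⟯
    · apply hne
      apply le_antisymm
      · rwa [IntermediateField.adjoin_simple_le_iff]
      · rwa [IntermediateField.adjoin_simple_le_iff]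
    · have := genus_le_one_of_two_double_covers hK hx' hx h2
      omega
  · have := genus_le_one_of_two_double_covers hK hx hx' h1
    omega

end Groth.Agent.Lib.helper16.FHU
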