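import Groth.Agent.Lib.helper16.FHyper
import Groth.Agent.Lib.helper16.FFAut
import Groth.Agent.Lib.helper16.FFWeil
import Groth.Agent.Lib.helper16.FFRat
import Groth.Agent.Lib.helper16.FHypUniq

/-! Helper library (helper16): the genus of a hyperelliptic function field `y² = f(x)`, `char ≠ 2`
(S11014). -/

set_option autoImplicit false

namespace Groth.Agent.Lib.helper16.FHG

open FunFld WithZero Polynomial Module
open scoped IntermediateField
open Groth.Agent.Lib.helper16

variable {k K : Type*} [Field k] [Field K] [Algebra k K]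

/-- valuation of `p(x)` at a pole of `x` -/
theorem val_aeval_of_one_lt (P : Place k K) {x : K} (hx : 1 < P.1 x) {p : k[X]} (hp : p ≠ 0) :
    P.1 (aeval x p) = P.1 x ^ p.natDegree := by
  have hx0 : x ≠ 0 := by
    rintro rfl
    rw [map_zero] at hx
    exact absurd hx (not_lt.mpr zero_le)
  letI : Invertible x := invertibleOfNonzero hx0
  have h1 := eval₂_reverse_mul_pow (algebraMap k K) x p
  have hinv : P.1 (⅟x) < 1 := by
    rw [invOf_eq_inv, map_inv₀]
    exact inv_lt_one_of_one_lt₀ hx
  have h2 : P.1 (aeval (⅟x) (reverse p)) = 1 := by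
    apply FF.gval_aeval_eq_one P.1 P.2.1 hinv
    rw [← coeff_zero_eq_eval_zero, coeff_zero_reverse]
    exact leadingCoeff_ne_zero.mpr hp
  have h3 : aeval x p = aeval (⅟x) (reverse p) * x ^ p.natDegree := h1.symm
  rw [h3, map_mul, h2, one_mul, map_pow]

section sigma

variable {x y : K} (hx : Transcendental k x)
  (hxy : IntermediateField.adjoin k ({x, y} : Set K) = ⊤) {f : k[X]} (hf : Squarefree f)
  (hd : 1 ≤ f.natDegree) (heq : y ^ 2 = aeval x f)

include hxy hf hd heq in
/-- the hyperelliptic involution, and the decomposition `z = α(x) + β(x) y` -/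
theorem exists_sigma : ∃ σ : K ≃ₐ[k] K,
    (∀ r : RatFunc k, σ (FH.ratEmb hx r) = FH.ratEmb hx r) ∧ σ y = -y ∧
    (∀ z : K, ∃ α β : RatFunc k, z = FH.ratEmb hx α + FH.ratEmb hx β * y) ∧
    (∀ α β : RatFunc k, FH.ratEmb hx α + FH.ratEmb hx β * y = 0 → α = 0 ∧ β = 0) ∧
    Module.finrank k⟮x⟯ K = 2 := by
  letI : Algebra (RatFunc k) K := (FH.ratEmb hx).toRingHom.toAlgebra
  have : IsScalarTower k (RatFunc k) K :=
    IsScalarTower.of_algebraMap_eq fun c => ((FH.ratEmb hx).commutes c).symm
  have halg : ∀ r : RatFunc k, algebraMap (RatFunc k) K r = FH.ratEmb hx r := fun r => rfl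
  have heq' : y ^ 2 = FH.polyK K f := by
    unfold FH.polyK
    rw [halg, FH.ratEmb_algebraMap, heq]
  have hy := FH.not_mem_range hf hd heq'
  set q : (RatFunc k)[X] := X ^ 2 - C (algebraMap k[X] (RatFunc k) f) with hq
  have hqm : q.Monic := monic_X_pow_sub_C _ two_ne_zero
  have hqy : aeval y q = 0 := by
    rw [hq, map_sub, map_pow, aeval_X, aeval_C, heq']
    exact sub_self _
  have hyint : IsIntegral (RatFunc k) y := ⟨q, hqm, hqy⟩
  have htop : (RatFunc k)⟮y⟯ = ⊤ := by
    rw [← IntermediateField.restrictScalars_eq_top_iff (K := k), eq_top_iff, ← hxy,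
      IntermediateField.adjoin_le_iff]
    rintro z hz
    rcases hz with rfl | hz
    · show z ∈ (RatFunc k)⟮y⟯
      have : z = algebraMap (RatFunc k) K (algebraMap k[X] (RatFunc k) X) := by
        rw [halg, FH.ratEmb_algebraMap, aeval_X]
      rw [this]
      exact IntermediateField.algebraMap_mem _ _
    · rw [Set.mem_singleton_iff] at hz
      rw [hz]
      exact IntermediateField.mem_adjoin_simple_self _ _
  have hmin : minpoly (RatFunc k) y = q := by
    have hdvd : minpoly (RatFunc k) y ∣ q := minpoly.dvd _ _ hqy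
    have h3 : 2 ≤ (minpoly (RatFunc k) y).natDegree :=
      (minpoly.two_le_natDegree_iff hyint).mpr hy
    exact (Polynomial.eq_of_monic_of_dvd_of_natDegree_le (minpoly.monic hyint) hqm hdvd
      (by rw [hq, natDegree_X_pow_sub_C]; exact h3)).symm
  have hdeg : finrank (RatFunc k) K = 2 := by
    rw [← IntermediateField.finrank_top', ← htop, IntermediateField.adjoin.finrank hyint, hmin, hq,
      natDegree_X_pow_sub_C]
  have hfin : FiniteDimensional (RatFunc k) K := Module.finite_of_finrank_pos (by omega)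
  let pb := IntermediateField.adjoin.powerBasis hyint
  have hroot : aeval (-y) (minpoly (RatFunc k) pb.gen) = 0 := by
    rw [IntermediateField.adjoin.powerBasis_gen, IntermediateField.minpoly_gen, hmin, hq, map_sub,
      map_pow, aeval_X, aeval_C, neg_sq, heq']
    exact sub_self _
  let τ : (RatFunc k)⟮y⟯ →ₐ[RatFunc k] K := pb.lift (-y) hroot
  have hτ : τ (IntermediateField.AdjoinSimple.gen (RatFunc k) y) = -y := by
    have := pb.lift_gen (-y) hroot
    rwa [IntermediateField.adjoin.powerBasis_gen] at this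
  let e : (RatFunc k)⟮y⟯ ≃ₐ[RatFunc k] K :=
    (IntermediateField.equivOfEq htop).trans IntermediateField.topEquiv
  let σF : K →ₐ[RatFunc k] K := τ.comp e.symm.toAlgHom
  have hσy : σF y = -y := by
    show τ (e.symm y) = -y
    have : e.symm y = IntermediateField.AdjoinSimple.gen (RatFunc k) y := by
      apply e.injective
      rw [e.apply_symm_apply]
      rfl
    rw [this, hτ]
  have hbij : Function.Bijective σF := AlgHom.bijective σF
  let σ : K ≃ₐ[RatFunc k] K := AlgEquiv.ofBijective σF hbij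
  refine ⟨σ.restrictScalars k, fun r => ?_, hσy, fun z => ?_, fun α β h => ?_, ?_⟩
  · exact σF.commutes r
  · exact FH.exists_decomp hdeg hy z
  · exact FH.decomp_eq_zero hy h
  · have he : (algebraMap k⟮x⟯ K).comp
        (RatFunc.algEquivOfTranscendental x hx).toRingEquiv.toRingHom =
        (RingEquiv.refl K).toRingHom.comp (algebraMap (RatFunc k) K) := by
      ext r
      rfl
    rw [← hdeg]
    exact (Algebra.finrank_eq_of_equiv_equiv (RatFunc.algEquivOfTranscendental x hx).toRingEquiv
      (RingEquiv.refl K) he).symm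

end sigma

section main

variable (hK : IsFunctionField k K) {x : K} (hx : Transcendental k x)

include hx in
theorem not_mem_range_aeval {h : k[X]} (hh : 1 ≤ h.natDegree) :
    aeval x h ∉ Set.range (algebraMap k K) := by
  rintro ⟨c, hc⟩
  have h0 : aeval x (h - C c) = 0 := by
    rw [map_sub, aeval_C, hc, sub_self]
  have h1 := transcendental_iff.mp hx _ h0
  have h2 : h = C c := sub_eq_zero.mp h1
  rw [h2, natDegree_C] at hh
  omega

include hK hx in
/-- a rational function of `x` in `L(m (x)_∞)` is a polynomial of degree `≤ m` -/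
theorem ratEmb_mem_L {r : RatFunc k} {m : ℕ} (hr : FH.ratEmb hx r ∈ L (m • FF.poleDiv k x)) :
    ∃ g : k[X], r = algebraMap k[X] (RatFunc k) g ∧ g ∈ degreeLT k (m + 1) := by
  classical
  have hxnc : x ∉ Set.range (algebraMap k K) := by
    rintro ⟨c, hc⟩
    exact hx (hc ▸ isAlgebraic_algebraMap c)
  have hx0 : x ≠ 0 := by
    rintro rfl
    exact hxnc ⟨0, map_zero _⟩
  set g := r.num with hg
  set h := r.denom with hh
  have hh0 : h ≠ 0 := RatFunc.denom_ne_zero r
  have hrx : FH.ratEmb hx r = aeval x g / aeval x h := by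
    conv_lhs => rw [← RatFunc.num_div_denom r]
    rw [map_div₀, FH.ratEmb_algebraMap, FH.ratEmb_algebraMap]
  have hhx0 : aeval x h ≠ 0 := fun h0 => hh0 (transcendental_iff.mp hx _ h0)
  -- the denominator is constant
  have hdeg0 : h.natDegree = 0 := by
    by_contra hpos
    have hpos' : 1 ≤ h.natDegree := by omega
    obtain ⟨P, hP⟩ := FF.exists_place_lt_one hK (not_mem_range_aeval hx hpos')
    have hPx : P.1 x ≤ 1 := by
      by_contra hlt
      rw [not_le] at hlt
      rw [val_aeval_of_one_lt P hlt hh0] at hP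
      exact absurd hP (not_lt.mpr (one_le_pow₀ hlt.le))
    obtain ⟨u, w, huw⟩ := RatFunc.isCoprime_num_denom r
    have h1 : aeval x u * aeval x g + aeval x w * aeval x h = 1 := by
      rw [← map_mul, ← map_mul, ← map_add, huw, map_one]
    have hPg : P.1 (aeval x g) = 1 := by
      apply le_antisymm (FF.val_aeval_le_one P hPx g)
      by_contra hlt
      rw [not_le] at hlt
      have h2 : P.1 (aeval x u * aeval x g + aeval x w * aeval x h) < 1 := by
        apply lt_of_le_of_lt (P.1.map_add _ _)
        apply max_lt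
        · rw [map_mul]
          calc P.1 (aeval x u) * P.1 (aeval x g) ≤ 1 * P.1 (aeval x g) := by
                gcongr
                exact FF.val_aeval_le_one P hPx u
            _ < 1 := by rw [one_mul]; exact hlt
        · rw [map_mul]
          calc P.1 (aeval x w) * P.1 (aeval x h) ≤ 1 * P.1 (aeval x h) := by
                gcongr
                exact FF.val_aeval_le_one P hPx w
            _ < 1 := by rw [one_mul]; exact hP
      rw [h1, map_one] at h2
      exact lt_irrefl _ h2
    have hD : (m • FF.poleDiv k x) P = 0 := by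
      rw [Finsupp.smul_apply, FF.poleDiv_apply hK]
      have := (FF.val_le_one_iff P hx0).mp hPx
      rw [max_eq_right (by omega), smul_zero]
    have h3 := hr P
    rw [hD, exp_zero, hrx, map_div₀, hPg, one_div] at h3
    have h4 : 1 < (P.1 (aeval x h))⁻¹ :=
      (one_lt_inv₀ (zero_lt_iff.mpr (FF.val_ne_zero P hhx0))).mpr hP
    exact absurd h3 (not_le.mpr h4)
  have hh1 : h = 1 := by
    have hm : h.Monic := RatFunc.monic_denom r
    exact hm.natDegree_eq_zero.mp hdeg0
  have hrg : r = algebraMap k[X] (RatFunc k) g := by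
    conv_lhs => rw [← RatFunc.num_div_denom r]
    rw [← hh, hh1, map_one, div_one]
  refine ⟨g, hrg, ?_⟩
  rw [mem_degreeLT]
  by_cases hg0 : g = 0
  · rw [hg0, degree_zero]
    exact WithBot.bot_lt_coe _
  obtain ⟨P, hP⟩ := FF.exists_place_one_lt hK hxnc
  have h3 := hr P
  have hrx' : FH.ratEmb hx r = aeval x g := by
    rw [hrx, hh1, map_one, div_one]
  have hord : P.ord x < 0 := (FF.one_lt_val_iff P hx0).mp hP
  have hD : exp ((m • FF.poleDiv k x) P) = P.1 x ^ m := by
    rw [Finsupp.smul_apply, FF.poleDiv_apply hK, max_eq_left (by omega), exp_nsmul,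
      ← FF.val_eq_exp_neg_ord P hx0]
  rw [hD, hrx', val_aeval_of_one_lt P hP hg0] at h3
  have h4 : g.natDegree ≤ m := (pow_le_pow_iff_right₀ hP).mp h3
  refine lt_of_le_of_lt degree_le_natDegree ?_
  exact_mod_cast Nat.lt_succ_of_le h4

end main

section genus

variable (hK : IsFunctionField k K) (h2 : (2 : k) ≠ 0) {x y : K} (hx : Transcendental k x)
  (hxy : IntermediateField.adjoin k ({x, y} : Set K) = ⊤) {f : k[X]} (hf : Squarefree f)
  (hd : 1 ≤ f.natDegree) (heq : y ^ 2 = aeval x f)

include hK in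
/-- polynomials in `x` of degree `≤ n` lie in `L(n (x)_∞)` -/
theorem aeval_mem_L {a : k[X]} {n : ℕ} (ha : a ∈ degreeLT k (n + 1)) :
    aeval x a ∈ L (n • FF.poleDiv k x) := by
  rw [aeval_eq_sum_range]
  apply Submodule.sum_mem
  intro i hi
  apply Submodule.smul_mem
  apply FF.pow_mem_L_nsmul_poleDiv hK x
  rw [Finset.mem_range] at hi
  by_cases ha0 : a = 0
  · rw [ha0, natDegree_zero] at hi
    omega
  rw [mem_degreeLT, degree_eq_natDegree ha0] at ha
  have : a.natDegree < n + 1 := by exact_mod_cast ha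
  omega

include hK hx hd heq in
/-- `b(x) y ∈ L(n (x)_∞)` for `2 deg b + deg f ≤ 2n` -/
theorem aeval_mul_mem_L {b : k[X]} {n : ℕ} (hb : b = 0 ∨ 2 * b.natDegree + f.natDegree ≤ 2 * n) :
    aeval x b * y ∈ L (n • FF.poleDiv k x) := by
  rcases hb with rfl | hb
  · rw [map_zero, zero_mul]
    exact Submodule.zero_mem _
  by_cases hb0 : b = 0
  · rw [hb0, map_zero, zero_mul]
    exact Submodule.zero_mem _
  have hf0 : f ≠ 0 := by
    rintro rfl
    rw [natDegree_zero] at hd
    omega
  have hx0 : x ≠ 0 := by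
    rintro rfl
    exact hx isAlgebraic_zero
  intro P
  rw [Finsupp.smul_apply, FF.poleDiv_apply hK]
  by_cases hPx : P.1 x ≤ 1
  · have hy1 : P.1 y ≤ 1 := by
      have h1 : P.1 y ^ 2 ≤ 1 := by
        rw [← map_pow, heq]
        exact FF.val_aeval_le_one P hPx f
      exact (pow_le_one_iff_of_nonneg zero_le two_ne_zero).mp h1
    have h1 : P.1 (aeval x b * y) ≤ 1 := by
      rw [map_mul]
      calc P.1 (aeval x b) * P.1 y ≤ 1 * 1 := by
            gcongr
            exact FF.val_aeval_le_one P hPx b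
        _ = 1 := one_mul 1
    refine h1.trans ?_
    rw [← exp_zero, exp_le_exp]
    exact smul_nonneg (Nat.cast_nonneg n) (le_max_right _ _)
  · rw [not_le] at hPx
    have hord : P.ord x < 0 := (FF.one_lt_val_iff P hx0).mp hPx
    rw [max_eq_left (by omega), exp_nsmul, ← FF.val_eq_exp_neg_ord P hx0]
    have h1 : P.1 (aeval x b * y) ^ 2 ≤ (P.1 x ^ n) ^ 2 := by
      rw [← map_pow, mul_pow, heq, map_mul, map_pow, val_aeval_of_one_lt P hPx hb0,
        val_aeval_of_one_lt P hPx hf0, ← pow_mul, ← pow_add, ← pow_mul]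
      apply pow_le_pow_right₀ hPx.le
      omega
    exact (pow_le_pow_iff_left₀ zero_le zero_le two_ne_zero).mp h1

include hK in
/-- `(x)_∞` is invariant under automorphisms fixing `x` -/
theorem mem_L_of_fixes (σ : K ≃ₐ[k] K) (hσ : σ x = x) {n : ℕ} {z : K}
    (hz : z ∈ L (n • FF.poleDiv k x)) : σ z ∈ L (n • FF.poleDiv k x) := by
  intro P
  have h1 := hz (FF.comapPlace σ P)
  rw [FF.comapPlace_val] at h1
  have h2 : (FF.comapPlace σ P).ord x = P.ord x := by
    unfold Place.ord
    rw [FF.comapPlace_val, hσ]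
  rw [Finsupp.smul_apply, FF.poleDiv_apply hK, h2] at h1
  rw [Finsupp.smul_apply, FF.poleDiv_apply hK]
  exact h1

include hK h2 hx hxy hf hd heq in
/-- description of `L(n (x)_∞)` -/
theorem mem_L_iff (n : ℕ) (z : K) :
    z ∈ L (n • FF.poleDiv k x) ↔ ∃ a b : k[X], a ∈ degreeLT k (n + 1) ∧
      (b = 0 ∨ 2 * b.natDegree + f.natDegree ≤ 2 * n) ∧ z = aeval x a + aeval x b * y := by
  classical
  constructor
  · intro hz
    obtain ⟨σ, hσr, hσy, hdec, -, -⟩ := exists_sigma hx hxy hf hd heq
    have hσx : σ x = x := by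
      have := hσr (algebraMap k[X] (RatFunc k) X)
      rwa [FH.ratEmb_algebraMap, aeval_X] at this
    obtain ⟨α, β, hαβ⟩ := hdec z
    have hσz : σ z = FH.ratEmb hx α - FH.ratEmb hx β * y := by
      rw [hαβ, map_add, map_mul, hσr, hσr, hσy]
      ring
    have hσzL := mem_L_of_fixes hK σ hσx hz
    have h2K : (2 : K) ≠ 0 := by
      have : (2 : K) = algebraMap k K 2 := by rw [map_ofNat]
      rw [this]
      exact (map_ne_zero_iff _ (algebraMap k K).injective).mpr h2
    have hαL : FH.ratEmb hx α ∈ L (n • FF.poleDiv k x) := by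
      have h1 : FH.ratEmb hx α = (2 : k)⁻¹ • (z + σ z) := by
        rw [hσz, hαβ, Algebra.smul_def, map_inv₀, map_ofNat]
        field_simp
        ring
      rw [h1]
      exact Submodule.smul_mem _ _ (Submodule.add_mem _ hz hσzL)
    have hβL : FH.ratEmb hx β * y ∈ L (n • FF.poleDiv k x) := by
      have h1 : FH.ratEmb hx β * y = (2 : k)⁻¹ • (z - σ z) := by
        rw [hσz, hαβ, Algebra.smul_def, map_inv₀, map_ofNat]
        field_simp
        ring
      rw [h1]
      exact Submodule.smul_mem _ _ (Submodule.sub_mem _ hz hσzL)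
    obtain ⟨a, hαa, ha⟩ := ratEmb_mem_L hK hx hαL
    have hβ2 : FH.ratEmb hx (β ^ 2 * algebraMap k[X] (RatFunc k) f) ∈
        L ((2 * n) • FF.poleDiv k x) := by
      have h1 := FHU.mul_mem_L_add hβL hβL
      have h3 : FH.ratEmb hx (β ^ 2 * algebraMap k[X] (RatFunc k) f) =
          FH.ratEmb hx β * y * (FH.ratEmb hx β * y) := by
        rw [map_mul, map_pow, FH.ratEmb_algebraMap, ← heq]
        ring
      rw [h3, two_mul, add_smul]
      exact h1
    obtain ⟨c, hβc, hc⟩ := ratEmb_mem_L hK hx hβ2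
    -- `β` is a polynomial
    set b₁ := β.num with hb₁
    set b₂ := β.denom with hb₂
    have hb₂0 : b₂ ≠ 0 := RatFunc.denom_ne_zero β
    have hβeq : β = algebraMap k[X] (RatFunc k) b₁ / algebraMap k[X] (RatFunc k) b₂ :=
      (RatFunc.num_div_denom β).symm
    have hb₂0' : algebraMap k[X] (RatFunc k) b₂ ≠ 0 :=
      (map_ne_zero_iff _ (IsFractionRing.injective k[X] (RatFunc k))).mpr hb₂0
    have hpoly : b₁ ^ 2 * f = c * b₂ ^ 2 := by
      apply IsFractionRing.injective k[X] (RatFunc k)
      rw [map_mul, map_pow, map_mul, map_pow, ← hβc, hβeq]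
      field_simp
    have hcop : IsCoprime (b₂ ^ 2) (b₁ ^ 2) :=
      ((RatFunc.isCoprime_num_denom β).symm).pow
    have hdvd : b₂ ^ 2 ∣ f := by
      apply hcop.dvd_of_dvd_mul_left
      rw [hpoly]
      exact dvd_mul_left _ _
    have hunit : IsUnit b₂ := hf b₂ (by rw [← sq]; exact hdvd)
    have hb₂1 : b₂ = 1 := (RatFunc.monic_denom β).eq_one_of_isUnit hunit
    have hβb : β = algebraMap k[X] (RatFunc k) b₁ := by
      rw [hβeq, hb₂1, map_one, div_one]
    refine ⟨a, b₁, ha, ?_, ?_⟩
    · by_cases hb0 : b₁ = 0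
      · exact Or.inl hb0
      right
      have hf0 : f ≠ 0 := by
        rintro rfl
        rw [natDegree_zero] at hd
        omega
      rw [hb₂1, one_pow, mul_one] at hpoly
      have hc0 : c ≠ 0 := by
        rw [← hpoly]
        exact mul_ne_zero (pow_ne_zero _ hb0) hf0
      rw [mem_degreeLT, degree_eq_natDegree hc0] at hc
      have hc' : c.natDegree < 2 * n + 1 := by exact_mod_cast hc
      rw [← hpoly, natDegree_mul (pow_ne_zero _ hb0) hf0, natDegree_pow] at hc'
      omega
    · rw [hαβ, hαa, hβb, FH.ratEmb_algebraMap, FH.ratEmb_algebraMap]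
  · rintro ⟨a, b, ha, hb, rfl⟩
    exact Submodule.add_mem _ (aeval_mem_L hK ha) (aeval_mul_mem_L hK hx hd heq hb)

end genus

section count

variable (hK : IsFunctionField k K) (h2 : (2 : k) ≠ 0) {x y : K} (hx : Transcendental k x)
  (hxy : IntermediateField.adjoin k ({x, y} : Set K) = ⊤) {f : k[X]} (hf : Squarefree f)
  (hd : 1 ≤ f.natDegree) (heq : y ^ 2 = aeval x f)

omit [Field K] [Algebra k K] in
theorem finrank_degreeLT (n : ℕ) : Module.finrank k (degreeLT k n) = n := by
  rw [LinearEquiv.finrank_eq (degreeLTEquiv k n), Module.finrank_fin_fun]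

include hK h2 hx hxy hf hd heq in
/-- `ℓ(n (x)_∞) = (n + 1) + (m + 1)`, `m = ⌊(2n - d)/2⌋` -/
theorem ell_nsmul_poleDiv (n : ℕ) (hn : f.natDegree ≤ 2 * n) :
    ell (n • FF.poleDiv k x) = (n + 1) + ((2 * n - f.natDegree) / 2 + 1) := by
  classical
  set m := (2 * n - f.natDegree) / 2 with hm
  let Ψ : (degreeLT k (n + 1) × degreeLT k (m + 1)) →ₗ[k] K :=
    ((Polynomial.aeval x).toLinearMap.comp (degreeLT k (n + 1)).subtype).coprod
      ((LinearMap.mulRight k y).comp
        ((Polynomial.aeval x).toLinearMap.comp (degreeLT k (m + 1)).subtype))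
  have hΨ : ∀ p, Ψ p = aeval x (p.1 : k[X]) + aeval x (p.2 : k[X]) * y := fun p => rfl
  obtain ⟨σ, -, -, -, hinj, -⟩ := exists_sigma hx hxy hf hd heq
  have hΨinj : Function.Injective Ψ := by
    rw [← LinearMap.ker_eq_bot, LinearMap.ker_eq_bot']
    intro p hp
    rw [hΨ, ← FH.ratEmb_algebraMap hx, ← FH.ratEmb_algebraMap hx] at hp
    obtain ⟨h1, h3⟩ := hinj _ _ hp
    have h1' : (p.1 : k[X]) = 0 := by
      apply IsFractionRing.injective k[X] (RatFunc k)
      rw [h1, map_zero]
    have h3' : (p.2 : k[X]) = 0 := by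
      apply IsFractionRing.injective k[X] (RatFunc k)
      rw [h3, map_zero]
    exact Prod.ext (Subtype.ext h1') (Subtype.ext h3')
  have hrange : LinearMap.range Ψ = L (n • FF.poleDiv k x) := by
    ext z
    rw [LinearMap.mem_range, mem_L_iff hK h2 hx hxy hf hd heq]
    constructor
    · rintro ⟨p, rfl⟩
      refine ⟨p.1, p.2, p.1.2, ?_, hΨ p⟩
      by_cases hb0 : (p.2 : k[X]) = 0
      · exact Or.inl hb0
      right
      have := p.2.2
      rw [mem_degreeLT, degree_eq_natDegree hb0] at this
      have h3 : (p.2 : k[X]).natDegree < m + 1 := by exact_mod_cast this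
      omega
    · rintro ⟨a, b, ha, hb, rfl⟩
      have hb' : b ∈ degreeLT k (m + 1) := by
        rw [mem_degreeLT]
        rcases hb with rfl | hb
        · rw [degree_zero]; exact WithBot.bot_lt_coe _
        refine lt_of_le_of_lt degree_le_natDegree ?_
        have : b.natDegree < m + 1 := by omega
        exact_mod_cast this
      exact ⟨(⟨a, ha⟩, ⟨b, hb'⟩), hΨ _⟩
  unfold ell
  rw [← hrange, LinearMap.finrank_range_of_inj hΨinj, Module.finrank_prod, finrank_degreeLT,
    finrank_degreeLT]

include hK h2 hx hxy hf hd heq in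
/-- S11014 -/
theorem genus_eq : genus k K = (f.natDegree - 1) / 2 := by
  obtain ⟨σ, -, -, -, -, hfr⟩ := exists_sigma hx hxy hf hd heq
  have hxnc : x ∉ Set.range (algebraMap k K) := by
    rintro ⟨c, hc⟩
    exact hx (hc ▸ isAlgebraic_algebraMap c)
  set g := genus k K with hg
  set d := f.natDegree with hdd
  set n := d + g + 1 with hn
  have h1 := ell_nsmul_poleDiv hK h2 hx hxy hf hd heq n (by omega)
  have hdeg : (n • FF.poleDiv k x).deg = 2 * n := by
    rw [FF.deg_nsmul, FF.deg_poleDiv_eq hK hxnc, hfr]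
    push_cast
    ring
  have h3 := FF.ell_eq_of_deg_ge hK (D := n • FF.poleDiv k x) (by rw [hdeg]; push_cast; omega)
  rw [hdeg, h1] at h3
  push_cast at h3
  omega

end count

end Groth.Agent.Lib.helper16.FHG
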