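import Groth.Agent.Lib.helper16.FNonsing2

set_option autoImplicit false
set_option linter.style.haveILetI false

/-! Helper library (helper16): residue fields above nonsingular places. -/

namespace Groth.Agent.Lib.helper16.FCE

open FunFld TensorProduct Module Polynomial WithZero Groth.Agent.Lib.helper16.FX
  Groth.Agent.Lib.helper16.FF

section general

variable {k K K' : Type*} [Field k] [Field K] [Field K'] [Algebra k K] [Algebra K K']
  [Algebra k K'] [IsScalarTower k K K'] [FiniteDimensional K K']

/-- `Valuation.HasExtension` gives `IsOver` -/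
theorem isOver_of_hasExtension (hK : IsFF1 k K) (P : Place k K) (Q : Place k K')
    [P.1.HasExtension Q.1] : IsOver Q P := by
  obtain ⟨P', e, he⟩ := exists_isOverWith hK Q
  have he1 := isOverWith_pos he
  have hPP : P = P' := by
    apply eq_of_valuationRing_le
    intro y hy
    have h1 : Q.1 (algebraMap K K' y) ≤ 1 :=
      (Valuation.HasExtension.val_map_le_one_iff P.1 Q.1 y).mpr hy
    rw [he y] at h1
    exact (pow_le_one_iff_of_nonneg zero_le (by omega)).mp h1
  rw [hPP]
  exact ⟨e, he⟩

/-- approximate an element of `O_Q` by an element of the semilocal ring -/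
theorem exists_semiLocal_approx (hK : IsFF1 k K) (P : Place k K) {Q : Place k K'}
    (hQ : IsOver Q P) (x : K') (hx : Q.1 x ≤ 1) :
    ∃ x' ∈ semiLocal K' P, Q.1 (x' - x) < 1 := by
  classical
  have hfin := finite_isOver (K' := K') hK P
  let ι := ↥hfin.toFinset
  let i₀ : ι := ⟨Q, hfin.mem_toFinset.mpr hQ⟩
  obtain ⟨z, hz⟩ := weak_approximation (fun i : ι => (i : Place k K')) Subtype.val_injective
    (fun i => if i = i₀ then x else 0) 1
  have h1lt : exp (-(1 : ℤ)) < (1 : ℤᵐ⁰) := by
    rw [← exp_zero, exp_lt_exp]; omega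
  have hzQ : Q.1 (z - x) < 1 := by
    have h1 := hz i₀
    simp only [if_true] at h1
    exact lt_of_le_of_lt h1 h1lt
  refine ⟨z, ?_, hzQ⟩
  intro Q' hQ'
  by_cases hQQ : Q' = Q
  · rw [hQQ]
    have : z = (z - x) + x := by ring
    rw [this]
    exact le_trans (Q.1.map_add _ _) (max_le hzQ.le hx)
  · let j : ι := ⟨Q', hfin.mem_toFinset.mpr hQ'⟩
    have h1 := hz j
    have hj : j ≠ i₀ := fun h => hQQ (congrArg Subtype.val h)
    rw [if_neg hj, sub_zero] at h1
    exact le_trans h1 h1lt.le

end general

section resfield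

universe u v

variable {k k' : Type u} {K K' : Type v} [Field k] [Field k'] [Field K] [Field K']
    [Algebra k k'] [Algebra k K] [Algebra K K'] [Algebra k' K'] [Algebra k K']
    [IsScalarTower k k' K'] [IsScalarTower k K K']

/-- above a nonsingular place the residue field is generated by the constants -/
theorem residueField_eq_adjoin
    (h : Function.Bijective (Algebra.TensorProduct.productMap
      (IsScalarTower.toAlgHom k k' K') (IsScalarTower.toAlgHom k K K')))
    [FiniteDimensional k k'] (hK : IsFunctionField k K)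
    (P : Place k K) [Algebra P.O K'] [IsScalarTower P.O K K']
    (hns : (integralClosure P.O K').toSubring =
      (Algebra.adjoin P.O (Set.range (algebraMap k' K'))).toSubring)
    (Q : Place k K') [P.1.HasExtension Q.1] (hk' : ∀ c : k', Q.1 (algebraMap k' K' c) ≤ 1) :
    Algebra.adjoin (IsLocalRing.ResidueField P.O)
      (Set.range fun c : k' => IsLocalRing.residue Q.O ⟨algebraMap k' K' c, hk' c⟩) = ⊤ := by
  classical
  haveI hfin : Module.Finite K K' := finite_of_surjective k k' K K' h.2
  have hQ : IsOver Q P := isOver_of_hasExtension hK.1 P Q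
  rw [eq_top_iff]
  rintro xbar -
  obtain ⟨x, rfl⟩ := IsLocalRing.residue_surjective xbar
  obtain ⟨x', hx'B, hx'Q⟩ := exists_semiLocal_approx hK.1 P hQ (x : K') x.2
  have hint : x' ∈ (integralClosure P.O K').toSubring := isIntegral_of_mem_semiLocal hK P hx'B
  rw [hns] at hint
  replace hint : x' ∈ Algebra.adjoin P.O (Set.range (algebraMap k' K')) := hint
  -- induction on the adjoin
  have key : ∀ y ∈ Algebra.adjoin P.O (Set.range (algebraMap k' K')),
      ∃ hy : Q.1 y ≤ 1, IsLocalRing.residue Q.O ⟨y, hy⟩ ∈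
        Algebra.adjoin (IsLocalRing.ResidueField P.O)
          (Set.range fun c : k' => IsLocalRing.residue Q.O ⟨algebraMap k' K' c, hk' c⟩) := by
    intro y hy
    induction hy using Algebra.adjoin_induction with
    | mem y hy =>
      obtain ⟨c, rfl⟩ := hy
      exact ⟨hk' c, Algebra.subset_adjoin ⟨c, rfl⟩⟩
    | algebraMap r =>
      have h1 : algebraMap P.O K' r = ((algebraMap P.O Q.O r : Q.O) : K') := by
        rw [IsScalarTower.algebraMap_apply P.O K K']
        rfl
      refine ⟨h1 ▸ (algebraMap P.O Q.O r).2, ?_⟩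
      have h2 : (⟨algebraMap P.O K' r, h1 ▸ (algebraMap P.O Q.O r).2⟩ : Q.O) =
          algebraMap P.O Q.O r := Subtype.ext h1
      rw [h2, ← Valuation.HasExtension.algebraMap_residue_eq_residue_algebraMap]
      exact Subalgebra.algebraMap_mem _ _
    | add y z _ _ hy hz =>
      obtain ⟨hy1, hy2⟩ := hy
      obtain ⟨hz1, hz2⟩ := hz
      refine ⟨le_trans (Q.1.map_add _ _) (max_le hy1 hz1), ?_⟩
      have : (⟨y + z, le_trans (Q.1.map_add _ _) (max_le hy1 hz1)⟩ : Q.O) =
          ⟨y, hy1⟩ + ⟨z, hz1⟩ := rfl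
      rw [this, map_add]
      exact Subalgebra.add_mem _ hy2 hz2
    | mul y z _ _ hy hz =>
      obtain ⟨hy1, hy2⟩ := hy
      obtain ⟨hz1, hz2⟩ := hz
      have hyz : Q.1 (y * z) ≤ 1 := by
        rw [map_mul]; exact mul_le_one' hy1 hz1
      refine ⟨hyz, ?_⟩
      have : (⟨y * z, hyz⟩ : Q.O) = ⟨y, hy1⟩ * ⟨z, hz1⟩ := rfl
      rw [this, map_mul]
      exact Subalgebra.mul_mem _ hy2 hz2
  obtain ⟨hy, hmem⟩ := key x' hint
  have heq : IsLocalRing.residue Q.O x = IsLocalRing.residue Q.O ⟨x', hy⟩ := by
    rw [← sub_eq_zero, ← map_sub, IsLocalRing.residue_eq_zero_iff]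
    apply (Valuation.mem_maximalIdeal_iff _ _).mpr
    show Q.1 ((x : K') - x') < 1
    rw [← Valuation.map_neg, neg_sub]
    exact hx'Q
  rw [heq]
  exact hmem

end resfield

end Groth.Agent.Lib.helper16.FCE
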