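import Groth.Agent.Lib.helper16.FResWeil
import Groth.Agent.Lib.helper16.FFG0

/-! Helper library (helper16): consequences of the divisor of the residue Weil differential
(S12582, S12628, S12629, S12631). -/

set_option autoImplicit false

namespace Groth.Agent.Lib.helper16.FRW

open FunFld WithZero LocRes Module
open Groth.Agent.Lib.helper16
open Groth.Agent.Lib.helper16.FRLa
open Groth.Agent.Lib.helper16.FRG
open scoped LaurentSeries

universe u v w

section rows

variable {k : Type u} {K : Type v} [Field k] [Field K] [Algebra k K]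
  (hK : IsFunctionField k K) (hg : IsGeometric k K)
  (F : Place k K → Type w) [∀ P, Field (F P)] [∀ P, Algebra k (F P)]
  [∀ P, FiniteDimensional k (F P)]
  (φ : ∀ P, K →ₐ[k] LaurentSeries (F P)) (hφ : ∀ P, IsExpansionAt P.1 (φ P))
  {v : K} (hv : KaehlerDifferential.D k K v ≠ 0)

include hK hg hφ hv in
/-- the canonical divisor of `dv` -/
theorem exists_canon : ∃ C : Divisor k K, IsDivOf (omega hK F φ hφ 1 v) C ∧
    IsCanonical k K C ∧ ∀ (P : Place k K) (y : K), vDiff (φ P) y v = P.1 y * exp (-(C P)) := by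
  obtain ⟨C, hC, hC'⟩ := exists_isDivOf_omega hK hg F φ hφ one_ne_zero hv
  refine ⟨C, hC, ⟨_, omega_ne_zero hK hg F φ hφ one_ne_zero hv, hC⟩, ?_⟩
  intro P y
  have h1 := val_ser (φ P) (ser_ne_zero hK hg F φ hφ one_ne_zero hv P)
  rw [← hC' P] at h1
  rw [← h1, ← (hφ P).1 y, ← map_mul]
  unfold vDiff ser
  rw [map_one, one_mul]

theorem mul_exp_le_iff (P : Place k K) (y : K) (c d : ℤ) :
    P.1 y * exp (-c) ≤ exp (-d) ↔ P.1 y ≤ exp (c - d) := by
  by_cases hy : y = 0
  · rw [hy, map_zero, zero_mul]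
    exact ⟨fun _ => zero_le, fun _ => zero_le⟩
  · rw [FF.val_eq_exp_neg_ord P hy, ← exp_add, exp_le_exp, exp_le_exp]
    constructor <;> intro h <;> omega

include hK hg hφ hv in
theorem setOf_vDiff_le {C : Divisor k K}
    (hC : ∀ (P : Place k K) (y : K), vDiff (φ P) y v = P.1 y * exp (-(C P))) (D : Divisor k K) :
    {y : K | ∀ P, vDiff (φ P) y v ≤ exp (-(D P))} = (L (C - D) : Set K) := by
  ext y
  rw [Set.mem_ofPred_eq, SetLike.mem_coe]
  constructor
  · intro h P
    have := h P
    rw [hC P y, mul_exp_le_iff] at this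
    rwa [Finsupp.sub_apply]
  · intro h P
    rw [hC P y, mul_exp_le_iff]
    have := h P
    rwa [Finsupp.sub_apply] at this

include hK hg hφ hv in
/-- S12629 -/
theorem finrank_vDiff_le (D : Divisor k K) :
    finrank k (Submodule.span k {y : K | ∀ P, vDiff (φ P) y v ≤ exp (-(D P))}) =
      finrank k (WD D) := by
  obtain ⟨C, hC1, -, hC3⟩ := exists_canon hK hg F φ hφ hv
  rw [setOf_vDiff_le hK hg F φ hφ hv hC3 D, Submodule.span_eq, FF.finrank_WD_eq_ell hK hC1 D]
  rfl

include hK hg hφ hv in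
/-- S12582 -/
theorem finrank_regular :
    finrank k (Submodule.span k {y : K | ∀ P, vDiff (φ P) y v ≤ 1}) = genus k K := by
  obtain ⟨C, -, hC2, hC3⟩ := exists_canon hK hg F φ hφ hv
  have h1 := setOf_vDiff_le hK hg F φ hφ hv hC3 0
  have h2 : {y : K | ∀ P, vDiff (φ P) y v ≤ 1} =
      {y : K | ∀ P, vDiff (φ P) y v ≤ exp (-((0 : Divisor k K) P))} := by
    ext y
    simp only [Set.mem_ofPred_eq, Finsupp.coe_zero, Pi.zero_apply, neg_zero, exp_zero]
  rw [h2, h1, Submodule.span_eq, sub_zero]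
  exact (FF.isCanonical_ell_deg hK hC2).1

include hK hg hφ hv in
theorem omega_eq_mulW (u : K) :
    omega hK F φ hφ u v = mulW u (FF.smul_mem_adele hK u) (omega hK F φ hφ 1 v) := by
  ext a
  rw [FF.mulW_apply, omega_apply, omega_apply]
  apply finsum_congr
  intro P
  change _ = locRes (φ P) ((u • (a : Place k K → K)) P * 1) v
  rw [Pi.smul_apply, smul_eq_mul, mul_one, mul_comm]

include hK hg hφ hv in
/-- S12628 -/
theorem existsUnique_repr (ω : Module.Dual k (adele k K)) (hω : IsWeil ω) :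
    ∃! u : K, ∀ a : adele k K,
      (Function.support fun P => locRes (φ P) ((a : Place k K → K) P * u) v).Finite ∧
        ω a = ∑ᶠ P, locRes (φ P) ((a : Place k K → K) P * u) v := by
  have h0 := omega_ne_zero hK hg F φ hφ one_ne_zero hv
  obtain ⟨x, hx⟩ := FF.exists_mulW_eq hK (isWeil_omega hK hg F φ hφ one_ne_zero hv) h0 hω
  refine ⟨x, ?_, ?_⟩
  · intro a
    refine ⟨finite_support_res hK F φ hφ x v a, ?_⟩
    rw [← hx, ← omega_eq_mulW hK hg F φ hφ hv x]
    rfl
  · intro y hy
    have h1 : omega hK F φ hφ y v = ω := by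
      ext a
      rw [(hy a).2]
      rfl
    rw [omega_eq_mulW hK hg F φ hφ hv y, ← hx] at h1
    exact FF.mulW_left_injective hK h0 h1

include hK hg hφ hv in
/-- S12631 -/
theorem genus_one (h1 : genus k K = 1) :
    (∃ u : K, u ≠ 0 ∧ ∀ P, vDiff (φ P) u v = 1) ∧
      ∀ u u' : K, u ≠ 0 → (∀ P, vDiff (φ P) u v = 1) → (∀ P, vDiff (φ P) u' v = 1) →
        ∃ c : k, u' = c • u := by
  obtain ⟨C, -, hC2, hC3⟩ := exists_canon hK hg F φ hφ hv
  obtain ⟨h2, h3⟩ := FF.isCanonical_ell_deg hK hC2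
  rw [h1] at h2 h3
  have hiff : ∀ (P : Place k K) (y : K), vDiff (φ P) y v = 1 ↔ P.1 y = exp (C P) := by
    intro P y
    rw [hC3 P y]
    constructor
    · intro h
      have : P.1 y * exp (-(C P)) * exp (C P) = exp (C P) := by rw [h, one_mul]
      rwa [mul_assoc, ← exp_add, neg_add_cancel, exp_zero, mul_one] at this
    · intro h
      rw [h, ← exp_add, add_neg_cancel, exp_zero]
  constructor
  · obtain ⟨u, hu0, hu⟩ := FF.exists_ne_zero_mem_L hK (D := C) (by rw [h2]; exact one_pos)
    refine ⟨u, hu0, ?_⟩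
    have h4 := (FF.nonneg_add_div_iff hK C hu0).mp hu
    have h5 : (C + FunFld.div k u).deg = 0 := by
      rw [FF.deg_add, FF.deg_div_eq_zero hK, h3]
      norm_num
    have h6 : (0 : Divisor k K) = C + FunFld.div k u :=
      FF.eq_of_le_of_deg_eq hK h4 (by rw [FF.deg_zero, h5])
    intro P
    rw [hiff, FF.val_eq_exp_neg_ord P hu0]
    have h7 : (0 : Divisor k K) P = (C + FunFld.div k u) P := by rw [← h6]
    rw [Finsupp.add_apply, FF.div_apply hK, Finsupp.coe_zero, Pi.zero_apply] at h7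
    congr 1
    omega
  · intro u u' hu0 hu hu'
    have hu'0 : u' ≠ 0 := by
      rintro rfl
      obtain ⟨P⟩ := FF.nonempty_place hK
      have := (hiff P 0).mp (hu' P)
      rw [map_zero] at this
      exact exp_ne_zero this.symm
    apply FF.eq_smul_of_div_eq hK hu0 hu'0
    ext P
    rw [FF.div_apply hK, FF.div_apply hK]
    have e1 := (hiff P u).mp (hu P)
    have e2 := (hiff P u').mp (hu' P)
    rw [FF.val_eq_exp_neg_ord P hu0] at e1
    rw [FF.val_eq_exp_neg_ord P hu'0] at e2
    have e3 := exp_injective e1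
    have e4 := exp_injective e2
    omega

end rows

end Groth.Agent.Lib.helper16.FRW
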