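import Groth.Agent.Lib.helper16.FResWeil

/-! Helper library (helper16): the divisor of the residue Weil differential, from a separable
place and non-vanishing of the expanded differential (no geometricity hypothesis). -/

set_option autoImplicit false

namespace Groth.Agent.Lib.helper16.FRW

open FunFld WithZero LocRes Module
open Groth.Agent.Lib.helper16
open Groth.Agent.Lib.helper16.FRLa
open Groth.Agent.Lib.helper16.FRG
open scoped LaurentSeries

universe u v w

section canon2

variable {k : Type u} {K : Type v} [Field k] [Field K] [Algebra k K]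
  (hK : IsFunctionField k K)
  (F : Place k K → Type w) [∀ P, Field (F P)] [∀ P, Algebra k (F P)]
  [∀ P, FiniteDimensional k (F P)]
  (φ : ∀ P, K →ₐ[k] LaurentSeries (F P)) (hφ : ∀ P, IsExpansionAt P.1 (φ P))
  {u v : K} (hser : ∀ P, ser (φ P) u v ≠ 0)
  (hsep : ∃ P : Place k K, Algebra.IsSeparable k (IsLocalRing.ResidueField P.O))

include hK hφ hser hsep in
/-- `ω` vanishes on `A(E)` for every divisor `E` below the local orders -/
theorem omega_AD' (E : Divisor k K) (hE : ∀ P, E P ≤ ordDiff (φ P) u v) (a : ↥(adele k K))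
    (ha : (a : Place k K → K) ∈ AD E) : omega hK F φ hφ u v a = 0 := by
  rw [omega_apply]
  apply finsum_eq_zero_of_forall_eq_zero
  intro P
  apply locRes_eq_zero_of_val_le (hφ P) (hser P)
  exact (ha P).trans (exp_le_exp.mpr (hE P))

include hK hφ hser hsep in
theorem omega_mem_WD' (E : Divisor k K) (hE : ∀ P, E P ≤ ordDiff (φ P) u v) :
    omega hK F φ hφ u v ∈ WD E := by
  rw [FF.mem_WD_iff]
  intro a ha
  obtain ⟨x, hx, y, ⟨z, rfl⟩, hxy⟩ := Submodule.mem_sup.mp ha
  have h1 : a = (⟨x, FF.AD_le_adele _ hx⟩ : ↥(adele k K)) +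
      ⟨diag k K z, FF.diag_le_adele hK ⟨z, rfl⟩⟩ := Subtype.ext hxy.symm
  rw [h1, map_add, omega_AD' hK F φ hφ hser hsep E hE _ hx, omega_diag hK F φ hφ u v z _ rfl,
    add_zero]

include hK hφ hser hsep in
/-- a crude divisor below the local orders -/
theorem exists_le_ordDiff' : ∃ E : Divisor k K, ∀ P, E P ≤ ordDiff (φ P) u v := by
  classical
  have h2 := FRTh.finite_poles hK u
  have h3 := FRTh.finite_poles hK v
  set S : Finset (Place k K) := (h2.union h3).toFinset with hSdef
  refine ⟨Finsupp.onFinset S (fun P => if P ∈ S then min (ordDiff (φ P) u v) 0 else 0) ?_, ?_⟩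
  · intro P hP
    by_contra hcon
    rw [if_neg hcon] at hP
    exact hP rfl
  · intro P
    rw [Finsupp.onFinset_apply]
    split_ifs with h
    · exact min_le_left _ _
    · rw [hSdef, Set.Finite.mem_toFinset, Set.mem_union, not_or] at h
      exact ordDiff_nonneg (hφ P) (hser P) (not_lt.mp h.1)
        (not_lt.mp h.2)

include hK hφ hser hsep in
theorem isWeil_omega' : IsWeil (omega hK F φ hφ u v) := by
  obtain ⟨E, hE⟩ := exists_le_ordDiff' hK F φ hφ hser hsep
  exact ⟨E, omega_mem_WD' hK F φ hφ hser hsep E hE⟩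

include hK hφ hser hsep in
/-- the local component of `ω` at a place whose coefficient field is separable is nonzero, with
a pole one order worse than allowed -/
theorem exists_omega_iota_ne_zero' (P : Place k K) [Algebra.IsSeparable k (F P)] :
    ∃ x : K, P.1 x ≤ exp (ordDiff (φ P) u v + 1) ∧ omega hK F φ hφ u v (iota P x) ≠ 0 := by
  obtain ⟨c, hc⟩ : ∃ c : F P, Algebra.trace k (F P) c ≠ 0 := by
    by_contra hcon
    push Not at hcon
    have h1 : Algebra.trace k (F P) = 0 := LinearMap.ext hcon
    exact Algebra.trace_ne_zero k (F P) h1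
  obtain ⟨x, hx1, hx2⟩ := exists_resExp_eq (hφ P) (hser P) c
  refine ⟨x, hx1, ?_⟩
  rw [omega_iota, locRes_eq, hx2]
  exact hc

include hK hφ hser hsep in
theorem omega_ne_zero' : omega hK F φ hφ u v ≠ 0 := by
  have hsep' := hsep
  obtain ⟨P₁, hP₁⟩ := hsep'
  have hsep1 : Algebra.IsSeparable k (IsLocalRing.ResidueField P₁.O) := hP₁
  have : Algebra.IsSeparable k (F P₁) := isSeparable_of_residue (hφ P₁)
  obtain ⟨x, -, hx⟩ := exists_omega_iota_ne_zero' hK F φ hφ hser hsep P₁
  intro h0
  apply hx
  rw [h0]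
  rfl


include hK hφ hser hsep in
/-- every coefficient field is separable over `k`: the local component of `ω` at `P` is not zero -/
theorem isSeparable_coeff' (P : Place k K) : Algebra.IsSeparable k (F P) := by
  classical
  obtain ⟨C, hC⟩ := FF.exists_isDivOf hK _ (isWeil_omega' hK F φ hφ hser hsep)
    (omega_ne_zero' hK F φ hφ hser hsep)
  have h1 : omega hK F φ hφ u v ∉ WD (C + Finsupp.single P 1) := by
    intro h
    have := (hC _).mp h P
    rw [Finsupp.add_apply, Finsupp.single_eq_same] at this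
    omega
  rw [FF.mem_WD_iff] at h1
  push Not at h1
  obtain ⟨a, ha, hne⟩ := h1
  obtain ⟨x, hx, y, ⟨z, rfl⟩, hxy⟩ := Submodule.mem_sup.mp ha
  have h2 : a = (⟨x, FF.AD_le_adele _ hx⟩ : ↥(adele k K)) +
      ⟨diag k K z, FF.diag_le_adele hK ⟨z, rfl⟩⟩ := Subtype.ext hxy.symm
  rw [h2, map_add, omega_diag hK F φ hφ u v z ⟨diag k K z, FF.diag_le_adele hK ⟨z, rfl⟩⟩ rfl,
    add_zero] at hne
  set X : ↥(adele k K) := ⟨x, FF.AD_le_adele _ hx⟩ with hX
  have h3 : X = (X - iota P (x P)) + iota P (x P) := (sub_add_cancel _ _).symm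
  have h4 : omega hK F φ hφ u v (X - iota P (x P)) = 0 := by
    apply (FF.mem_WD_iff.mp (FF.isDivOf_mem_WD hC)) _ (Submodule.mem_sup_left ?_)
    intro Q
    rw [Submodule.coe_sub, Pi.sub_apply, iota_apply]
    split_ifs with h
    · rw [h]
      change P.1 (x P - x P) ≤ _
      rw [sub_self, map_zero]
      exact zero_le
    · rw [sub_zero]
      have := hx Q
      rw [Finsupp.add_apply, Finsupp.single_eq_of_ne h, add_zero] at this
      exact this
  rw [h3, map_add, h4, zero_add, omega_iota, locRes_eq] at hne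
  by_contra hsep
  apply hne
  rw [Algebra.trace_eq_zero_of_not_isSeparable hsep]
  rfl

include hK hφ hser hsep in
/-- the divisor of `ω` is given by the local orders of `u dv` -/
theorem isDivOf_apply' {C : Divisor k K} (hC : IsDivOf (omega hK F φ hφ u v) C) (P : Place k K) :
    C P = ordDiff (φ P) u v := by
  classical
  have hB : ∀ Q : Place k K, C Q ≤ ordDiff (φ Q) u v := by
    intro Q
    by_contra hcon
    rw [not_le] at hcon
    have := isSeparable_coeff' hK F φ hφ hser hsep Q
    obtain ⟨x, hx1, hx2⟩ := exists_omega_iota_ne_zero' hK F φ hφ hser hsep Q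
    apply hx2
    apply (FF.mem_WD_iff.mp (FF.isDivOf_mem_WD hC)) _ (Submodule.mem_sup_left ?_)
    intro R
    rw [iota_apply]
    split_ifs with h
    · rw [h]
      exact hx1.trans (exp_le_exp.mpr (by omega))
    · rw [map_zero]
      exact zero_le
  apply le_antisymm (hB P)
  have h1 : omega hK F φ hφ u v ∈ WD (C + Finsupp.single P (ordDiff (φ P) u v - C P)) := by
    apply omega_mem_WD' hK F φ hφ hser hsep
    intro Q
    rw [Finsupp.add_apply]
    by_cases h : Q = P
    · rw [h, Finsupp.single_eq_same]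
      omega
    · rw [Finsupp.single_eq_of_ne h, add_zero]
      exact hB Q
  have h2 := (hC _).mp h1 P
  rw [Finsupp.add_apply, Finsupp.single_eq_same] at h2
  omega

include hK hφ hser hsep in
theorem exists_isDivOf_omega' : ∃ C : Divisor k K, IsDivOf (omega hK F φ hφ u v) C ∧
    ∀ P, C P = ordDiff (φ P) u v := by
  obtain ⟨C, hC⟩ := FF.exists_isDivOf hK _ (isWeil_omega' hK F φ hφ hser hsep)
    (omega_ne_zero' hK F φ hφ hser hsep)
  exact ⟨C, hC, isDivOf_apply' hK F φ hφ hser hsep hC⟩

include hK hφ hser hsep in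
theorem finite_support_ordDiff' : (Function.support fun P => ordDiff (φ P) u v).Finite := by
  obtain ⟨C, -, hC⟩ := exists_isDivOf_omega' hK F φ hφ hser hsep
  refine C.support.finite_toSet.subset ?_
  intro P hP
  rw [Function.mem_support, ← hC P] at hP
  exact Finsupp.mem_support_iff.mpr hP

include hK hφ hser hsep in
theorem isDivOf_omega' (C : Divisor k K) (hC : ∀ P, C P = ordDiff (φ P) u v) :
    IsDivOf (omega hK F φ hφ u v) C := by
  obtain ⟨C', hC', hC''⟩ := exists_isDivOf_omega' hK F φ hφ hser hsep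
  have : C = C' := Finsupp.ext fun P => by rw [hC P, hC'' P]
  rw [this]
  exact hC'

end canon2

end Groth.Agent.Lib.helper16.FRW
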