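import Groth.Agent.Lib.helper16.FQuad
import Groth.Agent.Lib.helper16.FXDisc

/-! Helper library (helper16): hyperelliptic function fields `y² = f(x)`, `char ≠ 2`. -/

set_option autoImplicit false

namespace Groth.Agent.Lib.helper16.FH

open FunFld WithZero Polynomial Module Groth.Agent.Lib.helper16.FF Groth.Agent.Lib.helper16.FX
open scoped IntermediateField

section poly

variable {k : Type*} [Field k]

/-- parity: `f u² = d v²` is impossible for `f` squarefree of positive degree -/
theorem mul_sq_ne_const_mul_sq {f : k[X]} (hf : Squarefree f) (hd : 1 ≤ f.natDegree)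
    {u v : k[X]} (hu : u ≠ 0) (hv : v ≠ 0) {d : k} (hd0 : d ≠ 0) :
    f * u ^ 2 ≠ C d * v ^ 2 := by
  intro heq
  have hf0 : f ≠ 0 := by
    rintro rfl
    simp at hd
  have hfu : ¬ IsUnit f := by
    intro h
    have := Polynomial.natDegree_eq_zero_of_isUnit h
    omega
  obtain ⟨p, hp, hpf⟩ := WfDvdMonoid.exists_irreducible_factor hfu hf0
  have hpp : Prime p := hp.prime
  have h1 : emultiplicity p f = 1 := by
    apply le_antisymm
    · rcases (squarefree_iff_emultiplicity_le_one f).mp hf p with h | h
      · exact h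
      · exact absurd h hp.not_isUnit
    · have := emultiplicity_pos_of_dvd hpf
      exact Order.one_le_iff_pos.mpr this
  have hCd : emultiplicity p (C d) = 0 :=
    emultiplicity_of_isUnit_right hp.not_isUnit (Polynomial.isUnit_C.mpr (isUnit_iff_ne_zero.mpr hd0))
  have h2 := congrArg (emultiplicity p) heq
  rw [emultiplicity_mul hpp, emultiplicity_mul hpp, emultiplicity_pow hpp, emultiplicity_pow hpp,
    h1, hCd, (FiniteMultiplicity.of_prime_left hpp hu).emultiplicity_eq_multiplicity,
    (FiniteMultiplicity.of_prime_left hpp hv).emultiplicity_eq_multiplicity] at h2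
  have h3 : (1 + 2 * multiplicity p u : ℕ∞) = ((1 + 2 * multiplicity p u : ℕ) : ℕ∞) := by
    push_cast; rfl
  have h4 : (0 + 2 * multiplicity p v : ℕ∞) = ((2 * multiplicity p v : ℕ) : ℕ∞) := by
    push_cast; simp
  simp only [Nat.cast_ofNat] at h2
  rw [h3, h4] at h2
  have := ENat.natCast_inj.mp h2
  omega

end poly

section quad

variable {F K : Type*} [Field F] [Field K] [Algebra F K]

/-- in a quadratic extension `1, y` is a basis for `y` outside the base field -/
theorem exists_decomp (hdeg : finrank F K = 2) {y : K} (hy : y ∉ Set.range (algebraMap F K))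
    (w : K) : ∃ α β : F, w = algebraMap F K α + algebraMap F K β * y := by
  have hfin : FiniteDimensional F K := Module.finite_of_finrank_pos (by omega)
  have hli : LinearIndependent F ![(1 : K), y] := by
    rw [LinearIndependent.pair_iff' one_ne_zero]
    intro a ha
    apply hy
    exact ⟨a, by rw [← ha, Algebra.smul_def, mul_one]⟩
  have hspan := hli.span_eq_top_of_card_eq_finrank' (by rw [Fintype.card_fin, hdeg])
  have hw : w ∈ Submodule.span F (Set.range ![(1 : K), y]) := by rw [hspan]; trivial
  rw [Submodule.mem_span_range_iff_exists_fun] at hw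
  obtain ⟨c, hc⟩ := hw
  rw [Fin.sum_univ_two] at hc
  refine ⟨c 0, c 1, ?_⟩
  rw [← hc]
  simp [Algebra.smul_def]

theorem decomp_eq_zero {y : K} (hy : y ∉ Set.range (algebraMap F K)) {α β : F}
    (h : algebraMap F K α + algebraMap F K β * y = 0) : α = 0 ∧ β = 0 := by
  have hβ : β = 0 := by
    by_contra hβ
    apply hy
    refine ⟨-α / β, ?_⟩
    have hβ' : algebraMap F K β ≠ 0 := by
      rwa [Ne, map_eq_zero_iff _ (algebraMap F K).injective]
    rw [map_div₀, map_neg, div_eq_iff hβ']
    linear_combination -h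
  refine ⟨?_, hβ⟩
  rw [hβ, map_zero, zero_mul, add_zero, map_eq_zero_iff _ (algebraMap F K).injective] at h
  exact h

end quad

section field

variable {k K : Type*} [Field k] [Field K] [Algebra k K] [Algebra (RatFunc k) K]
  [IsScalarTower k (RatFunc k) K]

/-- a polynomial in `x`, viewed in `K` -/
noncomputable def polyK (K : Type*) [Field K] [Algebra (RatFunc k) K] (g : k[X]) : K :=
  algebraMap (RatFunc k) K (algebraMap k[X] (RatFunc k) g)

omit [Algebra k K] [IsScalarTower k (RatFunc k) K] in
/-- `f u² = d v²` in `k(x)` is impossible, in rational-function form -/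
theorem mul_sq_ne_C {f : k[X]} (hf : Squarefree f) (hd : 1 ≤ f.natDegree) {β : RatFunc k}
    (hβ : β ≠ 0) {d : k} (hd0 : d ≠ 0) :
    β ^ 2 * algebraMap k[X] (RatFunc k) f ≠ RatFunc.C d := by
  intro h
  have hden : algebraMap k[X] (RatFunc k) β.denom ≠ 0 := by
    rw [Ne, map_eq_zero_iff _ (RatFunc.algebraMap_injective k)]
    exact β.denom_ne_zero
  have hnum : β.num ≠ 0 := by
    intro h0
    apply hβ
    rw [← RatFunc.num_div_denom β, h0, map_zero, zero_div]
  apply mul_sq_ne_const_mul_sq hf hd hnum β.denom_ne_zero hd0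
  apply RatFunc.algebraMap_injective k
  rw [map_mul, map_mul, map_pow, map_pow, RatFunc.algebraMap_C, ← h]
  have hβ2 : β ^ 2 = algebraMap k[X] (RatFunc k) β.num ^ 2 /
      algebraMap k[X] (RatFunc k) β.denom ^ 2 := by
    rw [← div_pow, RatFunc.num_div_denom]
  rw [hβ2]
  field_simp

omit [Algebra k K] [IsScalarTower k (RatFunc k) K] in
/-- `y` does not lie in `k(x)` -/
theorem not_mem_range {f : k[X]} (hf : Squarefree f) (hd : 1 ≤ f.natDegree) {y : K}
    (heq : y ^ 2 = polyK K f) : y ∉ Set.range (algebraMap (RatFunc k) K) := by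
  rintro ⟨r, rfl⟩
  unfold polyK at heq
  rw [← map_pow] at heq
  have h1 := (algebraMap (RatFunc k) K).injective heq
  have hf0 : f ≠ 0 := by
    rintro rfl
    simp at hd
  have hr0 : r ≠ 0 := by
    rintro rfl
    rw [zero_pow two_ne_zero, eq_comm, map_eq_zero_iff _ (RatFunc.algebraMap_injective k)] at h1
    exact hf0 h1
  have hr0' : r⁻¹ ≠ 0 := inv_ne_zero hr0
  apply mul_sq_ne_C hf hd hr0' (d := 1) one_ne_zero
  rw [← h1, map_one, inv_pow, inv_mul_cancel₀ (pow_ne_zero 2 hr0)]

/-- **the constant field**: `k` is algebraically closed in a hyperelliptic function field -/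
theorem mem_range_of_isAlgebraic (h2 : (2 : k) ≠ 0) (hdeg : finrank (RatFunc k) K = 2)
    {f : k[X]} (hf : Squarefree f) (hd : 1 ≤ f.natDegree) {y : K} (heq : y ^ 2 = polyK K f)
    {z : K} (hz : IsAlgebraic k z) : z ∈ Set.range (algebraMap k K) := by
  have hy := not_mem_range hf hd heq
  have hconst : ∀ r : RatFunc k, IsAlgebraic k r → ∃ c : k, r = RatFunc.C c := by
    intro r hr
    by_contra hcon
    exact RatFunc.transcendental_of_ne_C r hcon hr
  by_cases hzF : z ∈ Set.range (algebraMap (RatFunc k) K)
  · obtain ⟨r, rfl⟩ := hzF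
    have hr : IsAlgebraic k r :=
      (isAlgebraic_algebraMap_iff (algebraMap (RatFunc k) K).injective).mp hz
    obtain ⟨c, rfl⟩ := hconst r hr
    exact ⟨c, by rw [IsScalarTower.algebraMap_apply k (RatFunc k) K, RatFunc.algebraMap_eq_C]⟩
  · exfalso
    have hfin : FiniteDimensional (RatFunc k) K := Module.finite_of_finrank_pos (by omega)
    obtain ⟨-, hnd, hrel⟩ := FQ.exists_quadratic hdeg z hzF
    have hint : IsIntegral k z := hz.isIntegral
    have hcoeff : ∀ i, IsAlgebraic k ((minpoly (RatFunc k) z).coeff i) := by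
      intro i
      exact (Polynomial.isIntegral_coeff_of_dvd (minpoly k z) (minpoly (RatFunc k) z)
        (minpoly.monic hint) (minpoly.monic (Algebra.IsIntegral.isIntegral z))
        (minpoly.dvd_map_of_isScalarTower k (RatFunc k) z) i).isAlgebraic
    obtain ⟨a₀, ha₀⟩ := hconst _ (hcoeff 1)
    obtain ⟨b₀, hb₀⟩ := hconst _ (hcoeff 0)
    rw [ha₀, hb₀] at hrel
    have h2F : (2 : RatFunc k) ≠ 0 := by
      have : (2 : RatFunc k) = RatFunc.C 2 := by rw [map_ofNat]
      rw [this, Ne, map_eq_zero_iff _ RatFunc.C_injective]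
      exact h2
    have h2K : (2 : K) ≠ 0 := by
      have : (2 : K) = algebraMap (RatFunc k) K 2 := by rw [map_ofNat]
      rw [this, Ne, map_eq_zero_iff _ (algebraMap (RatFunc k) K).injective]
      exact h2F
    -- complete the square
    obtain ⟨α, β, hw⟩ := exists_decomp hdeg hy (z + algebraMap (RatFunc k) K (RatFunc.C (a₀ / 2)))
    have hwsq : (z + algebraMap (RatFunc k) K (RatFunc.C (a₀ / 2))) ^ 2 =
        algebraMap (RatFunc k) K (RatFunc.C (a₀ ^ 2 / 4 - b₀)) := by
      have h4 : (4 : K) ≠ 0 := by
        have : (4 : K) = 2 * 2 := by norm_num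
        rw [this]
        exact mul_ne_zero h2K h2K
      simp only [map_div₀, map_sub, map_pow, map_ofNat]
      have e : (z + algebraMap (RatFunc k) K (RatFunc.C a₀) / 2) ^ 2 -
          (algebraMap (RatFunc k) K (RatFunc.C a₀) ^ 2 / 4 -
            algebraMap (RatFunc k) K (RatFunc.C b₀)) =
          z ^ 2 + algebraMap (RatFunc k) K (RatFunc.C a₀) * z +
            algebraMap (RatFunc k) K (RatFunc.C b₀) := by
        field_simp
        ring
      rw [← sub_eq_zero, e, hrel]
    rw [hw] at hwsq
    have hexp : (algebraMap (RatFunc k) K α + algebraMap (RatFunc k) K β * y) ^ 2 =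
        algebraMap (RatFunc k) K (α ^ 2 + β ^ 2 * algebraMap k[X] (RatFunc k) f) +
          algebraMap (RatFunc k) K (2 * α * β) * y := by
      have : y ^ 2 = algebraMap (RatFunc k) K (algebraMap k[X] (RatFunc k) f) := heq
      simp only [map_add, map_mul, map_pow, map_ofNat]
      linear_combination (algebraMap (RatFunc k) K β) ^ 2 * this
    rw [hexp] at hwsq
    have h0 : algebraMap (RatFunc k) K (α ^ 2 + β ^ 2 * algebraMap k[X] (RatFunc k) f -
        RatFunc.C (a₀ ^ 2 / 4 - b₀)) + algebraMap (RatFunc k) K (2 * α * β) * y = 0 := by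
      rw [map_sub]
      linear_combination hwsq
    obtain ⟨h5, h6⟩ := decomp_eq_zero hy h0
    have hβ : β ≠ 0 := by
      rintro rfl
      apply hzF
      refine ⟨α - RatFunc.C (a₀ / 2), ?_⟩
      rw [map_sub, ← sub_eq_iff_eq_add.mpr hw.symm]
      simp
    have hα : α = 0 := by
      rcases mul_eq_zero.mp h6 with h | h
      · rcases mul_eq_zero.mp h with h | h
        · exact absurd h h2F
        · exact h
      · exact absurd h hβ
    rw [hα, zero_pow two_ne_zero, zero_add, sub_eq_zero] at h5
    have hf0 : f ≠ 0 := by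
      rintro rfl
      simp at hd
    have hd0 : a₀ ^ 2 / 4 - b₀ ≠ 0 := by
      intro h
      rw [h, map_zero] at h5
      rcases mul_eq_zero.mp h5 with h | h
      · exact hβ (eq_zero_of_pow_eq_zero h)
      · rw [map_eq_zero_iff _ (RatFunc.algebraMap_injective k)] at h
        exact hf0 h
    exact mul_sq_ne_C hf hd hβ hd0 h5

end field

section build

variable {k K : Type*} [Field k] [Field K] [Algebra k K]

/-- the embedding `k(X) → K` sending `X` to a transcendental element `x` -/
noncomputable def ratEmb {x : K} (hx : Transcendental k x) : RatFunc k →ₐ[k] K :=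
  (k⟮x⟯.val).comp (RatFunc.algEquivOfTranscendental x hx).toAlgHom

theorem ratEmb_algebraMap {x : K} (hx : Transcendental k x) (g : k[X]) :
    ratEmb hx (algebraMap k[X] (RatFunc k) g) = aeval x g := by
  show ((RatFunc.algEquivOfTranscendental x hx (algebraMap k[X] (RatFunc k) g) : k⟮x⟯) : K) = _
  rw [RatFunc.algEquivOfTranscendental_algebraMap, ← IntermediateField.aeval_coe]
  rfl

/-- `k(x, y)` with `y² = f(x)`, `f` squarefree of positive degree, `char ≠ 2`, is a function
field with constant field `k` -/
theorem isFunctionField_hyperelliptic (h2 : (2 : k) ≠ 0) {x y : K} (hx : Transcendental k x)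
    (hxy : IntermediateField.adjoin k ({x, y} : Set K) = ⊤) {f : k[X]} (hf : Squarefree f)
    (hd : 1 ≤ f.natDegree) (heq : y ^ 2 = aeval x f) : IsFunctionField k K := by
  let _ : Algebra (RatFunc k) K := (ratEmb hx).toRingHom.toAlgebra
  have : IsScalarTower k (RatFunc k) K :=
    IsScalarTower.of_algebraMap_eq fun c => ((ratEmb hx).commutes c).symm
  have halg : ∀ r : RatFunc k, algebraMap (RatFunc k) K r = ratEmb hx r := fun r => rfl
  have heq' : y ^ 2 = polyK K f := by
    unfold polyK
    rw [halg, ratEmb_algebraMap, heq]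
  have hy := not_mem_range hf hd heq'
  have hyint : IsIntegral (RatFunc k) y := by
    refine ⟨X ^ 2 - C (algebraMap k[X] (RatFunc k) f), monic_X_pow_sub_C _ two_ne_zero, ?_⟩
    rw [eval₂_sub, eval₂_pow, eval₂_X, eval₂_C, heq']
    exact sub_self _
  have htop : (RatFunc k)⟮y⟯ = ⊤ := by
    rw [← IntermediateField.restrictScalars_eq_top_iff (K := k), eq_top_iff, ← hxy,
      IntermediateField.adjoin_le_iff]
    rintro z hz
    rcases hz with rfl | hz
    · show z ∈ (RatFunc k)⟮y⟯
      have : z = algebraMap (RatFunc k) K (algebraMap k[X] (RatFunc k) X) := by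
        rw [halg, ratEmb_algebraMap, aeval_X]
      rw [this]
      exact IntermediateField.algebraMap_mem _ _
    · rw [Set.mem_singleton_iff] at hz
      rw [hz]
      exact IntermediateField.mem_adjoin_simple_self _ _
  have hdeg : finrank (RatFunc k) K = 2 := by
    rw [← IntermediateField.finrank_top', ← htop, IntermediateField.adjoin.finrank hyint]
    have h1 : (minpoly (RatFunc k) y).natDegree ≤ 2 := by
      have hdvd : minpoly (RatFunc k) y ∣ X ^ 2 - C (algebraMap k[X] (RatFunc k) f) := by
        apply minpoly.dvd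
        rw [map_sub, map_pow, aeval_X, aeval_C, heq']
        exact sub_self _
      have := natDegree_le_of_dvd hdvd (monic_X_pow_sub_C _ two_ne_zero).ne_zero
      rwa [natDegree_X_pow_sub_C] at this
    have h3 : 2 ≤ (minpoly (RatFunc k) y).natDegree := by
      rw [minpoly.two_le_natDegree_iff hyint]
      exact hy
    omega
  have hfin : FiniteDimensional (RatFunc k) K := Module.finite_of_finrank_pos (by omega)
  refine ⟨⟨x, hx, ?_⟩, fun z hz => mem_range_of_isAlgebraic h2 hdeg hf hd heq' hz⟩
  have he : (algebraMap k⟮x⟯ K).comp (RatFunc.algEquivOfTranscendental x hx).toRingEquiv.toRingHom =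
      (RingEquiv.refl K).toRingHom.comp (algebraMap (RatFunc k) K) := by
    ext r
    rfl
  exact Module.Finite.of_equiv_equiv (RatFunc.algEquivOfTranscendental x hx).toRingEquiv
    (RingEquiv.refl K) he

end build

end Groth.Agent.Lib.helper16.FH
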