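import Groth.Agent.Lib.helper16.FSep
import Groth.Agent.Lib.helper16.FHyper

/-! Helper library (helper16): Kähler differentials of geometric function fields. -/

set_option autoImplicit false

namespace Groth.Agent.Lib.helper16.FS

open FunFld Polynomial Module KaehlerDifferential
open scoped TensorProduct IntermediateField

universe u v

/-- `Ω_{k(X)/k}` is free of rank one on `dX` -/
noncomputable def ratFuncBasis (k : Type*) [Field k] : Basis Unit (RatFunc k) Ω[RatFunc k⁄k] :=
  ((Basis.singleton Unit k[X]).map (KaehlerDifferential.polynomialEquiv k).symm).ofIsLocalizedModule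
    (RatFunc k) (nonZeroDivisors k[X]) (KaehlerDifferential.map k k k[X] (RatFunc k))

theorem ratFuncBasis_apply (k : Type*) [Field k] (i : Unit) :
    ratFuncBasis k i = D k (RatFunc k) RatFunc.X := by
  unfold ratFuncBasis
  rw [Basis.ofIsLocalizedModule_apply, Basis.map_apply, Basis.singleton_apply,
    KaehlerDifferential.polynomialEquiv_symm, one_smul, KaehlerDifferential.map_D,
    RatFunc.algebraMap_X]

/-- the basis `dx` of `Ω_{K/k}` for `K` finite separable over `k(X)` -/
noncomputable def kaehlerBasis (k K : Type*) [Field k] [Field K] [Algebra k K]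
    [Algebra (RatFunc k) K] [IsScalarTower k (RatFunc k) K] [Algebra.IsSeparable (RatFunc k) K] :
    Basis Unit K Ω[K⁄k] :=
  have : Algebra.FormallyEtale (RatFunc k) K := Algebra.FormallyEtale.of_isSeparable _ _
  (Algebra.TensorProduct.basis K (ratFuncBasis k)).map
    (KaehlerDifferential.tensorKaehlerEquivOfFormallyEtale k (RatFunc k) K)

theorem kaehlerBasis_apply (k K : Type*) [Field k] [Field K] [Algebra k K]
    [Algebra (RatFunc k) K] [IsScalarTower k (RatFunc k) K] [Algebra.IsSeparable (RatFunc k) K]
    (i : Unit) : kaehlerBasis k K i = D k K (algebraMap (RatFunc k) K RatFunc.X) := by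
  unfold kaehlerBasis
  rw [Basis.map_apply, Algebra.TensorProduct.basis_apply, ratFuncBasis_apply,
    KaehlerDifferential.tensorKaehlerEquivOfFormallyEtale_apply,
    KaehlerDifferential.mapBaseChange_tmul, one_smul, KaehlerDifferential.map_D]

/-- for a separating variable `x`, `dx` is a basis of `Ω_{K/k}` -/
theorem exists_basis_of_separating {k K : Type*} [Field k] [Field K] [Algebra k K] {x : K}
    (hx : Transcendental k x) [hsep : Algebra.IsSeparable k⟮x⟯ K] :
    ∃ b : Basis Unit K Ω[K⁄k], ∀ i, b i = D k K x := by
  let _ : Algebra (RatFunc k) K := (FH.ratEmb hx).toRingHom.toAlgebra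
  have : IsScalarTower k (RatFunc k) K :=
    IsScalarTower.of_algebraMap_eq fun c => ((FH.ratEmb hx).commutes c).symm
  have halg : ∀ r : RatFunc k, algebraMap (RatFunc k) K r = FH.ratEmb hx r := fun r => rfl
  have he : (algebraMap (RatFunc k) K).comp
      (RatFunc.algEquivOfTranscendental x hx).symm.toRingEquiv.toRingHom =
      (RingEquiv.refl K).toRingHom.comp (algebraMap k⟮x⟯ K) := by
    ext a
    show FH.ratEmb hx ((RatFunc.algEquivOfTranscendental x hx).symm a) = a
    show ((RatFunc.algEquivOfTranscendental x hx
      ((RatFunc.algEquivOfTranscendental x hx).symm a) : k⟮x⟯) : K) = a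
    rw [AlgEquiv.apply_symm_apply]
  have : Algebra.IsSeparable (RatFunc k) K :=
    Algebra.IsSeparable.of_equiv_equiv (RatFunc.algEquivOfTranscendental x hx).symm.toRingEquiv
      (RingEquiv.refl K) he
  refine ⟨kaehlerBasis k K, fun i => ?_⟩
  rw [kaehlerBasis_apply, halg, ← RatFunc.algebraMap_X, FH.ratEmb_algebraMap, aeval_X]

/-- S11003: `dim_K Ω_{K/k} = 1` -/
theorem finrank_kaehler {k : Type u} {K : Type v} [Field k] [Field K] [Algebra k K]
    (hK : IsFunctionField k K) (hg : IsGeometric k K) : finrank K Ω[K⁄k] = 1 := by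
  obtain ⟨x, hx, hsep⟩ := exists_separating hK hg
  obtain ⟨b, -⟩ := exists_basis_of_separating hx
  rw [Module.finrank_eq_card_basis b, Fintype.card_unit]

end Groth.Agent.Lib.helper16.FS
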