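import Groth.Agent.Lib.helper16.FSepPlaces

/-! Helper library (helper16): infinitely many places with separable residue field, from a
separating element (no geometricity hypothesis). -/

set_option autoImplicit false

namespace Groth.Agent.Lib.helper16.FSPl

open FunFld WithZero Module Polynomial IntermediateField
open Groth.Agent.Lib.helper16 Groth.Agent.Lib.helper16.FF Groth.Agent.Lib.helper16.FX

section main2

universe u v

variable {k : Type u} {K : Type v} [Field k] [Field K] [Algebra k K]

/-- infinitely many separable places, from a separating element (infinite constant field) -/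
theorem infinite_of_infinite' [Infinite k] (hK : IsFunctionField k K) (x : K)
    (hx : Transcendental k x) (hsep : Algebra.IsSeparable k⟮x⟯ K) :
    {P : Place k K | Algebra.IsSeparable k (IsLocalRing.ResidueField P.O)}.Infinite := by
  classical
  haveI : FiniteDimensional k⟮x⟯ K := finiteDimensional_of_transcendental hK.1 hx
  have hF : IsFunctionField k k⟮x⟯ :=
    FG.isFunctionField_intermediateField k K hK k⟮x⟯
      ⟨x, IntermediateField.mem_adjoin_simple_self k x, hx⟩
  set x₀ : k⟮x⟯ := ⟨x, IntermediateField.mem_adjoin_simple_self k x⟩ with hx₀def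
  have hx₀ : k⟮x₀⟯ = ⊤ := by
    apply IntermediateField.map_injective k⟮x⟯.val
    rw [IntermediateField.adjoin_map, Set.image_singleton, ← AlgHom.fieldRange_eq_map,
      IntermediateField.fieldRange_val]
    rfl
  -- power basis
  let pb := Field.powerBasisOfFiniteOfSeparable k⟮x⟯ K
  set y := pb.gen with hy
  let e : Fin pb.dim ≃ Fin (finrank k⟮x⟯ K) := finCongr pb.finrank.symm
  let B : Basis (Fin (finrank k⟮x⟯ K)) k⟮x⟯ K := pb.basis.reindex e
  have hBy : ∀ i, B i = y ^ (i : ℕ) := by
    intro i
    show (pb.basis.reindex e) i = _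
    rw [Basis.reindex_apply, PowerBasis.coe_basis]
    rfl
  have hd0 : Algebra.discr k⟮x⟯ B ≠ 0 := Algebra.discr_not_zero_of_basis k⟮x⟯ B
  have hGmin : G B y = minpoly k⟮x⟯ y := by
    have hdeg : (∑ j : Fin (finrank k⟮x⟯ K),
        C (B.repr (y ^ finrank k⟮x⟯ K) j) * X ^ (j : ℕ)).degree <
          ((finrank k⟮x⟯ K : ℕ) : WithBot ℕ) :=
      degree_sum_fin_lt _
    have hmonic : (G B y).Monic := monic_X_pow_sub hdeg
    have hnat : (G B y).natDegree = finrank k⟮x⟯ K := by
      apply natDegree_eq_of_degree_eq_some
      unfold G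
      rw [degree_sub_eq_left_of_degree_lt, degree_X_pow]
      rw [degree_X_pow]
      exact hdeg
    have hint : IsIntegral k⟮x⟯ y := Algebra.IsIntegral.isIntegral y
    apply Polynomial.eq_of_monic_of_dvd_of_natDegree_le (minpoly.monic hint) hmonic
      (minpoly.dvd k⟮x⟯ y (aeval_G B y hBy))
    rw [hnat, PowerBasis.natDegree_minpoly, pb.finrank]
  set z := aeval y (derivative (G B y)) with hz
  have hz0 : z ≠ 0 := by
    rw [hz, hGmin]
    have h1 : IsSeparable k⟮x⟯ y := Algebra.IsSeparable.isSeparable k⟮x⟯ y
    exact Polynomial.Separable.aeval_derivative_ne_zero h1 (minpoly.aeval k⟮x⟯ y)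
  set d' := algebraMap k⟮x⟯ K (Algebra.discr k⟮x⟯ B) with hd'
  have hd'0 : d' ≠ 0 := by
    rw [hd', Ne, map_eq_zero]
    exact hd0
  -- the bad places
  let Bad : Set (Place k K) := ({Q | 1 < Q.1 y} ∪ {Q | Q.1 d' ≠ 1}) ∪ {Q | Q.1 z ≠ 1}
  have hBad : Bad.Finite := by
    refine ((Set.Finite.union ?_ (finite_val_ne_one hK hd'0))).union (finite_val_ne_one hK hz0)
    by_cases hy0 : y = 0
    · rw [hy0]
      convert Set.finite_empty
      ext Q
      simp
    · refine (finite_val_ne_one hK hy0).subset ?_
      intro Q hQ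
      exact ne_of_gt hQ
  have hxc : ∀ c : k, x - algebraMap k K c ∉ Set.range (algebraMap k K) := by
    rintro c ⟨c', hc'⟩
    apply hx
    have : x = algebraMap k K (c' + c) := by rw [map_add, hc']; ring
    rw [this]
    exact isAlgebraic_algebraMap _
  choose Qc hQc using fun c => exists_place_lt_one hK (hxc c)
  have hQinj : Function.Injective Qc := by
    intro c c' h
    exact subsingleton_zero_const (Qc c) x (hQc c) (by rw [h]; exact hQc c')
  let S : Set k := {c | ∃ Q ∈ Bad, Q.1 (x - algebraMap k K c) < 1}
  have hS : S.Finite := by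
    have : S ⊆ ⋃ Q ∈ Bad, {c : k | Q.1 (x - algebraMap k K c) < 1} := by
      rintro c ⟨Q, hQ, hc⟩
      rw [Set.mem_iUnion₂]
      exact ⟨Q, hQ, hc⟩
    refine (Set.Finite.biUnion hBad ?_).subset this
    intro Q _
    exact (subsingleton_zero_const Q x).finite
  have hmain : ∀ c ∈ Sᶜ, Algebra.IsSeparable k (IsLocalRing.ResidueField (Qc c).O) := by
    intro c hcS
    obtain ⟨P, e, he⟩ := exists_isOverWith hF.1 (Qc c)
    have he1 : 1 ≤ e := isOverWith_pos he
    have hmapx : algebraMap k⟮x⟯ K (x₀ - algebraMap k k⟮x⟯ c) = x - algebraMap k K c := by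
      rw [map_sub, ← IsScalarTower.algebraMap_apply]
      rfl
    have hPx : P.1 (x₀ - algebraMap k k⟮x⟯ c) < 1 := by
      by_contra hcon
      rw [not_lt] at hcon
      have h1 := he (x₀ - algebraMap k k⟮x⟯ c)
      rw [hmapx] at h1
      have h2 := hQc c
      rw [h1] at h2
      exact absurd (one_le_pow₀ hcon) (not_le.mpr h2)
    have hover : ∀ Q' : Place k K, IsOver Q' P → Q'.1 (x - algebraMap k K c) < 1 := by
      rintro Q' ⟨e', he'⟩
      have he1' : 1 ≤ e' := isOverWith_pos he'
      rw [← hmapx, he']
      exact pow_lt_one₀ zero_le hPx (by omega)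
    have hgood : ∀ Q' : Place k K, IsOver Q' P → Q' ∉ Bad := by
      intro Q' hQ' hbad
      exact hcS ⟨Q', hbad, hover Q' hQ'⟩
    have hyB : y ∈ semiLocal K P := by
      intro Q' hQ'
      by_contra hcon
      exact hgood Q' hQ' (Or.inl (Or.inl (not_le.mp hcon)))
    have hQgood := hgood (Qc c) ⟨e, he⟩
    have hdP : P.1 (Algebra.discr k⟮x⟯ B) = 1 := by
      have h1 : (Qc c).1 d' = 1 := by
        by_contra hcon
        exact hQgood (Or.inl (Or.inr hcon))
      rw [hd', he] at h1
      rcases lt_trichotomy (P.1 (Algebra.discr k⟮x⟯ B)) 1 with h | h | h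
      · exact absurd h1 (ne_of_lt (pow_lt_one₀ zero_le h (by omega)))
      · exact h
      · exact absurd h1 (ne_of_gt (one_lt_pow₀ h (by omega)))
    have hzQ : (Qc c).1 z = 1 := by
      by_contra hcon
      exact hQgood (Or.inr hcon)
    have hdeg : P.deg = 1 := by
      set u : k⟮x⟯ := (x₀ - algebraMap k k⟮x⟯ c)⁻¹ with hu
      have hne0 : x₀ - algebraMap k k⟮x⟯ c ≠ 0 := by
        intro h0
        have := congrArg (algebraMap k⟮x⟯ K) h0
        rw [hmapx, map_zero] at this
        exact hxc c ⟨0, by rw [map_zero, this]⟩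
      have hutop : k⟮u⟯ = ⊤ := by
        rw [eq_top_iff, ← hx₀, IntermediateField.adjoin_simple_le_iff]
        have h1 : x₀ = u⁻¹ + algebraMap k k⟮x⟯ c := by rw [hu, inv_inv, sub_add_cancel]
        rw [h1]
        exact add_mem (inv_mem (IntermediateField.mem_adjoin_simple_self k u))
          (IntermediateField.algebraMap_mem _ c)
      obtain ⟨P', hP'deg, -, hP'others⟩ := exists_simple_pole_of_adjoin_eq_top hF hutop
      have hPP' : P = P' := by
        by_contra hne
        have h1 := hP'others P hne
        rw [hu, ord_inv] at h1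
        have h2 := (val_lt_one_iff P hne0).mp hPx
        omega
      rw [hPP']
      exact hP'deg
    exact isSeparable_residueField hF B y hBy P hdeg hyB hdP ⟨e, he⟩ hzQ
  exact Set.infinite_of_injOn_mapsTo (f := Qc) hQinj.injOn hmain hS.infinite_compl


/-- infinitely many separable places, from a separating element -/
theorem main' (hK : IsFunctionField k K) (x : K)
    (hx : Transcendental k x) (hsep : Algebra.IsSeparable k⟮x⟯ K) :
    {P : Place k K | Algebra.IsSeparable k (IsLocalRing.ResidueField P.O)}.Infinite := by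
  rcases finite_or_infinite k with hfin | hinf
  · have hall : {P : Place k K | Algebra.IsSeparable k (IsLocalRing.ResidueField P.O)} =
        Set.univ := by
      rw [Set.eq_univ_iff_forall]
      intro P
      have hfd := finiteDimensional_residueField hK P
      have : Algebra.IsAlgebraic k (IsLocalRing.ResidueField P.O) :=
        @Algebra.IsAlgebraic.of_finite k _ _ _ _ _ hfd
      exact Algebra.IsAlgebraic.isSeparable_of_perfectField
    rw [hall]
    exact infinite_places hK
  · exact infinite_of_infinite' hK x hx hsep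

end main2

end Groth.Agent.Lib.helper16.FSPl
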