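import Groth.Agent.Lib.helper16.FHyperPl
import Groth.Agent.Lib.helper16.FSepK
import Groth.Agent.Lib.helper16.FResWeil3
import Groth.Agent.Lib.helper16.FResWeil2
import Groth.Agent.Lib.helper16.FSepPlaces2
import Groth.Agent.Lib.helper16.FNonsing3
import Groth.Agent.Lib.helper16.FHypGenus

/-! Helper library (helper16): regular differentials of hyperelliptic function fields
(S12584). -/

set_option autoImplicit false

namespace Groth.Agent.Lib.helper16.FHD

open FunFld WithZero Polynomial Module LocRes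
open Groth.Agent.Lib.helper16 Groth.Agent.Lib.helper16.FF Groth.Agent.Lib.helper16.FX
  Groth.Agent.Lib.helper16.FR Groth.Agent.Lib.helper16.FH Groth.Agent.Lib.helper16.FRW
open scoped IntermediateField LaurentSeries

universe u v w

section sep

theorem isSeparable_of_finrank_le_two {F E : Type*} [Field F] [Field E] [Algebra F E]
    [FiniteDimensional F E] (h : finrank F E ≤ 2) (h2 : (2 : F) ≠ 0) :
    Algebra.IsSeparable F E := by
  constructor
  intro z
  have hint : IsIntegral F z := Algebra.IsIntegral.isIntegral z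
  have hirr := minpoly.irreducible hint
  show (minpoly F z).Separable
  rw [Polynomial.separable_iff_derivative_ne_zero hirr]
  intro h0
  have hdeg : (minpoly F z).natDegree ≤ 2 := (minpoly.natDegree_le z).trans h
  have hpos := minpoly.natDegree_pos hint
  have hmonic := minpoly.monic hint
  have h1 := congrArg (fun p => p.coeff ((minpoly F z).natDegree - 1)) h0
  simp only [coeff_derivative, coeff_zero] at h1
  have h3 : (minpoly F z).natDegree - 1 + 1 = (minpoly F z).natDegree := by omega
  rw [h3, hmonic.coeff_natDegree, one_mul] at h1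
  have h4 : (minpoly F z).natDegree = 1 ∨ (minpoly F z).natDegree = 2 := by omega
  rcases h4 with h4 | h4
  · rw [h4] at h1
    simp at h1
  · rw [h4] at h1
    apply h2
    have : ((2 - 1 : ℕ) : F) + 1 = 2 := by norm_num
    rw [← this]
    exact h1

end sep

section kaehler

variable {k : Type u} {K : Type v} [Field k] [Field K] [Algebra k K] [Algebra (RatFunc k) K]
  [IsScalarTower k (RatFunc k) K]

/-- the image of `X` -/
noncomputable def xK (k : Type u) (K : Type v) [Field k] [Field K] [Algebra (RatFunc k) K] : K :=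
  algebraMap (RatFunc k) K RatFunc.X

theorem transcendental_xK : Transcendental k (xK k K) :=
  (transcendental_algebraMap_iff (algebraMap (RatFunc k) K).injective).mpr
    (RatFunc.transcendental_X (K := k))

theorem polyK_eq_aeval (g : k[X]) : polyK K g = aeval (xK k K) g := by
  unfold polyK xK
  rw [alg_eq_aeval, ← aeval_algebraMap_apply]

theorem ratEmb_eq_algebraMap (r : RatFunc k) :
    FH.ratEmb (transcendental_xK (k := k) (K := K)) r = algebraMap (RatFunc k) K r := by
  have key : ∀ p : k[X], FH.ratEmb (transcendental_xK (k := k) (K := K))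
      (algebraMap k[X] (RatFunc k) p) = algebraMap (RatFunc k) K (algebraMap k[X] (RatFunc k) p) := by
    intro p
    rw [FH.ratEmb_algebraMap]
    exact (polyK_eq_aeval p).symm
  rw [← RatFunc.num_div_denom r, map_div₀, map_div₀, key, key]

variable [Algebra.IsSeparable (RatFunc k) K]

theorem exists_kaehler_smul' (z : K) :
    ∃ h : K, KaehlerDifferential.D k K z = h • KaehlerDifferential.D k K (xK k K) := by
  refine ⟨(FS.kaehlerBasis k K).repr (KaehlerDifferential.D k K z) (), ?_⟩
  have h1 := (FS.kaehlerBasis k K).sum_repr (KaehlerDifferential.D k K z)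
  rw [Fintype.sum_unique, FS.kaehlerBasis_apply] at h1
  exact h1.symm

theorem D_xK_ne_zero : KaehlerDifferential.D k K (xK k K) ≠ 0 := by
  have := (FS.kaehlerBasis k K).ne_zero ()
  rwa [FS.kaehlerBasis_apply] at this

theorem isSeparable_adjoin : Algebra.IsSeparable k⟮xK k K⟯ K := by
  have he : (algebraMap k⟮xK k K⟯ K).comp
      (RatFunc.algEquivOfTranscendental (xK k K) transcendental_xK).toRingEquiv.toRingHom =
      (RingEquiv.refl K).toRingHom.comp (algebraMap (RatFunc k) K) := by
    ext r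
    exact ratEmb_eq_algebraMap r
  exact Algebra.IsSeparable.of_equiv_equiv
    (RatFunc.algEquivOfTranscendental (xK k K) transcendental_xK).toRingEquiv
    (RingEquiv.refl K) he

omit [Algebra.IsSeparable (RatFunc k) K] in
theorem finrank_adjoin : finrank k⟮xK k K⟯ K = finrank (RatFunc k) K := by
  have he : (algebraMap k⟮xK k K⟯ K).comp
      (RatFunc.algEquivOfTranscendental (xK k K) transcendental_xK).toRingEquiv.toRingHom =
      (RingEquiv.refl K).toRingHom.comp (algebraMap (RatFunc k) K) := by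
    ext r
    exact ratEmb_eq_algebraMap r
  exact (Algebra.finrank_eq_of_equiv_equiv
    (RatFunc.algEquivOfTranscendental (xK k K) transcendental_xK).toRingEquiv
    (RingEquiv.refl K) he).symm

end kaehler


section unram

variable {k : Type u} {K : Type v} [Field k] [Field K] [Algebra k K] [Algebra (RatFunc k) K]
  [IsScalarTower k (RatFunc k) K]

/-- a place of `k(x)` at which `a` is a unit is unramified in `k(x)(√a)` -/
theorem ramIdx_eq_one_of_sq (h2 : (2 : k) ≠ 0) (hdeg : finrank (RatFunc k) K = 2) {w : K}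
    {a : RatFunc k} (hw2 : w ^ 2 = algebraMap (RatFunc k) K a)
    (hwF : w ∉ Set.range (algebraMap (RatFunc k) K)) (P₀ : Place k (RatFunc k))
    (hPa : P₀.1 a = 1) {Q : Place k K} (hQ : IsOver Q P₀) : ramIdx Q P₀ = 1 := by
  have hfin : FiniteDimensional (RatFunc k) K := Module.finite_of_finrank_pos (by omega)
  have hK := isFunctionField_ratFunc (k := k)
  have hint : IsIntegral (RatFunc k) w := Algebra.IsIntegral.isIntegral w
  have hmin : minpoly (RatFunc k) w = X ^ 2 - C a := by
    have hdvd : minpoly (RatFunc k) w ∣ X ^ 2 - C a := by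
      apply minpoly.dvd
      rw [map_sub, map_pow, aeval_X, aeval_C, hw2]
      exact sub_self _
    have hmonic := monic_X_pow_sub_C a two_ne_zero
    have h3 : 2 ≤ (minpoly (RatFunc k) w).natDegree :=
      (minpoly.two_le_natDegree_iff hint).mpr hwF
    symm
    apply Polynomial.eq_of_monic_of_dvd_of_natDegree_le (minpoly.monic hint) hmonic hdvd
    rw [natDegree_X_pow_sub_C]
    exact h3
  have htrw : Algebra.trace (RatFunc k) K w = 0 := by
    rw [trace_eq_finrank_mul_minpoly_nextCoeff, hmin]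
    have : (X ^ 2 - C a : (RatFunc k)[X]).nextCoeff = 0 := by
      rw [nextCoeff_of_natDegree_pos (by rw [natDegree_X_pow_sub_C]; norm_num),
        natDegree_X_pow_sub_C]
      simp [coeff_X_pow]
    rw [this, neg_zero, mul_zero]
  let e : Fin (finrank (RatFunc k) K) ≃ Fin 2 := finCongr hdeg
  let c : Fin (finrank (RatFunc k) K) → K := fun i => ![1, w] (e i)
  have hdisc : Algebra.discr (RatFunc k) c = 4 * a := by
    have h1 : Algebra.traceMatrix (RatFunc k) c =
        (Algebra.traceMatrix (RatFunc k) ![(1 : K), w]).submatrix e e := rfl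
    rw [Algebra.discr_def, h1, Matrix.det_submatrix_equiv_self, Matrix.det_fin_two]
    simp only [Algebra.traceMatrix_apply, Algebra.traceForm_apply, Matrix.cons_val_zero,
      Matrix.cons_val_one, one_mul, mul_one, htrw, mul_zero, sub_zero]
    have h3 : Algebra.trace (RatFunc k) K 1 = 2 := by
      rw [← (algebraMap (RatFunc k) K).map_one, Algebra.trace_algebraMap, hdeg]
      simp
    have h4 : Algebra.trace (RatFunc k) K (w * w) = 2 * a := by
      rw [← pow_two, hw2, Algebra.trace_algebraMap, hdeg]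
      simp
    rw [h3, h4]
    ring
  have hcB : ∀ i, c i ∈ semiLocal K P₀ := by
    intro i
    have h1 : ∀ j : Fin 2, ![(1 : K), w] j ∈ semiLocal K P₀ := by
      intro j
      fin_cases j
      · exact (semiLocal K P₀).one_mem
      · show w ∈ semiLocal K P₀
        intro Q' hQ'
        by_contra hlt
        rw [not_le] at hlt
        have h5 : 1 < Q'.1 w ^ 2 := one_lt_pow₀ hlt two_ne_zero
        rw [← map_pow, hw2, isOverWith_ramIdx hQ' a, hPa, one_pow] at h5
        exact lt_irrefl _ h5
    exact h1 (e i)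
  have hc : P₀.1 (Algebra.discr (RatFunc k) c) = 1 := by
    rw [hdisc, map_mul, hPa, mul_one]
    have h4 : (4 : RatFunc k) = algebraMap k (RatFunc k) 4 := by rw [map_ofNat]
    rw [h4]
    apply val_algebraMap
    have : (4 : k) = 2 * 2 := by norm_num
    rw [this]
    exact mul_ne_zero h2 h2
  exact ramIdx_eq_one_of_discr hK P₀ c hcB hc hQ

/-- a finite place of `k(x)` is the place of an irreducible polynomial -/
theorem exists_irreducible_of_finite (P₀ : Place k (RatFunc k)) (hX : P₀.1 RatFunc.X ≤ 1) :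
    ∃ p : k[X], Irreducible p ∧ P₀.1 (algebraMap k[X] (RatFunc k) p) < 1 := by
  obtain ⟨t, ht⟩ := exists_uniformizer P₀
  have ht0 : t ≠ 0 := by
    rintro rfl
    rw [map_zero] at ht
    exact exp_ne_zero ht.symm
  have hnum0 : t.num ≠ 0 := RatFunc.num_ne_zero ht0
  have h1 : P₀.1 (algebraMap k[X] (RatFunc k) t.num) < 1 := by
    have h2 : algebraMap k[X] (RatFunc k) t.num = t * algebraMap k[X] (RatFunc k) t.denom := by
      have h3 := RatFunc.num_div_denom t
      rw [div_eq_iff (alg_ne_zero (RatFunc.denom_ne_zero t))] at h3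
      exact h3
    rw [h2, map_mul, ht]
    have h3 := val_alg_le_one P₀ hX t.denom
    have h4 : exp (-(1 : ℤ)) < (1 : ℤᵐ⁰) := by
      rw [← exp_zero, exp_lt_exp]; omega
    exact lt_of_le_of_lt (mul_le_of_le_one_right' h3) h4
  obtain ⟨p, hp, -, hp1⟩ := exists_irreducible_of_alg_lt_one P₀ hnum0 h1
  exact ⟨p, hp, hp1⟩

end unram

section diff

variable {k : Type u} {K : Type v} [Field k] [Field K] [Algebra k K]
  {F : Type w} [Field F] [Algebra k F] {P : Place k K} {φ : K →ₐ[k] F⸨X⸩}
  (hφ : IsExpansionAt P.1 φ)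

include hφ in
theorem D_ne_zero_of_ord {z : K} {n : ℤ} (hz : z ≠ 0) (hn : P.ord z = n) (hnF : (n : F) ≠ 0) :
    LocRes.D F (φ z) ≠ 0 ∧ ordDiff φ 1 z = n - 1 := by
  have h1 : Valued.v (φ z) = exp (-n) := by
    rw [hφ.1 z, val_eq_exp_neg_ord P hz, hn]
  have h2 := (FDE.val_D_of_val_eq h1).1 hnF
  constructor
  · intro h0
    rw [h0, map_zero] at h2
    exact exp_ne_zero h2.symm
  · unfold ordDiff
    rw [FDE.vDiff_one, h2, log_exp]
    ring

include hφ in
theorem ordDiff_chain {z x h : K}
    (hh : KaehlerDifferential.D k K z = h • KaehlerDifferential.D k K x)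
    (hz : LocRes.D F (φ z) ≠ 0) :
    h ≠ 0 ∧ LocRes.D F (φ x) ≠ 0 ∧ ordDiff φ 1 z = P.ord h + ordDiff φ 1 x := by
  have hv : vDiff φ 1 z ≠ 0 := by
    rw [FDE.vDiff_one, Ne, map_eq_zero]
    exact hz
  obtain ⟨h1, h2, h3⟩ := FDE.ordDiff_eq_add P φ hφ hh hv
  refine ⟨h2, ?_, h3⟩
  intro h0
  apply h1
  rw [FDE.vDiff_one, h0, map_zero]

include hφ in
theorem ordDiff_nonneg' {z : K} (hz : LocRes.D F (φ z) ≠ 0) (hint : P.1 z ≤ 1) :
    0 ≤ ordDiff φ 1 z := by
  apply FRW.ordDiff_nonneg hφ _ (by rw [map_one]) hint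
  unfold FRW.ser
  rw [map_one, one_mul]
  exact hz

end diff


section hyp

variable {k : Type u} {K : Type v} [Field k] [Field K] [Algebra k K] [Algebra (RatFunc k) K]
  [IsScalarTower k (RatFunc k) K]

theorem kaehler_polyK (g : k[X]) :
    KaehlerDifferential.D k K (polyK K g) =
      polyK K (derivative g) • KaehlerDifferential.D k K (xK k K) := by
  rw [polyK_eq_aeval, polyK_eq_aeval, Derivation.map_aeval]

theorem kaehler_y {y : K} {f : k[X]} (heq : y ^ 2 = polyK K f) :
    (2 * y) • KaehlerDifferential.D k K y =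
      polyK K (derivative f) • KaehlerDifferential.D k K (xK k K) := by
  have h1 := congrArg (KaehlerDifferential.D k K) heq
  rw [Derivation.leibniz_pow, kaehler_polyK] at h1
  rw [← h1]
  simp only [Nat.add_one_sub_one, pow_one]
  rw [mul_smul, two_smul, two_smul]

theorem two_ne_zero_ratFunc (h2 : (2 : k) ≠ 0) : (2 : RatFunc k) ≠ 0 := by
  have : (2 : RatFunc k) = RatFunc.C 2 := by rw [map_ofNat]
  rw [this, Ne, map_eq_zero_iff _ RatFunc.C_injective]
  exact h2

variable (h2 : (2 : k) ≠ 0) (hdeg : finrank (RatFunc k) K = 2) {y : K} {f : k[X]}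
  (hf : Squarefree f) (hd : 1 ≤ f.natDegree) (heq : y ^ 2 = polyK K f)
  {F : Type w} [Field F] [Algebra k F] {P : Place k K} {φ : K →ₐ[k] F⸨X⸩}
  (hφ : IsExpansionAt P.1 φ)

include h2 hdeg in
theorem isSeparable_ratFunc : Algebra.IsSeparable (RatFunc k) K := by
  have hfin : FiniteDimensional (RatFunc k) K := Module.finite_of_finrank_pos (by omega)
  exact isSeparable_of_finrank_le_two (le_of_eq hdeg) (two_ne_zero_ratFunc h2)

include h2 hdeg hφ in
/-- the differential of `x` does not vanish through any expansion -/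
theorem D_xK_expand_ne_zero : LocRes.D F (φ (xK k K)) ≠ 0 := by
  haveI := isSeparable_ratFunc h2 hdeg (K := K)
  obtain ⟨t, ht⟩ := exists_uniformizer P
  have ht0 : t ≠ 0 := by
    rintro rfl
    rw [map_zero] at ht
    exact exp_ne_zero ht.symm
  have hto : P.ord t = 1 := by
    unfold Place.ord
    rw [ht, log_exp]
    ring
  obtain ⟨hDt, -⟩ := D_ne_zero_of_ord hφ ht0 hto (by simp)
  obtain ⟨h, hh⟩ := exists_kaehler_smul' (k := k) t
  exact (ordDiff_chain hφ hh hDt).2.1

include h2 hdeg hf hd heq hφ in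
/-- at a finite place the order of `dx` is the order of `y` -/
theorem ordDiff_x_of_finite (hx : P.1 (xK k K) ≤ 1) : ordDiff φ 1 (xK k K) = P.ord y := by
  have hfin : FiniteDimensional (RatFunc k) K := Module.finite_of_finrank_pos (by omega)
  haveI := isSeparable_ratFunc h2 hdeg (K := K)
  have hKr := isFunctionField_ratFunc (k := k)
  obtain ⟨P₀, e, he⟩ := exists_isOverWith (K' := K) hKr.1 P
  have hepos := isOverWith_pos he
  have hX : P₀.1 RatFunc.X ≤ 1 := by
    by_contra hlt
    rw [not_le] at hlt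
    have : 1 < P.1 (xK k K) := by
      unfold xK
      rw [he]
      exact one_lt_pow₀ hlt (by omega)
    exact absurd hx (not_le.mpr this)
  obtain ⟨π, hπ, hπ1⟩ := exists_irreducible_of_finite P₀ hX
  have hint : ∀ g : k[X], P.1 (polyK K g) ≤ 1 := by
    intro g
    unfold polyK
    rw [he]
    exact pow_le_one' (val_alg_le_one P₀ hX g) e
  have hyF : y ∉ Set.range (algebraMap (RatFunc k) K) := not_mem_range hf hd heq
  have hy0 : y ≠ 0 := by
    rintro rfl
    exact hyF ⟨0, map_zero _⟩
  have hDx := D_xK_expand_ne_zero h2 hdeg hφ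
  have hxnn : 0 ≤ ordDiff φ 1 (xK k K) := ordDiff_nonneg' hφ hDx hx
  have hπord : P.ord (polyK K π) = e := by
    unfold polyK
    rw [isOverWith_ord he, ord_alg_irreducible P₀ hπ hπ1, mul_one]
  by_cases hπf : π ∣ f
  · have h3 := (ramified_places hdeg hf heq hπ hπf P₀ hπ1).2 P ⟨e, he⟩
    have he2 : e = 2 := (isOverWith_unique he h3.1).2
    have hordf := ord_alg_squarefree P₀ hπ hπ1 hf hπf
    have hyord : P.ord y = 1 := by
      have := two_mul_ord_y heq he
      rw [hordf, he2] at this
      push_cast at this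
      omega
    obtain ⟨hDy, hoy⟩ := D_ne_zero_of_ord hφ hy0 hyord (by simp)
    obtain ⟨h', hh'⟩ := exists_kaehler_smul' (k := k) y
    obtain ⟨hh'0, -, hchain⟩ := ordDiff_chain hφ hh' hDy
    have hrel : 2 * y * h' = polyK K (derivative f) := by
      have h4 := kaehler_y (k := k) heq
      rw [hh', smul_smul] at h4
      have h5 : (2 * y * h' - polyK K (derivative f)) •
          KaehlerDifferential.D k K (xK k K) = 0 := by rw [sub_smul, h4, sub_self]
      rcases smul_eq_zero.mp h5 with h6 | h6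
      · exact sub_eq_zero.mp h6
      · exact absurd h6 D_xK_ne_zero
    have h2K : (2 : K) ≠ 0 := by
      have : (2 : K) = algebraMap k K 2 := by rw [map_ofNat]
      rw [this, Ne, map_eq_zero]
      exact h2
    have h20 : P.ord (2 : K) = 0 := by
      have : (2 : K) = algebraMap k K 2 := by rw [map_ofNat]
      unfold Place.ord
      rw [this, val_algebraMap P h2, log_one, neg_zero]
    have hf'0 : polyK K (derivative f) ≠ 0 := by
      rw [← hrel]
      exact mul_ne_zero (mul_ne_zero h2K hy0) hh'0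
    have hford : P.ord (polyK K (derivative f)) =
        2 * P₀.ord (algebraMap k[X] (RatFunc k) (derivative f)) := by
      unfold polyK
      rw [isOverWith_ord he, he2]
      push_cast
      ring
    have hfnn : 0 ≤ P.ord (polyK K (derivative f)) := (val_le_one_iff P hf'0).mp (hint _)
    have hmul : P.ord (2 * y * h') = P.ord (2 : K) + P.ord y + P.ord h' := by
      rw [ord_mul P (mul_ne_zero h2K hy0) hh'0, ord_mul P h2K hy0]
    rw [hrel] at hmul
    omega
  · have hfv : P₀.1 (algebraMap k[X] (RatFunc k) f) = 1 :=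
      val_alg_eq_one_of_not_dvd P₀ hπ hπ1 hπf
    have he1 : e = 1 := by
      have := ramIdx_eq_one_of_sq h2 hdeg heq hyF P₀ hfv ⟨e, he⟩
      rwa [ramIdx_eq he] at this
    have hyord : P.ord y = 0 := by
      have := two_mul_ord_y heq he
      have h0 : P₀.ord (algebraMap k[X] (RatFunc k) f) = 0 := by
        unfold Place.ord
        rw [hfv, log_one, neg_zero]
      rw [h0, mul_zero] at this
      omega
    have hπ0 : polyK K π ≠ 0 := by
      unfold polyK
      rw [Ne, map_eq_zero]
      exact alg_ne_zero hπ.ne_zero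
    have hπord1 : P.ord (polyK K π) = 1 := by rw [hπord, he1]; rfl
    obtain ⟨hDπ, hoπ⟩ := D_ne_zero_of_ord hφ hπ0 hπord1 (by simp)
    obtain ⟨hh0, -, hchain⟩ := ordDiff_chain hφ (kaehler_polyK (k := k) π) hDπ
    have : 0 ≤ P.ord (polyK K (derivative π)) := (val_le_one_iff P hh0).mp (hint _)
    omega

end hyp


section infinite

variable {k : Type u} {K : Type v} [Field k] [Field K] [Algebra k K] [Algebra (RatFunc k) K]
  [IsScalarTower k (RatFunc k) K]

/-- the infinite place of `k(x)` is unique -/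
theorem eq_of_pole (P₁ P₂ : Place k (RatFunc k)) (h₁ : P₁.ord (RatFunc.X : RatFunc k) < 0)
    (h₂ : P₂.ord (RatFunc.X : RatFunc k) < 0) : P₁ = P₂ := by
  have hX0 : (RatFunc.X : RatFunc k) ≠ 0 := RatFunc.X_ne_zero
  have hv : ∀ P : Place k (RatFunc k), P.ord (RatFunc.X : RatFunc k) < 0 →
      ∀ g : k[X], g ≠ 0 → P.1 (algebraMap k[X] (RatFunc k) g) = exp (g.natDegree : ℤ) := by
    intro P hP g hg
    rw [val_alg_of_pole P ((one_lt_val_iff P hX0).mpr hP) hg, val_eq_exp_neg_ord P hX0,
      ord_X_of_pole P hP, neg_neg, ← exp_nsmul]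
    simp
  apply Subtype.ext
  ext r
  rw [← RatFunc.num_div_denom r, map_div₀, map_div₀]
  by_cases hr : r.num = 0
  · rw [hr, map_zero, map_zero, map_zero, zero_div, zero_div]
  · rw [hv P₁ h₁ _ hr, hv P₂ h₂ _ hr, hv P₁ h₁ _ (RatFunc.denom_ne_zero r),
      hv P₂ h₂ _ (RatFunc.denom_ne_zero r)]

variable (h2 : (2 : k) ≠ 0) (hdeg : finrank (RatFunc k) K = 2) {y : K} {f : k[X]}
  (hf : Squarefree f) (hd : 1 ≤ f.natDegree) (heq : y ^ 2 = polyK K f)
  {F : Type w} [Field F] [Algebra k F] {P : Place k K} {φ : K →ₐ[k] F⸨X⸩}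
  (hφ : IsExpansionAt P.1 φ)

include hdeg in
/-- a pole of `x` lies over the infinite place -/
theorem exists_isOverWith_pole (hx : 1 < P.1 (xK k K)) :
    ∃ (P₀ : Place k (RatFunc k)) (e : ℕ), IsOverWith P P₀ e ∧
      P₀.ord (RatFunc.X : RatFunc k) < 0 := by
  have hfin : FiniteDimensional (RatFunc k) K := Module.finite_of_finrank_pos (by omega)
  have hKr := isFunctionField_ratFunc (k := k)
  obtain ⟨P₀, e, he⟩ := exists_isOverWith (K' := K) hKr.1 P
  refine ⟨P₀, e, he, ?_⟩
  rw [← one_lt_val_iff P₀ RatFunc.X_ne_zero]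
  by_contra hle
  rw [not_lt] at hle
  unfold xK at hx
  rw [he] at hx
  exact absurd hx (not_lt.mpr (pow_le_one' hle e))

include h2 hdeg hf hd heq hφ in
theorem pole_even (heven : Even f.natDegree) (hx : 1 < P.1 (xK k K)) :
    P.ord (xK k K) = -1 ∧ ordDiff φ 1 (xK k K) = -2 ∧ 2 * P.ord y = -(f.natDegree : ℤ) := by
  have hfin : FiniteDimensional (RatFunc k) K := Module.finite_of_finrank_pos (by omega)
  obtain ⟨P₀, e, he, hinf⟩ := exists_isOverWith_pole hdeg hx
  have he1 : e = 1 := by
    have := unramified_infinity h2 hdeg hf hd heq P₀ hinf heven ⟨e, he⟩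
    rwa [ramIdx_eq he] at this
  have hxo : P.ord (xK k K) = -1 := by
    unfold xK
    rw [isOverWith_ord he, ord_X_of_pole P₀ hinf, he1]
    rfl
  have hx0 : xK k K ≠ 0 := by
    unfold xK
    rw [Ne, map_eq_zero]
    exact RatFunc.X_ne_zero
  obtain ⟨-, hod⟩ := D_ne_zero_of_ord hφ hx0 hxo (by simp)
  refine ⟨hxo, by rw [hod]; rfl, ?_⟩
  rw [two_mul_ord_y heq he, ord_alg_of_pole P₀ hinf hf.ne_zero, ord_X_of_pole P₀ hinf, he1]
  push_cast
  ring

include h2 hdeg hf hd heq in
theorem pole_odd (hodd : Odd f.natDegree) (hx : 1 < P.1 (xK k K)) :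
    P.ord (xK k K) = -2 ∧ P.ord y = -(f.natDegree : ℤ) ∧ P.deg = 1 ∧
      ∀ P' : Place k K, 1 < P'.1 (xK k K) → P' = P := by
  have hfin : FiniteDimensional (RatFunc k) K := Module.finite_of_finrank_pos (by omega)
  obtain ⟨P₀, e, he, hinf⟩ := exists_isOverWith_pole hdeg hx
  obtain ⟨huniq, hall⟩ := (infinite_place h2 hdeg hf hd heq P₀ hinf).1 hodd
  obtain ⟨h3, h4⟩ := hall P ⟨e, he⟩
  have he2 : e = 2 := (isOverWith_unique he h3).2
  refine ⟨?_, ?_, h4, ?_⟩
  · unfold xK
    rw [isOverWith_ord he, ord_X_of_pole P₀ hinf, he2]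
    rfl
  · have := two_mul_ord_y heq he
    rw [ord_alg_of_pole P₀ hinf hf.ne_zero, ord_X_of_pole P₀ hinf, he2] at this
    push_cast at this
    omega
  · intro P' hP'
    obtain ⟨P₀', e', he', hinf'⟩ := exists_isOverWith_pole hdeg hP'
    have h5 : P₀' = P₀ := eq_of_pole P₀' P₀ hinf' hinf
    rw [h5] at he'
    exact huniq.unique ⟨e', he'⟩ ⟨e, he⟩

end infinite


section global

variable {k : Type u} {K : Type v} [Field k] [Field K] [Algebra k K] [Algebra (RatFunc k) K]
  [IsScalarTower k (RatFunc k) K]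
  (hK : IsFunctionField k K) (h2 : (2 : k) ≠ 0) (hdeg : finrank (RatFunc k) K = 2) {y : K}
  {f : k[X]} (hf : Squarefree f) (hd : 1 ≤ f.natDegree) (heq : y ^ 2 = polyK K f)
  (F : Place k K → Type w) [∀ P, Field (F P)] [∀ P, Algebra k (F P)]
  [∀ P, FiniteDimensional k (F P)]
  (φ : ∀ P, K →ₐ[k] LaurentSeries (F P)) (hφ : ∀ P, IsExpansionAt P.1 (φ P))

omit [Algebra (RatFunc k) K] [IsScalarTower k (RatFunc k) K] in
theorem deg_zsmul (n : ℤ) (D : Divisor k K) : (n • D).deg = n * D.deg := by
  simp only [← degHom_apply, map_zsmul, smul_eq_mul]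

theorem xK_not_mem_range : xK k K ∉ Set.range (algebraMap k K) := by
  rintro ⟨c, hc⟩
  have h1 : IsAlgebraic k (xK k K) := by rw [← hc]; exact isAlgebraic_algebraMap c
  exact transcendental_xK h1

theorem xK_ne_zero : xK k K ≠ 0 := by
  unfold xK
  rw [Ne, map_eq_zero]
  exact RatFunc.X_ne_zero

include hK h2 hdeg hφ in
theorem exists_canon' : ∃ C : Divisor k K, IsCanonical k K C ∧
    (∀ P, C P = ordDiff (φ P) 1 (xK k K)) ∧
    ∀ (P : Place k K) (z : K), vDiff (φ P) z (xK k K) = P.1 z * exp (-(C P)) := by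
  haveI := isSeparable_ratFunc h2 hdeg (K := K)
  have hser : ∀ P, ser (φ P) 1 (xK k K) ≠ 0 := by
    intro P
    unfold ser
    rw [map_one, one_mul]
    exact D_xK_expand_ne_zero h2 hdeg (hφ P)
  have hsep : ∃ P : Place k K, Algebra.IsSeparable k (IsLocalRing.ResidueField P.O) :=
    (FSPl.main' hK (xK k K) transcendental_xK isSeparable_adjoin).nonempty
  obtain ⟨C, hCdiv, hC⟩ := exists_isDivOf_omega' hK F φ hφ hser hsep
  refine ⟨C, ⟨_, omega_ne_zero' hK F φ hφ hser hsep, hCdiv⟩, hC, ?_⟩
  intro P z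
  have h1 := val_ser (φ P) (hser P)
  rw [← hC P] at h1
  rw [← h1, ← (hφ P).1 z, ← map_mul]
  unfold vDiff ser
  rw [map_one, one_mul]

include hK h2 hdeg hf hd heq hφ in
theorem ord_add_nonneg {C : Divisor k K} (hC : ∀ P, C P = ordDiff (φ P) 1 (xK k K))
    (hCdeg : C.deg = 2 * (genus k K : ℤ) - 2) (i : ℕ) (hi : i < genus k K) (P : Place k K) :
    0 ≤ (i : ℤ) * P.ord (xK k K) - P.ord y + C P := by
  have hdegE : (C - FunFld.div k y).deg = 2 * (genus k K : ℤ) - 2 := by
    rw [deg_sub, deg_div_eq_zero hK, sub_zero, hCdeg]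
  have hfinite : ∀ Q : Place k K, Q.1 (xK k K) ≤ 1 → C Q = Q.ord y ∧ 0 ≤ Q.ord (xK k K) := by
    intro Q hQ
    exact ⟨by rw [hC Q]; exact ordDiff_x_of_finite h2 hdeg hf hd heq (hφ Q) hQ,
      (val_le_one_iff Q xK_ne_zero).mp hQ⟩
  rcases Nat.even_or_odd f.natDegree with heven | hodd
  · obtain ⟨m', hm'⟩ := heven
    have hE : C - FunFld.div k y = ((m' : ℤ) - 2) • poleDiv k (xK k K) := by
      ext Q
      rw [Finsupp.sub_apply, div_apply hK, Finsupp.smul_apply, poleDiv_apply hK, smul_eq_mul]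
      by_cases hQ : Q.1 (xK k K) ≤ 1
      · obtain ⟨h3, h4⟩ := hfinite Q hQ
        rw [h3, sub_self, max_eq_right (by omega), mul_zero]
      · rw [not_le] at hQ
        obtain ⟨h3, h4, h5⟩ := pole_even h2 hdeg hf hd heq (hφ Q) ⟨m', hm'⟩ hQ
        rw [hC Q, h4, h3, neg_neg, max_eq_left (by omega), mul_one]
        rw [hm'] at h5
        push_cast at h5
        omega
    have hdegp : (poleDiv k (xK k K)).deg = 2 := by
      rw [deg_poleDiv_eq hK xK_not_mem_range, finrank_adjoin, hdeg]
      rfl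
    rw [hE, deg_zsmul, hdegp] at hdegE
    by_cases hQ : P.1 (xK k K) ≤ 1
    · obtain ⟨h3, h4⟩ := hfinite P hQ
      rw [h3]
      have : 0 ≤ (i : ℤ) * P.ord (xK k K) := mul_nonneg (by exact_mod_cast Nat.zero_le i) h4
      omega
    · rw [not_le] at hQ
      obtain ⟨h3, h4, h5⟩ := pole_even h2 hdeg hf hd heq (hφ P) ⟨m', hm'⟩ hQ
      rw [hC P, h4, h3]
      rw [hm'] at h5
      push_cast at h5
      have hi' : (i : ℤ) < genus k K := by exact_mod_cast hi
      omega
  · obtain ⟨Pinf, hPinf⟩ := exists_place_one_lt hK (xK_not_mem_range (k := k) (K := K))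
    obtain ⟨h3, h4, h5, h6⟩ := pole_odd h2 hdeg hf hd heq hodd hPinf
    have hE : C - FunFld.div k y = Finsupp.single Pinf (C Pinf - Pinf.ord y) := by
      ext Q
      rw [Finsupp.sub_apply, div_apply hK]
      by_cases hQ : Q = Pinf
      · rw [hQ, Finsupp.single_eq_same]
      · rw [Finsupp.single_eq_of_ne hQ]
        have hQ1 : Q.1 (xK k K) ≤ 1 := by
          by_contra hlt
          rw [not_le] at hlt
          exact hQ (h6 Q hlt)
        rw [(hfinite Q hQ1).1, sub_self]
    rw [hE, deg_single, h5] at hdegE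
    by_cases hQ : P.1 (xK k K) ≤ 1
    · obtain ⟨h7, h8⟩ := hfinite P hQ
      rw [h7]
      have : 0 ≤ (i : ℤ) * P.ord (xK k K) := mul_nonneg (by exact_mod_cast Nat.zero_le i) h8
      omega
    · rw [not_le] at hQ
      have hPP : P = Pinf := h6 P hQ
      rw [hPP, h3, h4]
      have hi' : (i : ℤ) < genus k K := by exact_mod_cast hi
      push_cast at hdegE
      omega


include hK h2 hdeg hf hd heq hφ in
/-- S12584 -/
theorem main :
    (∀ i : ℕ, i < genus k K → ∀ P, vDiff (φ P) (xK k K ^ i / y) (xK k K) ≤ 1) ∧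
    ∀ z : K, (∀ P, vDiff (φ P) z (xK k K) ≤ 1) →
      ∃ a : k[X], a.degree < (genus k K : WithBot ℕ) ∧ z = polyK K a / y := by
  obtain ⟨C, hCcan, hC, hC3⟩ := exists_canon' hK h2 hdeg F φ hφ
  obtain ⟨hell, hCdeg⟩ := isCanonical_ell_deg hK hCcan
  have hyF := not_mem_range hf hd heq
  have hy0 : y ≠ 0 := by
    rintro rfl
    exact hyF ⟨0, map_zero _⟩
  have hmem : ∀ z : K, (∀ P, vDiff (φ P) z (xK k K) ≤ 1) ↔ z ∈ L C := by
    intro z
    constructor
    · intro h P
      have h1 := h P
      rw [hC3 P z] at h1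
      have h2' := (mul_exp_le_iff P z (C P) 0).mp (by rwa [neg_zero, exp_zero])
      rwa [sub_zero] at h2'
    · intro h P
      rw [hC3 P z]
      have h1 := (mul_exp_le_iff P z (C P) 0).mpr (by rw [sub_zero]; exact h P)
      rwa [neg_zero, exp_zero] at h1
  have hpart1 : ∀ i, i < genus k K → xK k K ^ i / y ∈ L C := by
    intro i hi P
    have hz0 : xK k K ^ i / y ≠ 0 := div_ne_zero (pow_ne_zero _ xK_ne_zero) hy0
    rw [val_le_exp_iff P hz0]
    have h1 := ord_add_nonneg hK h2 hdeg hf hd heq F φ hφ hC hCdeg i hi P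
    rw [div_eq_mul_inv, ord_mul P (pow_ne_zero _ xK_ne_zero) (inv_ne_zero hy0), ord_inv, ord_pow]
    omega
  refine ⟨fun i hi => (hmem _).mpr (hpart1 i hi), ?_⟩
  intro z hz
  have hzL := (hmem z).mp hz
  have hΨmem : ∀ a ∈ degreeLT k (genus k K), polyK K a / y ∈ L C := by
    intro a ha
    by_cases ha0 : a = 0
    · rw [ha0]
      unfold polyK
      rw [map_zero, map_zero, zero_div]
      exact Submodule.zero_mem _
    have hdeg' : a.natDegree < genus k K := by
      rw [mem_degreeLT] at ha
      exact (natDegree_lt_iff_degree_lt ha0).mpr ha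
    rw [polyK_eq_aeval, aeval_eq_sum_range' hdeg', Finset.sum_div]
    apply Submodule.sum_mem
    intro i hi
    rw [smul_div_assoc]
    exact Submodule.smul_mem _ _ (hpart1 i (Finset.mem_range.mp hi))
  let Ψ : degreeLT k (genus k K) →ₗ[k] L C :=
    { toFun := fun a => ⟨polyK K a.1 / y, hΨmem a.1 a.2⟩
      map_add' := fun a b => by
        apply Subtype.ext
        show polyK K (a.1 + b.1) / y = polyK K a.1 / y + polyK K b.1 / y
        rw [polyK_eq_aeval, polyK_eq_aeval, polyK_eq_aeval, map_add, add_div]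
      map_smul' := fun c a => by
        apply Subtype.ext
        show polyK K (c • a.1) / y = c • (polyK K a.1 / y)
        rw [polyK_eq_aeval, polyK_eq_aeval, map_smul, smul_div_assoc] }
  have hΨinj : Function.Injective Ψ := by
    rw [← LinearMap.ker_eq_bot, LinearMap.ker_eq_bot']
    intro a ha
    have h1 : polyK K a.1 / y = 0 := congrArg Subtype.val ha
    rw [div_eq_zero_iff] at h1
    rcases h1 with h1 | h1
    · apply Subtype.ext
      unfold polyK at h1
      rw [map_eq_zero, map_eq_zero_iff _ (RatFunc.algebraMap_injective k)] at h1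
      exact h1
    · exact absurd h1 hy0
  haveI := finiteDimensional_L hK C
  have hsurj : Function.Surjective Ψ :=
    (LinearMap.injective_iff_surjective_of_finrank_eq_finrank
      (by rw [FHG.finrank_degreeLT]; exact hell.symm)).mp hΨinj
  obtain ⟨a, ha⟩ := hsurj ⟨z, hzL⟩
  exact ⟨a.1, mem_degreeLT.mp a.2, (congrArg Subtype.val ha).symm⟩

end global

end Groth.Agent.Lib.helper16.FHD
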