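import Groth.Agent.Lib.helper16.FRatPlace

/-! Helper library (helper16): places of hyperelliptic function fields `y² = f(x)`. -/

set_option autoImplicit false

namespace Groth.Agent.Lib.helper16.FH

open FunFld WithZero Polynomial Module Groth.Agent.Lib.helper16.FF Groth.Agent.Lib.helper16.FX
  Groth.Agent.Lib.helper16.FR
open scoped IntermediateField

variable {k K : Type*} [Field k] [Field K] [Algebra k K] [Algebra (RatFunc k) K]
  [IsScalarTower k (RatFunc k) K]

theorem two_mul_ord_y {y : K} {f : k[X]} (heq : y ^ 2 = polyK K f) {Q : Place k K}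
    {P₀ : Place k (RatFunc k)} {e : ℕ} (h : IsOverWith Q P₀ e) :
    2 * Q.ord y = e * P₀.ord (algebraMap k[X] (RatFunc k) f) := by
  have h1 := isOverWith_ord h (algebraMap k[X] (RatFunc k) f)
  rw [← h1]
  show _ = Q.ord (polyK K f)
  rw [← heq, ord_pow]
  push_cast
  ring

/-- a place of `k(x)` where `f` has odd order is totally ramified in `K` -/
theorem unique_over_of_odd_ord (hdeg : finrank (RatFunc k) K = 2) {y : K} {f : k[X]}
    (heq : y ^ 2 = polyK K f) (P₀ : Place k (RatFunc k))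
    (hodd : Odd (P₀.ord (algebraMap k[X] (RatFunc k) f))) :
    (∃! Q : Place k K, IsOver Q P₀) ∧
    ∀ Q : Place k K, IsOver Q P₀ → IsOverWith Q P₀ 2 ∧ Q.deg = P₀.deg := by
  have hfin : FiniteDimensional (RatFunc k) K := Module.finite_of_finrank_pos (by omega)
  apply unique_of_ramified isFunctionField_ratFunc hdeg P₀
  intro Q hQ
  have he := isOverWith_ramIdx hQ
  have h1 := two_mul_ord_y heq he
  have hpos := isOverWith_pos he
  by_contra hlt
  have he1 : ramIdx Q P₀ = 1 := by omega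
  rw [he1] at h1
  obtain ⟨m, hm⟩ := hodd
  rw [hm] at h1
  push_cast at h1
  omega

/-- S11034: the places over the irreducible factors of `f` -/
theorem ramified_places (hdeg : finrank (RatFunc k) K = 2) {y : K} {f : k[X]}
    (hf : Squarefree f) (heq : y ^ 2 = polyK K f) {p : k[X]} (hp : Irreducible p) (hpf : p ∣ f)
    (P₀ : Place k (RatFunc k)) (hP₀ : P₀.1 (algebraMap k[X] (RatFunc k) p) < 1) :
    (∃! Q : Place k K, IsOver Q P₀) ∧
    ∀ Q : Place k K, IsOver Q P₀ → IsOverWith Q P₀ 2 ∧ Q.deg = P₀.deg := by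
  apply unique_over_of_odd_ord hdeg heq P₀
  rw [ord_alg_squarefree P₀ hp hP₀ hf hpf]
  exact odd_one

/-- S12535: the zeros of `y` -/
theorem ord_y_pos_iff (hdeg : finrank (RatFunc k) K = 2) {y : K} {f : k[X]}
    (hf : Squarefree f) (heq : y ^ 2 = polyK K f) (P : Place k K) :
    (0 < P.ord y → P.ord y = 1) ∧
    (0 < P.ord y ↔ ∃ P₀ : Place k (RatFunc k), IsOver P P₀ ∧
      0 ≤ P₀.ord (RatFunc.X : RatFunc k) ∧ 0 < P₀.ord (algebraMap k[X] (RatFunc k) f)) := by
  have hfin : FiniteDimensional (RatFunc k) K := Module.finite_of_finrank_pos (by omega)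
  have hK := isFunctionField_ratFunc (k := k)
  obtain ⟨P₀, e, he⟩ := exists_isOverWith hK.1 P
  have h1 := two_mul_ord_y heq he
  have hpos := isOverWith_pos he
  have hf0 : f ≠ 0 := hf.ne_zero
  have hkey : 0 < P.ord y → 0 ≤ P₀.ord (RatFunc.X : RatFunc k) ∧
      0 < P₀.ord (algebraMap k[X] (RatFunc k) f) ∧ P.ord y = 1 := by
    intro hy
    have h2 : 0 < P₀.ord (algebraMap k[X] (RatFunc k) f) := by
      by_contra hcon
      rw [not_lt] at hcon
      have : (e : ℤ) * P₀.ord (algebraMap k[X] (RatFunc k) f) ≤ 0 :=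
        mul_nonpos_of_nonneg_of_nonpos (Nat.cast_nonneg e) hcon
      omega
    have h3 : P₀.1 (algebraMap k[X] (RatFunc k) f) < 1 :=
      (val_lt_one_iff P₀ (alg_ne_zero hf0)).mpr h2
    have h4 := val_X_le_one_of_alg_lt_one P₀ hf0 h3
    rw [val_le_one_iff P₀ RatFunc.X_ne_zero] at h4
    refine ⟨h4, h2, ?_⟩
    obtain ⟨p, hp, hpf, hPp⟩ := exists_irreducible_of_alg_lt_one P₀ hf0 h3
    have h5 := (ramified_places hdeg hf heq hp hpf P₀ hPp).2 P ⟨e, he⟩
    have h6 := (isOverWith_unique he h5.1).2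
    rw [h6, ord_alg_squarefree P₀ hp hPp hf hpf] at h1
    push_cast at h1
    omega
  refine ⟨fun hy => (hkey hy).2.2, ⟨fun hy => ⟨P₀, ⟨e, he⟩, (hkey hy).1, (hkey hy).2.1⟩, ?_⟩⟩
  rintro ⟨P₁, ⟨e₁, he₁⟩, -, hpos₁⟩
  have h2 := two_mul_ord_y heq he₁
  have hpos' := isOverWith_pos he₁
  have : (0 : ℤ) < (e₁ : ℤ) * P₁.ord (algebraMap k[X] (RatFunc k) f) :=
    mul_pos (by exact_mod_cast hpos') hpos₁
  omega

/-- for `deg f` even, the infinite place is unramified -/
theorem unramified_infinity (h2 : (2 : k) ≠ 0) (hdeg : finrank (RatFunc k) K = 2) {y : K}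
    {f : k[X]} (hf : Squarefree f) (hd : 1 ≤ f.natDegree) (heq : y ^ 2 = polyK K f)
    (Pinf : Place k (RatFunc k)) (hinf : Pinf.ord (RatFunc.X : RatFunc k) < 0)
    (heven : Even f.natDegree) {Q : Place k K} (hQ : IsOver Q Pinf) : ramIdx Q Pinf = 1 := by
  have hfin : FiniteDimensional (RatFunc k) K := Module.finite_of_finrank_pos (by omega)
  have hK := isFunctionField_ratFunc (k := k)
  obtain ⟨m, hm⟩ := heven
  have hf0 : f ≠ 0 := hf.ne_zero
  have hX0 : (RatFunc.X : RatFunc k) ≠ 0 := RatFunc.X_ne_zero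
  have hX : 1 < Pinf.1 RatFunc.X := (one_lt_val_iff Pinf hX0).mpr hinf
  have hXm0 : (RatFunc.X : RatFunc k) ^ m ≠ 0 := pow_ne_zero _ hX0
  have hXmK : algebraMap (RatFunc k) K (RatFunc.X ^ m) ≠ 0 := by
    rwa [Ne, map_eq_zero]
  obtain ⟨a, ha⟩ : ∃ a : RatFunc k, a = algebraMap k[X] (RatFunc k) f / (RatFunc.X ^ m) ^ 2 :=
    ⟨_, rfl⟩
  obtain ⟨w, hw⟩ : ∃ w : K, w = y / algebraMap (RatFunc k) K (RatFunc.X ^ m) := ⟨_, rfl⟩
  have hw2 : w ^ 2 = algebraMap (RatFunc k) K a := by
    rw [hw, _root_.div_pow, heq, ha, map_div₀, map_pow (algebraMap (RatFunc k) K) (RatFunc.X ^ m)]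
    rfl
  have hPa : Pinf.1 a = 1 := by
    rw [ha, map_div₀, val_alg_of_pole Pinf hX hf0, map_pow, map_pow, ← pow_mul, hm, ← two_mul,
      mul_comm]
    exact div_self (pow_ne_zero _ (ne_of_gt (lt_trans zero_lt_one hX)))
  have hy := not_mem_range hf hd heq
  have hwF : w ∉ Set.range (algebraMap (RatFunc k) K) := by
    rintro ⟨r, hr⟩
    apply hy
    refine ⟨r * RatFunc.X ^ m, ?_⟩
    rw [map_mul, hr, hw, div_mul_cancel₀ _ hXmK]
  have hint : IsIntegral (RatFunc k) w := Algebra.IsIntegral.isIntegral w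
  have hmin : minpoly (RatFunc k) w = X ^ 2 - C a := by
    have hdvd : minpoly (RatFunc k) w ∣ X ^ 2 - C a := by
      apply minpoly.dvd
      rw [map_sub, map_pow, aeval_X, aeval_C, hw2]
      exact sub_self _
    have hmonic := monic_X_pow_sub_C a two_ne_zero
    have h3 : 2 ≤ (minpoly (RatFunc k) w).natDegree :=
      (minpoly.two_le_natDegree_iff hint).mpr hwF
    symm
    apply Polynomial.eq_of_monic_of_dvd_of_natDegree_le (minpoly.monic hint) hmonic hdvd
    rw [natDegree_X_pow_sub_C]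
    exact h3
  have htrw : Algebra.trace (RatFunc k) K w = 0 := by
    rw [trace_eq_finrank_mul_minpoly_nextCoeff, hmin]
    have : (X ^ 2 - C a : (RatFunc k)[X]).nextCoeff = 0 := by
      rw [nextCoeff_of_natDegree_pos (by rw [natDegree_X_pow_sub_C]; norm_num),
        natDegree_X_pow_sub_C]
      simp [coeff_X_pow]
    rw [this, neg_zero, mul_zero]
  have h2F : (2 : RatFunc k) ≠ 0 := by
    have : (2 : RatFunc k) = RatFunc.C 2 := by rw [map_ofNat]
    rw [this, Ne, map_eq_zero_iff _ RatFunc.C_injective]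
    exact h2
  let e : Fin (finrank (RatFunc k) K) ≃ Fin 2 := finCongr hdeg
  let c : Fin (finrank (RatFunc k) K) → K := fun i => ![1, w] (e i)
  have hdisc : Algebra.discr (RatFunc k) c = 4 * a := by
    have h1 : Algebra.traceMatrix (RatFunc k) c =
        (Algebra.traceMatrix (RatFunc k) ![(1 : K), w]).submatrix e e := rfl
    rw [Algebra.discr_def, h1, Matrix.det_submatrix_equiv_self, Matrix.det_fin_two]
    simp only [Algebra.traceMatrix_apply, Algebra.traceForm_apply, Matrix.cons_val_zero,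
      Matrix.cons_val_one, one_mul, mul_one, htrw, mul_zero, sub_zero]
    have h3 : Algebra.trace (RatFunc k) K 1 = 2 := by
      rw [← (algebraMap (RatFunc k) K).map_one, Algebra.trace_algebraMap, hdeg]
      simp
    have h4 : Algebra.trace (RatFunc k) K (w * w) = 2 * a := by
      rw [← pow_two, hw2, Algebra.trace_algebraMap, hdeg]
      simp
    rw [h3, h4]
    ring
  have hcB : ∀ i, c i ∈ semiLocal K Pinf := by
    intro i
    have h1 : ∀ j : Fin 2, ![(1 : K), w] j ∈ semiLocal K Pinf := by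
      intro j
      fin_cases j
      · exact (semiLocal K Pinf).one_mem
      · show w ∈ semiLocal K Pinf
        intro Q' hQ'
        by_contra hlt
        rw [not_le] at hlt
        have h5 : 1 < Q'.1 w ^ 2 := one_lt_pow₀ hlt two_ne_zero
        rw [← map_pow, hw2, isOverWith_ramIdx hQ' a, hPa, one_pow] at h5
        exact lt_irrefl _ h5
    exact h1 (e i)
  have hc : Pinf.1 (Algebra.discr (RatFunc k) c) = 1 := by
    rw [hdisc, map_mul, hPa, mul_one]
    have h4 : (4 : RatFunc k) = algebraMap k (RatFunc k) 4 := by rw [map_ofNat]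
    rw [h4]
    apply val_algebraMap
    have : (4 : k) = 2 * 2 := by norm_num
    rw [this]
    exact mul_ne_zero h2 h2
  exact ramIdx_eq_one_of_discr hK Pinf c hcB hc hQ

/-- S12516: the places at infinity -/
theorem infinite_place (h2 : (2 : k) ≠ 0) (hdeg : finrank (RatFunc k) K = 2) {y : K}
    {f : k[X]} (hf : Squarefree f) (hd : 1 ≤ f.natDegree) (heq : y ^ 2 = polyK K f)
    (Pinf : Place k (RatFunc k)) (hinf : Pinf.ord (RatFunc.X : RatFunc k) < 0) :
    (Odd f.natDegree → (∃! P : Place k K, IsOver P Pinf) ∧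
      ∀ P : Place k K, IsOver P Pinf → IsOverWith P Pinf 2 ∧ P.deg = 1) ∧
    (Even f.natDegree → (conorm K (Finsupp.single Pinf 1)).deg = 2 ∧
      ∀ P : Place k K, IsOver P Pinf → IsOverWith P Pinf 1) := by
  have hfin : FiniteDimensional (RatFunc k) K := Module.finite_of_finrank_pos (by omega)
  have hK := isFunctionField_ratFunc (k := k)
  have hf0 : f ≠ 0 := hf.ne_zero
  have hdeg1 := deg_of_pole Pinf hinf
  constructor
  · intro hodd
    have h1 : Odd (Pinf.ord (algebraMap k[X] (RatFunc k) f)) := by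
      rw [ord_alg_of_pole Pinf hinf hf0, ord_X_of_pole Pinf hinf, mul_neg, mul_one]
      exact (Odd.natCast hodd).neg
    obtain ⟨h3, h4⟩ := unique_over_of_odd_ord hdeg heq Pinf h1
    refine ⟨h3, fun P hP => ?_⟩
    obtain ⟨h5, h6⟩ := h4 P hP
    exact ⟨h5, by rw [h6, hdeg1]⟩
  · intro heven
    constructor
    · rw [deg_conorm hK, hdeg, deg_single, hdeg1]
      norm_num
    · intro P hP
      have h1 := unramified_infinity h2 hdeg hf hd heq Pinf hinf heven hP
      rw [← h1]
      exact isOverWith_ramIdx hP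

end Groth.Agent.Lib.helper16.FH
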