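import Groth.Agent.Lib.helper16.FXGal
import Groth.Agent.Lib.helper16.FNonsing3

/-! Helper library (helper16): the order of the inertia group (S11023). -/

set_option autoImplicit false

namespace Groth.Agent.Lib.helper16.FIn

open FunFld WithZero Module Polynomial
open Groth.Agent.Lib.helper16 Groth.Agent.Lib.helper16.FF Groth.Agent.Lib.helper16.FX

section resmap

variable {k K K' : Type*} [Field k] [Field K] [Field K'] [Algebra k K] [Algebra K K']
  [Algebra k K'] [IsScalarTower k K K'] [Algebra.IsAlgebraic K K']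
  {Q : Place k K'} {P : Place k K} {e : ℕ} (he : IsOverWith Q P e)

/-- `O_P → O_Q` -/
def toOQ : P.O →+* Q.O where
  toFun z := ⟨algebraMap K K' z, by
    show Q.1 (algebraMap K K' z) ≤ 1
    rw [he]
    exact pow_le_one' z.2 e⟩
  map_one' := Subtype.ext (map_one _)
  map_mul' a b := Subtype.ext (map_mul _ _ _)
  map_zero' := Subtype.ext (map_zero _)
  map_add' a b := Subtype.ext (map_add _ _ _)

theorem coe_toOQ (z : P.O) : ((toOQ he z : Q.O) : K') = algebraMap K K' (z : K) := rfl

theorem isLocalHom_toOQ : IsLocalHom (toOQ he) := by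
  constructor
  intro z hz
  have he1 := isOverWith_pos he
  rw [(Valuation.valuationSubring.integers Q.1).isUnit_iff_valuation_eq_one] at hz
  rw [(Valuation.valuationSubring.integers P.1).isUnit_iff_valuation_eq_one]
  have h1 : Q.1 (algebraMap K K' (z : K)) = 1 := hz
  rw [he] at h1
  rcases pow_eq_one_iff.mp h1 with h | h
  · exact h
  · omega

/-- the residue field map as a `k`-algebra homomorphism -/
noncomputable def resHom : IsLocalRing.ResidueField P.O →ₐ[k] IsLocalRing.ResidueField Q.O :=
  haveI := isLocalHom_toOQ he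
  { IsLocalRing.ResidueField.map (toOQ he) with
    commutes' := fun c => by
      change IsLocalRing.ResidueField.map (toOQ he) (IsLocalRing.residue P.O (algebraMap k P.O c)) =
        IsLocalRing.residue Q.O (algebraMap k Q.O c)
      rw [IsLocalRing.ResidueField.map_residue]
      congr 1
      apply Subtype.ext
      exact (IsScalarTower.algebraMap_apply k K K' c).symm }

theorem resHom_residue (z : P.O) :
    resHom he (IsLocalRing.residue P.O z) = IsLocalRing.residue Q.O (toOQ he z) := by
  haveI := isLocalHom_toOQ he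
  exact IsLocalRing.ResidueField.map_residue (toOQ he) z

end resmap


section action

variable {k K K' : Type*} [Field k] [Field K] [Field K'] [Algebra k K] [Algebra K K']
  [Algebra k K'] [IsScalarTower k K K'] (Q : Place k K')

theorem coe_smul_O (σ : (Q.O).decompositionSubgroup K) (z : Q.O) :
    ((σ • z : Q.O) : K') = (σ : K' ≃ₐ[K] K') (z : K') := rfl

theorem smul_algebraMap (σ : (Q.O).decompositionSubgroup K) (c : k) :
    σ • (algebraMap k Q.O c) = algebraMap k Q.O c := by
  apply Subtype.ext
  rw [coe_smul_O]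
  change (σ : K' ≃ₐ[K] K') (algebraMap k K' c) = algebraMap k K' c
  rw [IsScalarTower.algebraMap_apply k K K', AlgEquiv.commutes]

/-- the action of the decomposition group on the residue field -/
noncomputable def rho : (Q.O).decompositionSubgroup K →*
    (IsLocalRing.ResidueField Q.O ≃ₐ[k] IsLocalRing.ResidueField Q.O) where
  toFun σ := AlgEquiv.ofRingEquiv
    (f := MulSemiringAction.toRingAut ((Q.O).decompositionSubgroup K)
      (IsLocalRing.ResidueField Q.O) σ) (fun c => by
      change σ • (IsLocalRing.residue Q.O (algebraMap k Q.O c)) =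
        IsLocalRing.residue Q.O (algebraMap k Q.O c)
      rw [← IsLocalRing.ResidueField.residue_smul, smul_algebraMap])
  map_one' := by
    ext x
    change (1 : (Q.O).decompositionSubgroup K) • x = x
    rw [one_smul]
  map_mul' σ τ := by
    ext x
    change (σ * τ) • x = σ • (τ • x)
    rw [mul_smul]

theorem rho_apply (σ : (Q.O).decompositionSubgroup K) (x : IsLocalRing.ResidueField Q.O) :
    rho Q σ x = σ • x := rfl

theorem rho_residue (σ : (Q.O).decompositionSubgroup K) (z : Q.O) :
    rho Q σ (IsLocalRing.residue Q.O z) = IsLocalRing.residue Q.O (σ • z) := by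
  rw [rho_apply, IsLocalRing.ResidueField.residue_smul]

theorem ker_rho : (rho (k := k) (K := K) Q).ker = (Q.O).inertiaSubgroup K := by
  ext σ
  rw [MonoidHom.mem_ker]
  unfold ValuationSubring.inertiaSubgroup
  rw [MonoidHom.mem_ker]
  constructor
  · intro h
    ext x
    have := congrArg (fun f : IsLocalRing.ResidueField Q.O ≃ₐ[k] IsLocalRing.ResidueField Q.O =>
      f x) h
    exact this
  · intro h
    ext x
    have := congrArg (fun f : RingAut (IsLocalRing.ResidueField Q.O) => f x) h
    exact this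

theorem card_decomposition_eq [Finite (K' ≃ₐ[K] K')] :
    Nat.card ((Q.O).decompositionSubgroup K) =
      Nat.card ((Q.O).inertiaSubgroup K) * Nat.card (rho (k := k) (K := K) Q).range := by
  rw [← ker_rho, ← Subgroup.index_ker, Subgroup.card_mul_index]

end action


section abstract

theorem card_mul_finrank_of_fixed {k F₀ E : Type*} [Field k] [Field F₀] [Field E] [Algebra k F₀]
    [Algebra k E] (hfd : FiniteDimensional k E) (f : F₀ →ₐ[k] E) (H : Subgroup (E ≃ₐ[k] E))
    (h1 : ∀ y σ, σ ∈ H → σ (f y) = f y) (h2 : ∀ x, (∀ σ ∈ H, σ x = x) → x ∈ f.range) :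
    Nat.card H * Module.finrank k F₀ = Module.finrank k E := by
  have hfix : IntermediateField.fixedField H = f.fieldRange := by
    apply le_antisymm
    · intro x hx
      rw [IntermediateField.mem_fixedField_iff] at hx
      exact h2 x hx
    · rintro x ⟨y, rfl⟩
      rw [IntermediateField.mem_fixedField_iff]
      intro σ hσ
      exact h1 y σ hσ
  have e1 := IntermediateField.finrank_fixedField_eq_card H
  have e2 : Module.finrank k f.fieldRange = Module.finrank k F₀ :=
    (AlgEquiv.ofInjectiveField f).toLinearEquiv.finrank_eq.symm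
  have e3 := Module.finrank_mul_finrank k f.fieldRange E
  rw [hfix] at e1
  rw [← e1, mul_comm, ← e2]
  exact e3

end abstract

section main

variable {k K K' : Type*} [Field k] [Field K] [Field K'] [Algebra k K] [Algebra K K']
  [Algebra k K'] [IsScalarTower k K K'] [FiniteDimensional K K'] [IsGalois K K']

theorem exists_lift (hK : IsFF1 k K) {Q : Place k K'} {P : Place k K} (hQ : IsOver Q P)
    (z : K') (hz : Q.1 z ≤ 1) :
    ∃ w : K', Q.1 (w - z) < 1 ∧ (∀ σ : K' ≃ₐ[K] K', Q.1 (σ w) ≤ 1) ∧
      ∀ σ : K' ≃ₐ[K] K', σ ∉ (Q.O).decompositionSubgroup K → Q.1 (σ w) < 1 := by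
  classical
  have hfin := finite_isOver (K' := K') hK P
  let ι := ↥hfin.toFinset
  let i₀ : ι := ⟨Q, hfin.mem_toFinset.mpr hQ⟩
  obtain ⟨w, hw⟩ := weak_approximation (fun i : ι => (i : Place k K')) Subtype.val_injective
    (fun i => if i = i₀ then z else 0) 1
  have h1lt : exp (-(1 : ℤ)) < (1 : ℤᵐ⁰) := by
    rw [← exp_zero, exp_lt_exp]; omega
  have hwQ : Q.1 (w - z) < 1 := by
    have h1 := hw i₀
    simp only [if_true] at h1
    exact lt_of_le_of_lt h1 h1lt
  have hwQ1 : Q.1 w ≤ 1 := by
    have : w = (w - z) + z := by ring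
    rw [this]
    exact le_trans (Q.1.map_add _ _) (max_le hwQ.le hz)
  have hother : ∀ Q' : Place k K', IsOver Q' P → Q' ≠ Q → Q'.1 w < 1 := by
    intro Q' hQ' hne
    have h1 := hw ⟨Q', hfin.mem_toFinset.mpr hQ'⟩
    have hne' : (⟨Q', hfin.mem_toFinset.mpr hQ'⟩ : ι) ≠ i₀ :=
      fun h => hne (congrArg Subtype.val h)
    simp only [if_neg hne', sub_zero] at h1
    exact lt_of_le_of_lt h1 h1lt
  obtain ⟨e, he⟩ := hQ
  refine ⟨w, hwQ, ?_, ?_⟩
  · intro σ
    by_cases hσ : galPlace σ Q = Q
    · rw [← galPlace_val, hσ]; exact hwQ1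
    · exact (hother _ ⟨e, galPlace_isOverWith σ he⟩ hσ).le
  · intro σ hσ
    rw [mem_decompositionSubgroup_iff] at hσ
    exact hother _ ⟨e, galPlace_isOverWith σ he⟩ hσ

theorem mem_range_resHom_of_fixed (hK : IsFF1 k K) {Q : Place k K'} {P : Place k K} {e : ℕ}
    (he : IsOverWith Q P e) [Algebra.IsSeparable k (IsLocalRing.ResidueField Q.O)]
    (x : IsLocalRing.ResidueField Q.O)
    (hx : ∀ σ : (Q.O).decompositionSubgroup K, rho Q σ x = x) :
    x ∈ (resHom he).range := by
  classical
  obtain ⟨z, rfl⟩ := IsLocalRing.residue_surjective x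
  obtain ⟨w, hw1, hw2, hw3⟩ := exists_lift hK ⟨e, he⟩ (z : K') z.2
  let wσ : (K' ≃ₐ[K] K') → Q.O := fun σ => ⟨σ w, hw2 σ⟩
  let a : (K' ≃ₐ[K] K') → IsLocalRing.ResidueField Q.O := fun σ => IsLocalRing.residue Q.O (wσ σ)
  have ha1 : a 1 = IsLocalRing.residue Q.O z := by
    rw [← sub_eq_zero]
    change IsLocalRing.residue Q.O (wσ 1) - IsLocalRing.residue Q.O z = 0
    rw [← map_sub, residue_eq_zero_iff]
    exact hw1
  have haD : ∀ σ ∈ (Q.O).decompositionSubgroup K, a σ = IsLocalRing.residue Q.O z := by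
    intro σ hσ
    have h1 := hx ⟨σ, hσ⟩
    rw [← ha1] at h1 ⊢
    rw [← h1]
    change _ = rho Q ⟨σ, hσ⟩ (IsLocalRing.residue Q.O (wσ 1))
    rw [rho_residue]
    rfl
  have haN : ∀ σ, σ ∉ (Q.O).decompositionSubgroup K → a σ = 0 := by
    intro σ hσ
    change IsLocalRing.residue Q.O (wσ σ) = 0
    rw [residue_eq_zero_iff]
    exact hw3 σ hσ
  let pQ : (Q.O)[X] := ∏ σ : K' ≃ₐ[K] K', (X - C (wσ σ))
  have hcoef : ∀ n, ∃ c : P.O, toOQ he c = pQ.coeff n := by
    intro n
    have hp : (pQ.map (Q.O.subtype)) = ∏ σ : K' ≃ₐ[K] K', (X - C (σ w)) := by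
      simp only [pQ, Polynomial.map_prod, Polynomial.map_sub, map_X, map_C]
      rfl
    have h1 : ∀ τ : K' ≃ₐ[K] K', τ ((pQ.coeff n : Q.O) : K') = ((pQ.coeff n : Q.O) : K') := by
      intro τ
      have h2 : ((∏ σ : K' ≃ₐ[K] K', (X - C (σ w))) : K'[X]).map
          ((τ : K' ≃+* K') : K' →+* K') = ∏ σ : K' ≃ₐ[K] K', (X - C (σ w)) := by
        rw [Polynomial.map_prod]
        simp only [Polynomial.map_sub, map_X, map_C]
        exact Fintype.prod_equiv (Equiv.mulLeft τ) _ _ (fun σ => rfl)
      have h3 := congrArg (fun q => q.coeff n) h2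
      simp only [coeff_map] at h3
      rw [← hp, coeff_map] at h3
      exact h3
    obtain ⟨c, hc⟩ := (IsGalois.mem_range_algebraMap_iff_fixed _).mpr h1
    have hcP : P.1 c ≤ 1 := by
      have h3 : Q.1 (algebraMap K K' c) ≤ 1 := by rw [hc]; exact (pQ.coeff n).2
      rw [he] at h3
      exact (pow_le_one_iff (Nat.pos_iff_ne_zero.mp (isOverWith_pos he))).mp h3
    exact ⟨⟨c, hcP⟩, Subtype.ext hc⟩
  let pbar : (IsLocalRing.ResidueField Q.O)[X] := ∏ σ : K' ≃ₐ[K] K', (X - C (a σ))
  have hpbar : pbar = pQ.map (IsLocalRing.residue Q.O) := by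
    simp only [pbar, pQ, Polynomial.map_prod, Polynomial.map_sub, map_X, map_C]
    rfl
  have hmonic : pbar.Monic := monic_prod_of_monic _ _ (fun σ _ => monic_X_sub_C _)
  have hlift : pbar ∈ Polynomial.lifts (resHom he).toRingHom := by
    rw [lifts_iff_coeff_lifts]
    intro n
    obtain ⟨c, hc⟩ := hcoef n
    refine ⟨IsLocalRing.residue P.O c, ?_⟩
    rw [hpbar, coeff_map, ← hc]
    exact resHom_residue he c
  obtain ⟨q, hq, -, hqm⟩ := lifts_and_natDegree_eq_and_monic hlift hmonic
  letI : Algebra (IsLocalRing.ResidueField P.O) (IsLocalRing.ResidueField Q.O) :=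
    (resHom he).toRingHom.toAlgebra
  haveI : IsScalarTower k (IsLocalRing.ResidueField P.O) (IsLocalRing.ResidueField Q.O) :=
    IsScalarTower.of_algebraMap_eq (fun c => ((resHom he).commutes c).symm)
  haveI : Algebra.IsSeparable (IsLocalRing.ResidueField P.O) (IsLocalRing.ResidueField Q.O) :=
    Algebra.isSeparable_tower_top_of_isSeparable k _ _
  by_cases hx0 : IsLocalRing.residue Q.O z = 0
  · exact ⟨0, by rw [map_zero, hx0]⟩
  have hint : IsIntegral (IsLocalRing.ResidueField P.O) (IsLocalRing.residue Q.O z) :=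
    Algebra.IsSeparable.isIntegral _ _
  have hμq : minpoly (IsLocalRing.ResidueField P.O) (IsLocalRing.residue Q.O z) ∣ q := by
    apply minpoly.dvd
    rw [aeval_def, eval₂_eq_eval_map]
    change eval _ (q.map (resHom he).toRingHom) = 0
    rw [hq, eval_prod]
    apply Finset.prod_eq_zero (Finset.mem_univ 1)
    rw [eval_sub, eval_X, eval_C, ha1, sub_self]
  have hμp : (minpoly (IsLocalRing.ResidueField P.O) (IsLocalRing.residue Q.O z)).map
      (algebraMap (IsLocalRing.ResidueField P.O) (IsLocalRing.ResidueField Q.O)) ∣ pbar := by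
    rw [← hq]
    exact Polynomial.map_dvd _ hμq
  have hsplit := Splits.of_dvd (Splits.prod (fun σ _ => Splits.X_sub_C (a σ))) hmonic.ne_zero hμp
  have hsep : ((minpoly (IsLocalRing.ResidueField P.O) (IsLocalRing.residue Q.O z)).map
      (algebraMap (IsLocalRing.ResidueField P.O) (IsLocalRing.ResidueField Q.O))).Separable :=
    Polynomial.Separable.map (Algebra.IsSeparable.isSeparable (IsLocalRing.ResidueField P.O)
      (IsLocalRing.residue Q.O z))
  have hroots : ∀ r ∈ ((minpoly (IsLocalRing.ResidueField P.O) (IsLocalRing.residue Q.O z)).map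
      (algebraMap (IsLocalRing.ResidueField P.O) (IsLocalRing.ResidueField Q.O))).roots,
      r = IsLocalRing.residue Q.O z := by
    intro r hr
    have hr' : IsRoot _ r := (mem_roots'.mp hr).2
    have h1 : eval r pbar = 0 := by
      obtain ⟨g, hg⟩ := hμp
      rw [hg, eval_mul, hr'.eq_zero, zero_mul]
    rw [eval_prod] at h1
    obtain ⟨σ, -, hσ⟩ := Finset.prod_eq_zero_iff.mp h1
    rw [eval_sub, eval_X, eval_C, sub_eq_zero] at hσ
    by_cases hσD : σ ∈ (Q.O).decompositionSubgroup K
    · rw [hσ, haD σ hσD]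
    · exfalso
      rw [haN σ hσD] at hσ
      have h2 : ((minpoly (IsLocalRing.ResidueField P.O) (IsLocalRing.residue Q.O z)).map
          (algebraMap (IsLocalRing.ResidueField P.O) (IsLocalRing.ResidueField Q.O))).coeff 0
          = 0 := by
        rw [hσ] at hr'
        rw [coeff_zero_eq_eval_zero]
        exact hr'
      rw [coeff_map] at h2
      have h3 := (map_eq_zero_iff _ (algebraMap (IsLocalRing.ResidueField P.O)
        (IsLocalRing.ResidueField Q.O)).injective).mp h2
      exact minpoly.coeff_zero_ne_zero hint hx0 h3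
  have hcard : ((minpoly (IsLocalRing.ResidueField P.O) (IsLocalRing.residue Q.O z)).map
      (algebraMap (IsLocalRing.ResidueField P.O)
        (IsLocalRing.ResidueField Q.O))).roots.card ≤ 1 := by
    have hnd := nodup_roots hsep
    rw [← Multiset.toFinset_card_of_nodup hnd]
    apply Finset.card_le_one.mpr
    intro a ha b hb
    rw [hroots a (Multiset.mem_toFinset.mp ha), hroots b (Multiset.mem_toFinset.mp hb)]
  have hdeg : (minpoly (IsLocalRing.ResidueField P.O) (IsLocalRing.residue Q.O z)).natDegree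
      = 1 := by
    have h1 := natDegree_map (p := minpoly (IsLocalRing.ResidueField P.O)
      (IsLocalRing.residue Q.O z))
      (algebraMap (IsLocalRing.ResidueField P.O) (IsLocalRing.ResidueField Q.O))
    have h2 := hsplit.natDegree_eq_card_roots
    have h3 := minpoly.natDegree_pos hint
    omega
  obtain ⟨y, hy⟩ := minpoly.natDegree_eq_one_iff.mp hdeg
  exact ⟨y, hy⟩


theorem card_range_rho_mul_deg (hK : IsFF1 k K) {Q : Place k K'} {P : Place k K} {e : ℕ}
    (he : IsOverWith Q P e) [Algebra.IsSeparable k (IsLocalRing.ResidueField Q.O)] :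
    Nat.card (rho (k := k) (K := K) Q).range * P.deg = Q.deg := by
  have hfd : FiniteDimensional k (IsLocalRing.ResidueField Q.O) :=
    finiteDimensional_residueField (isFF1_of_finite K' hK) Q
  refine card_mul_finrank_of_fixed hfd (resHom he) (rho (k := k) (K := K) Q).range ?_ ?_
  · rintro y _ ⟨σ, rfl⟩
    obtain ⟨c, rfl⟩ := IsLocalRing.residue_surjective y
    change rho Q σ (resHom he (IsLocalRing.residue P.O c)) = resHom he (IsLocalRing.residue P.O c)
    rw [resHom_residue, rho_residue]
    congr 1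
    apply Subtype.ext
    rw [coe_smul_O, coe_toOQ]
    exact (σ : K' ≃ₐ[K] K').commutes _
  · intro x hx
    exact mem_range_resHom_of_fixed hK he x (fun σ => hx _ ⟨σ, rfl⟩)

theorem card_inertia (hK : IsFunctionField k K) {Q : Place k K'} {P : Place k K} {e : ℕ}
    (he : IsOverWith Q P e) [Algebra.IsSeparable k (IsLocalRing.ResidueField Q.O)] :
    Nat.card ((Q.O).inertiaSubgroup K) = e := by
  have h1 := card_decomposition_mul_deg hK he
  have h2 := card_decomposition_eq (k := k) (K := K) Q
  have h3 := card_range_rho_mul_deg hK.1 he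
  have h4 : 0 < Q.deg := deg_pos (isFF1_of_finite K' hK.1) Q
  rw [h2, mul_assoc, h3] at h1
  exact Nat.eq_of_mul_eq_mul_right h4 h1

end main

end Groth.Agent.Lib.helper16.FIn
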