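import Groth.Agent.Lib.helper16.FInertia

/-! Helper library (helper16): inertia groups over a base with non-closed constants; the inertia
field (S11029, S12521). -/

set_option autoImplicit false

namespace Groth.Agent.Lib.helper16.FIn

open FunFld WithZero Module Polynomial
open Groth.Agent.Lib.helper16 Groth.Agent.Lib.helper16.FF Groth.Agent.Lib.helper16.FX
open scoped IntermediateField

section constfield

variable {k E : Type*} [Field k] [Field E] [Algebra k E]

theorem isFunctionField_algebraicClosure (hE : IsFF1 k E) :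
    IsFunctionField (algebraicClosure k E) E := by
  obtain ⟨x, hx, hfd⟩ := hE
  have halg : ∀ y : E, IsAlgebraic (algebraicClosure k E) y → IsAlgebraic k y := by
    intro y hy
    exact hy.restrictScalars k
  refine ⟨⟨x, fun h => hx (halg x h), ?_⟩, ?_⟩
  · obtain ⟨s, hs⟩ := (Module.finite_def.mp hfd)
    have hle : ∀ a : k⟮x⟯, (a : E) ∈ (algebraicClosure k E)⟮x⟯ := by
      intro a
      have h1 : k⟮x⟯ ≤ ((algebraicClosure k E)⟮x⟯).restrictScalars k := by
        rw [IntermediateField.adjoin_le_iff]
        rintro y rfl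
        exact IntermediateField.mem_adjoin_simple_self _ _
      exact h1 a.2
    refine Module.finite_def.mpr ⟨s, ?_⟩
    rw [eq_top_iff]
    intro y _
    have hy : y ∈ Submodule.span k⟮x⟯ (s : Set E) := by rw [hs]; trivial
    induction hy using Submodule.span_induction with
    | mem z hz => exact Submodule.subset_span hz
    | zero => exact Submodule.zero_mem _
    | add a b _ _ ha hb => exact Submodule.add_mem _ (ha trivial) (hb trivial)
    | smul a z _ hz =>
      have : a • z = (⟨(a : E), hle a⟩ : (algebraicClosure k E)⟮x⟯) • z := rfl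
      rw [this]
      exact Submodule.smul_mem _ _ (hz trivial)
  · intro y hy
    exact ⟨⟨y, (mem_algebraicClosure_iff).mpr (halg y hy)⟩, rfl⟩

end constfield


section gen

variable {k E K' : Type*} [Field k] [Field E] [Field K'] [Algebra k E] [Algebra E K']
  [Algebra k K'] [IsScalarTower k E K'] [FiniteDimensional E K'] [IsGalois E K']

/-- the order of the inertia group, without the assumption that `k` is algebraically closed
in the base field -/
theorem card_inertia' (hE : IsFF1 k E) {Q : Place k K'} {R : Place k E} {e : ℕ}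
    (he : IsOverWith Q R e) [hsep : Algebra.IsSeparable k (IsLocalRing.ResidueField Q.O)] :
    Nat.card ((Q.O).inertiaSubgroup E) = e := by
  have hQ1 : ∀ c : algebraicClosure k E, Q.1 (algebraMap (algebraicClosure k E) K' c) ≤ 1 := by
    intro c
    have hk : ∀ c : k, algebraMap k K' c ∈ Q.1.valuationSubring := fun c => Q.2.1 c
    have halg : IsAlgebraic k (algebraMap (algebraicClosure k E) K' c) :=
      (Algebra.IsAlgebraic.isAlgebraic c).algebraMap
    exact FX.mem_of_isAlgebraic (k := k) Q.1.valuationSubring hk halg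
  have hR1 : ∀ c : algebraicClosure k E, R.1 (algebraMap (algebraicClosure k E) E c) ≤ 1 := by
    intro c
    have hk : ∀ c : k, algebraMap k E c ∈ R.1.valuationSubring := fun c => R.2.1 c
    have halg : IsAlgebraic k (algebraMap (algebraicClosure k E) E c) :=
      (Algebra.IsAlgebraic.isAlgebraic c).algebraMap
    exact FX.mem_of_isAlgebraic (k := k) R.1.valuationSubring hk halg
  let Q' : Place (algebraicClosure k E) K' := ⟨Q.1, hQ1, Q.2.2⟩
  let R' : Place (algebraicClosure k E) E := ⟨R.1, hR1, R.2.2⟩
  have he' : IsOverWith Q' R' e := fun x => he x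
  letI : Algebra k (IsLocalRing.ResidueField Q'.O) := Place.algRes Q
  haveI : IsScalarTower k (algebraicClosure k E) (IsLocalRing.ResidueField Q'.O) :=
    IsScalarTower.of_algebraMap_eq (fun c =>
      congrArg (IsLocalRing.residue Q.O) (Subtype.ext
        (IsScalarTower.algebraMap_apply k (algebraicClosure k E) K' c)))
  haveI : Algebra.IsSeparable k (IsLocalRing.ResidueField Q'.O) := hsep
  haveI : Algebra.IsSeparable (algebraicClosure k E) (IsLocalRing.ResidueField Q'.O) :=
    Algebra.isSeparable_tower_top_of_isSeparable k _ _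
  have key := card_inertia (k := algebraicClosure k E) (K := E) (K' := K')
    (isFunctionField_algebraicClosure hE) he'
  have h : Q'.O = Q.O := rfl
  rw [h] at key
  exact key

end gen


section Tchar

variable {k F K' : Type*} [Field k] [Field F] [Field K'] [Algebra k F] [Algebra F K']
  [Algebra k K'] [IsScalarTower k F K'] (Q : Place k K')

/-- concrete description of inertia -/
def T (g : K' → K') : Prop :=
  (∀ z, Q.1 (g z) = Q.1 z) ∧ ∀ z, Q.1 z ≤ 1 → Q.1 (g z - z) < 1

theorem mem_inertia_iff (σ : (Q.O).decompositionSubgroup F) :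
    σ ∈ (Q.O).inertiaSubgroup F ↔
      ∀ z : K', Q.1 z ≤ 1 → Q.1 ((σ : K' ≃ₐ[F] K') z - z) < 1 := by
  rw [← ker_rho (k := k), MonoidHom.mem_ker]
  constructor
  · intro h z hz
    have h1 : rho (k := k) Q σ (IsLocalRing.residue Q.O ⟨z, hz⟩) =
        IsLocalRing.residue Q.O ⟨z, hz⟩ := by rw [h]; rfl
    rw [rho_residue, ← sub_eq_zero, ← map_sub, residue_eq_zero_iff] at h1
    exact h1
  · intro h
    ext x
    obtain ⟨z, rfl⟩ := IsLocalRing.residue_surjective x
    rw [AlgEquiv.one_apply, rho_residue, ← sub_eq_zero, ← map_sub, residue_eq_zero_iff]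
    exact h z z.2

theorem mem_map_inertia_iff (g : K' ≃ₐ[F] K') :
    g ∈ ((Q.O).inertiaSubgroup F).map ((Q.O).decompositionSubgroup F).subtype ↔ T Q g := by
  constructor
  · rintro ⟨σ, hσ, rfl⟩
    refine ⟨fun z => ?_, (mem_inertia_iff Q σ).mp hσ⟩
    have h1 := (mem_decompositionSubgroup_iff (k := k) (σ : K' ≃ₐ[F] K') Q).mp σ.2
    have h2 := congrArg (fun R : Place k K' => R.1 z) h1
    exact h2
  · rintro ⟨h1, h2⟩
    have hD : g ∈ (Q.O).decompositionSubgroup F := by
      rw [mem_decompositionSubgroup_iff (k := k)]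
      apply Subtype.ext
      ext z
      exact h1 z
    exact ⟨⟨g, hD⟩, (mem_inertia_iff Q ⟨g, hD⟩).mpr h2, rfl⟩

end Tchar

section restrict

variable {k K K' : Type*} [Field k] [Field K] [Field K'] [Algebra k K] [Algebra K K']
  [Algebra k K'] [IsScalarTower k K K'] (Q : Place k K') (E : IntermediateField K K')

theorem isScalarTower_intermediate : IsScalarTower k ↥E K' :=
  IsScalarTower.of_algebraMap_eq (fun _ => rfl)

theorem card_inertia_intermediate :
    Nat.card ((Q.O).inertiaSubgroup E) =
      Nat.card ↥((((Q.O).inertiaSubgroup K).map ((Q.O).decompositionSubgroup K).subtype) ⊓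
        E.fixingSubgroup) := by
  haveI := isScalarTower_intermediate (k := k) E
  have h1 : Nat.card ((Q.O).inertiaSubgroup E) =
      Nat.card (((Q.O).inertiaSubgroup E).map ((Q.O).decompositionSubgroup E).subtype) :=
    Nat.card_congr (((Q.O).inertiaSubgroup E).equivMapOfInjective _
      (Subgroup.subtype_injective _)).toEquiv
  rw [h1]
  let ρ : (K' ≃ₐ[E] K') → (K' ≃ₐ[K] K') := fun τ => τ.restrictScalars K
  have hρ : Function.Injective ρ := AlgEquiv.restrictScalars_injective K
  have himg : ρ '' ((((Q.O).inertiaSubgroup E).map ((Q.O).decompositionSubgroup E).subtype :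
      Subgroup (K' ≃ₐ[E] K')) : Set (K' ≃ₐ[E] K')) =
      (((((Q.O).inertiaSubgroup K).map ((Q.O).decompositionSubgroup K).subtype) ⊓
        E.fixingSubgroup : Subgroup (K' ≃ₐ[K] K')) : Set (K' ≃ₐ[K] K')) := by
    ext g
    constructor
    · rintro ⟨τ, hτ, rfl⟩
      refine ⟨(mem_map_inertia_iff (k := k) Q _).mpr ?_, ?_⟩
      · exact (mem_map_inertia_iff (k := k) Q τ).mp hτ
      · change ρ τ ∈ E.fixingSubgroup
        rw [IntermediateField.mem_fixingSubgroup_iff]
        intro x hx
        exact τ.commutes ⟨x, hx⟩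
    · rintro ⟨hg1, hg2⟩
      refine ⟨IntermediateField.fixingSubgroupEquiv E ⟨g, hg2⟩, ?_, ?_⟩
      · exact (mem_map_inertia_iff (k := k) Q _).mpr
          ((mem_map_inertia_iff (k := k) Q g).mp hg1)
      · ext z
        rfl
  have h2 := Set.ncard_image_of_injective ((((Q.O).inertiaSubgroup E).map
    ((Q.O).decompositionSubgroup E).subtype : Subgroup (K' ≃ₐ[E] K')) : Set (K' ≃ₐ[E] K')) hρ
  rw [himg] at h2
  rw [← Nat.card_coe_set_eq, ← Nat.card_coe_set_eq] at h2
  exact h2.symm

end restrict


section field

variable {k K K' : Type*} [Field k] [Field K] [Field K'] [Algebra k K] [Algebra K K']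
  [Algebra k K'] [IsScalarTower k K K'] [FiniteDimensional K K'] [IsGalois K K']

theorem isScalarTower_intermediate' (E : IntermediateField K K') : IsScalarTower k K ↥E :=
  IsScalarTower.of_algebraMap_eq (fun c => Subtype.ext (IsScalarTower.algebraMap_apply k K K' c))

theorem ramification_intermediate (hK : IsFF1 k K) (Q : Place k K')
    [Algebra.IsSeparable k (IsLocalRing.ResidueField Q.O)] (E : IntermediateField K K') :
    ∃ R : Place k E, IsOverWith Q R
      (Nat.card ↥((((Q.O).inertiaSubgroup K).map ((Q.O).decompositionSubgroup K).subtype) ⊓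
        E.fixingSubgroup)) := by
  haveI := isScalarTower_intermediate (k := k) E
  haveI := isScalarTower_intermediate' (k := k) E
  have hE : IsFF1 k E := isFF1_of_finite E hK
  obtain ⟨R, e, he⟩ := exists_isOverWith hE Q
  have h1 := card_inertia' hE he
  rw [card_inertia_intermediate] at h1
  rw [h1]
  exact ⟨R, he⟩

theorem totallyRamified (hK : IsFF1 k K) (Q : Place k K')
    [Algebra.IsSeparable k (IsLocalRing.ResidueField Q.O)] :
    ∃ Q₁ : Place k (IntermediateField.fixedField
        (((Q.O).inertiaSubgroup K).map ((Q.O).decompositionSubgroup K).subtype)),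
      IsOverWith Q Q₁ (Module.finrank (IntermediateField.fixedField
        (((Q.O).inertiaSubgroup K).map ((Q.O).decompositionSubgroup K).subtype)) K') := by
  obtain ⟨Q₁, h⟩ := ramification_intermediate hK Q (IntermediateField.fixedField
        (((Q.O).inertiaSubgroup K).map ((Q.O).decompositionSubgroup K).subtype))
  rw [IntermediateField.fixingSubgroup_fixedField, inf_idem] at h
  rw [IntermediateField.finrank_fixedField_eq_card]
  exact ⟨Q₁, h⟩

theorem range_pow_eq_iff {a b : ℕ} (ha : 1 ≤ a) (hb : 1 ≤ b) :
    Set.range (fun y : ℤᵐ⁰ => y ^ a) = Set.range (fun y : ℤᵐ⁰ => y ^ b) ↔ a = b := by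
  constructor
  · intro h
    have key : ∀ {a b : ℕ}, 1 ≤ a → 1 ≤ b →
        Set.range (fun y : ℤᵐ⁰ => y ^ a) ⊆ Set.range (fun y : ℤᵐ⁰ => y ^ b) → b ∣ a := by
      intro a b ha hb hsub
      obtain ⟨y, hy⟩ := hsub ⟨exp (-1 : ℤ), rfl⟩
      simp only at hy
      have hy0 : y ≠ 0 := by
        rintro rfl
        rw [zero_pow (by omega)] at hy
        exact absurd hy.symm (pow_ne_zero _ exp_ne_zero)
      rw [← exp_log hy0, ← exp_nsmul, ← exp_nsmul, exp_inj] at hy
      simp only [nsmul_eq_mul] at hy
      apply Int.natCast_dvd_natCast.mp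
      exact ⟨-(log y), by linarith⟩
    exact Nat.dvd_antisymm (key hb ha h.ge) (key ha hb h.le)
  · rintro rfl
    rfl

theorem unramified_iff (hK : IsFunctionField k K) (Q : Place k K')
    [Algebra.IsSeparable k (IsLocalRing.ResidueField Q.O)] (E : IntermediateField K K') :
    Set.range (Q.1.comap (algebraMap E K')) = Set.range (Q.1.comap (algebraMap K K')) ↔
      E ≤ IntermediateField.fixedField
        (((Q.O).inertiaSubgroup K).map ((Q.O).decompositionSubgroup K).subtype) := by
  obtain ⟨R, hR⟩ := ramification_intermediate hK.1 Q E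
  obtain ⟨P, e, he⟩ := exists_isOverWith hK.1 Q
  have h1 := card_inertia hK he
  have h2 : Nat.card (((Q.O).inertiaSubgroup K).map ((Q.O).decompositionSubgroup K).subtype)
      = e := by
    rw [← h1]
    exact (Nat.card_congr (((Q.O).inertiaSubgroup K).equivMapOfInjective _
      (Subgroup.subtype_injective _)).toEquiv).symm
  have hrE : Set.range (Q.1.comap (algebraMap E K')) = Set.range (fun y : ℤᵐ⁰ => y ^
      (Nat.card ↥((((Q.O).inertiaSubgroup K).map ((Q.O).decompositionSubgroup K).subtype) ⊓
        E.fixingSubgroup))) := by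
    have : (Q.1.comap (algebraMap E K') : E → ℤᵐ⁰) = (fun y : ℤᵐ⁰ => y ^
      (Nat.card ↥((((Q.O).inertiaSubgroup K).map ((Q.O).decompositionSubgroup K).subtype) ⊓
        E.fixingSubgroup))) ∘ R.1 := funext hR
    rw [this]
    exact R.2.2.range_comp _
  have hrK : Set.range (Q.1.comap (algebraMap K K')) = Set.range (fun y : ℤᵐ⁰ => y ^ e) := by
    have : (Q.1.comap (algebraMap K K') : K → ℤᵐ⁰) = (fun y : ℤᵐ⁰ => y ^ e) ∘ P.1 := funext he
    rw [this]
    exact P.2.2.range_comp _
  rw [hrE, hrK, range_pow_eq_iff Nat.card_pos (isOverWith_pos he), IntermediateField.le_iff_le,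
    ← h2]
  constructor
  · intro h
    have h3 := Subgroup.eq_of_le_of_card_ge (inf_le_left :
      (((Q.O).inertiaSubgroup K).map ((Q.O).decompositionSubgroup K).subtype) ⊓
        E.fixingSubgroup ≤ _) (le_of_eq h.symm)
    exact inf_eq_left.mp h3
  · intro h
    rw [inf_eq_left.mpr h]

end field

end Groth.Agent.Lib.helper16.FIn
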