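import Groth.Agent.Lib.helper16.FSepQ

/-! Helper library (helper16): separating variables inside generating subspaces. -/

set_option autoImplicit false

namespace Groth.Agent.Lib.helper16.FS

open FunFld Polynomial Module KaehlerDifferential
open scoped IntermediateField

universe u v

/-- a generating subspace contains a separating variable -/
theorem exists_separating_mem {k : Type u} {K : Type v} [Field k] [Field K] [Algebra k K]
    (hK : IsFunctionField k K) (hg : IsGeometric k K) (W : Submodule k K)
    (hW : IntermediateField.adjoin k (W : Set K) = ⊤) :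
    ∃ x ∈ W, Algebra.IsSeparable k⟮x⟯ K := by
  obtain _ | ⟨p, hp, hpk⟩ := CharP.exists' K
  · -- characteristic zero: any transcendental element of `W`
    have hex : ∃ x ∈ W, Transcendental k x := by
      by_contra hcon
      push Not at hcon
      obtain ⟨⟨x₀, hx₀, -⟩, hcl⟩ := hK
      have hle : IntermediateField.adjoin k (W : Set K) ≤ ⊥ := by
        rw [IntermediateField.adjoin_le_iff]
        intro w hw
        have : IsAlgebraic k w := by
          by_contra h
          exact hcon w hw h
        exact IntermediateField.mem_bot.mpr (hcl w this)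
      rw [hW, top_le_iff] at hle
      have : x₀ ∈ (⊥ : IntermediateField k K) := by rw [hle]; trivial
      obtain ⟨c, rfl⟩ := IntermediateField.mem_bot.mp this
      exact hx₀ (isAlgebraic_algebraMap c)
    obtain ⟨x, hxW, hx⟩ := hex
    refine ⟨x, hxW, ?_⟩
    have hfd : FiniteDimensional k⟮x⟯ K := FX.finiteDimensional_of_transcendental hK.1 hx
    have : CharZero k⟮x⟯ := RingHom.charZero (algebraMap k⟮x⟯ K)
    exact Algebra.IsAlgebraic.isSeparable_of_perfectField
  · have hex : ∃ x ∈ W, x ∉ IntermediateField.adjoin k (Set.range fun y : K => y ^ p) := by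
      by_contra hcon
      push Not at hcon
      have hle : IntermediateField.adjoin k (W : Set K) ≤
          IntermediateField.adjoin k (Set.range fun y : K => y ^ p) := by
        rw [IntermediateField.adjoin_le_iff]
        exact fun w hw => hcon w hw
      rw [hW, top_le_iff] at hle
      have h1 := finrank_kKp p hK hg
      rw [hle, IntermediateField.finrank_top] at h1
      have := hp.out.two_le
      omega
    obtain ⟨x, hxW, hx⟩ := hex
    exact ⟨x, hxW, isSeparable_of_not_mem p hK hg hx⟩

/-- over an infinite constant field, a generating subspace contains a primitive element over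
`k(x)` for each separating `x` -/
theorem exists_primitive_mem {k : Type u} {K : Type v} [Field k] [Infinite k] [Field K]
    [Algebra k K] (hK : IsFunctionField k K) (W : Submodule k K)
    (hW : IntermediateField.adjoin k (W : Set K) = ⊤) {x : K}
    (hsep : Algebra.IsSeparable k⟮x⟯ K) :
    ∃ y ∈ W, IntermediateField.adjoin k ({x, y} : Set K) = ⊤ := by
  have hx := transcendental_of_isSeparable hK hsep
  have hfd : FiniteDimensional k⟮x⟯ K := FX.finiteDimensional_of_transcendental hK.1 hx
  have hfin : Finite (IntermediateField k⟮x⟯ K) :=
    Field.finite_intermediateField_of_exists_primitive_element k⟮x⟯ K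
      (Field.exists_primitive_element k⟮x⟯ K)
  by_contra hcon
  push Not at hcon
  let q : {N : IntermediateField k⟮x⟯ K // N ≠ ⊤} → Subspace k W := fun N =>
    Submodule.comap W.subtype (Subalgebra.toSubmodule (N.1.restrictScalars k).toSubalgebra)
  have hcov : ⋃ N, (q N : Set W) = Set.univ := by
    apply Set.eq_univ_of_forall
    intro w
    rw [Set.mem_iUnion]
    have hne : k⟮x⟯⟮(w : K)⟯ ≠ ⊤ := by
      intro htop
      apply hcon (w : K) w.2
      rw [Set.insert_eq, ← IntermediateField.adjoin_adjoin_left, htop,
        IntermediateField.restrictScalars_top]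
    refine ⟨⟨k⟮x⟯⟮(w : K)⟯, hne⟩, ?_⟩
    show (w : K) ∈ k⟮x⟯⟮(w : K)⟯
    exact IntermediateField.mem_adjoin_simple_self _ _
  obtain ⟨⟨N, hN⟩, hNtop⟩ := Subspace.exists_eq_top_of_iUnion_eq_univ hcov
  apply hN
  rw [← IntermediateField.restrictScalars_eq_top_iff (K := k), eq_top_iff, ← hW,
    IntermediateField.adjoin_le_iff]
  intro w hw
  have : (⟨w, hw⟩ : W) ∈ q ⟨N, hN⟩ := by rw [hNtop]; trivial
  exact this

end Groth.Agent.Lib.helper16.FS
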