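import Groth.Agent.Lib.helper16.FAdjFinal
import Groth.Agent.Lib.helper16.FSepW
import Groth.Agent.Lib.helper16.FSepK

/-! Helper library (helper16): adapted projective coordinates at a place of a plane model —
a one-parameter family of projections (towards S11072). -/

set_option autoImplicit false

namespace Groth.Agent.Lib.helper16.FAJ

open FunFld WithZero Module LocRes MvPolynomial
open Groth.Agent.Lib.helper16 Groth.Agent.Lib.helper16.FF
open scoped IntermediateField

universe u v

variable {k : Type u} {K : Type v} [Field k] [Field K] [Algebra k K] [IsAlgClosed k]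

/-- a one-parameter family of coordinate changes adapted to the place `Q` -/
theorem exists_family (x y : K) (f : MvPolynomial (Fin 2) k) (hf : Irreducible f)
    (hfxy : aeval ![x, y] f = 0) (Q : Place k K) :
    ∃ (j₀ p q : Fin 3) (Ac : k → Matrix (Fin 3) (Fin 3) k) (B₀ : Finset k),
      (![(1 : K), x, y] j₀ ≠ 0 ∧ ∀ i, Q.1 (![(1 : K), x, y] i) ≤ Q.1 (![(1 : K), x, y] j₀)) ∧
      (∀ g : Fin 3 → K, ∑ l, g l = g j₀ + g p + g q) ∧
      (∀ i : Fin 3, i = j₀ ∨ i = p ∨ i = q) ∧
      (∀ c, (Ac c).det ≠ 0) ∧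
      (∀ c i, ∑ l, algebraMap k K (Ac c i l) *
        (![![(1 : K), x, y] j₀, ![(1 : K), x, y] p - algebraMap k K c * ![(1 : K), x, y] q,
          ![(1 : K), x, y] q] l) = ![(1 : K), x, y] i) ∧
      (∀ c (g : Fin 3 → K), ∑ l, algebraMap k K (Ac c l 2) * g l = g q + algebraMap k K c * g p) ∧
      (∀ c, c ∉ B₀ → aeval (fun i => Ac c i 2) (FAH.hom f) ≠ 0) := by
  classical
  by_cases h0 : Q.1 x ≤ 1 ∧ Q.1 y ≤ 1
  · have htop := FPD.topPoly_ne_zero hf.ne_zero
    refine ⟨0, 2, 1, fun t => !![1, 0, 0; 0, 0, 1; 0, 1, t], (FPD.topPoly f).roots.toFinset,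
      ⟨?_, ?_⟩, ?_, ?_, ?_, ?_, ?_, ?_⟩
    · show (1 : K) ≠ 0
      exact one_ne_zero
    · intro i
      show Q.1 _ ≤ Q.1 (1 : K)
      rw [map_one]
      fin_cases i
      · show Q.1 (1 : K) ≤ 1
        rw [map_one]
      · exact h0.1
      · exact h0.2
    · intro g
      rw [Fin.sum_univ_three]
      ring
    · decide
    · intro t
      rw [Matrix.det_fin_three]
      simp
    · intro t i
      fin_cases i <;> simp [Fin.sum_univ_three]
    · intro t g
      rw [Fin.sum_univ_three]
      simp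
    · intro t ht
      have hcol : (fun i => (!![1, 0, 0; 0, 0, 1; 0, 1, t] : Matrix (Fin 3) (Fin 3) k) i 2) =
          ![(0 : k), 1, t] := by
        funext i
        fin_cases i <;> rfl
      rw [hcol, FAH.aeval_hom_top]
      intro h
      apply ht
      rw [Multiset.mem_toFinset, Polynomial.mem_roots htop]
      exact h
  · by_cases h1 : Q.1 y ≤ Q.1 x
    · have hx1 : 1 < Q.1 x := by
        by_contra hle
        rw [not_lt] at hle
        exact h0 ⟨hle, h1.trans hle⟩
      have hx0 : x ≠ 0 := by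
        rintro rfl
        rw [map_zero] at hx1
        exact absurd hx1 (not_lt.mpr zero_le)
      have hs := FAH.spec_ne_zero hf ![x, y] hfxy (j := 1) (j' := 0) (by decide) hx0
      refine ⟨1, 2, 0, fun c => !![0, 0, 1; 1, 0, 0; 0, 1, c], (FAH.spec 1 f).roots.toFinset,
        ⟨hx0, ?_⟩, ?_, ?_, ?_, ?_, ?_, ?_⟩
      · intro i
        show Q.1 _ ≤ Q.1 x
        fin_cases i
        · show Q.1 (1 : K) ≤ Q.1 x
          rw [map_one]
          exact hx1.le
        · exact le_rfl
        · exact h1
      · intro g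
        rw [Fin.sum_univ_three]
        ring
      · decide
      · intro c
        rw [Matrix.det_fin_three]
        simp
      · intro c i
        fin_cases i <;> simp [Fin.sum_univ_three]
      · intro c g
        rw [Fin.sum_univ_three]
        simp
      · intro c hc
        have hcol : (fun i => (!![0, 0, 1; 1, 0, 0; 0, 1, c] : Matrix (Fin 3) (Fin 3) k) i 2) =
            ![(1 : k), 0, c] := by
          funext i
          fin_cases i <;> rfl
        have hsp : (fun l : Fin 2 => if l = 1 then c else (0 : k)) = ![0, c] := by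
          funext l
          fin_cases l <;> simp
        rw [hcol, FAH.aeval_hom, ← hsp, ← FAH.eval_spec]
        intro h
        apply hc
        rw [Multiset.mem_toFinset, Polynomial.mem_roots hs]
        exact h
    · rw [not_le] at h1
      have hy1 : 1 < Q.1 y := by
        by_contra hle
        rw [not_lt] at hle
        exact h0 ⟨(h1.le).trans hle, hle⟩
      have hy0 : y ≠ 0 := by
        rintro rfl
        rw [map_zero] at hy1
        exact absurd hy1 (not_lt.mpr zero_le)
      have hs := FAH.spec_ne_zero hf ![x, y] hfxy (j := 0) (j' := 1) (by decide) hy0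
      refine ⟨2, 1, 0, fun c => !![0, 0, 1; 0, 1, c; 1, 0, 0], (FAH.spec 0 f).roots.toFinset,
        ⟨hy0, ?_⟩, ?_, ?_, ?_, ?_, ?_, ?_⟩
      · intro i
        show Q.1 _ ≤ Q.1 y
        fin_cases i
        · show Q.1 (1 : K) ≤ Q.1 y
          rw [map_one]
          exact hy1.le
        · exact h1.le
        · exact le_rfl
      · intro g
        rw [Fin.sum_univ_three]
        ring
      · decide
      · intro c
        rw [Matrix.det_fin_three]
        simp
      · intro c i
        fin_cases i <;> simp [Fin.sum_univ_three]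
      · intro c g
        rw [Fin.sum_univ_three]
        simp
      · intro c hc
        have hcol : (fun i => (!![0, 0, 1; 0, 1, c; 1, 0, 0] : Matrix (Fin 3) (Fin 3) k) i 2) =
            ![(1 : k), c, 0] := by
          funext i
          fin_cases i <;> rfl
        have hsp : (fun l : Fin 2 => if l = 0 then c else (0 : k)) = ![c, 0] := by
          funext l
          fin_cases l <;> simp
        rw [hcol, FAH.aeval_hom, ← hsp, ← FAH.eval_spec]
        intro h
        apply hc
        rw [Multiset.mem_toFinset, Polynomial.mem_roots hs]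
        exact h


/-- generators of the function field do not both have zero differential -/
theorem D_ne_zero_or (hK : IsFunctionField k K) (a b : K)
    (hab : IntermediateField.adjoin k ({a, b} : Set K) = ⊤) :
    KaehlerDifferential.D k K a ≠ 0 ∨ KaehlerDifferential.D k K b ≠ 0 := by
  have hg : IsGeometric k K := FG.isGeometric_of_perfectField k K hK.2
  have hW : IntermediateField.adjoin k ((Submodule.span k ({a, b} : Set K) : Submodule k K) : Set K) = ⊤ := by
    rw [eq_top_iff, ← hab]
    exact IntermediateField.adjoin.mono k _ _ Submodule.subset_span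
  obtain ⟨s, hsW, hsep⟩ := FS.exists_separating_mem hK hg _ hW
  have hstr : Transcendental k s := by
    intro halg
    obtain ⟨c, rfl⟩ := hK.2 s halg
    obtain ⟨⟨x₀, hx₀, -⟩, -⟩ := hK
    apply hx₀
    have h1 : IsAlgebraic k⟮algebraMap k K c⟯ x₀ := Algebra.IsAlgebraic.isAlgebraic x₀
    have h2 : Algebra.IsAlgebraic k k⟮algebraMap k K c⟯ := by
      rw [IntermediateField.adjoin_simple_eq_bot_iff.mpr (IntermediateField.algebraMap_mem _ c)]
      exact Algebra.IsAlgebraic.of_finite _ _
    exact h1.restrictScalars k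
  obtain ⟨bs, hbs⟩ := FS.exists_basis_of_separating hstr
  have hDs : KaehlerDifferential.D k K s ≠ 0 := by
    rw [← hbs ()]
    exact bs.ne_zero ()
  obtain ⟨α, β, rfl⟩ := Submodule.mem_span_pair.mp hsW
  by_contra hcon
  rw [not_or, not_not, not_not] at hcon
  apply hDs
  rw [map_add, Derivation.map_smul, Derivation.map_smul, hcon.1, hcon.2, smul_zero, smul_zero,
    add_zero]

/-- the local criterion through adapted coordinates, without the adjoint divisor -/
theorem of_coord' (hK : IsFunctionField k K) (x y : K)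
    (hxy : IntermediateField.adjoin k ({x, y} : Set K) = ⊤)
    (f : MvPolynomial (Fin 2) k) (hf : Irreducible f) (hfxy : aeval ![x, y] f = 0)
    (Q : Place k K) (ΦQ : K →ₐ[k] LaurentSeries k) (hΦQ : IsExpansionAt Q.1 ΦQ)
    (A : Matrix (Fin 3) (Fin 3) k) (hA : A.det ≠ 0) (u : Fin 3 → K)
    (hu : ∀ i, ∑ j, algebraMap k K (A i j) * u j = ![(1 : K), x, y] i) (hu0 : u 0 ≠ 0)
    (hmax : ∀ l, Q.1 (u l) ≤ Q.1 (u 0))
    (hdx' : KaehlerDifferential.D k K (u 1 / u 0) ≠ 0)
    (hw : aeval (fun i => A i 2) (FAH.hom f) ≠ 0) :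
    aeval ![(1 : K), u 1 / u 0, u 2 / u 0] (pderiv 2 (aeval (FKP.lin A) (FAH.hom f))) ≠ 0 ∧
    ordDiff ΦQ 1 (u 1 / u 0) ≤
      Q.ord (aeval ![(1 : K), u 1 / u 0, u 2 / u 0]
        (pderiv 2 (aeval (FKP.lin A) (FAH.hom f)))) ∧
    (Q.ord (aeval ![(1 : K), u 1 / u 0, u 2 / u 0]
        (pderiv 2 (aeval (FKP.lin A) (FAH.hom f)))) = ordDiff ΦQ 1 (u 1 / u 0) ↔
      IsNonsingularAt ![(1 : K), x, y] Q) := by
  classical
  obtain ⟨F, hFdef⟩ : ∃ F : MvPolynomial (Fin 3) k, F = FAH.hom f := ⟨_, rfl⟩
  obtain ⟨e, hedef⟩ : ∃ e : ℕ, e = f.totalDegree := ⟨_, rfl⟩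
  have hFh : F.IsHomogeneous e := by rw [hFdef, hedef]; exact FAH.hom_isHomogeneous f
  have hFv : aeval ![(1 : K), x, y] F = 0 := by rw [hFdef, FAH.aeval_hom, hfxy]
  have hFy : aeval ![(1 : K), x, y] (pderiv 2 F) = aeval ![x, y] (pderiv 1 f) := by
    rw [hFdef]; exact FAH.aeval_pderiv_hom f x y
  have he : (mapDiv k ![(1 : K), x, y]).deg = e := by
    rw [hedef]; exact FPD.main hK x y hxy f hf hfxy
  -- the transformed form
  obtain ⟨G, hGdef⟩ : ∃ G : MvPolynomial (Fin 3) k, G = aeval (FKP.lin A) F := ⟨_, rfl⟩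
  have hGh : G.IsHomogeneous e := by rw [hGdef]; exact FAH.isHomogeneous_aeval_lin A hFh
  have hGc : G.coeff (Finsupp.single 2 e) ≠ 0 := by
    rw [hGdef, FAH.coeff_aeval_lin A hFh, hFdef]; exact hw
  obtain ⟨x', hx'def⟩ : ∃ x' : K, x' = u 1 / u 0 := ⟨_, rfl⟩
  obtain ⟨y', hy'def⟩ : ∃ y' : K, y' = u 2 / u 0 := ⟨_, rfl⟩
  have hGu : aeval ![(1 : K), x', y'] G = 0 := by
    have huw : (![(1 : K), x', y'] : Fin 3 → K) = fun i => (u 0)⁻¹ * u i := by
      funext i
      fin_cases i
      · show (1 : K) = (u 0)⁻¹ * u 0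
        rw [inv_mul_cancel₀ hu0]
      · show x' = (u 0)⁻¹ * u 1
        rw [hx'def, div_eq_inv_mul]
      · show y' = (u 0)⁻¹ * u 2
        rw [hy'def, div_eq_inv_mul]
    have hcomp : (fun i => aeval u (FKP.lin A i)) = ![(1 : K), x, y] := by
      funext i
      rw [FKP.aeval_lin, hu i]
    rw [huw, FT.aeval_mul_of_isHomogeneous hGh, hGdef, comp_aeval_apply, hcomp, hFv, mul_zero]
  have hxy' : IntermediateField.adjoin k ({x', y'} : Set K) = ⊤ := by
    obtain ⟨L, hLdef⟩ : ∃ L : IntermediateField k K,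
        L = IntermediateField.adjoin k ({x', y'} : Set K) := ⟨_, rfl⟩
    rw [← hLdef]
    have hul : ∀ l, u l / u 0 ∈ L := by
      intro l
      rw [hLdef]
      fin_cases l
      · show u 0 / u 0 ∈ _
        rw [div_self hu0]
        exact one_mem _
      · show u 1 / u 0 ∈ _
        rw [← hx'def]
        exact IntermediateField.subset_adjoin k _ (by simp)
      · show u 2 / u 0 ∈ _
        rw [← hy'def]
        exact IntermediateField.subset_adjoin k _ (by simp)
    have hvl : ∀ i, ![(1 : K), x, y] i / u 0 ∈ L := by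
      intro i
      rw [← hu i, Finset.sum_div]
      refine sum_mem (fun j _ => ?_)
      rw [mul_div_assoc]
      exact mul_mem (IntermediateField.algebraMap_mem _ _) (hul j)
    have hu0L : u 0 ∈ L := by
      have h1 := hvl 0
      have h2 : ![(1 : K), x, y] 0 / u 0 = (u 0)⁻¹ := by
        show (1 : K) / u 0 = _
        rw [one_div]
      rw [h2] at h1
      have := inv_mem h1
      rwa [inv_inv] at this
    have hvL : ∀ i, ![(1 : K), x, y] i ∈ L := by
      intro i
      have := mul_mem (hvl i) hu0L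
      rwa [div_mul_cancel₀ _ hu0] at this
    rw [eq_top_iff, ← hxy, IntermediateField.adjoin_le_iff]
    intro g hg
    rcases hg with rfl | hg
    · exact hvL 1
    · rw [Set.mem_singleton_iff] at hg
      rw [hg]
      exact hvL 2
  have hmapc := FAS.mapDiv_coord hK x y A hA u hu hu0
  rw [← hx'def, ← hy'def] at hmapc
  have hdeg' : (mapDiv k ![(1 : K), x', y']).deg = e := by
    rw [← he, hmapc, FF.deg_sub, FF.deg_div_eq_zero hK, sub_zero]
  have hQx' : Q.1 x' ≤ 1 := by
    rw [hx'def, map_div₀]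
    exact div_le_one_of_le₀ (hmax 1) zero_le
  rw [← hx'def] at hdx'
  obtain ⟨hgy', hQy', hmapQ', hnn, hiff⟩ :=
    FAN.affine hK x' y' hxy' hdx' G e hGh hGc hGu hdeg' Q hQx' ΦQ hΦQ
  have hg : IsGeometric k K := FG.isGeometric_of_perfectField k K hK.2
  have hD' : LocRes.D k (ΦQ x') ≠ 0 := FDD.D_expand_ne_zero hK hg Q ΦQ hΦQ hdx'
  rw [← hx'def, ← hy'def, ← hFdef, ← hGdef]
  have hform := FDD.ordDiff_eq_ord_add Q ΦQ hΦQ (inv_ne_zero hgy') hD'
  rw [ord_inv] at hform
  have hNS := FANS.isNonsingularAt_iff ![(1 : K), x, y] Q A hA u hu hu0 hmax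
  rw [← hx'def, ← hy'def] at hNS
  rw [hNS, ← hiff, hform]
  refine ⟨hgy', ?_, ?_⟩
  · rw [hform] at hnn
    omega
  · constructor <;> intro h <;> omega

end Groth.Agent.Lib.helper16.FAJ
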