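import Groth.Agent.Lib.helper16.FJacLoc
import Groth.Agent.Lib.helper16.FDehom

/-! Helper library (helper16): singular points of a plane curve are the common zeros of the
partial derivatives (S11072). -/

set_option autoImplicit false

namespace Groth.Agent.Lib.helper16.FJF

open FunFld WithZero MvPolynomial
open Groth.Agent.Lib.helper16 Groth.Agent.Lib.helper16.FF
open scoped IntermediateField

universe u v

variable {k : Type u} {K : Type v} [Field k] [Field K] [Algebra k K]

/-- the local ring of a projective map does not change when the map is rescaled -/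
theorem inLocRing_smul_iff {ι : Type*} (φ : ι → K) {c : K} (hc : c ≠ 0) (P : Place k K) (z : K) :
    InLocRing (fun i => c * φ i) P z ↔ InLocRing φ P z := by
  have hfun : ∀ j, (fun i => c * φ i / (c * φ j)) = fun i => φ i / φ j := by
    intro j
    funext i
    rw [mul_div_mul_left _ _ hc]
  have hcv : P.1 c ≠ 0 := val_ne_zero P hc
  constructor
  · rintro ⟨j, hj0, hj, u, hu, w, hw, hw1, h⟩
    refine ⟨j, ?_, ?_, u, ?_, w, ?_, hw1, h⟩
    · intro h0
      apply hj0
      show c * φ j = 0
      rw [h0, mul_zero]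
    · intro i
      have := hj i
      simp only [map_mul] at this
      exact le_of_mul_le_mul_left this (zero_lt_iff.mpr hcv)
    · simpa only [hfun j] using hu
    · simpa only [hfun j] using hw
  · rintro ⟨j, hj0, hj, u, hu, w, hw, hw1, h⟩
    refine ⟨j, mul_ne_zero hc hj0, ?_, u, ?_, w, ?_, hw1, h⟩
    · intro i
      simp only [map_mul]
      exact mul_le_mul_right (hj i) _
    · simpa only [hfun j] using hu
    · simpa only [hfun j] using hw

theorem isNonsingularAt_smul_iff {ι : Type*} (φ : ι → K) {c : K} (hc : c ≠ 0) (P : Place k K) :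
    IsNonsingularAt (fun i => c * φ i) P ↔ IsNonsingularAt φ P := by
  unfold IsNonsingularAt
  constructor
  · intro h z hz
    exact (inLocRing_smul_iff φ hc P z).mp (h z hz)
  · intro h z hz
    exact (inLocRing_smul_iff φ hc P z).mpr (h z hz)

variable [IsAlgClosed k]

/-- **S11072** -/
theorem main (hK : IsFunctionField k K) (φ : Fin 3 → K) (hφ : LinearIndependent k φ)
    (hbir : IntermediateField.adjoin k (Set.range fun i => φ i / φ 0) = ⊤)
    (F : MvPolynomial (Fin 3) k) (hF : Irreducible F) (hhom : F.IsHomogeneous F.totalDegree)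
    (hFφ : aeval φ F = 0) (P : Place k K) (j : Fin 3)
    (hj : ∀ i, P.1 (φ i) ≤ P.1 (φ j)) (a : Fin 3 → P.O)
    (ha : ∀ i, ((a i : P.O) : K) = φ i / φ j) :
    ¬ IsNonsingularAt φ P ↔
      ∀ l : Fin 3, aeval (fun i => IsLocalRing.residue P.O (a i)) (pderiv l F) = 0 := by
  classical
  have hφ0 : φ 0 ≠ 0 := hφ.ne_zero 0
  obtain ⟨x, hxdef⟩ : ∃ x : K, x = φ 1 / φ 0 := ⟨_, rfl⟩
  obtain ⟨y, hydef⟩ : ∃ y : K, y = φ 2 / φ 0 := ⟨_, rfl⟩
  have hv : (![(1 : K), x, y] : Fin 3 → K) = fun i => (φ 0)⁻¹ * φ i := by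
    funext i
    fin_cases i
    · show (1 : K) = (φ 0)⁻¹ * φ 0
      rw [inv_mul_cancel₀ hφ0]
    · show x = (φ 0)⁻¹ * φ 1
      rw [hxdef, div_eq_inv_mul]
    · show y = (φ 0)⁻¹ * φ 2
      rw [hydef, div_eq_inv_mul]
  have hxy : IntermediateField.adjoin k ({x, y} : Set K) = ⊤ := by
    rw [eq_top_iff, ← hbir, IntermediateField.adjoin_le_iff]
    rintro _ ⟨i, rfl⟩
    fin_cases i
    · show φ 0 / φ 0 ∈ _
      rw [div_self hφ0]
      exact one_mem _
    · show φ 1 / φ 0 ∈ _
      rw [← hxdef]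
      exact IntermediateField.subset_adjoin k _ (by simp)
    · show φ 2 / φ 0 ∈ _
      rw [← hydef]
      exact IntermediateField.subset_adjoin k _ (by simp)
  -- `X₀` does not divide `F`
  have hX : ¬ X 0 ∣ F := by
    rintro ⟨G, hG⟩
    have hXnu : ¬ IsUnit (X 0 : MvPolynomial (Fin 3) k) := (X_prime (i := 0)).not_isUnit
    have hGu : IsUnit G := (hF.isUnit_or_isUnit hG).resolve_left hXnu
    rw [hG, map_mul, aeval_X] at hFφ
    rcases mul_eq_zero.mp hFφ with h | h
    · exact hφ0 h
    · exact (hGu.map (aeval φ)).ne_zero h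
  obtain ⟨hFhom, hdeg⟩ := FDH.hom_dehom hhom hX
  have hf := FDH.irreducible_dehom hF hhom hX
  obtain ⟨f, hfdef⟩ : ∃ f : MvPolynomial (Fin 2) k, f = FDH.dehom F := ⟨_, rfl⟩
  rw [← hfdef] at hFhom hdeg hf
  have hfxy : aeval ![x, y] f = 0 := by
    rw [hfdef, FDH.aeval_dehom, hv, FT.aeval_mul_of_isHomogeneous hhom, hFφ, mul_zero]
  -- nonsingularity does not change under rescaling
  have hNS : IsNonsingularAt ![(1 : K), x, y] P ↔ IsNonsingularAt φ P := by
    rw [hv]
    exact isNonsingularAt_smul_iff φ (inv_ne_zero hφ0) P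
  have hinvv : P.1 (φ 0)⁻¹ ≠ 0 := val_ne_zero P (inv_ne_zero hφ0)
  have hj' : ∀ i, P.1 (![(1 : K), x, y] i) ≤ P.1 (![(1 : K), x, y] j) := by
    intro i
    rw [hv]
    simp only [map_mul]
    exact mul_le_mul_right (hj i) _
  have hcrit := FAJ.nonsingular_iff hK x y hxy f hf hfxy P j hj'
  rw [hFhom] at hcrit
  have hratio : (fun i => ![(1 : K), x, y] i / ![(1 : K), x, y] j) = fun i => φ i / φ j := by
    rw [hv]
    funext i
    show (φ 0)⁻¹ * φ i / ((φ 0)⁻¹ * φ j) = φ i / φ j
    rw [mul_div_mul_left _ _ (inv_ne_zero hφ0)]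
  rw [hratio] at hcrit
  rw [← hNS, hcrit]
  -- residues
  have hres : ∀ l : Fin 3, aeval (fun i => IsLocalRing.residue P.O (a i)) (pderiv l F) = 0 ↔
      P.1 (aeval (fun i => φ i / φ j) (pderiv l F)) < 1 := by
    intro l
    have h1 : aeval (fun i => IsLocalRing.residue P.O (a i)) (pderiv l F) =
        IsLocalRing.residue P.O (aeval a (pderiv l F)) := by
      rw [aeval_def, aeval_def]
      exact (eval₂_comp_left (IsLocalRing.residue P.O) (algebraMap k P.O) a (pderiv l F)).symm
    have h2 : ((aeval a (pderiv l F) : P.O) : K) = aeval (fun i => φ i / φ j) (pderiv l F) := by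
      have h3 := eval₂_comp_left P.O.subtype (algebraMap k P.O) a (pderiv l F)
      have h4 : (P.O.subtype ∘ a) = fun i => φ i / φ j := by
        funext i
        exact ha i
      rw [h4] at h3
      rw [aeval_def, aeval_def]
      exact h3
    rw [h1, residue_eq_zero_iff, h2]
  simp_rw [hres]
  have hle : ∀ l : Fin 3, P.1 (aeval (fun i => φ i / φ j) (pderiv l F)) ≤ 1 := by
    intro l
    apply FAJ.val_mvAeval_le_one
    intro i
    rw [← ha i]
    exact (a i).2
  constructor
  · intro h l
    rw [not_exists] at h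
    exact lt_of_le_of_ne (hle l) (h l)
  · rintro h ⟨l, hl⟩
    have := h l
    rw [hl] at this
    exact lt_irrefl _ this

end Groth.Agent.Lib.helper16.FJF
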