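import Groth.Agent.Lib.helper16.FPlaneKer
import Groth.Agent.Lib.helper16.FFNS
import Mathlib.RingTheory.Nakayama

/-! Helper library (helper16): the Jacobian criterion in arbitrary dimension (S11071), part 1:
polynomial identities. -/

set_option autoImplicit false
set_option linter.style.haveILetI false

namespace Groth.Agent.Lib.helper16.FJG

open MvPolynomial
open Groth.Agent.Lib.helper16

section taylor

variable {k B : Type*} [CommRing k] [CommRing B] [Algebra k B] {σ : Type*} [Fintype σ]
  [DecidableEq σ]

/-- exact first-order Taylor expansion modulo the square of the ideal of the point -/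
theorem exact_taylor (α : σ → k) (t : σ → B) (g : MvPolynomial σ k) :
    aeval (fun i => algebraMap k B (α i) + t i) g - algebraMap k B (eval α g) -
      ∑ i, algebraMap k B (eval α (pderiv i g)) * t i ∈
      Ideal.span (Set.range t) * Ideal.span (Set.range t) := by
  induction g using MvPolynomial.induction_on with
  | C c =>
    simp only [aeval_C, eval_C, pderiv_C, map_zero, zero_mul, Finset.sum_const_zero, sub_self]
    exact Ideal.zero_mem _
  | add p q hp hq =>
    have : aeval (fun i => algebraMap k B (α i) + t i) (p + q) - algebraMap k B (eval α (p + q)) -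
        ∑ i, algebraMap k B (eval α (pderiv i (p + q))) * t i =
        (aeval (fun i => algebraMap k B (α i) + t i) p - algebraMap k B (eval α p) -
          ∑ i, algebraMap k B (eval α (pderiv i p)) * t i) +
        (aeval (fun i => algebraMap k B (α i) + t i) q - algebraMap k B (eval α q) -
          ∑ i, algebraMap k B (eval α (pderiv i q)) * t i) := by
      simp only [map_add, add_mul, Finset.sum_add_distrib]
      ring
    rw [this]
    exact Ideal.add_mem _ hp hq
  | mul_X p l hp =>
    have hsum : ∑ i, algebraMap k B (eval α (pderiv i (p * X l))) * t i =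
        algebraMap k B (α l) * ∑ i, algebraMap k B (eval α (pderiv i p)) * t i +
          algebraMap k B (eval α p) * t l := by
      have h1 : ∀ i, algebraMap k B (eval α (pderiv i (p * X l))) * t i =
          algebraMap k B (α l) * (algebraMap k B (eval α (pderiv i p)) * t i) +
            (if i = l then algebraMap k B (eval α p) * t l else 0) := by
        intro i
        rw [Derivation.leibniz, pderiv_X, smul_eq_mul, smul_eq_mul, map_add, map_mul, map_mul,
          eval_X, map_add, map_mul, map_mul]
        by_cases hil : i = l
        · subst hil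
          rw [Pi.single_eq_same, map_one, map_one, if_pos rfl]
          ring
        · rw [Pi.single_eq_of_ne (Ne.symm hil), if_neg hil]
          simp only [map_zero, mul_zero, zero_add, add_zero]
          ring
      rw [Finset.sum_congr rfl (fun i _ => h1 i), Finset.sum_add_distrib, ← Finset.mul_sum,
        Finset.sum_ite_eq' Finset.univ l, if_pos (Finset.mem_univ l)]
    have hE : aeval (fun i => algebraMap k B (α i) + t i) (p * X l) -
        algebraMap k B (eval α (p * X l)) -
        ∑ i, algebraMap k B (eval α (pderiv i (p * X l))) * t i =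
        algebraMap k B (α l) * (aeval (fun i => algebraMap k B (α i) + t i) p -
          algebraMap k B (eval α p) - ∑ i, algebraMap k B (eval α (pderiv i p)) * t i) +
        t l * ((aeval (fun i => algebraMap k B (α i) + t i) p - algebraMap k B (eval α p) -
          ∑ i, algebraMap k B (eval α (pderiv i p)) * t i) +
          ∑ i, algebraMap k B (eval α (pderiv i p)) * t i) := by
      rw [hsum, map_mul, aeval_X, map_mul, eval_X, map_mul]
      ring
    rw [hE]
    have htl : t l ∈ Ideal.span (Set.range t) := Ideal.subset_span ⟨l, rfl⟩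
    have hlin : ∑ i, algebraMap k B (eval α (pderiv i p)) * t i ∈ Ideal.span (Set.range t) := by
      apply Ideal.sum_mem
      intro i _
      exact Ideal.mul_mem_left _ _ (Ideal.subset_span ⟨i, rfl⟩)
    refine Ideal.add_mem _ (Ideal.mul_mem_left _ _ hp) ?_
    apply Ideal.mul_mem_mul htl
    exact Ideal.add_mem _ (Ideal.mul_le_right hp) hlin

/-- a polynomial vanishing at the point lies in the ideal of the point -/
theorem aeval_mem_of_eval_eq_zero (α : σ → k) (t : σ → B) {g : MvPolynomial σ k}
    (hg : eval α g = 0) :
    aeval (fun i => algebraMap k B (α i) + t i) g ∈ Ideal.span (Set.range t) := by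
  have h1 := exact_taylor α t g
  rw [hg, map_zero, sub_zero] at h1
  have hlin : ∑ i, algebraMap k B (eval α (pderiv i g)) * t i ∈ Ideal.span (Set.range t) := by
    apply Ideal.sum_mem
    intro i _
    exact Ideal.mul_mem_left _ _ (Ideal.subset_span ⟨i, rfl⟩)
  have h2 := Ideal.add_mem _ (Ideal.mul_le_right h1) hlin
  rwa [sub_add_cancel] at h2

end taylor

section hom

variable {k K : Type*} [Field k] [Field K] [Algebra k K] {σ : Type*} [Fintype σ]

/-- the graded evaluation map on a form -/
theorem Psi_of_isHomogeneous (φ : σ → K) {H : MvPolynomial σ k} {e : ℕ}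
    (hH : H.IsHomogeneous e) :
    aeval (fun i => Polynomial.C (φ i) * Polynomial.X) H =
      Polynomial.C (aeval φ H) * Polynomial.X ^ e := by
  have h1 : (fun i => Polynomial.C (φ i) * (Polynomial.X : Polynomial K)) =
      fun i => (Polynomial.X : Polynomial K) * Polynomial.C (φ i) := by
    funext i; ring
  rw [h1, FT.aeval_mul_of_isHomogeneous hH, mul_comm]
  congr 1
  have h2 := MvPolynomial.aeval_algebraMap_apply (R := k) (A := K) (B := Polynomial K) φ H
  rw [Polynomial.algebraMap_eq] at h2
  exact h2

/-- a form lies in the kernel of the graded evaluation iff it vanishes at `φ` -/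
theorem Psi_eq_zero_iff (φ : σ → K) {H : MvPolynomial σ k} {e : ℕ} (hH : H.IsHomogeneous e) :
    aeval (fun i => Polynomial.C (φ i) * Polynomial.X) H = 0 ↔ aeval φ H = 0 := by
  rw [Psi_of_isHomogeneous φ hH]
  constructor
  · intro h
    rcases mul_eq_zero.mp h with h | h
    · exact Polynomial.C_eq_zero.mp h
    · exact absurd h (pow_ne_zero _ Polynomial.X_ne_zero)
  · intro h
    rw [h, map_zero, zero_mul]

end hom

section star

variable {k K : Type*} [Field k] [Field K] [Algebra k K] {n r : ℕ}

theorem eval_pderiv_mul (a : Fin (n + 1) → k) (i : Fin (n + 1))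
    (g h : MvPolynomial (Fin (n + 1)) k) :
    eval a (pderiv i (g * h)) = eval a g * eval a (pderiv i h) + eval a h * eval a (pderiv i g) := by
  rw [Derivation.leibniz, smul_eq_mul, smul_eq_mul, map_add, map_mul, map_mul]

/-- **the relations of the affine chart**: the gradient at the point of a polynomial relation
is a combination of the gradients of the generators -/
theorem exists_grad_comb (φ x : Fin (n + 1) → K) (hx0 : x 0 = 1)
    (hφx : ∀ i, φ i = φ 0 * x i) (a : Fin (n + 1) → k) (ha0 : a 0 = 1)
    (f : Fin r → MvPolynomial (Fin (n + 1)) k)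
    (hgen : Ideal.span (Set.range f) =
      RingHom.ker (MvPolynomial.aeval fun i => Polynomial.C (φ i) * Polynomial.X))
    (hfa : ∀ l, eval a (f l) = 0) {p : MvPolynomial (Fin (n + 1)) k} (hp : aeval x p = 0) :
    ∃ q : Fin r → MvPolynomial (Fin (n + 1)) k, ∀ j : Fin n,
      eval a (pderiv j.succ p) = ∑ l, eval a (q l) * eval a (pderiv j.succ (f l)) := by
  classical
  obtain ⟨d, hd⟩ : ∃ d, d = p.totalDegree := ⟨_, rfl⟩
  obtain ⟨Ph, hPhdef⟩ : ∃ Ph : MvPolynomial (Fin (n + 1)) k,
      Ph = ∑ e ∈ Finset.range (d + 1), X 0 ^ (d - e) * homogeneousComponent e p := ⟨_, rfl⟩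
  have hPhhom : Ph.IsHomogeneous d := by
    rw [hPhdef]
    apply IsHomogeneous.sum
    intro e he
    have h1 := (isHomogeneous_X_pow (R := k) (0 : Fin (n + 1)) (d - e)).mul
      (homogeneousComponent_isHomogeneous e p)
    have h2 : d - e + e = d := by
      have := Finset.mem_range.mp he
      omega
    rwa [h2] at h1
  have hPhx : aeval x Ph = 0 := by
    rw [hPhdef, map_sum]
    have h1 : ∀ e ∈ Finset.range (d + 1),
        aeval x (X 0 ^ (d - e) * homogeneousComponent e p) = aeval x (homogeneousComponent e p) := by
      intro e _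
      rw [map_mul, map_pow, aeval_X, hx0, one_pow, one_mul]
    rw [Finset.sum_congr rfl h1, ← map_sum, hd, sum_homogeneousComponent, hp]
  have hPhφ : aeval φ Ph = 0 := by
    have h1 : φ = fun i => φ 0 * x i := funext hφx
    rw [h1, FT.aeval_mul_of_isHomogeneous hPhhom, hPhx, mul_zero]
  have hmem : Ph ∈ Ideal.span (Set.range f) := by
    rw [hgen, RingHom.mem_ker, Psi_eq_zero_iff φ hPhhom]
    exact hPhφ
  obtain ⟨q, hq⟩ := (Ideal.mem_span_range_iff_exists_fun).mp hmem
  refine ⟨q, fun j => ?_⟩
  have hj0 : (j.succ : Fin (n + 1)) ≠ 0 := Fin.succ_ne_zero j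
  have h1 : eval a (pderiv j.succ Ph) = eval a (pderiv j.succ p) := by
    rw [hPhdef, map_sum, map_sum]
    have h2 : ∀ e ∈ Finset.range (d + 1),
        eval a (pderiv j.succ (X 0 ^ (d - e) * homogeneousComponent e p)) =
          eval a (pderiv j.succ (homogeneousComponent e p)) := by
      intro e _
      rw [eval_pderiv_mul, map_pow, eval_X, ha0, one_pow, one_mul, Derivation.leibniz_pow,
        pderiv_X, Pi.single_eq_of_ne hj0.symm, smul_zero, smul_zero, map_zero, mul_zero, add_zero]
    rw [Finset.sum_congr rfl h2, ← map_sum, ← map_sum, hd, sum_homogeneousComponent]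
  rw [← h1, ← hq, map_sum, map_sum]
  apply Finset.sum_congr rfl
  intro l _
  rw [eval_pderiv_mul, hfa l, zero_mul, add_zero]

end star

end Groth.Agent.Lib.helper16.FJG
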