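import Groth.Agent.Lib.helper16.FJacFam

/-! Helper library (helper16): the Jacobian criterion for a plane model in affine form
(towards S11072). -/

set_option autoImplicit false

namespace Groth.Agent.Lib.helper16.FAJ

open FunFld WithZero Module LocRes MvPolynomial
open Groth.Agent.Lib.helper16 Groth.Agent.Lib.helper16.FF
open scoped IntermediateField

universe u v

section gen

variable {k : Type u} {K : Type v} [Field k] [Field K] [Algebra k K]

theorem val_mvAeval_le_one {σ : Type*} (Q : Place k K) (g : σ → K) (hg : ∀ i, Q.1 (g i) ≤ 1)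
    (p : MvPolynomial σ k) : Q.1 (aeval g p) ≤ 1 := by
  induction p using MvPolynomial.induction_on with
  | C c => rw [aeval_C]; exact Q.2.1 c
  | add p q hp hq => rw [map_add]; exact le_trans (Q.1.map_add _ _) (max_le hp hq)
  | mul_X p i hp => rw [map_mul, aeval_X, map_mul]; exact mul_le_one' hp (hg i)

/-- elements of `k[a, b]` are constant modulo the ideal generated by `a - α`, `b - β` -/
theorem exists_const_approx (Q : Place k K) {a b : K} {α β : k} {M : ℤᵐ⁰} (hM : M ≤ 1)
    (ha : Q.1 (a - algebraMap k K α) ≤ M) (hb : Q.1 (b - algebraMap k K β) ≤ M) {p : K}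
    (hp : p ∈ Algebra.adjoin k ({a, b} : Set K)) :
    ∃ γ : k, Q.1 (p - algebraMap k K γ) ≤ M := by
  refine Algebra.adjoin_induction (p := fun z _ => ∃ γ : k, Q.1 (z - algebraMap k K γ) ≤ M)
    ?_ ?_ ?_ ?_ hp
  · intro g hg
    rcases hg with rfl | hg
    · exact ⟨α, ha⟩
    · rw [Set.mem_singleton_iff] at hg
      rw [hg]
      exact ⟨β, hb⟩
  · intro c
    exact ⟨c, by rw [sub_self, map_zero]; exact zero_le⟩
  · rintro z z' _ _ ⟨γ, hγ⟩ ⟨γ', hγ'⟩
    refine ⟨γ + γ', ?_⟩
    have e1 : z + z' - algebraMap k K (γ + γ') =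
        (z - algebraMap k K γ) + (z' - algebraMap k K γ') := by
      rw [map_add]; ring
    rw [e1]
    exact le_trans (Q.1.map_add _ _) (max_le hγ hγ')
  · rintro z z' _ _ ⟨γ, hγ⟩ ⟨γ', hγ'⟩
    refine ⟨γ * γ', ?_⟩
    have e1 : z * z' - algebraMap k K (γ * γ') =
        (z - algebraMap k K γ) * z' + algebraMap k K γ * (z' - algebraMap k K γ') := by
      rw [map_mul]; ring
    have hz' : Q.1 z' ≤ 1 := by
      have e2 : z' = (z' - algebraMap k K γ') + algebraMap k K γ' := by ring
      rw [e2]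
      exact le_trans (Q.1.map_add _ _) (max_le (hγ'.trans hM) (Q.2.1 γ'))
    rw [e1]
    refine le_trans (Q.1.map_add _ _) (max_le ?_ ?_)
    · rw [map_mul]
      calc Q.1 (z - algebraMap k K γ) * Q.1 z' ≤ M * 1 := mul_le_mul' hγ hz'
        _ = M := mul_one _
    · rw [map_mul]
      calc Q.1 (algebraMap k K γ) * Q.1 (z' - algebraMap k K γ') ≤ 1 * M :=
            mul_le_mul' (Q.2.1 γ) hγ'
        _ = M := one_mul _

/-- generic combinations of two functions, one of which is a local parameter, are local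
parameters -/
theorem subsingleton_bad (Q : Place k K) {s t : K} {m : ℤᵐ⁰}
    (hmax : max (Q.1 s) (Q.1 t) = m) :
    {c : k | Q.1 (s - algebraMap k K c * t) ≠ m}.Subsingleton := by
  have hs : Q.1 s ≤ m := hmax ▸ le_max_left _ _
  have ht : Q.1 t ≤ m := hmax ▸ le_max_right _ _
  have hle : ∀ c : k, Q.1 (s - algebraMap k K c * t) ≤ m := by
    intro c
    refine le_trans (Valuation.map_sub _ _ _) (max_le hs ?_)
    rw [map_mul]
    exact le_trans (mul_le_of_le_one_left' (Q.2.1 c)) ht
  intro c₁ h₁ c₂ h₂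
  by_contra hne
  have h₁' : Q.1 (s - algebraMap k K c₁ * t) < m := lt_of_le_of_ne (hle c₁) h₁
  have h₂' : Q.1 (s - algebraMap k K c₂ * t) < m := lt_of_le_of_ne (hle c₂) h₂
  have hc : c₂ - c₁ ≠ 0 := sub_ne_zero.mpr (Ne.symm hne)
  have ht' : Q.1 t < m := by
    have e1 : algebraMap k K (c₂ - c₁) * t =
        (s - algebraMap k K c₁ * t) - (s - algebraMap k K c₂ * t) := by
      rw [map_sub]; ring
    have h3 : Q.1 (algebraMap k K (c₂ - c₁) * t) < m := by
      rw [e1]
      exact lt_of_le_of_lt (Valuation.map_sub _ _ _) (max_lt h₁' h₂')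
    rwa [map_mul, val_algebraMap Q hc, one_mul] at h3
  have hs' : Q.1 s < m := by
    have e1 : s = (s - algebraMap k K c₁ * t) + algebraMap k K c₁ * t := by ring
    rw [e1]
    refine lt_of_le_of_lt (Q.1.map_add _ _) (max_lt h₁' ?_)
    rw [map_mul]
    exact lt_of_le_of_lt (mul_le_of_le_one_left' (Q.2.1 c₁)) ht'
  have := max_lt hs' ht'
  rw [hmax] at this
  exact lt_irrefl _ this

variable [IsAlgClosed k]

/-- at a nonsingular point one of the affine coordinates is a local parameter -/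
theorem exists_max_eq (hK : IsFunctionField k K) (Q : Place k K) {a b : K} (c₀ : k)
    (ha : Q.1 a ≤ 1) (hb : Q.1 b ≤ 1)
    (h : ∀ z : K, Q.1 z ≤ 1 →
      InLoc (Algebra.adjoin k ({a - algebraMap k K c₀ * b, b} : Set K)) Q z) :
    ∃ α β : k, max (Q.1 (a - algebraMap k K α)) (Q.1 (b - algebraMap k K β)) = exp (-1) := by
  obtain ⟨α, hα⟩ := exists_sub_val_lt_one hK Q ha
  obtain ⟨β, hβ⟩ := exists_sub_val_lt_one hK Q hb
  refine ⟨α, β, ?_⟩
  obtain ⟨M, hMdef⟩ : ∃ M : ℤᵐ⁰,
      M = max (Q.1 (a - algebraMap k K α)) (Q.1 (b - algebraMap k K β)) := ⟨_, rfl⟩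
  rw [← hMdef]
  have hM1 : M < 1 := by rw [hMdef]; exact max_lt hα hβ
  have hMa : Q.1 (a - algebraMap k K α) ≤ M := by rw [hMdef]; exact le_max_left _ _
  have hMb : Q.1 (b - algebraMap k K β) ≤ M := by rw [hMdef]; exact le_max_right _ _
  have hMa' : Q.1 (a - algebraMap k K c₀ * b - algebraMap k K (α - c₀ * β)) ≤ M := by
    have e1 : a - algebraMap k K c₀ * b - algebraMap k K (α - c₀ * β) =
        (a - algebraMap k K α) - algebraMap k K c₀ * (b - algebraMap k K β) := by
      rw [map_sub, map_mul]; ring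
    rw [e1]
    refine le_trans (Valuation.map_sub _ _ _) (max_le hMa ?_)
    rw [map_mul]
    exact le_trans (mul_le_of_le_one_left' (Q.2.1 c₀)) hMb
  obtain ⟨t, ht⟩ := exists_uniformizer Q
  have ht1 : Q.1 t ≤ 1 := by rw [ht, ← exp_zero, exp_le_exp]; omega
  obtain ⟨p, hp, w, hw, hw1, htw⟩ := h t ht1
  have hpv : Q.1 p = exp (-1) := by rw [← htw, map_mul, hw1, mul_one, ht]
  obtain ⟨γ, hγ⟩ := exists_const_approx Q hM1.le hMa' hMb hp
  have hγ0 : γ = 0 := by
    by_contra hne
    have h1 : Q.1 p = 1 := by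
      have e1 : p = (p - algebraMap k K γ) + algebraMap k K γ := by ring
      rw [e1, Valuation.map_add_eq_of_lt_right, val_algebraMap Q hne]
      rw [val_algebraMap Q hne]
      exact lt_of_le_of_lt hγ hM1
    rw [hpv, ← exp_zero] at h1
    have := exp_injective h1
    omega
  rw [hγ0, map_zero, sub_zero, hpv] at hγ
  exact le_antisymm ((lt_one_iff_le_exp_neg_one).mp hM1) hγ

end gen


section main

variable {k : Type u} {K : Type v} [Field k] [Field K] [Algebra k K] [IsAlgClosed k]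

/-- the new coordinates generate the function field -/
theorem adjoin_coord_eq_top (x y : K)
    (hxy : IntermediateField.adjoin k ({x, y} : Set K) = ⊤)
    (A : Matrix (Fin 3) (Fin 3) k) (u : Fin 3 → K)
    (hu : ∀ i, ∑ j, algebraMap k K (A i j) * u j = ![(1 : K), x, y] i) (hu0 : u 0 ≠ 0) :
    IntermediateField.adjoin k ({u 1 / u 0, u 2 / u 0} : Set K) = ⊤ := by
  obtain ⟨L, hLdef⟩ : ∃ L : IntermediateField k K,
      L = IntermediateField.adjoin k ({u 1 / u 0, u 2 / u 0} : Set K) := ⟨_, rfl⟩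
  rw [← hLdef]
  have hul : ∀ l, u l / u 0 ∈ L := by
    intro l
    rw [hLdef]
    fin_cases l
    · show u 0 / u 0 ∈ _
      rw [div_self hu0]
      exact one_mem _
    · exact IntermediateField.subset_adjoin k _ (by simp)
    · exact IntermediateField.subset_adjoin k _ (by simp)
  have hvl : ∀ i, ![(1 : K), x, y] i / u 0 ∈ L := by
    intro i
    rw [← hu i, Finset.sum_div]
    refine sum_mem (fun j _ => ?_)
    rw [mul_div_assoc]
    exact mul_mem (IntermediateField.algebraMap_mem _ _) (hul j)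
  have hu0L : u 0 ∈ L := by
    have h1 := hvl 0
    have h2 : ![(1 : K), x, y] 0 / u 0 = (u 0)⁻¹ := by
      show (1 : K) / u 0 = _
      rw [one_div]
    rw [h2] at h1
    have := inv_mem h1
    rwa [inv_inv] at this
  have hvL : ∀ i, ![(1 : K), x, y] i ∈ L := by
    intro i
    have := mul_mem (hvl i) hu0L
    rwa [div_mul_cancel₀ _ hu0] at this
  rw [eq_top_iff, ← hxy, IntermediateField.adjoin_le_iff]
  intro g hg
  rcases hg with rfl | hg
  · exact hvL 1
  · rw [Set.mem_singleton_iff] at hg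
    rw [hg]
    exact hvL 2

/-- **the Jacobian criterion** for a plane model `(1 : x : y)` with irreducible relation `f`:
nonsingular at `Q` iff some partial derivative of the homogenised relation is a unit at `Q` -/
theorem nonsingular_iff (hK : IsFunctionField k K) (x y : K)
    (hxy : IntermediateField.adjoin k ({x, y} : Set K) = ⊤)
    (f : MvPolynomial (Fin 2) k) (hf : Irreducible f) (hfxy : aeval ![x, y] f = 0)
    (Q : Place k K) (j : Fin 3)
    (hj : ∀ i, Q.1 (![(1 : K), x, y] i) ≤ Q.1 (![(1 : K), x, y] j)) :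
    IsNonsingularAt ![(1 : K), x, y] Q ↔
      ∃ l, Q.1 (aeval (fun i => ![(1 : K), x, y] i / ![(1 : K), x, y] j)
        (pderiv l (FAH.hom f))) = 1 := by
  classical
  obtain ⟨v, hvdef⟩ : ∃ v : Fin 3 → K, v = ![(1 : K), x, y] := ⟨_, rfl⟩
  obtain ⟨F, hFdef⟩ : ∃ F : MvPolynomial (Fin 3) k, F = FAH.hom f := ⟨_, rfl⟩
  obtain ⟨e, hedef⟩ : ∃ e : ℕ, e = f.totalDegree := ⟨_, rfl⟩
  have hFh : F.IsHomogeneous e := by rw [hFdef, hedef]; exact FAH.hom_isHomogeneous f
  have hFv : aeval v F = 0 := by rw [hFdef, hvdef, FAH.aeval_hom, hfxy]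
  obtain ⟨j₀, p, q, Ac, B₀, ⟨hj₀0, hj₀⟩, hsum3, hcov, hdet, hAu, hA2, hB₀⟩ :=
    exists_family x y f hf hfxy Q
  rw [← hvdef] at hj hj₀0 hj₀ hAu ⊢
  rw [← hFdef] at hB₀ ⊢
  have hv0 : v 0 = 1 := by rw [hvdef]; rfl
  have hjv : Q.1 (v j) ≠ 0 := by
    have h1 := hj 0
    rw [hv0, map_one] at h1
    exact ne_of_gt (lt_of_lt_of_le zero_lt_one h1)
  have hj0 : v j ≠ 0 := by
    rintro h0
    rw [h0, map_zero] at hjv
    exact hjv rfl
  have hjj₀ : Q.1 (v j₀) = Q.1 (v j) := le_antisymm (hj j₀) (hj₀ j)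
  obtain ⟨E, hEdef⟩ : ∃ E : Fin 3 → K,
      E = fun l => aeval (fun i => v i / v j₀) (pderiv l F) := ⟨_, rfl⟩
  have hE1 : ∀ l, Q.1 (E l) ≤ 1 := by
    intro l
    rw [hEdef]
    apply val_mvAeval_le_one
    intro i
    rw [map_div₀]
    exact div_le_one_of_le₀ (hj₀ i) zero_le
  -- scaling between the two normalisations
  have hscale : ∀ l, Q.1 (aeval (fun i => v i / v j) (pderiv l F)) = Q.1 (E l) := by
    intro l
    have e1 : (fun i => v i / v j) = fun i => (v j₀ / v j) * (v i / v j₀) := by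
      funext i
      field_simp
    rw [e1, FT.aeval_mul_of_isHomogeneous (hFh.pderiv), map_mul, map_pow, map_div₀, hjj₀,
      div_self hjv, one_pow, one_mul, hEdef]
  simp_rw [hscale]
  -- the affine coordinates at the point
  obtain ⟨a, hadef⟩ : ∃ a : K, a = v p / v j₀ := ⟨_, rfl⟩
  obtain ⟨b, hbdef⟩ : ∃ b : K, b = v q / v j₀ := ⟨_, rfl⟩
  have ha1 : Q.1 a ≤ 1 := by
    rw [hadef, map_div₀]
    exact div_le_one_of_le₀ (hj₀ p) zero_le
  have hb1 : Q.1 b ≤ 1 := by
    rw [hbdef, map_div₀]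
    exact div_le_one_of_le₀ (hj₀ q) zero_le
  obtain ⟨u, hudef⟩ : ∃ u : k → Fin 3 → K,
      u = fun c => ![v j₀, v p - algebraMap k K c * v q, v q] := ⟨_, rfl⟩
  have hu0 : ∀ c, u c 0 = v j₀ := fun c => by rw [hudef]; rfl
  have hu0' : ∀ c, u c 0 ≠ 0 := fun c => by rw [hu0]; exact hj₀0
  have hAu' : ∀ c i, ∑ l, algebraMap k K (Ac c i l) * u c l = ![(1 : K), x, y] i := by
    intro c i
    rw [hudef, ← hvdef]
    exact hAu c i
  have hmax : ∀ c l, Q.1 (u c l) ≤ Q.1 (u c 0) := by
    intro c l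
    rw [hu0, hudef]
    fin_cases l
    · exact le_rfl
    · show Q.1 (v p - algebraMap k K c * v q) ≤ _
      refine le_trans (Valuation.map_sub _ _ _) (max_le (hj₀ p) ?_)
      rw [map_mul]
      exact le_trans (mul_le_of_le_one_left' (Q.2.1 c)) (hj₀ q)
    · exact hj₀ q
  have hx'eq : ∀ c, u c 1 / u c 0 = a - algebraMap k K c * b := by
    intro c
    rw [hu0, hudef, hadef, hbdef]
    show (v p - algebraMap k K c * v q) / v j₀ = _
    rw [sub_div, mul_div_assoc]
  have hy'eq : ∀ c, u c 2 / u c 0 = b := by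
    intro c
    rw [hu0, hudef, hbdef]
    rfl
  -- differentials
  have hab : KaehlerDifferential.D k K a ≠ 0 ∨ KaehlerDifferential.D k K b ≠ 0 := by
    have h1 := adjoin_coord_eq_top x y hxy (Ac 0) (u 0) (hAu' 0) (hu0' 0)
    rw [hx'eq, hy'eq, map_zero, zero_mul, sub_zero] at h1
    exact D_ne_zero_or hK a b h1
  -- the partial derivative in the new coordinates
  have hgy : ∀ c, aeval ![(1 : K), u c 1 / u c 0, u c 2 / u c 0]
      (pderiv 2 (aeval (FKP.lin (Ac c)) F)) = E q + algebraMap k K c * E p := by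
    intro c
    have hw : (![(1 : K), u c 1 / u c 0, u c 2 / u c 0] : Fin 3 → K) =
        fun l => u c l / u c 0 := by
      funext l
      fin_cases l
      · show (1 : K) = u c 0 / u c 0
        rw [div_self (hu0' c)]
      · rfl
      · rfl
    have hin : (fun i => aeval (fun l => u c l / u c 0) (FKP.lin (Ac c) i)) =
        fun i => v i / v j₀ := by
      funext i
      rw [FKP.aeval_lin]
      have h2 : ∑ l, algebraMap k K (Ac c i l) * (u c l / u c 0) =
          (∑ l, algebraMap k K (Ac c i l) * u c l) / u c 0 := by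
        rw [Finset.sum_div]
        apply Finset.sum_congr rfl
        intro l _
        rw [mul_div_assoc]
      rw [h2, hAu' c i, hu0, hvdef]
    rw [hw, FKP.pderiv_aeval_lin, map_sum]
    have h3 : ∀ l, aeval (fun l => u c l / u c 0)
        (aeval (FKP.lin (Ac c)) (pderiv l F) * C (Ac c l 2)) =
        algebraMap k K (Ac c l 2) * E l := by
      intro l
      rw [map_mul, aeval_C, comp_aeval_apply, hin, mul_comm, hEdef]
    simp_rw [h3]
    exact hA2 c E
  -- Euler's identity
  have hEuler : E j₀ + a * E p + b * E q = 0 := by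
    have h1 := congrArg (aeval (fun i => v i / v j₀)) hFh.sum_X_mul_pderiv
    have h2 : aeval (fun i => v i / v j₀) F = 0 := by
      have e1 : (fun i => v i / v j₀) = fun i => (v j₀)⁻¹ * v i := by
        funext i
        rw [div_eq_inv_mul]
      rw [e1, FT.aeval_mul_of_isHomogeneous hFh, hFv, mul_zero]
    rw [map_sum, map_nsmul, h2, smul_zero, hsum3] at h1
    simp only [map_mul, aeval_X] at h1
    rw [div_self hj₀0, one_mul] at h1
    rw [hadef, hbdef, hEdef]
    exact h1
  -- an expansion at `Q`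
  obtain ⟨t, ht⟩ := exists_uniformizer Q
  obtain ⟨ΦQ, hΦQdef⟩ : ∃ ΦQ : K →ₐ[k] LaurentSeries k, ΦQ = FHL.Φ hK Q ht := ⟨_, rfl⟩
  have hΦQ : IsExpansionAt Q.1 ΦQ := by rw [hΦQdef]; exact FHL.isExp hK Q ht
  constructor
  · -- nonsingular ⇒ some partial is a unit
    intro hns
    rw [hvdef] at hns
    have hNS0 := (FANS.isNonsingularAt_iff ![(1 : K), x, y] Q (Ac 0) (hdet 0) (u 0) (hAu' 0)
      (hu0' 0) (hmax 0)).mp hns
    rw [hx'eq, hy'eq] at hNS0
    obtain ⟨α, β, hαβ⟩ := exists_max_eq hK Q 0 ha1 hb1 hNS0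
    have hbadU := subsingleton_bad (k := k) Q hαβ
    obtain ⟨c, hcB, hcD⟩ := FAF.exists_D_ne_zero a b hab (B₀ ∪ hbadU.finite.toFinset)
    rw [Finset.mem_union, not_or, Set.Finite.mem_toFinset, Set.mem_ofPred_eq, not_not] at hcB
    obtain ⟨hgy0, hle, hiff⟩ := of_coord' hK x y hxy f hf hfxy Q ΦQ hΦQ (Ac c) (hdet c) (u c)
      (hAu' c) (hu0' c) (hmax c) (by rw [hx'eq]; exact hcD) (by rw [← hFdef]; exact hB₀ c hcB.1)
    rw [← hFdef, hgy c] at hgy0 hle hiff
    rw [hx'eq] at hle hiff
    have hunif : Q.1 (a - algebraMap k K c * b - algebraMap k K (α - c * β)) = exp (-1) := by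
      have e1 : a - algebraMap k K c * b - algebraMap k K (α - c * β) =
          (a - algebraMap k K α) - algebraMap k K c * (b - algebraMap k K β) := by
        rw [map_sub, map_mul]; ring
      rw [e1]
      exact hcB.2
    have hord0 := FDD.ordDiff_eq_zero_of_sub Q ΦQ hΦQ hunif
    have h1 := hiff.mpr hns
    rw [hord0] at h1
    have h2 : Q.1 (E q + algebraMap k K c * E p) = 1 := by
      rw [val_eq_exp_neg_ord Q hgy0, h1, neg_zero, exp_zero]
    by_contra hcon
    push Not at hcon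
    have hlt : ∀ l, Q.1 (E l) < 1 := fun l => lt_of_le_of_ne (hE1 l) (hcon l)
    have h3 : Q.1 (E q + algebraMap k K c * E p) < 1 := by
      refine lt_of_le_of_lt (Q.1.map_add _ _) (max_lt (hlt q) ?_)
      rw [map_mul]
      exact lt_of_le_of_lt (mul_le_of_le_one_left' (Q.2.1 c)) (hlt p)
    rw [h2] at h3
    exact lt_irrefl _ h3
  · -- some partial is a unit ⇒ nonsingular
    rintro ⟨l, hl⟩
    have hpq : max (Q.1 (E q)) (Q.1 (-E p)) = 1 := by
      rw [Valuation.map_neg]
      apply le_antisymm (max_le (hE1 q) (hE1 p))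
      by_contra hcon
      rw [not_le, max_lt_iff] at hcon
      have hj₀lt : Q.1 (E j₀) < 1 := by
        have e1 : E j₀ = -(a * E p + b * E q) := by
          rw [eq_neg_iff_add_eq_zero, ← hEuler]; ring
        rw [e1, Valuation.map_neg]
        refine lt_of_le_of_lt (Q.1.map_add _ _) (max_lt ?_ ?_)
        · rw [map_mul]
          exact lt_of_le_of_lt (mul_le_of_le_one_left' ha1) hcon.2
        · rw [map_mul]
          exact lt_of_le_of_lt (mul_le_of_le_one_left' hb1) hcon.1
      rcases hcov l with rfl | rfl | rfl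
      · rw [hl] at hj₀lt; exact lt_irrefl _ hj₀lt
      · rw [hl] at hcon; exact lt_irrefl _ hcon.2
      · rw [hl] at hcon; exact lt_irrefl _ hcon.1
    have hbadE := subsingleton_bad (k := k) Q hpq
    obtain ⟨c, hcB, hcD⟩ := FAF.exists_D_ne_zero a b hab (B₀ ∪ hbadE.finite.toFinset)
    rw [Finset.mem_union, not_or, Set.Finite.mem_toFinset, Set.mem_ofPred_eq, not_not] at hcB
    obtain ⟨hgy0, hle, hiff⟩ := of_coord' hK x y hxy f hf hfxy Q ΦQ hΦQ (Ac c) (hdet c) (u c)
      (hAu' c) (hu0' c) (hmax c) (by rw [hx'eq]; exact hcD) (by rw [← hFdef]; exact hB₀ c hcB.1)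
    rw [← hFdef, hgy c] at hgy0 hle hiff
    rw [hx'eq] at hle hiff
    have h2 : Q.1 (E q + algebraMap k K c * E p) = 1 := by
      have := hcB.2
      rwa [mul_neg, sub_neg_eq_add] at this
    have hord : Q.ord (E q + algebraMap k K c * E p) = 0 := by
      unfold Place.ord
      rw [h2]
      simp
    rw [hord] at hle hiff
    rw [hvdef]
    apply hiff.mp
    have hx'1 : Q.1 (a - algebraMap k K c * b) ≤ 1 := by
      refine le_trans (Valuation.map_sub _ _ _) (max_le ha1 ?_)
      rw [map_mul]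
      exact le_trans (mul_le_of_le_one_left' (Q.2.1 c)) hb1
    have hnn : 0 ≤ ordDiff ΦQ 1 (a - algebraMap k K c * b) := by
      unfold ordDiff
      rw [FDE.vDiff_one]
      have h3 : Valued.v (LocRes.D k (ΦQ (a - algebraMap k K c * b))) ≤ 1 := by
        apply FDM.val_D_le_one
        rw [hΦQ.1]
        exact hx'1
      have hg : IsGeometric k K := FG.isGeometric_of_perfectField k K hK.2
      have h4 : Valued.v (LocRes.D k (ΦQ (a - algebraMap k K c * b))) ≠ 0 := by
        rw [Ne, map_eq_zero]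
        exact FDD.D_expand_ne_zero hK hg Q ΦQ hΦQ hcD
      have h5 := (log_le_iff_le_exp h4 (a := 0)).mpr (by rw [exp_zero]; exact h3)
      omega
    omega

end main

end Groth.Agent.Lib.helper16.FAJ
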