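import Groth.Agent.Lib.helper16.FJacGen1
import Groth.Agent.Lib.helper16.FJacLoc
import Groth.Agent.Lib.helper16.FFG0

/-! Helper library (helper16): the Jacobian criterion in arbitrary dimension (S11071), part 2:
nonsingular points have Jacobian of corank one. -/

set_option autoImplicit false
set_option linter.style.haveILetI false

namespace Groth.Agent.Lib.helper16.FJG

open FunFld WithZero MvPolynomial
open Groth.Agent.Lib.helper16 Groth.Agent.Lib.helper16.FF

section val

variable {k K : Type*} [Field k] [Field K] [Algebra k K] {σ : Type*}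

theorem val_le_one_of_sub (P : Place k K) {z : K} {c : k} (h : P.1 (z - algebraMap k K c) < 1) :
    P.1 z ≤ 1 := by
  have : z = (z - algebraMap k K c) + algebraMap k K c := by ring
  rw [this]
  exact le_trans (P.1.map_add _ _) (max_le (le_of_lt h) (P.2.1 _))

theorem val_aeval_sub_lt_one (P : Place k K) (x : σ → K) (a : σ → k)
    (hxa : ∀ i, P.1 (x i - algebraMap k K (a i)) < 1) (g : MvPolynomial σ k) :
    P.1 (aeval x g - algebraMap k K (eval a g)) < 1 := by
  induction g using MvPolynomial.induction_on with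
  | C c =>
    rw [aeval_C, eval_C, sub_self, map_zero]
    exact zero_lt_one
  | add p q hp hq =>
    have e : aeval x (p + q) - algebraMap k K (eval a (p + q)) =
        (aeval x p - algebraMap k K (eval a p)) + (aeval x q - algebraMap k K (eval a q)) := by
      rw [map_add, map_add, map_add]; ring
    rw [e]
    exact lt_of_le_of_lt (P.1.map_add _ _) (max_lt hp hq)
  | mul_X p l hp =>
    have hxl : P.1 (x l) ≤ 1 := val_le_one_of_sub P (hxa l)
    have e : aeval x (p * X l) - algebraMap k K (eval a (p * X l)) =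
        (aeval x p - algebraMap k K (eval a p)) * x l +
          algebraMap k K (eval a p) * (x l - algebraMap k K (a l)) := by
      rw [map_mul, map_mul, aeval_X, eval_X, map_mul]; ring
    rw [e]
    refine lt_of_le_of_lt (P.1.map_add _ _) (max_lt ?_ ?_)
    · rw [map_mul]
      exact lt_of_le_of_lt (mul_le_of_le_one_right' hxl) hp
    · rw [map_mul]
      exact lt_of_le_of_lt (mul_le_of_le_one_left' (P.2.1 _)) (hxa l)

/-- a relation of the generic point is a relation of the closed point -/
theorem eval_eq_zero_of_val_lt_one (P : Place k K) (x : σ → K) (a : σ → k)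
    (hxa : ∀ i, P.1 (x i - algebraMap k K (a i)) < 1) {g : MvPolynomial σ k}
    (hg : P.1 (aeval x g) < 1) : eval a g = 0 := by
  by_contra hne
  have h1 := val_aeval_sub_lt_one P x a hxa g
  have h2 : P.1 (algebraMap k K (eval a g)) < 1 := by
    have e : algebraMap k K (eval a g) = aeval x g - (aeval x g - algebraMap k K (eval a g)) := by
      ring
    rw [e]
    exact lt_of_le_of_lt (Valuation.map_sub _ _ _) (max_lt hg h1)
  rw [val_algebraMap P hne] at h2
  exact lt_irrefl _ h2

theorem eval_ne_zero_of_val_eq_one (P : Place k K) (x : σ → K) (a : σ → k)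
    (hxa : ∀ i, P.1 (x i - algebraMap k K (a i)) < 1) {g : MvPolynomial σ k}
    (hg : P.1 (aeval x g) = 1) : eval a g ≠ 0 := by
  intro h0
  have h1 := val_aeval_sub_lt_one P x a hxa g
  rw [h0, map_zero, sub_zero, hg] at h1
  exact lt_irrefl _ h1

/-- residues of polynomial expressions -/
theorem residue_eq_of_coe_eq (P : Place k K) (x : σ → K) (a : σ → k)
    (hxa : ∀ i, P.1 (x i - algebraMap k K (a i)) < 1) (g : MvPolynomial σ k) (m : P.O)
    (hm : (m : K) = aeval x g) :
    IsLocalRing.residue P.O m =
      algebraMap k (IsLocalRing.ResidueField P.O) (eval a g) := by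
  have h1 : IsLocalRing.residue P.O (m - algebraMap k P.O (eval a g)) = 0 := by
    rw [residue_eq_zero_iff]
    show P.1 ((m : K) - algebraMap k K (eval a g)) < 1
    rw [hm]
    exact val_aeval_sub_lt_one P x a hxa g
  rw [map_sub, sub_eq_zero] at h1
  rw [h1]
  rfl

/-- elements of the coordinate ring are polynomial expressions -/
theorem exists_aeval_of_mem_adjoin (x : σ → K) {u : K}
    (hu : u ∈ Algebra.adjoin k (Set.range x)) : ∃ U : MvPolynomial σ k, aeval x U = u := by
  rw [← aeval_range] at hu
  exact hu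

end val

section tangent

variable {k K : Type*} [Field k] [Field K] [Algebra k K] {n : ℕ}

/-- first-order Taylor expansion along the tangent direction `lam` -/
theorem val_taylor_tangent (P : Place k K) (x : Fin (n + 1) → K) (a : Fin (n + 1) → k)
    (hx0 : x 0 = 1) (ha0 : a 0 = 1) {t : K} (ht : P.1 t = exp (-1)) (lam : Fin n → k)
    (hlam : ∀ j : Fin n,
      P.1 ((x j.succ - algebraMap k K (a j.succ)) / t - algebraMap k K (lam j)) < 1)
    (g : MvPolynomial (Fin (n + 1)) k) :
    P.1 (aeval x g - algebraMap k K (eval a g) -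
      t * algebraMap k K (∑ j, eval a (pderiv j.succ g) * lam j)) ≤ exp (-2) := by
  classical
  have ht0 : t ≠ 0 := by
    rintro rfl
    rw [map_zero] at ht
    exact exp_ne_zero ht.symm
  obtain ⟨y, hydef⟩ : ∃ y : Fin (n + 1) → K, y = fun i => x i - algebraMap k K (a i) := ⟨_, rfl⟩
  obtain ⟨ε, hεdef⟩ : ∃ ε : Fin n → K, ε = fun j =>
      (x j.succ - algebraMap k K (a j.succ)) / t - algebraMap k K (lam j) := ⟨_, rfl⟩
  have hε : ∀ j, P.1 (ε j) ≤ exp (-1) := by
    intro j
    rw [← lt_one_iff_le_exp_neg_one, hεdef]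
    exact hlam j
  have hy0 : y 0 = 0 := by
    rw [hydef]
    show x 0 - algebraMap k K (a 0) = 0
    rw [hx0, ha0, map_one, sub_self]
  have hyj : ∀ j : Fin n, y j.succ = t * (algebraMap k K (lam j) + ε j) := by
    intro j
    rw [hydef, hεdef]
    show x j.succ - algebraMap k K (a j.succ) = _
    field_simp
    ring
  have hy : ∀ i, P.1 (y i) ≤ exp (-1) := by
    intro i
    refine Fin.cases ?_ (fun j => ?_) i
    · rw [hy0, map_zero]; exact zero_le
    · rw [hyj j, map_mul, ht]
      refine mul_le_of_le_one_right' ?_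
      refine le_trans (P.1.map_add _ _) (max_le (val_algebraMap_le P _) ?_)
      exact le_trans (hε j) (by rw [← exp_zero, exp_le_exp]; omega)
  have hxy : (fun i => algebraMap k K (a i) + y i) = x := by
    funext i
    rw [hydef]
    ring
  have h1 := FT.val_taylor_le P a y hy g
  rw [hxy] at h1
  have hsum : ∑ i, algebraMap k K (eval a (pderiv i g)) * y i =
      t * algebraMap k K (∑ j, eval a (pderiv j.succ g) * lam j) +
        t * ∑ j : Fin n, algebraMap k K (eval a (pderiv j.succ g)) * ε j := by
    rw [Fin.sum_univ_succ, hy0, mul_zero, zero_add, map_sum, Finset.mul_sum, Finset.mul_sum,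
      ← Finset.sum_add_distrib]
    apply Finset.sum_congr rfl
    intro j _
    rw [hyj j, map_mul]
    ring
  have e : aeval x g - algebraMap k K (eval a g) -
      t * algebraMap k K (∑ j, eval a (pderiv j.succ g) * lam j) =
      (aeval x g - algebraMap k K (eval a g) - ∑ i, algebraMap k K (eval a (pderiv i g)) * y i) +
        t * ∑ j : Fin n, algebraMap k K (eval a (pderiv j.succ g)) * ε j := by
    rw [hsum]; ring
  rw [e]
  refine le_trans (P.1.map_add _ _) (max_le h1 ?_)
  rw [map_mul, ht]
  have h2 : P.1 (∑ j : Fin n, algebraMap k K (eval a (pderiv j.succ g)) * ε j) ≤ exp (-1) := by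
    apply Valuation.map_sum_le
    intro j _
    rw [map_mul]
    exact le_trans (mul_le_of_le_one_left' (val_algebraMap_le P _)) (hε j)
  calc exp (-1) * P.1 (∑ j : Fin n, algebraMap k K (eval a (pderiv j.succ g)) * ε j)
      ≤ exp (-1) * exp (-1) := by gcongr
    _ = exp (-2) := by rw [← exp_add]; rfl

/-- relations are tangent to `lam` -/
theorem tangent_of_aeval_eq_zero (P : Place k K) (x : Fin (n + 1) → K) (a : Fin (n + 1) → k)
    (hxa : ∀ i, P.1 (x i - algebraMap k K (a i)) < 1)
    (hx0 : x 0 = 1) (ha0 : a 0 = 1) {t : K} (ht : P.1 t = exp (-1)) (lam : Fin n → k)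
    (hlam : ∀ j : Fin n,
      P.1 ((x j.succ - algebraMap k K (a j.succ)) / t - algebraMap k K (lam j)) < 1)
    {g : MvPolynomial (Fin (n + 1)) k} (hg : P.1 (aeval x g) ≤ exp (-2)) :
    ∑ j, eval a (pderiv j.succ g) * lam j = 0 := by
  have hg1 : P.1 (aeval x g) < 1 := lt_of_le_of_lt hg (by rw [← exp_zero, exp_lt_exp]; omega)
  have h0 := eval_eq_zero_of_val_lt_one P x a hxa hg1
  have h1 := val_taylor_tangent P x a hx0 ha0 ht lam hlam g
  rw [h0, map_zero, sub_zero] at h1
  by_contra hne
  have h2 : P.1 (t * algebraMap k K (∑ j, eval a (pderiv j.succ g) * lam j)) = exp (-1) := by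
    rw [map_mul, ht, val_algebraMap P hne, mul_one]
  have h3 : P.1 (t * algebraMap k K (∑ j, eval a (pderiv j.succ g) * lam j)) ≤ exp (-2) := by
    have e : t * algebraMap k K (∑ j, eval a (pderiv j.succ g) * lam j) =
        aeval x g - (aeval x g - t * algebraMap k K (∑ j, eval a (pderiv j.succ g) * lam j)) := by
      ring
    rw [e]
    exact le_trans (Valuation.map_sub _ _ _) (max_le hg h1)
  rw [h2, exp_le_exp] at h3
  omega

end tangent

section forward

variable {k K : Type*} [Field k] [Field K] [Algebra k K] {n r : ℕ}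

theorem mem_ker_mulVecLin_iff {κ : Type*} [Field κ] (Jb : Matrix (Fin r) (Fin n) κ)
    (v : Fin n → κ) : v ∈ LinearMap.ker Jb.mulVecLin ↔ ∀ l, ∑ i, Jb l i * v i = 0 := by
  rw [LinearMap.mem_ker, Matrix.mulVecLin_apply]
  constructor
  · intro h l
    have := congrFun h l
    simpa [Matrix.mulVec, dotProduct] using this
  · intro h
    funext l
    simpa [Matrix.mulVec, dotProduct] using h l

/-- **nonsingular points have a Jacobian with one-dimensional kernel** -/
theorem finrank_ker_of_nonsingular (P : Place k K) (x : Fin (n + 1) → K) (a : Fin (n + 1) → k)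
    (hxa : ∀ i, P.1 (x i - algebraMap k K (a i)) < 1) (hx0 : x 0 = 1) (ha0 : a 0 = 1)
    (hconst : ∀ z : K, P.1 z ≤ 1 → ∃ c : k, P.1 (z - algebraMap k K c) < 1)
    (f : Fin r → MvPolynomial (Fin (n + 1)) k) (hfx : ∀ l, aeval x (f l) = 0)
    (hstar : ∀ p : MvPolynomial (Fin (n + 1)) k, aeval x p = 0 →
      ∃ q : Fin r → MvPolynomial (Fin (n + 1)) k, ∀ j : Fin n,
        eval a (pderiv j.succ p) = ∑ l, eval a (q l) * eval a (pderiv j.succ (f l)))
    {κ : Type*} [Field κ] [Algebra k κ]
    (Jb : Matrix (Fin r) (Fin n) κ)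
    (hJ : ∀ l j, Jb l j = algebraMap k κ (eval a (pderiv j.succ (f l))))
    (hNS : ∀ z : K, P.1 z ≤ 1 → InLoc (Algebra.adjoin k (Set.range x)) P z) :
    Module.finrank κ (LinearMap.ker Jb.mulVecLin) = 1 := by
  classical
  obtain ⟨t, ht⟩ := exists_uniformizer P
  have ht0 : t ≠ 0 := by
    rintro rfl
    rw [map_zero] at ht
    exact exp_ne_zero ht.symm
  have hzj : ∀ j : Fin n, P.1 ((x j.succ - algebraMap k K (a j.succ)) / t) ≤ 1 := by
    intro j
    rw [map_div₀, ht]
    apply div_le_one_of_le₀ _ zero_le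
    exact lt_one_iff_le_exp_neg_one.mp (hxa j.succ)
  choose lam hlam using fun j => hconst _ (hzj j)
  have hT := val_taylor_tangent P x a hx0 ha0 ht lam hlam
  have hTan : ∀ {g : MvPolynomial (Fin (n + 1)) k}, P.1 (aeval x g) ≤ exp (-2) →
      ∑ j, eval a (pderiv j.succ g) * lam j = 0 :=
    fun {g} hg => tangent_of_aeval_eq_zero P x a hxa hx0 ha0 ht lam hlam hg
  -- Claim A
  have hA : ∀ l, ∑ j, eval a (pderiv j.succ (f l)) * lam j = 0 := by
    intro l
    apply hTan
    rw [hfx l, map_zero]
    exact zero_le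
  -- the uniformizer in the local ring
  obtain ⟨u₁, hu₁, w₁, hw₁, hw₁1, htw⟩ := hNS t (by rw [ht, ← exp_zero, exp_le_exp]; omega)
  obtain ⟨U₁, rfl⟩ := exists_aeval_of_mem_adjoin x hu₁
  obtain ⟨W₁, rfl⟩ := exists_aeval_of_mem_adjoin x hw₁
  have hU₁val : P.1 (aeval x U₁) = exp (-1) := by rw [← htw, map_mul, hw₁1, mul_one, ht]
  have hU₁a : eval a U₁ = 0 :=
    eval_eq_zero_of_val_lt_one P x a hxa (by rw [hU₁val, ← exp_zero, exp_lt_exp]; omega)
  have hW₁a : eval a W₁ ≠ 0 := eval_ne_zero_of_val_eq_one P x a hxa hw₁1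
  -- the tangent vector is nonzero
  have hlam0 : ∃ j₀, lam j₀ ≠ 0 := by
    by_contra hcon
    push Not at hcon
    have h1 := hT U₁
    have h2 : ∑ j, eval a (pderiv j.succ U₁) * lam j = 0 := by
      apply Finset.sum_eq_zero
      intro j _
      rw [hcon j, mul_zero]
    rw [h2, map_zero, mul_zero, sub_zero, hU₁a, map_zero, sub_zero, hU₁val, exp_le_exp] at h1
    omega
  obtain ⟨j₀, hj₀⟩ := hlam0
  -- Claim B
  have hB : ∀ v : Fin n → κ, (∀ l, ∑ i, Jb l i * v i = 0) → ∀ j,
      algebraMap k κ (lam j₀) * v j = algebraMap k κ (lam j) * v j₀ := by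
    intro v hv j
    obtain ⟨c, hcdef⟩ : ∃ c : Fin n → k, c = fun i =>
        lam j₀ * (if i = j then 1 else 0) - lam j * (if i = j₀ then 1 else 0) := ⟨_, rfl⟩
    obtain ⟨L, hLdef⟩ : ∃ L : MvPolynomial (Fin (n + 1)) k,
        L = ∑ i, C (c i) * (X i.succ - C (a i.succ)) := ⟨_, rfl⟩
    have hLa : eval a L = 0 := by
      rw [hLdef, map_sum]
      apply Finset.sum_eq_zero
      intro i _
      simp only [map_mul, map_sub, eval_X, eval_C, sub_self, mul_zero]
    have hLd : ∀ i : Fin n, eval a (pderiv i.succ L) = c i := by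
      intro i
      rw [hLdef, map_sum, map_sum]
      rw [Finset.sum_eq_single i]
      · rw [pderiv_C_mul, map_sub, pderiv_X, pderiv_C, sub_zero, Pi.single_eq_same, mul_one,
          eval_C]
      · intro i' _ hi'
        rw [pderiv_C_mul, map_sub, pderiv_X, pderiv_C, sub_zero,
          Pi.single_eq_of_ne (fun h => hi' (Fin.succ_injective _ h)), mul_zero, map_zero]
      · intro h; exact absurd (Finset.mem_univ i) h
    have hcsum : ∀ w : Fin n → κ, ∑ i, algebraMap k κ (c i) * w i =
        algebraMap k κ (lam j₀) * w j - algebraMap k κ (lam j) * w j₀ := by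
      intro w
      rw [hcdef]
      simp only [map_sub, map_mul, sub_mul, Finset.sum_sub_distrib]
      congr 1
      · rw [Finset.sum_eq_single j]
        · rw [if_pos rfl, map_one, mul_one]
        · intro i _ hi
          rw [if_neg hi, map_zero, mul_zero, zero_mul]
        · intro h; exact absurd (Finset.mem_univ j) h
      · rw [Finset.sum_eq_single j₀]
        · rw [if_pos rfl, map_one, mul_one]
        · intro i _ hi
          rw [if_neg hi, map_zero, mul_zero, zero_mul]
        · intro h; exact absurd (Finset.mem_univ j₀) h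
    have hΛL : ∑ i, eval a (pderiv i.succ L) * lam i = 0 := by
      have h2 : ∑ i, c i * lam i = lam j₀ * lam j - lam j * lam j₀ := by
        rw [hcdef]
        simp only [sub_mul, Finset.sum_sub_distrib]
        congr 1
        · rw [Finset.sum_eq_single j]
          · rw [if_pos rfl, mul_one]
          · intro i _ hi
            rw [if_neg hi, mul_zero, zero_mul]
          · intro h; exact absurd (Finset.mem_univ j) h
        · rw [Finset.sum_eq_single j₀]
          · rw [if_pos rfl, mul_one]
          · intro i _ hi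
            rw [if_neg hi, mul_zero, zero_mul]
          · intro h; exact absurd (Finset.mem_univ j₀) h
      simp only [hLd]
      rw [h2]; ring
    have hℓ : P.1 (aeval x L) ≤ exp (-2) := by
      have h1 := hT L
      rwa [hΛL, map_zero, mul_zero, sub_zero, hLa, map_zero, sub_zero] at h1
    have hz : P.1 (aeval x L / t ^ 2) ≤ 1 := by
      rw [map_div₀, map_pow, ht]
      apply div_le_one_of_le₀ _ zero_le
      rw [← exp_nsmul]
      exact hℓ
    obtain ⟨u, hu, w, hw, hw1, hzw⟩ := hNS _ hz
    obtain ⟨U, rfl⟩ := exists_aeval_of_mem_adjoin x hu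
    obtain ⟨W, rfl⟩ := exists_aeval_of_mem_adjoin x hw
    have hWa : eval a W ≠ 0 := eval_ne_zero_of_val_eq_one P x a hxa hw1
    have key : aeval x (L * W * W₁ ^ 2 - U * U₁ ^ 2) = 0 := by
      rw [map_sub, map_mul, map_mul, map_mul, map_pow, map_pow, ← hzw, ← htw]
      field_simp
      ring
    obtain ⟨q, hq⟩ := hstar _ key
    have hω : ∀ i : Fin n, eval a (pderiv i.succ (L * W * W₁ ^ 2 - U * U₁ ^ 2)) =
        eval a W * eval a W₁ ^ 2 * c i := by
      intro i
      simp only [pow_two]
      rw [map_sub, map_sub, mul_assoc, eval_pderiv_mul, eval_pderiv_mul a _ U,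
        eval_pderiv_mul a _ U₁ U₁, hLa, hLd]
      simp only [map_mul, hU₁a, zero_mul, mul_zero, add_zero, zero_add, sub_zero]
    have h5 : algebraMap k κ (eval a W * eval a W₁ ^ 2) * ∑ i, algebraMap k κ (c i) * v i = 0 := by
      rw [Finset.mul_sum]
      have h6 : ∀ i ∈ Finset.univ, algebraMap k κ (eval a W * eval a W₁ ^ 2) *
          (algebraMap k κ (c i) * v i) =
          ∑ l, algebraMap k κ (eval a (q l)) * (Jb l i * v i) := by
        intro i _
        rw [← mul_assoc, ← map_mul, ← hω i, hq i, map_sum, Finset.sum_mul]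
        apply Finset.sum_congr rfl
        intro l _
        rw [map_mul, hJ l i]
        ring
      rw [Finset.sum_congr rfl h6, Finset.sum_comm]
      apply Finset.sum_eq_zero
      intro l _
      rw [← Finset.mul_sum, hv l, mul_zero]
    have hω0 : algebraMap k κ (eval a W * eval a W₁ ^ 2) ≠ 0 := by
      rw [Ne, map_eq_zero]
      exact mul_ne_zero hWa (pow_ne_zero _ hW₁a)
    have h7 := (mul_eq_zero.mp h5).resolve_left hω0
    rw [hcsum v, sub_eq_zero] at h7
    exact h7
  -- the kernel is the line through the tangent vector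
  obtain ⟨lamκ, hlamκ⟩ : ∃ lamκ : Fin n → κ, lamκ = fun j => algebraMap k κ (lam j) := ⟨_, rfl⟩
  have hlamκ0 : lamκ ≠ 0 := by
    intro h0
    have := congrFun h0 j₀
    rw [hlamκ] at this
    simp only [Pi.zero_apply, map_eq_zero] at this
    exact hj₀ this
  have hker : LinearMap.ker Jb.mulVecLin = Submodule.span κ {lamκ} := by
    apply le_antisymm
    · intro v hv
      rw [mem_ker_mulVecLin_iff] at hv
      rw [Submodule.mem_span_singleton]
      refine ⟨v j₀ / algebraMap k κ (lam j₀), ?_⟩
      funext j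
      rw [hlamκ]
      simp only [Pi.smul_apply, smul_eq_mul]
      have h1 := hB v hv j
      have h2 : algebraMap k κ (lam j₀) ≠ 0 := by rwa [Ne, map_eq_zero]
      rw [div_mul_eq_mul_div, div_eq_iff h2, mul_comm (v j), h1, mul_comm]
    · rw [Submodule.span_singleton_le_iff_mem, mem_ker_mulVecLin_iff]
      intro l
      rw [hlamκ]
      simp only [hJ]
      have h1 := congrArg (algebraMap k κ) (hA l)
      rw [map_sum, map_zero] at h1
      rw [← h1]
      apply Finset.sum_congr rfl
      intro i _
      rw [map_mul]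
  rw [hker]
  exact finrank_span_singleton hlamκ0

end forward

end Groth.Agent.Lib.helper16.FJG
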