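import Groth.Agent.Lib.helper16.FJacGen2

/-! Helper library (helper16): the Jacobian criterion in arbitrary dimension (S11071), part 3:
points with Jacobian of corank one are nonsingular. -/

set_option autoImplicit false
set_option linter.style.haveILetI false

namespace Groth.Agent.Lib.helper16.FJG

open FunFld WithZero MvPolynomial
open Groth.Agent.Lib.helper16 Groth.Agent.Lib.helper16.FF

section ring

variable {k K : Type*} [Field k] [Field K] [Algebra k K] {σ : Type*} [Fintype σ]

/-- the generators as elements of the coordinate ring -/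
noncomputable def xR (x : σ → K) : σ → Algebra.adjoin k (Set.range x) :=
  fun i => ⟨x i, Algebra.subset_adjoin ⟨i, rfl⟩⟩

theorem coe_aeval_xR (x : σ → K) (g : MvPolynomial σ k) :
    ((aeval (xR x) g : Algebra.adjoin k (Set.range x)) : K) = aeval x g := by
  have h1 := comp_aeval_apply (f := xR x) (Algebra.adjoin k (Set.range x)).val g
  exact h1

/-- the ideal of the point -/
noncomputable def tR (x : σ → K) (a : σ → k) : σ → Algebra.adjoin k (Set.range x) :=
  fun i => xR x i - algebraMap k _ (a i)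

theorem coe_tR (x : σ → K) (a : σ → k) (i : σ) :
    ((tR x a i : Algebra.adjoin k (Set.range x)) : K) = x i - algebraMap k K (a i) := rfl

theorem xR_eq (x : σ → K) (a : σ → k) :
    (fun i => algebraMap k (Algebra.adjoin k (Set.range x)) (a i) + tR x a i) = xR x := by
  funext i
  unfold tR
  ring

theorem val_coe_le_one (P : Place k K) (x : σ → K) (hx : ∀ i, P.1 (x i) ≤ 1)
    (u : Algebra.adjoin k (Set.range x)) : P.1 (u : K) ≤ 1 := by
  obtain ⟨U, hU⟩ := exists_aeval_of_mem_adjoin x u.2
  rw [← hU]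
  exact FAJ.val_mvAeval_le_one P x hx U

theorem val_le_of_mem_ideal (P : Place k K) (x : σ → K) (a : σ → k) (hx : ∀ i, P.1 (x i) ≤ 1)
    {Mx : ℤᵐ⁰} (hM : ∀ i, P.1 (x i - algebraMap k K (a i)) ≤ Mx)
    {u : Algebra.adjoin k (Set.range x)} (hu : u ∈ Ideal.span (Set.range (tR x a))) :
    P.1 (u : K) ≤ Mx := by
  refine Submodule.span_induction
    (p := fun (u : Algebra.adjoin k (Set.range x)) _ => P.1 (u : K) ≤ Mx) ?_ ?_ ?_ ?_ hu
  · rintro _ ⟨i, rfl⟩
    exact hM i
  · show P.1 (0 : K) ≤ Mx
    rw [map_zero]; exact zero_le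
  · intro u v _ _ hu hv
    show P.1 ((u : K) + (v : K)) ≤ Mx
    exact le_trans (P.1.map_add _ _) (max_le hu hv)
  · intro r u _ hu
    show P.1 ((r : K) * (u : K)) ≤ Mx
    rw [map_mul]
    exact le_trans (mul_le_of_le_one_left' (val_coe_le_one P x hx r)) hu

theorem val_le_of_mem_ideal_sq (P : Place k K) (x : σ → K) (a : σ → k)
    (hx : ∀ i, P.1 (x i) ≤ 1)
    {Mx : ℤᵐ⁰} (hM : ∀ i, P.1 (x i - algebraMap k K (a i)) ≤ Mx)
    {u : Algebra.adjoin k (Set.range x)}
    (hu : u ∈ Ideal.span (Set.range (tR x a)) * Ideal.span (Set.range (tR x a))) :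
    P.1 (u : K) ≤ Mx * Mx := by
  refine Submodule.mul_induction_on
    (C := fun (u : Algebra.adjoin k (Set.range x)) => P.1 (u : K) ≤ Mx * Mx) hu ?_ ?_
  · intro m hm n hn
    show P.1 ((m : K) * (n : K)) ≤ Mx * Mx
    rw [map_mul]
    exact mul_le_mul' (val_le_of_mem_ideal P x a hx hM hm) (val_le_of_mem_ideal P x a hx hM hn)
  · intro u v hu hv
    show P.1 ((u : K) + (v : K)) ≤ Mx * Mx
    exact le_trans (P.1.map_add _ _) (max_le hu hv)

end ring

section nak

variable {k K : Type*} [Field k] [Field K] [Algebra k K] {σ : Type*} [Fintype σ]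

open Pointwise in
/-- Nakayama: if the ideal of the point is generated by one element modulo its square, it is
generated by that element up to a unit of the local ring -/
theorem exists_delta (x : σ → K) (a : σ → k) (i₁ : σ)
    (h : ∀ i, ∃ c : k, tR x a i - algebraMap k _ c * tR x a i₁ ∈
      Ideal.span (Set.range (tR x a)) * Ideal.span (Set.range (tR x a))) :
    ∃ δ : Algebra.adjoin k (Set.range x), δ - 1 ∈ Ideal.span (Set.range (tR x a)) ∧
      ∀ u ∈ Ideal.span (Set.range (tR x a)), ∃ u' : Algebra.adjoin k (Set.range x),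
        δ * u = u' * tR x a i₁ := by
  obtain ⟨I, hIdef⟩ : ∃ I : Ideal (Algebra.adjoin k (Set.range x)),
      I = Ideal.span (Set.range (tR x a)) := ⟨_, rfl⟩
  rw [← hIdef]
  rw [← hIdef] at h
  have hfg : (I : Submodule _ (Algebra.adjoin k (Set.range x))).FG := by
    rw [hIdef]
    exact Submodule.fg_span (Set.finite_range _)
  have hle : I ≤ Ideal.span {tR x a i₁} ⊔ I • I := by
    rw [hIdef, Ideal.span_le, ← hIdef]
    rintro _ ⟨i, rfl⟩
    obtain ⟨c, hc⟩ := h i
    have e : tR x a i = algebraMap k _ c * tR x a i₁ + (tR x a i - algebraMap k _ c * tR x a i₁) := by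
      ring
    rw [SetLike.mem_coe, e]
    refine Submodule.add_mem_sup ?_ ?_
    · exact Ideal.mul_mem_left _ _ (Ideal.subset_span rfl)
    · rw [smul_eq_mul]
      exact hc
  obtain ⟨δ, hδ1, hδI⟩ := Submodule.exists_sub_one_mem_and_smul_le_of_fg_of_le_sup
    (I := I) (N := Ideal.span {tR x a i₁}) (N' := I) (P := I) hfg le_rfl hle
  refine ⟨δ, hδ1, fun u hu => ?_⟩
  have h1 : δ • u ∈ δ • (I : Submodule _ (Algebra.adjoin k (Set.range x))) :=
    Submodule.smul_mem_pointwise_smul u δ I hu
  have h2 := hδI h1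
  rw [Ideal.mem_span_singleton'] at h2
  obtain ⟨u', hu'⟩ := h2
  exact ⟨u', by rw [hu']; rfl⟩

/-- the coordinate ring is a discrete valuation ring locally at the point -/
theorem exists_pow_repr (P : Place k K) (x : σ → K) (a : σ → k)
    (hxa : ∀ i, P.1 (x i - algebraMap k K (a i)) < 1)
    (π δ : Algebra.adjoin k (Set.range x)) (hπ : P.1 (π : K) < 1) (hπ0 : (π : K) ≠ 0)
    (hδ : P.1 (δ : K) = 1)
    (hdiv : ∀ u ∈ Ideal.span (Set.range (tR x a)), ∃ u' : Algebra.adjoin k (Set.range x),
      δ * u = u' * π) :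
    ∀ N : ℕ, ∀ u : Algebra.adjoin k (Set.range x), (u : K) ≠ 0 → P.ord (u : K) ≤ N →
      ∃ (m : ℕ) (u' : Algebra.adjoin k (Set.range x)), P.1 (u' : K) = 1 ∧
        δ ^ m * u = π ^ m * u' := by
  classical
  have hx : ∀ i, P.1 (x i) ≤ 1 := fun i => val_le_one_of_sub P (hxa i)
  have hδ0 : (δ : K) ≠ 0 := by
    intro h0
    rw [h0, map_zero] at hδ
    exact zero_ne_one hδ
  have hordπ : 0 < P.ord (π : K) := (val_lt_one_iff P hπ0).mp hπ
  have hordδ : P.ord (δ : K) = 0 := by
    have h1 := val_eq_exp_neg_ord P hδ0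
    rw [hδ, ← exp_zero, exp_inj] at h1
    omega
  intro N
  induction N with
  | zero =>
    intro u hu0 hN
    have h1 : 0 ≤ P.ord (u : K) := (val_le_one_iff P hu0).mp (val_coe_le_one P x hx u)
    have h2 : P.ord (u : K) = 0 := by
      have : P.ord (u : K) ≤ 0 := by exact_mod_cast hN
      omega
    refine ⟨0, u, ?_, by rw [pow_zero, pow_zero]⟩
    rw [val_eq_exp_neg_ord P hu0, h2, neg_zero, exp_zero]
  | succ N ih =>
    intro u hu0 hN
    have h1 : 0 ≤ P.ord (u : K) := (val_le_one_iff P hu0).mp (val_coe_le_one P x hx u)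
    by_cases h2 : P.ord (u : K) = 0
    · refine ⟨0, u, ?_, by rw [pow_zero, pow_zero]⟩
      rw [val_eq_exp_neg_ord P hu0, h2, neg_zero, exp_zero]
    · have hult : P.1 (u : K) < 1 := (val_lt_one_iff P hu0).mpr (by omega)
      obtain ⟨U, hU⟩ := exists_aeval_of_mem_adjoin x u.2
      have hUa : eval a U = 0 := eval_eq_zero_of_val_lt_one P x a hxa (by rw [hU]; exact hult)
      have humem : u ∈ Ideal.span (Set.range (tR x a)) := by
        have h3 := aeval_mem_of_eval_eq_zero (B := Algebra.adjoin k (Set.range x)) a (tR x a) hUa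
        rw [xR_eq] at h3
        have h4 : aeval (xR x) U = u := by
          apply Subtype.ext
          rw [coe_aeval_xR, hU]
        rwa [h4] at h3
      obtain ⟨u₁, hu₁⟩ := hdiv u humem
      have hu₁K : (δ : K) * (u : K) = (u₁ : K) * (π : K) := by
        have := congrArg (fun r : Algebra.adjoin k (Set.range x) => (r : K)) hu₁
        exact this
      have hu₁0 : (u₁ : K) ≠ 0 := by
        intro h0
        rw [h0, zero_mul] at hu₁K
        rcases mul_eq_zero.mp hu₁K with h | h
        · exact hδ0 h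
        · exact hu0 h
      have hord : P.ord (u : K) = P.ord (u₁ : K) + P.ord (π : K) := by
        have := congrArg P.ord hu₁K
        rw [ord_mul P hδ0 hu0, ord_mul P hu₁0 hπ0, hordδ, zero_add] at this
        exact this
      have hN' : P.ord (u₁ : K) ≤ N := by
        have : P.ord (u : K) ≤ (N : ℤ) + 1 := by exact_mod_cast hN
        omega
      obtain ⟨m, u', hu'1, hu'⟩ := ih u₁ hu₁0 hN'
      refine ⟨m + 1, u', hu'1, ?_⟩
      calc δ ^ (m + 1) * u = δ ^ m * (δ * u) := by ring
        _ = δ ^ m * (u₁ * π) := by rw [hu₁]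
        _ = (δ ^ m * u₁) * π := by ring
        _ = (π ^ m * u') * π := by rw [hu']
        _ = π ^ (m + 1) * u' := by ring

end nak

section linalg

variable {κ : Type*} [Field κ] {n r : ℕ}

/-- a vector orthogonal to the kernel of a corank-one matrix is a combination of its rows -/
theorem exists_row_comb (Jb : Matrix (Fin r) (Fin n) κ) (μ : Fin n → κ) (hμ : μ ≠ 0)
    (hμker : ∀ l, ∑ i, Jb l i * μ i = 0)
    (hrank : Module.finrank κ (LinearMap.ker Jb.mulVecLin) = 1)
    (c : Fin n → κ) (hc : ∑ i, μ i * c i = 0) :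
    ∃ q : Fin r → κ, ∀ i, ∑ l, Jb l i * q l = c i := by
  classical
  have hW : Module.finrank κ (LinearMap.range Jb.transpose.mulVecLin) + 1 = n := by
    have h1 : Module.finrank κ (LinearMap.range Jb.transpose.mulVecLin) =
        Module.finrank κ (LinearMap.range Jb.mulVecLin) := Matrix.rank_transpose Jb
    have h2 := LinearMap.finrank_range_add_finrank_ker Jb.mulVecLin
    rw [Module.finrank_fin_fun, hrank] at h2
    rw [h1, h2]
  let ψ : (Fin n → κ) →ₗ[κ] κ := ∑ i, μ i • LinearMap.proj i
  have hψ : ∀ c : Fin n → κ, ψ c = ∑ i, μ i * c i := by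
    intro c
    simp only [ψ, LinearMap.sum_apply, LinearMap.smul_apply, LinearMap.proj_apply, smul_eq_mul]
  have hH : Module.finrank κ (LinearMap.ker ψ) + 1 = n := by
    have hsurj : Function.Surjective ψ := by
      obtain ⟨i₀, hi₀⟩ : ∃ i₀, μ i₀ ≠ 0 := by
        by_contra hcon
        push Not at hcon
        exact hμ (funext hcon)
      intro w
      refine ⟨Pi.single i₀ (w / μ i₀), ?_⟩
      rw [hψ, Finset.sum_eq_single i₀]
      · rw [Pi.single_eq_same, mul_div_cancel₀ _ hi₀]
      · intro i _ hi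
        rw [Pi.single_eq_of_ne hi, mul_zero]
      · intro h; exact absurd (Finset.mem_univ i₀) h
    have h2 := LinearMap.finrank_range_add_finrank_ker ψ
    rw [LinearMap.range_eq_top.mpr hsurj, finrank_top, Module.finrank_self,
      Module.finrank_fin_fun] at h2
    omega
  have hle : LinearMap.range Jb.transpose.mulVecLin ≤ LinearMap.ker ψ := by
    rintro _ ⟨q, rfl⟩
    rw [LinearMap.mem_ker, hψ]
    simp only [Matrix.mulVecLin_apply, Matrix.mulVec, dotProduct, Matrix.transpose_apply,
      Finset.mul_sum]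
    rw [Finset.sum_comm]
    apply Finset.sum_eq_zero
    intro l _
    have h1 : ∑ i, μ i * (Jb l i * q l) = q l * ∑ i, Jb l i * μ i := by
      rw [Finset.mul_sum]
      apply Finset.sum_congr rfl
      intro i _
      ring
    rw [h1, hμker l, mul_zero]
  have heq : LinearMap.range Jb.transpose.mulVecLin = LinearMap.ker ψ :=
    Submodule.eq_of_le_of_finrank_eq hle (by omega)
  have hcH : c ∈ LinearMap.ker ψ := by rw [LinearMap.mem_ker, hψ]; exact hc
  rw [← heq] at hcH
  obtain ⟨q, hq⟩ := hcH
  refine ⟨q, fun i => ?_⟩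
  have := congrFun hq i
  rw [Matrix.mulVecLin_apply] at this
  rw [← this]
  simp only [Matrix.mulVec, dotProduct, Matrix.transpose_apply]

end linalg

section backward

variable {k K : Type*} [Field k] [Field K] [Algebra k K] {n r : ℕ}

/-- the exact Taylor expansion read in `K` -/
theorem coe_taylor (x : Fin (n + 1) → K) (a : Fin (n + 1) → k)
    (g : MvPolynomial (Fin (n + 1)) k) :
    ∃ E : Algebra.adjoin k (Set.range x),
      E ∈ Ideal.span (Set.range (tR x a)) * Ideal.span (Set.range (tR x a)) ∧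
      (E : K) = aeval x g - algebraMap k K (eval a g) -
        ∑ i, algebraMap k K (eval a (pderiv i g)) * (x i - algebraMap k K (a i)) := by
  classical
  have h1 := exact_taylor (B := Algebra.adjoin k (Set.range x)) a (tR x a) g
  rw [xR_eq] at h1
  refine ⟨_, h1, ?_⟩
  have h2 : ∀ u v : Algebra.adjoin k (Set.range x), ((u - v : Algebra.adjoin k (Set.range x)) : K) =
      (u : K) - (v : K) := fun u v => rfl
  rw [h2, h2, coe_aeval_xR]
  congr 1
  have h3 := map_sum (Algebra.adjoin k (Set.range x)).val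
    (fun i => algebraMap k _ (eval a (pderiv i g)) * tR x a i) Finset.univ
  exact h3

/-- **points with Jacobian of corank one are nonsingular** -/
theorem nonsingular_of_finrank_ker (P : Place k K) (x : Fin (n + 1) → K)
    (a : Fin (n + 1) → k)
    (hxa : ∀ i, P.1 (x i - algebraMap k K (a i)) < 1) (hx0 : x 0 = 1) (ha0 : a 0 = 1)
    (hconst : ∀ z : K, P.1 z ≤ 1 → ∃ c : k, P.1 (z - algebraMap k K c) < 1)
    (hfrac : ∀ z : K, ∃ u ∈ Algebra.adjoin k (Set.range x),
      ∃ w ∈ Algebra.adjoin k (Set.range x), w ≠ 0 ∧ z * w = u)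
    (hnc : ∃ j : Fin n, x j.succ - algebraMap k K (a j.succ) ≠ 0)
    (f : Fin r → MvPolynomial (Fin (n + 1)) k) (hfx : ∀ l, aeval x (f l) = 0)
    {κ : Type*} [Field κ] [Algebra k κ] (hsurj : Function.Surjective (algebraMap k κ))
    (Jb : Matrix (Fin r) (Fin n) κ)
    (hJ : ∀ l j, Jb l j = algebraMap k κ (eval a (pderiv j.succ (f l))))
    (hrank : Module.finrank κ (LinearMap.ker Jb.mulVecLin) = 1) :
    ∀ z : K, P.1 z ≤ 1 → InLoc (Algebra.adjoin k (Set.range x)) P z := by
  classical
  have hx : ∀ i, P.1 (x i) ≤ 1 := fun i => val_le_one_of_sub P (hxa i)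
  obtain ⟨y, hydef⟩ : ∃ y : Fin (n + 1) → K, y = fun i => x i - algebraMap k K (a i) := ⟨_, rfl⟩
  have hyi : ∀ i, y i = x i - algebraMap k K (a i) := fun i => by rw [hydef]
  have hy0 : y 0 = 0 := by rw [hyi, hx0, ha0, map_one, sub_self]
  obtain ⟨jn, hjn⟩ := hnc
  obtain ⟨j₁, -, hj₁⟩ := Finset.exists_max_image Finset.univ (fun j : Fin n => P.1 (y j.succ))
    ⟨jn, Finset.mem_univ _⟩
  obtain ⟨π, hπdef⟩ : ∃ π : K, π = y j₁.succ := ⟨_, rfl⟩
  have hπ0 : π ≠ 0 := by
    intro h0
    have h1 := hj₁ jn (Finset.mem_univ _)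
    rw [← hπdef, h0, map_zero] at h1
    have h2 : P.1 (y jn.succ) = 0 := le_antisymm h1 zero_le
    rw [map_eq_zero, hyi] at h2
    exact hjn h2
  have hπ1 : P.1 π < 1 := by rw [hπdef, hyi]; exact hxa _
  have hPπ0 : P.1 π ≠ 0 := val_ne_zero P hπ0
  have hM : ∀ i, P.1 (x i - algebraMap k K (a i)) ≤ P.1 π := by
    intro i
    rw [← hyi]
    refine Fin.cases ?_ (fun j => ?_) i
    · rw [hy0, map_zero]; exact zero_le
    · rw [hπdef]; exact hj₁ j (Finset.mem_univ _)
  have hzj : ∀ j : Fin n, P.1 (y j.succ / π) ≤ 1 := by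
    intro j
    rw [map_div₀]
    apply div_le_one_of_le₀ _ zero_le
    rw [hyi]
    exact hM j.succ
  choose mu hmu using fun j => hconst _ (hzj j)
  have hmu1 : mu j₁ = 1 := by
    have h1 := hmu j₁
    rw [← hπdef, div_self hπ0] at h1
    by_contra hne
    have h2 : (1 : K) - algebraMap k K (mu j₁) = algebraMap k K (1 - mu j₁) := by
      rw [map_sub, map_one]
    rw [h2, val_algebraMap P (sub_ne_zero.mpr (Ne.symm hne))] at h1
    exact lt_irrefl _ h1
  obtain ⟨ε, hεdef⟩ : ∃ ε : Fin n → K, ε = fun j => y j.succ / π - algebraMap k K (mu j) :=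
    ⟨_, rfl⟩
  have hε : ∀ j, P.1 (ε j) < 1 := by intro j; rw [hεdef]; exact hmu j
  have hyj : ∀ j : Fin n, y j.succ = π * (algebraMap k K (mu j) + ε j) := by
    intro j
    rw [hεdef]
    field_simp
    ring
  -- the tangent functional kills relations
  have hTan : ∀ g : MvPolynomial (Fin (n + 1)) k, aeval x g = 0 →
      ∑ j, eval a (pderiv j.succ g) * mu j = 0 := by
    intro g hg
    obtain ⟨E, hE, hEK⟩ := coe_taylor x a g
    have h1 := val_le_of_mem_ideal_sq P x a hx hM hE
    have hga : eval a g = 0 :=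
      eval_eq_zero_of_val_lt_one P x a hxa (by rw [hg, map_zero]; exact zero_lt_one)
    rw [hEK, hg, hga, map_zero, sub_zero, zero_sub, Valuation.map_neg] at h1
    have hsum : ∑ i, algebraMap k K (eval a (pderiv i g)) * (x i - algebraMap k K (a i)) =
        π * (algebraMap k K (∑ j, eval a (pderiv j.succ g) * mu j) +
          ∑ j : Fin n, algebraMap k K (eval a (pderiv j.succ g)) * ε j) := by
      rw [Fin.sum_univ_succ, ← hyi 0, hy0, mul_zero, zero_add, map_sum, ← Finset.sum_add_distrib,
        Finset.mul_sum]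
      apply Finset.sum_congr rfl
      intro j _
      rw [← hyi, hyj j, map_mul]
      ring
    rw [hsum, map_mul] at h1
    have h2 : P.1 (algebraMap k K (∑ j, eval a (pderiv j.succ g) * mu j) +
        ∑ j : Fin n, algebraMap k K (eval a (pderiv j.succ g)) * ε j) ≤ P.1 π := by
      by_contra hcon
      rw [not_le] at hcon
      have := mul_lt_mul_of_pos_left hcon (zero_lt_iff.mpr hPπ0)
      exact absurd h1 (not_le.mpr this)
    have h3 : P.1 (∑ j : Fin n, algebraMap k K (eval a (pderiv j.succ g)) * ε j) < 1 := by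
      apply Valuation.map_sum_lt _ one_ne_zero
      intro j _
      rw [map_mul]
      exact lt_of_le_of_lt (mul_le_of_le_one_left' (val_algebraMap_le P _)) (hε j)
    by_contra hne
    have h4 : P.1 (algebraMap k K (∑ j, eval a (pderiv j.succ g) * mu j)) < 1 := by
      have e : algebraMap k K (∑ j, eval a (pderiv j.succ g) * mu j) =
          (algebraMap k K (∑ j, eval a (pderiv j.succ g) * mu j) +
            ∑ j : Fin n, algebraMap k K (eval a (pderiv j.succ g)) * ε j) -
          ∑ j : Fin n, algebraMap k K (eval a (pderiv j.succ g)) * ε j := by ring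
      rw [e]
      exact lt_of_le_of_lt (Valuation.map_sub _ _ _) (max_lt (lt_of_le_of_lt h2 hπ1) h3)
    rw [val_algebraMap P hne] at h4
    exact lt_irrefl _ h4
  -- the kernel of the Jacobian
  obtain ⟨μ, hμdef⟩ : ∃ μ : Fin n → κ, μ = fun j => algebraMap k κ (mu j) := ⟨_, rfl⟩
  have hμi : ∀ j, μ j = algebraMap k κ (mu j) := fun j => by rw [hμdef]
  have hμ0 : μ ≠ 0 := by
    intro h0
    have := congrFun h0 j₁
    rw [hμi, hmu1, map_one] at this
    exact one_ne_zero this
  have hμker : ∀ l, ∑ i, Jb l i * μ i = 0 := by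
    intro l
    have h1 := congrArg (algebraMap k κ) (hTan (f l) (hfx l))
    rw [map_sum, map_zero] at h1
    rw [← h1]
    apply Finset.sum_congr rfl
    intro i _
    rw [hJ, hμi, map_mul]
  -- generators of the ideal modulo its square
  have hgen : ∀ i, ∃ c : k, tR x a i - algebraMap k _ c * tR x a j₁.succ ∈
      Ideal.span (Set.range (tR x a)) * Ideal.span (Set.range (tR x a)) := by
    intro i
    refine Fin.cases ?_ (fun j => ?_) i
    · refine ⟨0, ?_⟩
      have h0 : tR x a 0 = 0 := by
        apply Subtype.ext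
        rw [coe_tR, ← hyi, hy0]
        rfl
      rw [h0, map_zero, zero_mul, sub_zero]
      exact Ideal.zero_mem _
    · refine ⟨mu j, ?_⟩
      obtain ⟨c, hcdef⟩ : ∃ c : Fin n → κ, c = fun i =>
          (if i = j then 1 else 0) - μ j * (if i = j₁ then 1 else 0) := ⟨_, rfl⟩
      have hc : ∑ i, μ i * c i = 0 := by
        rw [hcdef]
        simp only [mul_sub, Finset.sum_sub_distrib]
        rw [Finset.sum_eq_single j, Finset.sum_eq_single j₁]
        · rw [if_pos rfl, if_pos rfl, hμi j₁, hmu1, map_one]; ring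
        · intro i _ hi
          rw [if_neg hi, mul_zero, mul_zero]
        · intro h; exact absurd (Finset.mem_univ j₁) h
        · intro i _ hi
          rw [if_neg hi, mul_zero]
        · intro h; exact absurd (Finset.mem_univ j) h
      obtain ⟨q, hq⟩ := exists_row_comb Jb μ hμ0 hμker hrank c hc
      choose qt hqt using fun l => hsurj (q l)
      obtain ⟨p, hpdef⟩ : ∃ p : MvPolynomial (Fin (n + 1)) k, p = ∑ l, C (qt l) * f l := ⟨_, rfl⟩
      have hpx : aeval x p = 0 := by
        rw [hpdef, map_sum]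
        apply Finset.sum_eq_zero
        intro l _
        rw [map_mul, hfx l, mul_zero]
      have hpa : eval a p = 0 :=
        eval_eq_zero_of_val_lt_one P x a hxa (by rw [hpx, map_zero]; exact zero_lt_one)
      have hd : ∀ i : Fin n, eval a (pderiv i.succ p) =
          (if i = j then 1 else 0) - mu j * (if i = j₁ then 1 else 0) := by
        intro i
        apply (algebraMap k κ).injective
        have h1 : algebraMap k κ (eval a (pderiv i.succ p)) = c i := by
          rw [← hq i, hpdef, map_sum, map_sum, map_sum]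
          apply Finset.sum_congr rfl
          intro l _
          rw [pderiv_C_mul, map_mul, eval_C, map_mul, hqt l, hJ l i]
          ring
        rw [h1, hcdef]
        simp only [map_sub, map_mul, hμi]
        split_ifs <;> simp
      obtain ⟨E, hE, hEK⟩ := coe_taylor x a p
      have hEeq : (E : K) = -((tR x a j.succ - algebraMap k _ (mu j) * tR x a j₁.succ :
          Algebra.adjoin k (Set.range x)) : K) := by
        rw [hEK, hpx, hpa, map_zero, sub_zero, zero_sub, Fin.sum_univ_succ, ← hyi 0, hy0, mul_zero,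
          zero_add]
        congr 1
        simp only [hd]
        have e1 : ∀ i : Fin n, algebraMap k K ((if i = j then 1 else 0) -
            mu j * (if i = j₁ then 1 else 0)) * (x i.succ - algebraMap k K (a i.succ)) =
            (if i = j then (x i.succ - algebraMap k K (a i.succ)) else 0) -
            algebraMap k K (mu j) * (if i = j₁ then (x i.succ - algebraMap k K (a i.succ)) else 0) := by
          intro i
          split_ifs <;> (try simp) <;> (try ring)
        rw [Finset.sum_congr rfl (fun i _ => e1 i), Finset.sum_sub_distrib, ← Finset.mul_sum,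
          Finset.sum_ite_eq' Finset.univ j, Finset.sum_ite_eq' Finset.univ j₁,
          if_pos (Finset.mem_univ _), if_pos (Finset.mem_univ _)]
        rfl
      have hEeq' : E = -(tR x a j.succ - algebraMap k _ (mu j) * tR x a j₁.succ) := by
        apply Subtype.ext
        rw [hEeq]
        rfl
      rw [hEeq'] at hE
      exact (Ideal.neg_mem_iff _).mp hE
  obtain ⟨δ, hδ1, hδdiv⟩ := exists_delta x a j₁.succ hgen
  have hδval : P.1 (δ : K) = 1 := by
    have h1 : P.1 ((δ - 1 : Algebra.adjoin k (Set.range x)) : K) ≤ P.1 π :=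
      val_le_of_mem_ideal P x a hx hM hδ1
    have h2 : (δ : K) = 1 + ((δ - 1 : Algebra.adjoin k (Set.range x)) : K) := by
      show (δ : K) = 1 + ((δ : K) - 1)
      ring
    rw [h2, Valuation.map_add_eq_of_lt_left, map_one]
    rw [map_one]
    exact lt_of_le_of_lt h1 hπ1
  have hπR : ((tR x a j₁.succ : Algebra.adjoin k (Set.range x)) : K) = π := by
    rw [coe_tR, hπdef, hyi]
  have hrepr := exists_pow_repr P x a hxa (tR x a j₁.succ) δ (by rw [hπR]; exact hπ1)
    (by rw [hπR]; exact hπ0) hδval hδdiv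
  have hordπ : 0 < P.ord π := (val_lt_one_iff P hπ0).mp hπ1
  have hδ0 : (δ : K) ≠ 0 := by
    intro h0
    rw [h0, map_zero] at hδval
    exact zero_ne_one hδval
  have hordδ : P.ord (δ : K) = 0 := by
    have h1 := val_eq_exp_neg_ord P hδ0
    rw [hδval, ← exp_zero, exp_inj] at h1
    omega
  -- every element of the valuation ring is in the local ring
  intro z hz
  by_cases hz0 : z = 0
  · exact ⟨0, Subalgebra.zero_mem _, 1, Subalgebra.one_mem _, map_one _, by rw [hz0, zero_mul]⟩
  obtain ⟨u, hu, w, hw, hw0, hzw⟩ := hfrac z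
  have hu0 : u ≠ 0 := by rw [← hzw]; exact mul_ne_zero hz0 hw0
  have hordu : 0 ≤ P.ord u :=
    (val_le_one_iff P hu0).mp (val_coe_le_one P x hx ⟨u, hu⟩)
  have hordw : 0 ≤ P.ord w :=
    (val_le_one_iff P hw0).mp (val_coe_le_one P x hx ⟨w, hw⟩)
  obtain ⟨mu', u', hu'1, hu'⟩ := hrepr (P.ord u).toNat ⟨u, hu⟩ hu0 (Int.self_le_toNat _)
  obtain ⟨mw, w', hw'1, hw'⟩ := hrepr (P.ord w).toNat ⟨w, hw⟩ hw0 (Int.self_le_toNat _)
  have r1 : (δ : K) ^ mu' * u = π ^ mu' * (u' : K) := by
    have := congrArg (fun r : Algebra.adjoin k (Set.range x) => (r : K)) hu'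
    simp only [Subalgebra.coe_mul, Subalgebra.coe_pow, hπR] at this
    exact this
  have r2 : (δ : K) ^ mw * w = π ^ mw * (w' : K) := by
    have := congrArg (fun r : Algebra.adjoin k (Set.range x) => (r : K)) hw'
    simp only [Subalgebra.coe_mul, Subalgebra.coe_pow, hπR] at this
    exact this
  have hu'0 : (u' : K) ≠ 0 := by
    intro h0; rw [h0, map_zero] at hu'1; exact zero_ne_one hu'1
  have hw'0 : (w' : K) ≠ 0 := by
    intro h0; rw [h0, map_zero] at hw'1; exact zero_ne_one hw'1
  have hord1 : ∀ v : K, v ≠ 0 → P.1 v = 1 → P.ord v = 0 := by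
    intro v hv0 hv1
    have h1 := val_eq_exp_neg_ord P hv0
    rw [hv1, ← exp_zero, exp_inj] at h1
    omega
  have ho1 : P.ord u = mu' * P.ord π := by
    have := congrArg P.ord r1
    rw [ord_mul P (pow_ne_zero _ hδ0) hu0, ord_mul P (pow_ne_zero _ hπ0) hu'0, ord_pow, ord_pow,
      hordδ, hord1 _ hu'0 hu'1] at this
    linarith
  have ho2 : P.ord w = mw * P.ord π := by
    have := congrArg P.ord r2
    rw [ord_mul P (pow_ne_zero _ hδ0) hw0, ord_mul P (pow_ne_zero _ hπ0) hw'0, ord_pow, ord_pow,
      hordδ, hord1 _ hw'0 hw'1] at this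
    linarith
  have hordz : 0 ≤ P.ord z := (val_le_one_iff P hz0).mp hz
  have hle : mw ≤ mu' := by
    have h1 : P.ord u = P.ord z + P.ord w := by rw [← hzw, ord_mul P hz0 hw0]
    have h2 : (mw : ℤ) * P.ord π ≤ mu' * P.ord π := by rw [← ho1, ← ho2]; linarith
    have h3 := le_of_mul_le_mul_right h2 hordπ
    exact_mod_cast h3
  obtain ⟨e, he⟩ := Nat.exists_eq_add_of_le hle
  subst he
  refine ⟨π ^ e * (u' : K) * (δ : K) ^ mw, ?_, (w' : K) * (δ : K) ^ (mw + e), ?_, ?_, ?_⟩
  · refine Subalgebra.mul_mem _ (Subalgebra.mul_mem _ (Subalgebra.pow_mem _ ?_ _) u'.2)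
      (Subalgebra.pow_mem _ δ.2 _)
    rw [← hπR]
    exact (tR x a j₁.succ).2
  · exact Subalgebra.mul_mem _ w'.2 (Subalgebra.pow_mem _ δ.2 _)
  · rw [map_mul, map_pow, hw'1, hδval, one_pow, one_mul]
  · have hπmw : π ^ mw ≠ 0 := pow_ne_zero _ hπ0
    apply mul_left_cancel₀ hπmw
    linear_combination (-z * (δ : K) ^ (mw + e)) * r2 + (δ : K) ^ mw * r1 +
      (δ : K) ^ (mw + e) * (δ : K) ^ mw * hzw

end backward

end Groth.Agent.Lib.helper16.FJG
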