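import Groth.Agent.Lib.helper16.FJacGen3

/-! Helper library (helper16): the Jacobian criterion in arbitrary dimension (S11071), part 4:
assembly. -/

set_option autoImplicit false
set_option linter.style.haveILetI false

namespace Groth.Agent.Lib.helper16.FJG

open FunFld WithZero MvPolynomial
open Groth.Agent.Lib.helper16 Groth.Agent.Lib.helper16.FF

section main

variable {k K : Type*} [Field k] [IsAlgClosed k] [Field K] [Algebra k K]

/-- **S11071** -/
theorem main (hK : IsFunctionField k K) {n : ℕ} (hn : 1 ≤ n)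
    (φ : Fin (n + 1) → K) (hφ : LinearIndependent k φ)
    (hbir : IntermediateField.adjoin k (Set.range fun i => φ i / φ 0) = ⊤)
    (P : Place k K) (hP : ∀ i, P.1 (φ i) ≤ P.1 (φ 0)) {r : ℕ}
    (f : Fin r → MvPolynomial (Fin (n + 1)) k)
    (hhom : ∀ i, (f i).IsHomogeneous (f i).totalDegree)
    (hgen : Ideal.span (Set.range f) =
      RingHom.ker (MvPolynomial.aeval fun i => Polynomial.C (φ i) * Polynomial.X))
    (M : Matrix (Fin r) (Fin n) P.O)
    (hM : ∀ i j, ((M i j : P.O) : K) =
      MvPolynomial.aeval (fun l => φ l / φ 0) (MvPolynomial.pderiv j.succ (f i))) :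
    IsNonsingularAt φ P ↔ (M.map (IsLocalRing.residue P.O)).rank = n - 1 := by
  classical
  have hφ0 : φ 0 ≠ 0 := hφ.ne_zero 0
  have hPφ0 : P.1 (φ 0) ≠ 0 := val_ne_zero P hφ0
  have hx0 : (fun i => φ i / φ 0) 0 = 1 := div_self hφ0
  have hφx : ∀ i, φ i = φ 0 * (fun i => φ i / φ 0) i := fun i => (mul_div_cancel₀ _ hφ0).symm
  have hxle : ∀ i, P.1 ((fun i => φ i / φ 0) i) ≤ 1 := by
    intro i
    show P.1 (φ i / φ 0) ≤ 1
    rw [map_div₀]
    exact div_le_one_of_le₀ (hP i) zero_le
  have hconst : ∀ z : K, P.1 z ≤ 1 → ∃ c : k, P.1 (z - algebraMap k K c) < 1 :=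
    fun z hz => exists_sub_val_lt_one hK P hz
  choose a ha using fun i => hconst _ (hxle i)
  have ha0 : a 0 = 1 := by
    have h1 := ha 0
    rw [hx0] at h1
    by_contra hne
    have h2 : (1 : K) - algebraMap k K (a 0) = algebraMap k K (1 - a 0) := by
      rw [map_sub, map_one]
    rw [h2, val_algebraMap P (sub_ne_zero.mpr (Ne.symm hne))] at h1
    exact lt_irrefl _ h1
  -- the residue field
  have hfd := finiteDimensional_residueField hK P
  have hint : Algebra.IsIntegral k (IsLocalRing.ResidueField P.O) :=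
    @Algebra.IsIntegral.of_finite k _ _ _ _ hfd
  have hbij : Function.Bijective (algebraMap k (IsLocalRing.ResidueField P.O)) :=
    IsAlgClosed.algebraMap_bijective_of_isIntegral
  have hJ : ∀ l j, (M.map (IsLocalRing.residue P.O)) l j =
      algebraMap k (IsLocalRing.ResidueField P.O) (eval a (pderiv j.succ (f l))) := by
    intro l j
    rw [Matrix.map_apply]
    exact residue_eq_of_coe_eq P _ a ha _ (M l j) (hM l j)
  -- the generators vanish at the generic point
  have hfφ : ∀ l, aeval φ (f l) = 0 := by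
    intro l
    have h1 : f l ∈ Ideal.span (Set.range f) := Ideal.subset_span ⟨l, rfl⟩
    rw [hgen, RingHom.mem_ker, Psi_eq_zero_iff φ (hhom l)] at h1
    exact h1
  have hfx : ∀ l, aeval (fun i => φ i / φ 0) (f l) = 0 := by
    intro l
    have h1 := hfφ l
    have h2 : φ = fun i => φ 0 * (fun i => φ i / φ 0) i := funext hφx
    rw [h2, FT.aeval_mul_of_isHomogeneous (hhom l)] at h1
    exact (mul_eq_zero.mp h1).resolve_left (pow_ne_zero _ hφ0)
  have hfa : ∀ l, eval a (f l) = 0 := by
    intro l
    apply eval_eq_zero_of_val_lt_one P _ a ha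
    rw [hfx l, map_zero]
    exact zero_lt_one
  have hstar : ∀ p : MvPolynomial (Fin (n + 1)) k, aeval (fun i => φ i / φ 0) p = 0 →
      ∃ q : Fin r → MvPolynomial (Fin (n + 1)) k, ∀ j : Fin n,
        eval a (pderiv j.succ p) = ∑ l, eval a (q l) * eval a (pderiv j.succ (f l)) :=
    fun p hp => exists_grad_comb φ _ hx0 hφx a ha0 f hgen hfa hp
  have hNSiff : IsNonsingularAt φ P ↔ ∀ z : K, P.1 z ≤ 1 →
      InLoc (Algebra.adjoin k (Set.range fun i => φ i / φ 0)) P z := by
    constructor
    · intro h z hz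
      exact inLoc_of_inLocRing φ P 0 hφ0 hP (h z hz)
    · intro h z hz
      obtain ⟨u, hu, w, hw, hw1, hzw⟩ := h z hz
      exact ⟨0, hφ0, hP, u, hu, w, hw, hw1, hzw⟩
  have hrk : (M.map (IsLocalRing.residue P.O)).rank = n - 1 ↔
      Module.finrank (IsLocalRing.ResidueField P.O)
        (LinearMap.ker (M.map (IsLocalRing.residue P.O)).mulVecLin) = 1 := by
    have h2 := LinearMap.finrank_range_add_finrank_ker (M.map (IsLocalRing.residue P.O)).mulVecLin
    rw [Module.finrank_fin_fun] at h2
    have h3 : (M.map (IsLocalRing.residue P.O)).rank =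
        Module.finrank (IsLocalRing.ResidueField P.O)
          (LinearMap.range (M.map (IsLocalRing.residue P.O)).mulVecLin) := rfl
    rw [h3]
    omega
  rw [hrk, hNSiff]
  constructor
  · intro hNS
    exact finrank_ker_of_nonsingular P _ a ha hx0 ha0 hconst f hfx hstar _ hJ hNS
  · intro hr
    have hfrac : ∀ z : K, ∃ u ∈ Algebra.adjoin k (Set.range fun i => φ i / φ 0),
        ∃ w ∈ Algebra.adjoin k (Set.range fun i => φ i / φ 0), w ≠ 0 ∧ z * w = u := by
      intro z
      have hz : z ∈ IntermediateField.adjoin k (Set.range fun i => φ i / φ 0) := by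
        rw [hbir]; exact IntermediateField.mem_top
      obtain ⟨u, hu, w, hw, hzw⟩ := IntermediateField.mem_adjoin_iff_div.mp hz
      by_cases hw0 : w = 0
      · refine ⟨0, Subalgebra.zero_mem _, 1, Subalgebra.one_mem _, one_ne_zero, ?_⟩
        rw [hzw, hw0, div_zero, zero_mul]
      · refine ⟨u, hu, w, hw, hw0, ?_⟩
        rw [hzw, div_mul_cancel₀ _ hw0]
    have hnc : ∃ j : Fin n, (fun i => φ i / φ 0) j.succ - algebraMap k K (a j.succ) ≠ 0 := by
      by_contra hcon
      push Not at hcon
      have hall : ∀ i, (fun i => φ i / φ 0) i ∈ Set.range (algebraMap k K) := by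
        intro i
        refine Fin.cases ?_ (fun j => ?_) i
        · exact ⟨1, by rw [map_one, hx0]⟩
        · exact ⟨a j.succ, (sub_eq_zero.mp (hcon j)).symm⟩
      have hle : IntermediateField.adjoin k (Set.range fun i => φ i / φ 0) ≤ ⊥ := by
        rw [IntermediateField.adjoin_le_iff]
        rintro _ ⟨i, rfl⟩
        rw [SetLike.mem_coe, IntermediateField.mem_bot]
        exact hall i
      rw [hbir] at hle
      obtain ⟨⟨x₀, hx₀, -⟩, -⟩ := hK
      have : x₀ ∈ (⊥ : IntermediateField k K) := hle IntermediateField.mem_top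
      rw [IntermediateField.mem_bot] at this
      obtain ⟨c, rfl⟩ := this
      exact hx₀ (isAlgebraic_algebraMap c)
    exact nonsingular_of_finrank_ker P _ a ha hx0 ha0 hconst hfrac hnc f hfx hbij.2 _ hJ hr

end main

end Groth.Agent.Lib.helper16.FJG
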