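import Groth.Agent.Lib.helper16.FNonsing3
import Groth.Agent.Lib.helper16.FDual2

/-! Helper library (helper16): nonsingularity with respect to towers of constant field
extensions (S12534), part 1: algebra over subrings. -/

set_option autoImplicit false

namespace Groth.Agent.Lib.helper16.FNT

open FunFld WithZero Polynomial Module TensorProduct
open Groth.Agent.Lib.helper16 Groth.Agent.Lib.helper16.FF Groth.Agent.Lib.helper16.FX
  Groth.Agent.Lib.helper16.FCE

section subring

variable {L L' : Type*} [CommRing L] [CommRing L']

/-- integrality over a subring, elementwise -/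
theorem isIntegral_subring_iff {S : Subring L} {z : L} :
    IsIntegral S z ↔ ∃ p : S[X], p.Monic ∧ eval₂ S.subtype z p = 0 := Iff.rfl

theorem isIntegral_mono {S T : Subring L} (hST : S ≤ T) {z : L} (hz : IsIntegral S z) :
    IsIntegral T z := by
  obtain ⟨p, hp, hpz⟩ := hz
  refine ⟨p.map (Subring.inclusion hST), hp.map _, ?_⟩
  rw [eval₂_map]
  exact hpz

theorem isIntegral_map_subring (f : L →+* L') {S : Subring L} {T : Subring L'}
    (hST : ∀ s ∈ S, f s ∈ T) {z : L} (hz : IsIntegral S z) : IsIntegral T (f z) := by
  obtain ⟨p, hp, hpz⟩ := hz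
  let g : S →+* T := (f.comp S.subtype).codRestrict T (fun s => hST s.1 s.2)
  refine ⟨p.map g, hp.map _, ?_⟩
  rw [eval₂_map]
  have : (algebraMap T L').comp g = f.comp S.subtype := rfl
  rw [this, ← hom_eval₂]
  have h0 : eval₂ S.subtype z p = 0 := hpz
  rw [h0, map_zero]

theorem isIntegral_of_field {k₀ : Type*} [Field k₀] [Algebra k₀ L] {S : Subring L}
    (hS : ∀ c : k₀, algebraMap k₀ L c ∈ S) {z : L} (hz : IsIntegral k₀ z) : IsIntegral S z := by
  obtain ⟨p, hp, hpz⟩ := hz
  let g : k₀ →+* S := (algebraMap k₀ L).codRestrict S hS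
  refine ⟨p.map g, hp.map _, ?_⟩
  rw [eval₂_map]
  exact hpz

end subring

section adjoin

universe u v

variable {k k' : Type u} {K K' : Type v} [Field k] [Field k'] [Field K] [Field K']
    [Algebra k k'] [Algebra k K] [Algebra K K'] [Algebra k' K'] [Algebra k K']
    [IsScalarTower k k' K'] [IsScalarTower k K K']

/-- the ring generated by the constants over (the image of) a subring `T ⊇ k` of `K` consists of
the elements with coordinates in `T` -/
theorem mem_adjoin_iff
    (h : Function.Bijective (Algebra.TensorProduct.productMap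
      (IsScalarTower.toAlgHom k k' K') (IsScalarTower.toAlgHom k K K')))
    {ι : Type*} [Fintype ι] (b : Basis ι k k') (T : Subring K)
    (hT : ∀ c : k, algebraMap k K c ∈ T) (z : K') :
    z ∈ Algebra.adjoin (T.map (algebraMap K K')) (Set.range (algebraMap k' K')) ↔
      ∀ i, (constBasis h b).repr z i ∈ T := by
  classical
  constructor
  · intro hz
    induction hz using Algebra.adjoin_induction with
    | mem z hz =>
      obtain ⟨x, rfl⟩ := hz
      intro i
      rw [constBasis_repr]
      exact hT _
    | algebraMap s =>
      intro i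
      obtain ⟨t, ht, hts⟩ := Subring.mem_map.mp s.2
      have e1 : algebraMap (T.map (algebraMap K K')) K' s = t • (1 : K') := by
        rw [← Algebra.algebraMap_eq_smul_one, hts]
        rfl
      have e2 : (1 : K') = algebraMap k' K' 1 := (map_one _).symm
      rw [e1, map_smul, Finsupp.smul_apply, smul_eq_mul, e2, constBasis_repr]
      exact T.mul_mem ht (hT _)
    | add z w _ _ hz hw =>
      intro i
      rw [map_add, Finsupp.add_apply]
      exact T.add_mem (hz i) (hw i)
    | mul z w _ _ hz hw =>
      intro i
      have e1 : z * w = ∑ j, ∑ l, ((constBasis h b).repr z j * (constBasis h b).repr w l) •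
          algebraMap k' K' (b j * b l) := by
        conv_lhs => rw [← (constBasis h b).sum_repr z, ← (constBasis h b).sum_repr w]
        rw [Finset.sum_mul_sum]
        apply Finset.sum_congr rfl
        intro j _
        apply Finset.sum_congr rfl
        intro l _
        rw [smul_mul_smul_comm, constBasis_apply, constBasis_apply, ← map_mul]
      rw [e1, map_sum, Finsupp.finsetSum_apply]
      refine T.sum_mem fun j _ => ?_
      rw [map_sum, Finsupp.finsetSum_apply]
      refine T.sum_mem fun l _ => ?_
      rw [map_smul, Finsupp.smul_apply, smul_eq_mul, constBasis_repr]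
      exact T.mul_mem (T.mul_mem (hz j) (hw l)) (hT _)
  · intro hz
    rw [← (constBasis h b).sum_repr z]
    refine Subalgebra.sum_mem _ fun i _ => ?_
    rw [Algebra.smul_def, constBasis_apply]
    refine Subalgebra.mul_mem _ ?_ (Algebra.subset_adjoin ⟨b i, rfl⟩)
    have hmem : algebraMap K K' ((constBasis h b).repr z i) ∈ T.map (algebraMap K K') :=
      Subring.mem_map.mpr ⟨_, hz i, rfl⟩
    exact Subalgebra.algebraMap_mem _ (⟨_, hmem⟩ : T.map (algebraMap K K'))

end adjoin

section general

variable {L : Type*} [CommRing L]

theorem ns_iff (S : Subring L) (X : Set L) :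
    integralClosure S L = Algebra.adjoin S X ↔
      ∀ z : L, IsIntegral S z ↔ z ∈ Algebra.adjoin S X := by
  rw [SetLike.ext_iff]
  exact forall_congr' fun z => by rw [mem_integralClosure_iff]

/-- constants integral over the base field generate integral elements -/
theorem isIntegral_of_mem_adjoin {k₀ k₁ : Type*} [Field k₀] [Field k₁] [Algebra k₀ k₁]
    [Algebra k₀ L] [Algebra k₁ L] [IsScalarTower k₀ k₁ L] [Algebra.IsIntegral k₀ k₁]
    {S : Subring L} (hS : ∀ c : k₀, algebraMap k₀ L c ∈ S) {z : L}
    (hz : z ∈ Algebra.adjoin S (Set.range (algebraMap k₁ L))) : IsIntegral S z := by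
  induction hz using Algebra.adjoin_induction with
  | mem z hz =>
    obtain ⟨x, rfl⟩ := hz
    apply isIntegral_of_field hS
    exact (Algebra.IsIntegral.isIntegral (R := k₀) x).map (IsScalarTower.toAlgHom k₀ k₁ L)
  | algebraMap s => exact isIntegral_algebraMap
  | add z w _ _ hz hw => exact hz.add hw
  | mul z w _ _ hz hw => exact hz.mul hw

end general

section place

variable {k K K' : Type*} [Field k] [Field K] [Field K'] [Algebra k K] [Algebra K K']
  [Algebra k K'] [IsScalarTower k K K'] [FiniteDimensional K K']

/-- integrality over the image of `O_P` is membership in the semilocal ring -/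
theorem isIntegral_iff_mem_semiLocal (hK : IsFunctionField k K) (P : Place k K) (z : K') :
    IsIntegral (P.O.toSubring.map (algebraMap K K')) z ↔ z ∈ semiLocal K' P := by
  constructor
  · rintro ⟨p, hp, hpz⟩ Q hQ
    refine val_le_one_of_eval₂_eq_zero Q.1 (P.O.toSubring.map (algebraMap K K')).subtype
      (fun s => ?_) p hp hpz
    obtain ⟨t, ht, hts⟩ := Subring.mem_map.mp s.2
    show Q.1 (s : K') ≤ 1
    rw [← hts]
    exact algebraMap_mem_semiLocal ht Q hQ
  · intro hz
    letI : Algebra P.O K' := ((algebraMap K K').comp (algebraMap P.O K)).toAlgebra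
    haveI : IsScalarTower P.O K K' := IsScalarTower.of_algebraMap_eq (fun _ => rfl)
    obtain ⟨p, hp, hpz⟩ := isIntegral_of_mem_semiLocal hK P hz
    let g : P.O →+* (P.O.toSubring.map (algebraMap K K')) :=
      ((algebraMap K K').comp (algebraMap P.O K)).codRestrict _
        (fun r => Subring.mem_map.mpr ⟨r.1, r.2, rfl⟩)
    refine ⟨p.map g, hp.map _, ?_⟩
    rw [eval₂_map]
    exact hpz

end place

end Groth.Agent.Lib.helper16.FNT
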