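import Groth.Agent.Lib.helper16.FNonsTower1

/-! Helper library (helper16): nonsingularity with respect to towers of constant field
extensions (S12534), part 2. -/

set_option autoImplicit false

namespace Groth.Agent.Lib.helper16.FNT

open FunFld WithZero Polynomial Module TensorProduct
open Groth.Agent.Lib.helper16 Groth.Agent.Lib.helper16.FF Groth.Agent.Lib.helper16.FX
  Groth.Agent.Lib.helper16.FCE

universe u v

variable {k k' k'' : Type u} {K K' K'' : Type v} [Field k] [Field k'] [Field k''] [Field K]
    [Field K'] [Field K'']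
    [Algebra k k'] [Algebra k' k''] [Algebra k k''] [IsScalarTower k k' k'']
    [Algebra k K] [Algebra K K'] [Algebra k' K'] [Algebra k K'] [IsScalarTower k k' K']
    [IsScalarTower k K K']
    [Algebra K' K''] [Algebra k'' K''] [Algebra k' K''] [Algebra k K''] [Algebra K K'']
    [IsScalarTower k' k'' K''] [IsScalarTower k' K' K''] [IsScalarTower K K' K'']
    [IsScalarTower k K K'']

/-- the image of `O_P[k']` lies in `O_P[k'']` -/
theorem map_mem_adjoin (P : Place k K) {w : K'}
    (hw : w ∈ Algebra.adjoin (P.O.toSubring.map (algebraMap K K'))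
      (Set.range (algebraMap k' K'))) :
    algebraMap K' K'' w ∈ Algebra.adjoin (P.O.toSubring.map (algebraMap K K''))
      (Set.range (algebraMap k'' K'')) := by
  induction hw using Algebra.adjoin_induction with
  | mem w hw =>
    obtain ⟨x, rfl⟩ := hw
    refine Algebra.subset_adjoin ⟨algebraMap k' k'' x, ?_⟩
    rw [← IsScalarTower.algebraMap_apply k' k'' K'', ← IsScalarTower.algebraMap_apply k' K' K'']
  | algebraMap s =>
    obtain ⟨t, ht, hts⟩ := Subring.mem_map.mp s.2
    have hmem : algebraMap K K'' t ∈ P.O.toSubring.map (algebraMap K K'') :=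
      Subring.mem_map.mpr ⟨t, ht, rfl⟩
    have e1 : algebraMap K' K'' (algebraMap (P.O.toSubring.map (algebraMap K K')) K' s) =
        algebraMap (P.O.toSubring.map (algebraMap K K'')) K'' ⟨_, hmem⟩ := by
      show algebraMap K' K'' (s : K') = algebraMap K K'' t
      rw [← hts, ← IsScalarTower.algebraMap_apply K K' K'']
    rw [e1]
    exact Subalgebra.algebraMap_mem _ _
  | add z w _ _ hz hw => rw [map_add]; exact Subalgebra.add_mem _ hz hw
  | mul z w _ _ hz hw => rw [map_mul]; exact Subalgebra.mul_mem _ hz hw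

/-- coordinates of elements of `O_P[k'']` with respect to a basis of `k''/k'` lie in `O_P[k']` -/
theorem repr_mem_adjoin
    (h2 : Function.Bijective (Algebra.TensorProduct.productMap
      (IsScalarTower.toAlgHom k' k'' K'') (IsScalarTower.toAlgHom k' K' K'')))
    {ι : Type*} [Fintype ι] (c : Basis ι k' k'') (P : Place k K) {z : K''}
    (hz : z ∈ Algebra.adjoin (P.O.toSubring.map (algebraMap K K''))
      (Set.range (algebraMap k'' K''))) (j : ι) :
    (constBasis h2 c).repr z j ∈ Algebra.adjoin (P.O.toSubring.map (algebraMap K K'))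
      (Set.range (algebraMap k' K')) := by
  set A1 := Algebra.adjoin (P.O.toSubring.map (algebraMap K K')) (Set.range (algebraMap k' K'))
    with hA1
  have hT : ∀ x : k', algebraMap k' K' x ∈ A1.toSubring := fun x =>
    Algebra.subset_adjoin ⟨x, rfl⟩
  suffices hsuff : z ∈ Algebra.adjoin (A1.toSubring.map (algebraMap K' K''))
      (Set.range (algebraMap k'' K'')) from
    (mem_adjoin_iff h2 c A1.toSubring hT z).mp hsuff j
  induction hz using Algebra.adjoin_induction with
  | mem z hz => exact Algebra.subset_adjoin hz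
  | algebraMap s =>
    obtain ⟨t, ht, hts⟩ := Subring.mem_map.mp s.2
    have hmem1 : algebraMap K K' t ∈ P.O.toSubring.map (algebraMap K K') :=
      Subring.mem_map.mpr ⟨t, ht, rfl⟩
    have hmemA : algebraMap K K' t ∈ A1.toSubring :=
      Subalgebra.algebraMap_mem A1 (⟨_, hmem1⟩ : P.O.toSubring.map (algebraMap K K'))
    have hmem2 : algebraMap K K'' t ∈ A1.toSubring.map (algebraMap K' K'') :=
      Subring.mem_map.mpr ⟨_, hmemA, (IsScalarTower.algebraMap_apply K K' K'' t).symm⟩
    have e1 : algebraMap (P.O.toSubring.map (algebraMap K K'')) K'' s =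
        algebraMap (A1.toSubring.map (algebraMap K' K'')) K'' ⟨_, hmem2⟩ := by
      show (s : K'') = algebraMap K K'' t
      rw [hts]
    rw [e1]
    exact Subalgebra.algebraMap_mem _ _
  | add z w _ _ hz hw => exact Subalgebra.add_mem _ hz hw
  | mul z w _ _ hz hw => exact Subalgebra.mul_mem _ hz hw

section multiplier

variable {k₀ L L' L'' : Type*} [Field k₀] [Field L] [Field L'] [Field L''] [Algebra k₀ L]
  [Algebra L L'] [Algebra L' L''] [Algebra k₀ L'] [Algebra k₀ L''] [Algebra L L'']
  [IsScalarTower k₀ L L'] [IsScalarTower k₀ L L''] [IsScalarTower L L' L'']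
  [IsScalarTower k₀ L' L''] [FiniteDimensional L L'] [FiniteDimensional L' L'']
  [FiniteDimensional L L'']

/-- the place of the middle field below a place over `P` lies over `P` -/
theorem isOver_middle (hL : IsFF1 k₀ L) {P : Place k₀ L} {Q'' : Place k₀ L''}
    (hQ'' : IsOver Q'' P) {Q' : Place k₀ L'} {e'' : ℕ} (he'' : IsOverWith Q'' Q' e'') :
    IsOver Q' P := by
  obtain ⟨P', e', he'⟩ := exists_isOverWith hL Q'
  have htr := isOverWith_trans he'' he'
  obtain ⟨e, he⟩ := hQ''
  have hPP := (isOverWith_unique htr he).1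
  rw [hPP] at he'
  exact ⟨e', he'⟩

/-- a unit at `Q` in the middle field multiplying `z` into the semilocal ring of the top field -/
theorem exists_multiplier (hL : IsFunctionField k₀ L) (P : Place k₀ L) {Q : Place k₀ L'}
    (hQ : IsOver Q P) {z : L''} (hz : ∀ Q'' : Place k₀ L'', IsOver Q'' Q → Q''.1 z ≤ 1) :
    ∃ r : L', Q.1 r = 1 ∧ algebraMap L' L'' r * z ∈ semiLocal L'' P := by
  classical
  have hL1 : IsFF1 k₀ L := hL.1
  have hL'1 : IsFF1 k₀ L' := isFF1_of_finite L' hL1
  have hfin' := finite_isOver (K' := L') hL1 P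
  have hfin'' := finite_isOver (K' := L'') hL1 P
  let ι'' := ↥hfin''.toFinset
  let C : ℕ := ∑ i : ι'', (log (i.1.1 z)).toNat
  have hC : ∀ Q'' : Place k₀ L'', IsOver Q'' P → Q''.1 z ≤ exp (C : ℤ) := by
    intro Q'' hQ''
    let i : ι'' := ⟨Q'', hfin''.mem_toFinset.mpr hQ''⟩
    by_cases h0 : Q''.1 z = 0
    · rw [h0]; exact zero_le
    · rw [← exp_log h0, exp_le_exp]
      have h1 : (log (i.1.1 z)).toNat ≤ C :=
        Finset.single_le_sum (f := fun i : ι'' => (log (i.1.1 z)).toNat)
          (fun _ _ => Nat.zero_le _) (Finset.mem_univ i)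
      have h2 := Int.self_le_toNat (log (Q''.1 z))
      have h3 : (log (i.1.1 z)).toNat = (log (Q''.1 z)).toNat := rfl
      omega
  let ι' := ↥hfin'.toFinset
  let Qf : ι' → Place k₀ L' := fun i => i.1
  have hQinj : Function.Injective Qf := Subtype.val_injective
  let i₀ : ι' := ⟨Q, hfin'.mem_toFinset.mpr hQ⟩
  obtain ⟨r, hr⟩ := weak_approximation Qf hQinj (fun j => if j = i₀ then 1 else 0) (C + 1)
  have hrQ : Q.1 r = 1 := by
    have h1 := hr i₀
    simp only [if_true] at h1
    have h2 : r = 1 + (r - 1) := by ring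
    rw [h2, Valuation.map_add_eq_of_lt_left, map_one]
    rw [map_one]
    refine lt_of_le_of_lt h1 ?_
    rw [← exp_zero, exp_lt_exp]; omega
  have hrQ' : ∀ Q' : Place k₀ L', IsOver Q' P → Q' ≠ Q → Q'.1 r ≤ exp (-((C : ℤ) + 1)) := by
    intro Q' hQ' hne
    let j : ι' := ⟨Q', hfin'.mem_toFinset.mpr hQ'⟩
    have hji : j ≠ i₀ := fun h => hne (congrArg Subtype.val h)
    have h1 := hr j
    rw [if_neg hji, sub_zero] at h1
    exact h1
  refine ⟨r, hrQ, ?_⟩
  intro Q'' hQ''
  obtain ⟨Q', e'', he''⟩ := exists_isOverWith hL'1 Q''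
  have he''pos := isOverWith_pos he''
  have hQ'P : IsOver Q' P := isOver_middle hL1 hQ'' he''
  rw [map_mul, he'' r]
  by_cases hQQ : Q' = Q
  · subst hQQ
    rw [hrQ, one_pow, one_mul]
    exact hz Q'' ⟨e'', he''⟩
  · have h1 := hrQ' Q' hQ'P hQQ
    have h2 : Q'.1 r ≤ 1 := le_trans h1 (by rw [← exp_zero, exp_le_exp]; omega)
    calc Q'.1 r ^ e'' * Q''.1 z ≤ exp (-((C : ℤ) + 1)) * exp (C : ℤ) :=
          mul_le_mul' (le_trans (pow_le_of_le_one zero_le h2 (by omega)) h1) (hC Q'' hQ'')
      _ ≤ 1 := by rw [← exp_add, ← exp_zero, exp_le_exp]; omega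

end multiplier

/-- **S12534** -/
theorem main [FiniteDimensional k k'] [FiniteDimensional k' k'']
    (h1 : Function.Bijective (Algebra.TensorProduct.productMap
      (IsScalarTower.toAlgHom k k' K') (IsScalarTower.toAlgHom k K K')))
    (h2 : Function.Bijective (Algebra.TensorProduct.productMap
      (IsScalarTower.toAlgHom k' k'' K'') (IsScalarTower.toAlgHom k' K' K'')))
    (hK : IsFunctionField k K) (P : Place k K) :
    (integralClosure (P.O.toSubring.map (algebraMap K K'')) K'' =
        Algebra.adjoin (P.O.toSubring.map (algebraMap K K'')) (Set.range (algebraMap k'' K''))) ↔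
      (integralClosure (P.O.toSubring.map (algebraMap K K')) K' =
          Algebra.adjoin (P.O.toSubring.map (algebraMap K K')) (Set.range (algebraMap k' K')) ∧
        ∀ Q : Place k K', IsOver Q P →
          integralClosure (Q.O.toSubring.map (algebraMap K' K'')) K'' =
            Algebra.adjoin (Q.O.toSubring.map (algebraMap K' K''))
              (Set.range (algebraMap k'' K''))) := by
  classical
  haveI hfin1 : Module.Finite K K' := finite_of_surjective k k' K K' h1.2
  haveI hfin2 : Module.Finite K' K'' := finite_of_surjective k' k'' K' K'' h2.2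
  haveI hfin12 : Module.Finite K K'' := Module.Finite.trans K' K''
  haveI hfk : FiniteDimensional k k'' := Module.Finite.trans k' k''
  haveI htow : IsScalarTower k K' K'' := IsScalarTower.of_algebraMap_eq fun c => by
    rw [IsScalarTower.algebraMap_apply k K K'', IsScalarTower.algebraMap_apply K K' K'',
      ← IsScalarTower.algebraMap_apply k K K']
  haveI htow2 : IsScalarTower k k'' K'' := IsScalarTower.of_algebraMap_eq fun c => by
    rw [IsScalarTower.algebraMap_apply k k' k'', ← IsScalarTower.algebraMap_apply k' k'' K'',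
      IsScalarTower.algebraMap_apply k' K' K'', ← IsScalarTower.algebraMap_apply k k' K',
      ← IsScalarTower.algebraMap_apply k K' K'']
  have hK1 : IsFF1 k K := hK.1
  have hK'1 : IsFF1 k K' := isFF1_of_finite K' hK1
  let c : Basis (Fin (finrank k' k'')) k' k'' := Module.finBasis k' k''
  -- images of `k` in the subrings
  have hS1 : ∀ a : k, algebraMap k K' a ∈ P.O.toSubring.map (algebraMap K K') := fun a =>
    Subring.mem_map.mpr ⟨algebraMap k K a, P.2.1 a, (IsScalarTower.algebraMap_apply k K K' a).symm⟩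
  have hS2 : ∀ a : k, algebraMap k K'' a ∈ P.O.toSubring.map (algebraMap K K'') := fun a =>
    Subring.mem_map.mpr ⟨algebraMap k K a, P.2.1 a, (IsScalarTower.algebraMap_apply k K K'' a).symm⟩
  have hconst' : ∀ (Q : Place k K') (x : k'), Q.1 (algebraMap k' K' x) ≤ 1 := fun Q x =>
    val_le_one_of_isAlgebraic Q (Algebra.IsAlgebraic.isAlgebraic (R := k) x).algebraMap
  have hSQ : ∀ (Q : Place k K') (a : k),
      algebraMap k K'' a ∈ Q.O.toSubring.map (algebraMap K' K'') := fun Q a =>
    Subring.mem_map.mpr ⟨algebraMap k K' a, Q.2.1 a, (IsScalarTower.algebraMap_apply k K' K'' a).symm⟩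
  have hle : ∀ Q : Place k K', IsOver Q P →
      P.O.toSubring.map (algebraMap K K'') ≤ Q.O.toSubring.map (algebraMap K' K'') := by
    intro Q hQ s hs
    obtain ⟨t, ht, hts⟩ := Subring.mem_map.mp hs
    refine Subring.mem_map.mpr ⟨algebraMap K K' t, algebraMap_mem_semiLocal ht Q hQ, ?_⟩
    rw [← hts, ← IsScalarTower.algebraMap_apply K K' K'']
  -- elements of `O_P[k']` are integral
  have hA1int : ∀ w ∈ Algebra.adjoin (P.O.toSubring.map (algebraMap K K'))
      (Set.range (algebraMap k' K')), w ∈ semiLocal K' P := fun w hw =>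
    (isIntegral_iff_mem_semiLocal hK P w).mp (isIntegral_of_mem_adjoin (k₀ := k) hS1 hw)
  rw [ns_iff, ns_iff]
  constructor
  · intro H2
    refine ⟨?_, fun Q hQ => ?_⟩
    · intro z
      refine ⟨fun hz => ?_, fun hz => isIntegral_of_mem_adjoin (k₀ := k) hS1 hz⟩
      have hz2 : IsIntegral (P.O.toSubring.map (algebraMap K K'')) (algebraMap K' K'' z) := by
        refine isIntegral_map_subring (algebraMap K' K'') (fun s hs => ?_) hz
        obtain ⟨t, ht, hts⟩ := Subring.mem_map.mp hs
        refine Subring.mem_map.mpr ⟨t, ht, ?_⟩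
        rw [← hts, ← IsScalarTower.algebraMap_apply K K' K'']
      have hz3 := (H2 _).mp hz2
      have hrepr := fun j => repr_mem_adjoin h2 c P hz3 j
      obtain ⟨j₀, hj₀⟩ : ∃ j, c.repr 1 j ≠ 0 := by
        by_contra hcon
        push Not at hcon
        have : c.repr (1 : k'') = 0 := Finsupp.ext hcon
        rw [map_eq_zero_iff _ c.repr.injective] at this
        exact one_ne_zero this
      have e1 : (constBasis h2 c).repr (algebraMap K' K'' z) j₀ =
          z * algebraMap k' K' (c.repr 1 j₀) := by
        have e0 : algebraMap K' K'' z = z • algebraMap k'' K'' (1 : k'') := by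
          rw [map_one, ← Algebra.algebraMap_eq_smul_one]
        rw [e0, map_smul, Finsupp.smul_apply, smul_eq_mul, constBasis_repr]
      have h3 := hrepr j₀
      rw [e1] at h3
      have e2 : z = z * algebraMap k' K' (c.repr 1 j₀) * algebraMap k' K' (c.repr 1 j₀)⁻¹ := by
        rw [mul_assoc, ← map_mul, mul_inv_cancel₀ hj₀, map_one, mul_one]
      rw [e2]
      exact Subalgebra.mul_mem _ h3 (Algebra.subset_adjoin ⟨_, rfl⟩)
    · rw [ns_iff]
      intro z
      refine ⟨fun hz => ?_, fun hz => isIntegral_of_mem_adjoin (k₀ := k) (hSQ Q) hz⟩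
      rw [mem_adjoin_iff h2 c Q.O.toSubring (fun x => hconst' Q x)]
      -- `z` is integral at the places over `Q`
      have hzQ : ∀ Q'' : Place k K'', IsOver Q'' Q → Q''.1 z ≤ 1 := by
        intro Q'' hQ''
        obtain ⟨p, hp, hpz⟩ := hz
        refine val_le_one_of_eval₂_eq_zero Q''.1
          (Q.O.toSubring.map (algebraMap K' K'')).subtype (fun s => ?_) p hp hpz
        obtain ⟨t, ht, hts⟩ := Subring.mem_map.mp s.2
        show Q''.1 (s : K'') ≤ 1
        rw [← hts, isOverWith_ramIdx hQ'' t]
        exact pow_le_one₀ zero_le ht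
      obtain ⟨r, hrQ, hrz⟩ := exists_multiplier hK P hQ hzQ
      have h3 := (H2 _).mp ((isIntegral_iff_mem_semiLocal hK P _).mpr hrz)
      intro j
      have h4 := hA1int _ (repr_mem_adjoin h2 c P h3 j) Q hQ
      have e1 : (constBasis h2 c).repr (algebraMap K' K'' r * z) j =
          r * (constBasis h2 c).repr z j := by
        rw [← Algebra.smul_def, map_smul, Finsupp.smul_apply, smul_eq_mul]
      rw [e1, map_mul, hrQ, one_mul] at h4
      exact h4
  · rintro ⟨H1, HQ⟩ z
    refine ⟨fun hz => ?_, fun hz => isIntegral_of_mem_adjoin (k₀ := k) hS2 hz⟩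
    have hw : ∀ j, (constBasis h2 c).repr z j ∈ semiLocal K' P := by
      intro j Q hQ
      have h3 := isIntegral_mono (hle Q hQ) hz
      have h4 := ((ns_iff _ _).mp (HQ Q hQ) z).mp h3
      rw [mem_adjoin_iff h2 c Q.O.toSubring (fun x => hconst' Q x)] at h4
      exact h4 j
    rw [← (constBasis h2 c).sum_repr z]
    refine Subalgebra.sum_mem _ fun j _ => ?_
    rw [Algebra.smul_def, constBasis_apply]
    refine Subalgebra.mul_mem _ ?_ (Algebra.subset_adjoin ⟨c j, rfl⟩)
    exact map_mem_adjoin P ((H1 _).mp ((isIntegral_iff_mem_semiLocal hK P _).mpr (hw j)))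

end Groth.Agent.Lib.helper16.FNT
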