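import Groth.Agent.Lib.helper16.FNonsing

set_option autoImplicit false
set_option linter.style.haveILetI false

namespace Groth.Agent.Lib.helper16.FCE

open FunFld TensorProduct Module Polynomial Groth.Agent.Lib.helper16.FX

universe u v

variable {k k' : Type u} {K K' : Type v} [Field k] [Field k'] [Field K] [Field K']
    [Algebra k k'] [Algebra k K] [Algebra K K'] [Algebra k' K'] [Algebra k K']
    [IsScalarTower k k' K'] [IsScalarTower k K K']

/-- the residue map as a `k`-algebra homomorphism -/
noncomputable def resAlg (P : Place k K) : P.O →ₐ[k] IsLocalRing.ResidueField P.O :=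
  { IsLocalRing.residue P.O with commutes' := fun _ => rfl }

theorem finiteDimensional_residueField (hK : IsFF1 k K) (P : Place k K) :
    FiniteDimensional k (IsLocalRing.ResidueField P.O) :=
  Module.finite_of_finrank_pos (deg_pos hK P)

/-- a place with separable residue field is nonsingular -/
theorem nonsingular_of_isSeparable
    (h : Function.Bijective (Algebra.TensorProduct.productMap
      (IsScalarTower.toAlgHom k k' K') (IsScalarTower.toAlgHom k K K')))
    [FiniteDimensional k k'] (hK : IsFunctionField k K)
    (P : Place k K) [Algebra.IsSeparable k (IsLocalRing.ResidueField P.O)]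
    [Algebra P.O K'] [IsScalarTower P.O K K'] :
    (integralClosure P.O K').toSubring =
      (Algebra.adjoin P.O (Set.range (algebraMap k' K'))).toSubring := by
  classical
  haveI hfin : Module.Finite K K' := finite_of_surjective k k' K K' h.2
  have hn : finrank K K' = finrank k k' := finrank_const h
  obtain ⟨b, -⟩ : ∃ b : Basis (Fin (finrank K K')) k k', b = b :=
    ⟨(Module.finBasis k k').reindex (finCongr hn.symm), rfl⟩
  haveI hfd : @FiniteDimensional k (IsLocalRing.ResidueField P.O) _ _
      (@Algebra.toModule _ _ _ _ P.algRes) := finiteDimensional_residueField hK.1 P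
  have hb : IndepModT P (fun i => algebraMap k' K' (b i)) :=
    indepModT_const h hK P (F := IsLocalRing.ResidueField P.O) (resAlg P)
      IsLocalRing.residue_surjective (fun r hr => by
        have : IsLocalRing.residue P.O r = 0 := hr
        rw [IsLocalRing.residue_eq_zero_iff] at this
        exact (Valuation.mem_maximalIdeal_iff _ _).mp this) b
  haveI : IsScalarTower k P.O K' := isScalarTower_O P
  congr 1
  apply le_antisymm
  · intro x hx
    have hx' := integralClosure_le_span P hb (mem_semiLocal_of_isIntegral P hx)
    refine Submodule.span_induction (p := fun y _ => y ∈ Algebra.adjoin P.O (Set.range (algebraMap k' K')))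
      ?_ ?_ ?_ ?_ hx'
    · rintro _ ⟨i, rfl⟩
      exact Algebra.subset_adjoin ⟨b i, rfl⟩
    · exact Subalgebra.zero_mem _
    · intro x y _ _ hx hy
      exact Subalgebra.add_mem _ hx hy
    · intro r x _ hx
      exact Subalgebra.smul_mem _ hx r
  · apply Algebra.adjoin_le
    rintro _ ⟨y, rfl⟩
    have h1 : IsIntegral k (algebraMap k' K' y) :=
      (Algebra.IsIntegral.isIntegral y).map (IsScalarTower.toAlgHom k k' K')
    exact h1.tower_top

end Groth.Agent.Lib.helper16.FCE
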