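import Groth.Agent.Lib.helper16.FXDisc

/-! Helper library (helper16): the norm formula `v_P(N x) = ∑_{Q | P} f(Q|P) v_Q(x)`, part 1:
bounding the valuation of a norm via an adapted integral basis. -/

set_option autoImplicit false

namespace Groth.Agent.Lib.helper16.FNm

open FunFld WithZero Polynomial Module Groth.Agent.Lib.helper16.FF Groth.Agent.Lib.helper16.FX

variable {k K K' : Type*} [Field k] [Field K] [Field K'] [Algebra k K] [Algebra K K']
  [Algebra k K'] [IsScalarTower k K K'] [FiniteDimensional K K']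

/-- if `x` maps `|S|` members of an integral basis into `t B_P`, then `v_P(N x) ≥ |S|` -/
theorem val_norm_le {P : Place k K} {b : Fin (finrank K K') → K'}
    (hb : IndepModT P b) (hbB : ∀ i, b i ∈ semiLocal K' P) {x : K'} (hx : x ∈ semiLocal K' P)
    (S : Finset (Fin (finrank K K'))) (hS : ∀ j ∈ S, x * b j ∈ semiLocalT K' P) :
    P.1 (Algebra.norm K x) ≤ exp (-(S.card : ℤ)) := by
  classical
  obtain ⟨π, hπ⟩ := exists_uniformizer P
  have hπ0 : π ≠ 0 := by
    rintro rfl
    rw [map_zero] at hπ
    exact exp_ne_zero hπ.symm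
  let d : Fin (finrank K K') → K := fun j => if j ∈ S then π else 1
  have hd0 : ∀ j, d j ≠ 0 := by
    intro j
    simp only [d]
    split_ifs
    · exact hπ0
    · exact one_ne_zero
  let M := Algebra.leftMulMatrix (basisOfIndep hb) x
  let M' : Matrix (Fin (finrank K K')) (Fin (finrank K K')) K := fun i j => (d j)⁻¹ * M i j
  have hMM' : M = Matrix.of fun i j => d j * M' i j := by
    ext i j
    simp only [M', Matrix.of_apply]
    rw [← mul_assoc, mul_inv_cancel₀ (hd0 j), one_mul]
  have hM' : ∀ i j, P.1 (M' i j) ≤ 1 := by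
    intro i j
    simp only [M', M]
    rw [Algebra.leftMulMatrix_eq_repr_mul, basisOfIndep_apply, map_mul, map_inv₀]
    by_cases hj : j ∈ S
    · simp only [d, if_pos hj]
      rw [hπ]
      have h1 := val_repr_lt_one hb (hS j hj) i
      rw [lt_one_iff_le_exp_neg_one] at h1
      calc (exp (-1 : ℤ))⁻¹ * P.1 ((basisOfIndep hb).repr (x * b j) i)
          ≤ (exp (-1 : ℤ))⁻¹ * exp (-1) := by gcongr
        _ = 1 := inv_mul_cancel₀ exp_ne_zero
    · simp only [d, if_neg hj]
      rw [map_one, inv_one, one_mul]
      exact val_repr_le_one hb ((semiLocal K' P).mul_mem hx (hbB j)) i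
  have hdet : Algebra.norm K x = (∏ j, d j) * M'.det := by
    rw [Algebra.norm_eq_matrix_det (basisOfIndep hb) x]
    show M.det = _
    rw [hMM', Matrix.det_mul_row]
  have hprod : (∏ j, d j) = π ^ S.card := by
    simp only [d]
    rw [Finset.prod_ite_mem, Finset.univ_inter, Finset.prod_const]
  rw [hdet, hprod, map_mul, map_pow, hπ]
  calc exp (-1 : ℤ) ^ S.card * P.1 M'.det ≤ exp (-1 : ℤ) ^ S.card * 1 := by
        gcongr
        exact val_det_le_one P M' hM'
    _ = exp (-(S.card : ℤ)) := by
        rw [mul_one, ← exp_nsmul]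
        simp

omit [FiniteDimensional K K'] in
/-- replacing a member of an integral basis by an element with unit coefficient there -/
theorem indepModT_update {P : Place k K} {n : ℕ} {b : Fin n → K'}
    (hb : IndepModT P b) (c : Fin n → K) (hc : ∀ i, P.1 (c i) ≤ 1) (i₀ : Fin n)
    (hi₀ : P.1 (c i₀) = 1) : IndepModT P (Function.update b i₀ (∑ i, c i • b i)) := by
  classical
  intro c' hc' hsum
  let c'' : Fin n → K := fun i => (if i = i₀ then 0 else c' i) + c' i₀ * c i
  have hc''1 : ∀ i, P.1 (c'' i) ≤ 1 := by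
    intro i
    simp only [c'']
    refine le_trans (P.1.map_add _ _) (max_le ?_ ?_)
    · split_ifs
      · rw [map_zero]; exact zero_le
      · exact hc' i
    · rw [map_mul]
      exact mul_le_one' (hc' i₀) (hc i)
  have hsum' : ∑ i, c'' i • b i = ∑ i, c' i • Function.update b i₀ (∑ i, c i • b i) i := by
    rw [← Finset.add_sum_erase Finset.univ (fun i => c' i • Function.update b i₀ (∑ i, c i • b i) i)
      (Finset.mem_univ i₀)]
    simp only [c'', add_smul, Finset.sum_add_distrib, mul_smul]
    rw [← Finset.smul_sum, Function.update_self, add_comm]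
    congr 1
    rw [← Finset.add_sum_erase Finset.univ _ (Finset.mem_univ i₀), if_pos rfl, zero_smul, zero_add]
    apply Finset.sum_congr rfl
    intro i hi
    have hne : i ≠ i₀ := (Finset.mem_erase.mp hi).1
    rw [if_neg hne, Function.update_of_ne hne]
  have h1 := hb c'' hc''1 (by rw [hsum']; exact hsum)
  have h2 : P.1 (c' i₀) < 1 := by
    have := h1 i₀
    simp only [c'', if_true, zero_add] at this
    rwa [map_mul, hi₀, mul_one] at this
  intro i
  by_cases hi : i = i₀
  · rw [hi]; exact h2
  · have h3 := h1 i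
    simp only [c'', if_neg hi] at h3
    have e1 : c' i = (c' i + c' i₀ * c i) - c' i₀ * c i := by ring
    rw [e1]
    refine lt_of_le_of_lt (P.1.map_sub _ _) (max_lt h3 ?_)
    rw [map_mul]
    calc P.1 (c' i₀) * P.1 (c i) ≤ P.1 (c' i₀) * 1 := by gcongr; exact hc i
      _ = P.1 (c' i₀) := mul_one _
      _ < 1 := h2

/-- **adapted integral bases**: if `m` elements of `B_P`, `k`-independent modulo `t B_P`, are
mapped into `t B_P` by `x`, then some integral basis has `d` members mapped into `t B_P` by `x`,
with `m ≤ d * deg P` -/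
theorem exists_adapted (hK : IsFunctionField k K) (P : Place k K) {x : K'}
    {m : ℕ} (y : Fin m → K') (hyB : ∀ a, y a ∈ semiLocal K' P)
    (hxy : ∀ a, x * y a ∈ semiLocalT K' P)
    (hyind : ∀ c : Fin m → k, ∑ a, c a • y a ∈ semiLocalT K' P → ∀ a, c a = 0) :
    ∃ (b : Fin (finrank K K') → K') (S : Finset (Fin (finrank K K'))),
      (∀ i, b i ∈ semiLocal K' P) ∧ IndepModT P b ∧ (∀ j ∈ S, x * b j ∈ semiLocalT K' P) ∧
      m ≤ S.card * P.deg := by
  classical
  have hK1 : IsFF1 k K := hK.1
  let p : ℕ → Prop := fun d => ∃ (b : Fin (finrank K K') → K') (S : Finset (Fin (finrank K K'))),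
      (∀ i, b i ∈ semiLocal K' P) ∧ IndepModT P b ∧ (∀ j ∈ S, x * b j ∈ semiLocalT K' P) ∧
      S.card = d
  have h0 : p 0 := by
    obtain ⟨b, hbB, hb⟩ := exists_integral_basis (K' := K') hK P
    exact ⟨b, ∅, hbB, hb, fun j hj => absurd hj (Finset.notMem_empty j), Finset.card_empty⟩
  have hpm : p (Nat.findGreatest p (finrank K K')) :=
    Nat.findGreatest_spec (Nat.zero_le _) h0
  set d₀ := Nat.findGreatest p (finrank K K') with hd₀
  obtain ⟨b, S, hbB, hb, hS, hcard⟩ := hpm
  refine ⟨b, S, hbB, hb, hS, ?_⟩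
  -- the key claim
  have hkey : ∀ r ∈ semiLocal K' P, x * r ∈ semiLocalT K' P → ∀ i, i ∉ S →
      P.1 ((basisOfIndep hb).repr r i) < 1 := by
    intro r hr hxr i₀ hi₀
    by_contra hnot
    have h1 : P.1 ((basisOfIndep hb).repr r i₀) = 1 :=
      le_antisymm (val_repr_le_one hb hr i₀) (not_lt.mp hnot)
    have hupd := indepModT_update hb (fun i => (basisOfIndep hb).repr r i)
      (fun i => val_repr_le_one hb hr i) i₀ h1
    rw [sum_repr_basisOfIndep] at hupd
    have hp : p (d₀ + 1) := by
      refine ⟨Function.update b i₀ r, insert i₀ S, ?_, hupd, ?_, ?_⟩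
      · intro i
        by_cases hi : i = i₀
        · rw [hi, Function.update_self]; exact hr
        · rw [Function.update_of_ne hi]; exact hbB i
      · intro j hj
        rcases Finset.mem_insert.mp hj with rfl | hj
        · rw [Function.update_self]; exact hxr
        · have hne : j ≠ i₀ := fun h => hi₀ (h ▸ hj)
          rw [Function.update_of_ne hne]; exact hS j hj
      · rw [Finset.card_insert_of_notMem hi₀, hcard]
    have hle : d₀ + 1 ≤ finrank K K' := by
      have h2 : (insert i₀ S).card ≤ Fintype.card (Fin (finrank K K')) := Finset.card_le_univ _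
      rw [Finset.card_insert_of_notMem hi₀, hcard, Fintype.card_fin] at h2
      exact h2
    exact Nat.findGreatest_is_greatest (Nat.lt_succ_self d₀) hle hp
  -- counting
  obtain ⟨s, hs1, -, hs3⟩ := exists_residue_basis_lift hK1 P
  let π := (semiLocalT K' P).mkQ
  have hπ0 : ∀ z, π z = 0 ↔ z ∈ semiLocalT K' P := fun z => Submodule.Quotient.mk_eq_zero _
  have hyli : LinearIndependent k (fun a => π (y a)) := by
    rw [Fintype.linearIndependent_iff]
    intro c hc
    apply hyind c
    rw [← hπ0, map_sum]
    simpa only [map_smul] using hc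
  let g : ↥S × Fin P.deg → K' := fun ia => s ia.2 • b ia.1.1
  let V : Submodule k (K' ⧸ semiLocalT K' P) := Submodule.span k (Set.range fun ia => π (g ia))
  have hyV : ∀ a, π (y a) ∈ V := by
    intro a
    let c := fun i => (basisOfIndep hb).repr (y a) i
    have hc1 : ∀ i, P.1 (c i) ≤ 1 := fun i => val_repr_le_one hb (hyB a) i
    have hc2 : ∀ i, i ∉ S → P.1 (c i) < 1 := hkey (y a) (hyB a) (hxy a)
    have hμ := fun i => hs3 (c i) (hc1 i)
    choose μ hμ using hμ
    have h1 : y a - ∑ ia : ↥S × Fin P.deg, μ ia.1.1 ia.2 • g ia ∈ semiLocalT K' P := by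
      have e1 : y a - ∑ ia : ↥S × Fin P.deg, μ ia.1.1 ia.2 • g ia =
          ∑ i ∈ Sᶜ, c i • b i + ∑ i ∈ S, (c i - ∑ a, μ i a • s a) • b i := by
        have e2 : y a = ∑ i ∈ Sᶜ, c i • b i + ∑ i ∈ S, c i • b i := by
          rw [add_comm, Finset.sum_add_sum_compl]
          exact (sum_repr_basisOfIndep hb (y a)).symm
        have e3 : ∑ ia : ↥S × Fin P.deg, μ ia.1.1 ia.2 • g ia =
            ∑ i ∈ S, (∑ a', μ i a' • s a') • b i := by
          rw [Fintype.sum_prod_type, ← Finset.sum_coe_sort S (fun i => (∑ a', μ i a' • s a') • b i)]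
          apply Finset.sum_congr rfl
          intro i _
          rw [Finset.sum_smul]
          apply Finset.sum_congr rfl
          intro a' _
          simp only [g]
          rw [smul_assoc]
        rw [e3]
        nth_rewrite 1 [e2]
        rw [add_sub_assoc, ← Finset.sum_sub_distrib]
        congr 1
        apply Finset.sum_congr rfl
        intro i _
        rw [sub_smul]
      rw [e1]
      refine (semiLocalT K' P).add_mem ((semiLocalT K' P).sum_mem fun i hi => ?_)
        ((semiLocalT K' P).sum_mem fun i _ => ?_)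
      · exact smul_mem_semiLocalT (hc2 i (Finset.mem_compl.mp hi)) (hbB i)
      · exact smul_mem_semiLocalT (hμ i) (hbB i)
    have h2 : π (y a) = ∑ ia : ↥S × Fin P.deg, μ ia.1.1 ia.2 • π (g ia) := by
      rw [← sub_eq_zero, ← (hπ0 _).mpr h1, map_sub, map_sum]
      simp only [map_smul]
    rw [h2]
    exact V.sum_mem fun ia _ => V.smul_mem _ (Submodule.subset_span ⟨ia, rfl⟩)
  have hli' : LinearIndependent k (fun a => (⟨π (y a), hyV a⟩ : V)) :=
    LinearIndependent.of_comp V.subtype hyli
  have hfin : FiniteDimensional k V := FiniteDimensional.span_of_finite k (Set.finite_range _)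
  have h3 := hli'.fintype_card_le_finrank
  have h4 : finrank k V ≤ Fintype.card (↥S × Fin P.deg) := finrank_range_le_card _
  rw [Fintype.card_fin] at h3
  rw [Fintype.card_prod, Fintype.card_fin, Fintype.card_coe] at h4
  exact le_trans h3 h4

end Groth.Agent.Lib.helper16.FNm
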