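import Groth.Agent.Lib.helper16.FNorm1

/-! Helper library (helper16): the norm formula, part 2: norms of units and of uniformizers. -/

set_option autoImplicit false

namespace Groth.Agent.Lib.helper16.FNm

open FunFld WithZero Polynomial Module Groth.Agent.Lib.helper16.FF Groth.Agent.Lib.helper16.FX

variable {k K K' : Type*} [Field k] [Field K] [Field K'] [Algebra k K] [Algebra K K']
  [Algebra k K'] [IsScalarTower k K K'] [FiniteDimensional K K']

/-- the norm of a unit of `B_P` is a unit at `P` -/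
theorem val_norm_unit (hK : IsFunctionField k K) (P : Place k K) {u : K'} (hu0 : u ≠ 0)
    (hu : ∀ Q : Place k K', IsOver Q P → Q.1 u = 1) : P.1 (Algebra.norm K u) = 1 := by
  classical
  obtain ⟨b, hbB, hb⟩ := exists_integral_basis (K' := K') hK P
  have hR : u ∈ semiLocal K' P := fun Q hQ => (hu Q hQ).le
  have hR' : u⁻¹ ∈ semiLocal K' P := fun Q hQ => by rw [map_inv₀, hu Q hQ, inv_one]
  have h1 := val_norm_le hb hbB hR ∅ (fun j hj => absurd hj (Finset.notMem_empty j))
  have h2 := val_norm_le hb hbB hR' ∅ (fun j hj => absurd hj (Finset.notMem_empty j))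
  rw [Finset.card_empty, Nat.cast_zero, neg_zero, exp_zero] at h1 h2
  have h3 : P.1 (Algebra.norm K u) * P.1 (Algebra.norm K u⁻¹) = 1 := by
    rw [← map_mul, ← map_mul, mul_inv_cancel₀ hu0, map_one, map_one]
  apply le_antisymm h1
  by_contra hlt
  rw [not_le] at hlt
  have h4 : P.1 (Algebra.norm K u) * P.1 (Algebra.norm K u⁻¹) < 1 := by
    calc P.1 (Algebra.norm K u) * P.1 (Algebra.norm K u⁻¹)
        ≤ P.1 (Algebra.norm K u) * 1 := by gcongr
      _ = P.1 (Algebra.norm K u) := mul_one _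
      _ < 1 := hlt
  rw [h3] at h4
  exact lt_irrefl _ h4

/-- the norm of a uniformizer at `Q` (unit at the other places over `P`) has order at least
`f(Q|P)` -/
theorem val_norm_uniformizer (hK : IsFunctionField k K) (P : Place k K) {Q : Place k K'}
    (hQ : IsOver Q P) {t : K'} (ht : Q.1 t = exp (-1))
    (ht' : ∀ Q' : Place k K', IsOver Q' P → Q' ≠ Q → Q'.1 t = 1) :
    ∃ d : ℕ, P.1 (Algebra.norm K t) ≤ exp (-(d : ℤ)) ∧ Q.deg ≤ d * P.deg := by
  classical
  have hK1 : IsFF1 k K := hK.1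
  have hK' : IsFF1 k K' := isFF1_of_finite K' hK1
  have hfin := finite_isOver (K' := K') hK1 P
  obtain ⟨s, hs1, hs2, -⟩ := exists_residue_basis_lift hK' Q
  let ι := ↥hfin.toFinset
  let Qf : ι → Place k K' := fun i => i.1
  have hQinj : Function.Injective Qf := Subtype.val_injective
  let i₀ : ι := ⟨Q, hfin.mem_toFinset.mpr hQ⟩
  have ht0 : t ≠ 0 := by
    rintro rfl
    rw [map_zero] at ht
    exact exp_ne_zero ht.symm
  have hz : ∀ a : Fin Q.deg, ∃ z : K', Q.1 (z - s a) < 1 ∧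
      ∀ Q' : Place k K', IsOver Q' P → Q' ≠ Q → Q'.1 z ≤ 1 := by
    intro a
    obtain ⟨z, hz⟩ := weak_approximation Qf hQinj (fun j => if j = i₀ then s a else 0) 1
    refine ⟨z, ?_, ?_⟩
    · have h1 := hz i₀
      simp only [if_true] at h1
      exact lt_one_iff_le_exp_neg_one.mpr h1
    · intro Q' hQ' hne
      let j : ι := ⟨Q', hfin.mem_toFinset.mpr hQ'⟩
      have h1 := hz j
      have hji : j ≠ i₀ := fun h => hne (congrArg Subtype.val h)
      rw [if_neg hji, sub_zero] at h1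
      exact (lt_one_iff_le_exp_neg_one.mpr h1).le
  choose z hz1 hz2 using hz
  have hzQ : ∀ a, Q.1 (z a) ≤ 1 := by
    intro a
    have : z a = (z a - s a) + s a := by ring
    rw [this]
    exact le_trans (Q.1.map_add _ _) (max_le (hz1 a).le (hs1 a))
  have hzB : ∀ a, z a ∈ semiLocal K' P := by
    intro a Q' hQ'
    by_cases h : Q' = Q
    · rw [h]; exact hzQ a
    · exact hz2 a Q' hQ' h
  have htB : t ∈ semiLocal K' P := by
    intro Q' hQ'
    by_cases h : Q' = Q
    · rw [h, ht, ← exp_zero, exp_le_exp]; omega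
    · exact (ht' Q' hQ' h).le
  obtain ⟨π, hπ⟩ := exists_uniformizer P
  have hπlt : P.1 π < 1 := by rw [hπ, ← exp_zero, exp_lt_exp]; omega
  have he : 1 ≤ ramIdx Q P := isOverWith_pos (isOverWith_ramIdx hQ)
  have hvQ : Q.1 (algebraMap K K' π * t⁻¹) = exp (-(ramIdx Q P : ℤ)) * exp 1 := by
    rw [map_mul, map_inv₀, ht, isOverWith_ramIdx hQ π, hπ, ← exp_nsmul, ← exp_neg]
    simp
  let y : Fin Q.deg → K' := fun a => algebraMap K K' π * t⁻¹ * z a
  have hyB : ∀ a, y a ∈ semiLocal K' P := by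
    intro a Q' hQ'
    by_cases h : Q' = Q
    · rw [h]
      show Q.1 (algebraMap K K' π * t⁻¹ * z a) ≤ 1
      rw [map_mul, hvQ, ← exp_add]
      calc exp (-(ramIdx Q P : ℤ) + 1) * Q.1 (z a) ≤ exp (-(ramIdx Q P : ℤ) + 1) * 1 := by
            gcongr
            exact hzQ a
        _ = exp (-(ramIdx Q P : ℤ) + 1) := mul_one _
        _ ≤ 1 := by rw [← exp_zero, exp_le_exp]; omega
    · show Q'.1 (algebraMap K K' π * t⁻¹ * z a) ≤ 1
      rw [map_mul, map_mul, map_inv₀, ht' Q' hQ' h, inv_one, mul_one]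
      exact mul_le_one' (algebraMap_mem_semiLocal hπlt.le Q' hQ') (hz2 a Q' hQ' h)
  have hxy : ∀ a, t * y a ∈ semiLocalT K' P := by
    intro a
    have e1 : t * y a = π • z a := by
      simp only [y]
      rw [Algebra.smul_def]
      field_simp
    rw [e1]
    exact smul_mem_semiLocalT hπlt (hzB a)
  have hyind : ∀ c : Fin Q.deg → k, ∑ a, c a • y a ∈ semiLocalT K' P → ∀ a, c a = 0 := by
    intro c hc
    apply hs2 c
    have e1 : ∑ a, c a • y a = (algebraMap K K' π * t⁻¹) * ∑ a, c a • z a := by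
      rw [Finset.mul_sum]
      apply Finset.sum_congr rfl
      intro a _
      rw [mul_smul_comm]
    have h1 := hc Q hQ
    rw [e1, map_mul, hvQ] at h1
    have hA : exp (-(ramIdx Q P : ℤ)) * exp (1 : ℤ) ≠ 0 := mul_ne_zero exp_ne_zero exp_ne_zero
    have h2 : Q.1 (∑ a, c a • z a) ≤ exp (-1) := by
      have e2 : Q.1 (∑ a, c a • z a) = (exp (-(ramIdx Q P : ℤ)) * exp (1 : ℤ))⁻¹ *
          (exp (-(ramIdx Q P : ℤ)) * exp (1 : ℤ) * Q.1 (∑ a, c a • z a)) := by
        rw [inv_mul_cancel_left₀ hA]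
      rw [e2]
      calc (exp (-(ramIdx Q P : ℤ)) * exp (1 : ℤ))⁻¹ *
            (exp (-(ramIdx Q P : ℤ)) * exp (1 : ℤ) * Q.1 (∑ a, c a • z a))
          ≤ (exp (-(ramIdx Q P : ℤ)) * exp (1 : ℤ))⁻¹ * exp (-(ramIdx Q P : ℤ)) := by gcongr
        _ = exp (-1) := by
            rw [mul_inv, mul_comm (exp (-(ramIdx Q P : ℤ)))⁻¹, mul_assoc,
              inv_mul_cancel₀ exp_ne_zero, mul_one, ← exp_neg]
    have e3 : ∑ a, c a • s a = ∑ a, c a • z a - ∑ a, c a • (z a - s a) := by
      rw [← Finset.sum_sub_distrib]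
      apply Finset.sum_congr rfl
      intro a _
      rw [smul_sub]
      ring
    rw [e3]
    refine lt_of_le_of_lt (Q.1.map_sub _ _) (max_lt (lt_one_iff_le_exp_neg_one.mpr h2) ?_)
    apply Valuation.map_sum_lt _ one_ne_zero
    intro a _
    exact lt_of_le_of_lt (val_smul_le Q _ _) (hz1 a)
  obtain ⟨b, S, hbB, hb, hS, hm⟩ := exists_adapted hK P y hyB hxy hyind
  exact ⟨S.card, val_norm_le hb hbB htB S hS, hm⟩

end Groth.Agent.Lib.helper16.FNm
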