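import Groth.Agent.Lib.helper16.FNorm2

/-! Helper library (helper16): the norm formula `deg P · v_P(N x) = ∑_{Q | P} deg Q · v_Q(x)`. -/

set_option autoImplicit false

namespace Groth.Agent.Lib.helper16.FNm

open FunFld WithZero Polynomial Module Groth.Agent.Lib.helper16.FF Groth.Agent.Lib.helper16.FX

section basic

variable {k K : Type*} [Field k] [Field K] [Algebra k K]

theorem ord_zpow' (P : Place k K) (x : K) (n : ℤ) : P.ord (x ^ n) = n * P.ord x := by
  unfold Place.ord
  rw [map_zpow₀, log_zpow]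
  simp

theorem ord_prod (P : Place k K) {ι : Type*} (s : Finset ι) (f : ι → K)
    (hf : ∀ i ∈ s, f i ≠ 0) : P.ord (∏ i ∈ s, f i) = ∑ i ∈ s, P.ord (f i) := by
  classical
  induction s using Finset.induction_on with
  | empty => simp [ord_one]
  | insert i s hi ih =>
    rw [Finset.prod_insert hi, Finset.sum_insert hi,
      ord_mul P (hf i (Finset.mem_insert_self i s))
        (Finset.prod_ne_zero_iff.mpr fun j hj => hf j (Finset.mem_insert_of_mem hj)),
      ih fun j hj => hf j (Finset.mem_insert_of_mem hj)]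

theorem ord_eq_zero_of_val (P : Place k K) {x : K} (h : P.1 x = 1) : P.ord x = 0 := by
  unfold Place.ord
  rw [h, log_one, neg_zero]

theorem ord_eq_one_of_val (P : Place k K) {x : K} (h : P.1 x = exp (-1)) : P.ord x = 1 := by
  unfold Place.ord
  rw [h, log_exp, neg_neg]

end basic

variable {k K K' : Type*} [Field k] [Field K] [Field K'] [Algebra k K] [Algebra K K']
  [Algebra k K'] [IsScalarTower k K K'] [FiniteDimensional K K']

variable (K K') in
/-- the norm as a monoid-with-zero homomorphism -/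
noncomputable def norm₀ : K' →*₀ K where
  toFun := Algebra.norm K
  map_zero' := Algebra.norm_zero
  map_one' := map_one _
  map_mul' := map_mul _

theorem norm₀_apply (x : K') : norm₀ K K' x = Algebra.norm K x := rfl

/-- **the norm formula** -/
theorem main (hK : IsFunctionField k K) (P : Place k K) (x : K')
    (Qs : Finset (Place k K')) (hQs : ∀ Q, Q ∈ Qs ↔ IsOver Q P) :
    (P.deg : ℤ) * P.ord (Algebra.norm K x) = ∑ Q ∈ Qs, (Q.deg : ℤ) * Q.ord x := by
  classical
  by_cases hx : x = 0
  · subst hx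
    rw [Algebra.norm_zero, ord_zero, mul_zero]
    symm
    apply Finset.sum_eq_zero
    intro Q _
    rw [ord_zero, mul_zero]
  let ι := ↥Qs
  have hover : ∀ i : ι, IsOver i.1 P := fun i => (hQs _).mp i.2
  let Qf : ι → Place k K' := fun i => i.1
  have hQinj : Function.Injective Qf := Subtype.val_injective
  -- the uniformizers
  have ht : ∀ i : ι, ∃ y : K', (Qf i).1 y = exp (-1) ∧ ∀ j, i ≠ j → (Qf j).1 y = 1 := by
    intro i
    obtain ⟨π, hπ⟩ := exists_uniformizer (Qf i)
    obtain ⟨y, hy⟩ := weak_approximation Qf hQinj (fun j => if j = i then π else 1) 2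
    refine ⟨y, ?_, ?_⟩
    · have h1 := hy i
      simp only [if_true] at h1
      have h2 : y = π + (y - π) := by ring
      rw [h2, Valuation.map_add_eq_of_lt_left, hπ]
      rw [hπ]
      refine lt_of_le_of_lt h1 ?_
      rw [exp_lt_exp]; omega
    · intro j hij
      have h1 := hy j
      rw [if_neg (Ne.symm hij)] at h1
      have h2 : y = 1 + (y - 1) := by ring
      rw [h2, Valuation.map_add_eq_of_lt_left, map_one]
      rw [map_one]
      refine lt_of_le_of_lt h1 ?_
      rw [← exp_zero, exp_lt_exp]; omega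
  choose t ht1 ht2 using ht
  have ht0 : ∀ i, t i ≠ 0 := by
    intro i h
    have := ht1 i
    rw [h, map_zero] at this
    exact exp_ne_zero this.symm
  have hN0 : ∀ {z : K'}, z ≠ 0 → Algebra.norm K z ≠ 0 := fun hz =>
    Algebra.norm_ne_zero_iff.mpr hz
  let a : ι → ℤ := fun i => P.ord (Algebra.norm K (t i))
  -- the key formula
  have hF : ∀ z : K', z ≠ 0 → P.ord (Algebra.norm K z) = ∑ i : ι, (Qf i).ord z * a i := by
    intro z hz
    let m : ι → ℤ := fun i => (Qf i).ord z
    let w : K' := ∏ i, t i ^ m i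
    have hw0 : w ≠ 0 := Finset.prod_ne_zero_iff.mpr fun i _ => zpow_ne_zero _ (ht0 i)
    let u : K' := z / w
    have hu0 : u ≠ 0 := div_ne_zero hz hw0
    have hzu : z = u * w := (div_mul_cancel₀ z hw0).symm
    have hu : ∀ Q : Place k K', IsOver Q P → Q.1 u = 1 := by
      intro Q hQ
      let j : ι := ⟨Q, (hQs Q).mpr hQ⟩
      have h1 : Q.1 w = Q.1 z := by
        show (Qf j).1 w = (Qf j).1 z
        simp only [w]
        rw [map_prod, Finset.prod_eq_single j]
        · rw [map_zpow₀, ht1 j, val_eq_exp_neg_ord (Qf j) hz, ← exp_zsmul]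
          simp [m]
        · intro i _ hij
          rw [map_zpow₀, ht2 i j hij, one_zpow]
        · intro h
          exact absurd (Finset.mem_univ j) h
      show Q.1 (z / w) = 1
      rw [map_div₀, h1, div_self (val_ne_zero Q hz)]
    have hu1 := ord_eq_zero_of_val P (val_norm_unit hK P hu0 hu)
    have hNw : Algebra.norm K w = ∏ i, Algebra.norm K (t i) ^ m i := by
      rw [← norm₀_apply, map_prod]
      apply Finset.prod_congr rfl
      intro i _
      rw [map_zpow₀, norm₀_apply]
    rw [hzu, map_mul, ord_mul P (hN0 hu0) (hN0 hw0), hu1, zero_add, hNw,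
      ord_prod P _ _ (fun i _ => zpow_ne_zero _ (hN0 (ht0 i)))]
    apply Finset.sum_congr rfl
    intro i _
    rw [ord_zpow']
    simp only [m, a]
    rw [← hzu]
  -- apply to a uniformizer of `P`
  obtain ⟨π, hπ⟩ := exists_uniformizer P
  have hπ0 : π ≠ 0 := by
    rintro rfl
    rw [map_zero] at hπ
    exact exp_ne_zero hπ.symm
  have hπ1 : P.ord π = 1 := ord_eq_one_of_val P hπ
  have hn : (finrank K K' : ℤ) = ∑ i : ι, (ramIdx (Qf i) P : ℤ) * a i := by
    have h1 := hF (algebraMap K K' π) (by rwa [Ne, map_eq_zero])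
    rw [Algebra.norm_algebraMap, ord_pow, hπ1, mul_one] at h1
    rw [h1]
    apply Finset.sum_congr rfl
    intro i _
    rw [isOverWith_ord (isOverWith_ramIdx (hover i)) π, hπ1, mul_one]
  have hsum := (sum_ramIdx_mul_deg (K' := K') hK P).2 Qs hQs
  rw [← Finset.sum_coe_sort Qs] at hsum
  have hge : ∀ i : ι, ((Qf i).deg : ℤ) ≤ (P.deg : ℤ) * a i := by
    intro i
    obtain ⟨d, hd1, hd2⟩ := val_norm_uniformizer hK P (hover i) (ht1 i)
      (fun Q' hQ' hne => ht2 i ⟨Q', (hQs _).mpr hQ'⟩
        (fun h => hne (congrArg Subtype.val h).symm))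
    have h1 := (val_le_exp_iff P (hN0 (ht0 i)) (-(d : ℤ))).mp hd1
    rw [neg_neg] at h1
    have h2 : ((Qf i).deg : ℤ) ≤ (d : ℤ) * (P.deg : ℤ) := by exact_mod_cast hd2
    have h3 : (d : ℤ) * (P.deg : ℤ) ≤ a i * (P.deg : ℤ) :=
      mul_le_mul_of_nonneg_right h1 (by positivity)
    linarith
  have hzero : ∑ i : ι, (ramIdx (Qf i) P : ℤ) * ((P.deg : ℤ) * a i - ((Qf i).deg : ℤ)) = 0 := by
    have h1 : ∑ i : ι, (ramIdx (Qf i) P : ℤ) * ((P.deg : ℤ) * a i - ((Qf i).deg : ℤ)) =
        (P.deg : ℤ) * ∑ i : ι, (ramIdx (Qf i) P : ℤ) * a i -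
          ∑ i : ι, (ramIdx (Qf i) P : ℤ) * ((Qf i).deg : ℤ) := by
      rw [Finset.mul_sum, ← Finset.sum_sub_distrib]
      apply Finset.sum_congr rfl
      intro i _
      ring
    have h2 : ∑ i : ι, (ramIdx (Qf i) P : ℤ) * ((Qf i).deg : ℤ) =
        (finrank K K' : ℤ) * (P.deg : ℤ) := by
      exact_mod_cast hsum
    rw [h1, ← hn, h2]
    ring
  have heq : ∀ i : ι, (P.deg : ℤ) * a i = ((Qf i).deg : ℤ) := by
    intro i
    have h1 := (Finset.sum_eq_zero_iff_of_nonneg (fun i _ =>
      mul_nonneg (by positivity) (sub_nonneg.mpr (hge i)))).mp hzero i (Finset.mem_univ i)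
    have he : 1 ≤ ramIdx (Qf i) P := isOverWith_pos (isOverWith_ramIdx (hover i))
    have he' : (ramIdx (Qf i) P : ℤ) ≠ 0 := by
      have : (1 : ℤ) ≤ (ramIdx (Qf i) P : ℤ) := by exact_mod_cast he
      omega
    rcases mul_eq_zero.mp h1 with h | h
    · exact absurd h he'
    · linarith
  rw [hF x hx, Finset.mul_sum, ← Finset.sum_coe_sort Qs]
  apply Finset.sum_congr rfl
  intro i _
  rw [← heq i]
  ring

end Groth.Agent.Lib.helper16.FNm
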