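import Mathlib

/-! Helper library (helper16): traces of finite-potent endomorphisms (after Tate). -/

set_option autoImplicit false

namespace Groth.Agent.Lib.helper16.FPT

open Module

variable {k : Type*} [Field k] {V : Type*} [AddCommGroup V] [Module k V]

/-- `W` is a core of `θ`: a finite-dimensional `θ`-stable subspace containing the range of a power
of `θ` -/
def IsCore (θ : V →ₗ[k] V) (W : Submodule k V) : Prop :=
  FiniteDimensional k W ∧ (∀ x ∈ W, θ x ∈ W) ∧ ∃ n : ℕ, LinearMap.range (θ ^ n) ≤ W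

/-- the trace of `θ` on a stable subspace -/
noncomputable def trOn (θ : V →ₗ[k] V) (W : Submodule k V) (h : ∀ x ∈ W, θ x ∈ W) : k :=
  LinearMap.trace k W (θ.restrict h)

theorem trOn_eq_of_map_le (θ : V →ₗ[k] V) {W W' : Submodule k V} [FiniteDimensional k W]
    (hle : W' ≤ W) (h : ∀ x ∈ W, θ x ∈ W) (h' : ∀ x ∈ W', θ x ∈ W')
    (hmap : ∀ x ∈ W, θ x ∈ W') : trOn θ W h = trOn θ W' h' := by
  haveI : FiniteDimensional k W' := Submodule.finiteDimensional_of_le hle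
  let incl : W' →ₗ[k] W := Submodule.inclusion hle
  let θ' : W →ₗ[k] W' := θ.restrict hmap
  have h1 : θ.restrict h = incl ∘ₗ θ' := by
    apply LinearMap.ext; intro x; apply Subtype.ext; rfl
  have h2 : θ.restrict h' = θ' ∘ₗ incl := by
    apply LinearMap.ext; intro x; apply Subtype.ext; rfl
  unfold trOn
  rw [h1, h2, LinearMap.trace_comp_comm']

theorem pow_mem_of_stable (θ : V →ₗ[k] V) {W : Submodule k V} (h : ∀ x ∈ W, θ x ∈ W) (n : ℕ) :
    ∀ x ∈ W, (θ ^ n) x ∈ W := by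
  induction n with
  | zero => intro x hx; simpa using hx
  | succ n ih =>
    intro x hx
    rw [pow_succ', Module.End.mul_apply]
    exact h _ (ih x hx)

/-- the trace does not depend on the core -/
theorem trOn_eq_of_le_core (θ : V →ₗ[k] V) {W U : Submodule k V} (hW : IsCore θ W)
    (hU : IsCore θ U) (hUW : U ≤ W) : trOn θ W hW.2.1 = trOn θ U hU.2.1 := by
  obtain ⟨hWfd, hWst, -⟩ := hW
  obtain ⟨hUfd, hUst, n, hn⟩ := hU
  -- the chain `U ⊔ θ^i W`
  let C : ℕ → Submodule k V := fun i => U ⊔ W.map (θ ^ i)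
  have hCle : ∀ i, C i ≤ W := by
    intro i
    apply sup_le hUW
    rintro _ ⟨x, hx, rfl⟩
    exact pow_mem_of_stable θ hWst i x hx
  have hCst : ∀ i, ∀ x ∈ C i, θ x ∈ C (i + 1) := by
    intro i x hx
    obtain ⟨u, hu, w, hw, rfl⟩ := Submodule.mem_sup.mp hx
    obtain ⟨w₀, hw₀, rfl⟩ := hw
    rw [map_add]
    apply Submodule.add_mem
    · exact Submodule.mem_sup_left (hUst u hu)
    · apply Submodule.mem_sup_right
      refine ⟨w₀, hw₀, ?_⟩
      rw [pow_succ', Module.End.mul_apply]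
  have hCmono : ∀ i, C (i + 1) ≤ C i := by
    intro i
    apply sup_le le_sup_left
    rintro _ ⟨x, hx, rfl⟩
    apply Submodule.mem_sup_right
    refine ⟨θ x, hWst x hx, ?_⟩
    rw [pow_succ, Module.End.mul_apply]
  have hCst' : ∀ i, ∀ x ∈ C i, θ x ∈ C i := fun i x hx => hCmono i (hCst i x hx)
  have hC0 : C 0 = W := by
    show U ⊔ W.map (θ ^ 0) = W
    rw [pow_zero]
    have : W.map (1 : V →ₗ[k] V) = W := Submodule.map_id W
    rw [this]
    exact sup_eq_right.mpr hUW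
  have hCn : C n = U := by
    show U ⊔ W.map (θ ^ n) = U
    rw [sup_eq_left]
    rintro _ ⟨x, _, rfl⟩
    exact hn ⟨x, rfl⟩
  have hstep : ∀ i, trOn θ (C i) (hCst' i) = trOn θ (C (i + 1)) (hCst' (i + 1)) := by
    intro i
    haveI : FiniteDimensional k (C i) := Submodule.finiteDimensional_of_le (hCle i)
    exact trOn_eq_of_map_le θ (hCmono i) (hCst' i) (hCst' (i + 1)) (hCst i)
  have hall : ∀ i, trOn θ (C 0) (hCst' 0) = trOn θ (C i) (hCst' i) := by
    intro i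
    induction i with
    | zero => rfl
    | succ i ih => rw [ih, hstep i]
  have h1 := hall n
  have e0 : ∀ (W₁ W₂ : Submodule k V) (h₁ : ∀ x ∈ W₁, θ x ∈ W₁) (h₂ : ∀ x ∈ W₂, θ x ∈ W₂),
      W₁ = W₂ → trOn θ W₁ h₁ = trOn θ W₂ h₂ := by
    intro W₁ W₂ h₁ h₂ he
    subst he
    rfl
  rw [e0 _ _ (hCst' 0) hWst hC0, e0 _ _ (hCst' n) hUst hCn] at h1
  exact h1

theorem isCore_inf {θ : V →ₗ[k] V} {W₁ W₂ : Submodule k V} (h₁ : IsCore θ W₁)
    (h₂ : IsCore θ W₂) : IsCore θ (W₁ ⊓ W₂) := by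
  obtain ⟨hfd₁, hst₁, n₁, hn₁⟩ := h₁
  obtain ⟨hfd₂, hst₂, n₂, hn₂⟩ := h₂
  refine ⟨Submodule.finiteDimensional_of_le inf_le_left, fun x hx => ⟨hst₁ x hx.1, hst₂ x hx.2⟩,
    n₁ + n₂, ?_⟩
  rintro _ ⟨x, rfl⟩
  constructor
  · rw [add_comm, pow_add, Module.End.mul_apply]
    exact pow_mem_of_stable θ hst₁ n₂ _ (hn₁ ⟨_, rfl⟩)
  · rw [pow_add, Module.End.mul_apply]
    exact pow_mem_of_stable θ hst₂ n₁ _ (hn₂ ⟨_, rfl⟩)

theorem trOn_eq_of_core (θ : V →ₗ[k] V) {W₁ W₂ : Submodule k V} (h₁ : IsCore θ W₁)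
    (h₂ : IsCore θ W₂) : trOn θ W₁ h₁.2.1 = trOn θ W₂ h₂.2.1 := by
  have h := isCore_inf h₁ h₂
  rw [trOn_eq_of_le_core θ h₁ h inf_le_left, trOn_eq_of_le_core θ h₂ h inf_le_right]

open scoped Classical in
/-- the trace of a finite-potent endomorphism (`0` if `θ` is not finite-potent) -/
noncomputable def fpTr (θ : V →ₗ[k] V) : k :=
  if h : ∃ W, IsCore θ W then trOn θ h.choose h.choose_spec.2.1 else 0

theorem fpTr_eq {θ : V →ₗ[k] V} {W : Submodule k V} (h : IsCore θ W) :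
    fpTr θ = trOn θ W h.2.1 := by
  have hex : ∃ W, IsCore θ W := ⟨W, h⟩
  unfold fpTr
  rw [dif_pos hex]
  exact trOn_eq_of_core θ hex.choose_spec h

/-- a nilpotent endomorphism has trace zero -/
theorem fpTr_eq_zero_of_pow {θ : V →ₗ[k] V} {n : ℕ} (hn : θ ^ n = 0) : fpTr θ = 0 := by
  have hcore : IsCore θ ⊥ := by
    refine ⟨inferInstance, fun x hx => ?_, n, ?_⟩
    · rw [Submodule.mem_bot] at hx ⊢
      rw [hx, map_zero]
    · rw [hn]
      rintro _ ⟨x, rfl⟩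
      simp
  rw [fpTr_eq hcore]
  unfold trOn
  have : θ.restrict hcore.2.1 = 0 := by
    apply LinearMap.ext
    intro x
    exact Subsingleton.elim _ _
  rw [this, map_zero]

/-- additivity on a common core -/
theorem fpTr_add_of_core {θ₁ θ₂ : V →ₗ[k] V} {W : Submodule k V} (h₁ : IsCore θ₁ W)
    (h₂ : IsCore θ₂ W) (h₁₂ : IsCore (θ₁ + θ₂) W) : fpTr (θ₁ + θ₂) = fpTr θ₁ + fpTr θ₂ := by
  rw [fpTr_eq h₁, fpTr_eq h₂, fpTr_eq h₁₂]
  unfold trOn
  rw [← map_add]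
  congr 1

theorem fpTr_smul_of_core {θ : V →ₗ[k] V} {W : Submodule k V} (h : IsCore θ W) (c : k)
    (hc : IsCore (c • θ) W) : fpTr (c • θ) = c * fpTr θ := by
  rw [fpTr_eq h, fpTr_eq hc]
  unfold trOn
  rw [← smul_eq_mul, ← map_smul]
  congr 1

/-- `Tr(αβ) = Tr(βα)` -/
theorem fpTr_comm {V' : Type*} [AddCommGroup V'] [Module k V'] (α : V' →ₗ[k] V)
    (β : V →ₗ[k] V') {W : Submodule k V'} (h : IsCore (β ∘ₗ α) W) :
    fpTr (α ∘ₗ β) = fpTr (β ∘ₗ α) := by
  obtain ⟨hfd, hst, n, hn⟩ := h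
  have hcore' : IsCore (α ∘ₗ β) (W.map α) := by
    refine ⟨inferInstance, ?_, n + 1, ?_⟩
    · rintro _ ⟨w, hw, rfl⟩
      exact ⟨(β ∘ₗ α) w, hst w hw, rfl⟩
    · rintro _ ⟨x, rfl⟩
      have key : ∀ m : ℕ, ∀ y : V, ((α ∘ₗ β) ^ (m + 1)) y = α (((β ∘ₗ α) ^ m) (β y)) := by
        intro m
        induction m with
        | zero => intro y; simp
        | succ m ih =>
          intro y
          rw [pow_succ', Module.End.mul_apply, ih, pow_succ', Module.End.mul_apply]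
          rfl
      rw [key]
      exact ⟨_, hn ⟨_, rfl⟩, rfl⟩
  rw [fpTr_eq hcore', fpTr_eq ⟨hfd, hst, n, hn⟩]
  let a : W →ₗ[k] W.map α := α.restrict (fun w hw => ⟨w, hw, rfl⟩)
  let b : W.map α →ₗ[k] W := β.restrict (by
    rintro _ ⟨w, hw, rfl⟩
    exact hst w hw)
  have h1 : (α ∘ₗ β).restrict hcore'.2.1 = a ∘ₗ b := by
    apply LinearMap.ext; intro x; apply Subtype.ext; rfl
  have h2 : (β ∘ₗ α).restrict hst = b ∘ₗ a := by
    apply LinearMap.ext; intro x; apply Subtype.ext; rfl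
  unfold trOn
  rw [h1, h2, LinearMap.trace_comp_comm']

end Groth.Agent.Lib.helper16.FPT
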