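import Groth.Agent.Lib.helper16.FDehom
import Mathlib.RingTheory.AlgebraicIndependent.TranscendenceBasis
import Mathlib.FieldTheory.IntermediateField.Adjoin.Algebra

/-! Helper library (helper16): the ideal of relations of a plane model is principal (S11073). -/

set_option autoImplicit false
set_option linter.style.haveILetI false

namespace Groth.Agent.Lib.helper16.FPK

open FunFld
open Groth.Agent.Lib.helper16
open scoped IntermediateField

section A0

variable {k K : Type*} [Field k] [Field K] [Algebra k K]

open scoped IntermediateField.algebraAdjoinAdjoin in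
/-- two elements of a function field of one variable satisfy a polynomial relation -/
theorem ker_ne_bot (hK : IsFunctionField k K) (x y : K) :
    RingHom.ker (MvPolynomial.aeval ![x, y] : MvPolynomial (Fin 2) k →ₐ[k] K) ≠ ⊥ := by
  intro hbot
  have hinj : Function.Injective (MvPolynomial.aeval ![x, y] : MvPolynomial (Fin 2) k →ₐ[k] K) :=
    (RingHom.injective_iff_ker_eq_bot _).mpr hbot
  have hind : AlgebraicIndependent k ![x, y] := algebraicIndependent_iff_injective_aeval.mpr hinj
  obtain ⟨⟨x₀, hx₀, hfd⟩, -⟩ := hK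
  have hind0 : AlgebraicIndependent k (fun _ : Unit => x₀) :=
    algebraicIndependent_unique_type_iff.mpr hx₀
  have hrange : Set.range (fun _ : Unit => x₀) = {x₀} := by
    ext z
    simp [eq_comm]
  have hB : IsTranscendenceBasis k (fun _ : Unit => x₀) := by
    rw [hind0.isTranscendenceBasis_iff_isAlgebraic, hrange]
    haveI : Algebra.IsAlgebraic k⟮x₀⟯ K := Algebra.IsAlgebraic.of_finite _ _
    exact Algebra.IsAlgebraic.trans (Algebra.adjoin k {x₀}) k⟮x₀⟯ K
  have h1 := hB.lift_cardinalMk_eq_trdeg
  have h2 := hind.lift_cardinalMk_le_trdeg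
  rw [← h1] at h2
  simp at h2
  
/-- an irreducible relation exists -/
theorem exists_irreducible_mem_ker (hK : IsFunctionField k K) (x y : K) :
    ∃ f : MvPolynomial (Fin 2) k, Irreducible f ∧ MvPolynomial.aeval ![x, y] f = 0 := by
  have hne := ker_ne_bot hK x y
  have hprime : (RingHom.ker
      (MvPolynomial.aeval ![x, y] : MvPolynomial (Fin 2) k →ₐ[k] K)).IsPrime :=
    RingHom.ker_isPrime _
  obtain ⟨f, hf, hfp⟩ := Ideal.IsPrime.exists_mem_prime_of_ne_bot hprime hne
  exact ⟨f, hfp.irreducible, hf⟩

end A0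

section A2

open Polynomial

variable {k K : Type*} [Field k] [Field K] [Algebra k K]

/-- a primitive irreducible relation in `k[Y][X]` with transcendental `y'` divides every
relation -/
theorem dvd_of_root (x y' : K) (htr : Transcendental k y') {F H : k[X][X]}
    (hF : Irreducible F) (hprim : F.IsPrimitive)
    (hroot : eval₂ (aeval y' : k[X] →ₐ[k] K).toRingHom x F = 0)
    (hrootH : eval₂ (aeval y' : k[X] →ₐ[k] K).toRingHom x H = 0) : F ∣ H := by
  by_cases hH0 : H = 0
  · rw [hH0]; exact dvd_zero _
  set E := k⟮y'⟯ with hE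
  let ρ := RatFunc.algEquivOfTranscendental y' htr
  have hG₀ : Irreducible (F.map (algebraMap k[X] (RatFunc k))) :=
    (IsPrimitive.irreducible_iff_irreducible_map_fraction_map hprim).mp hF
  set G := (F.map (algebraMap k[X] (RatFunc k))).map (ρ : RatFunc k →+* E) with hG
  have hGirr : Irreducible G := by
    have := (MulEquiv.irreducible_iff (mapEquiv ρ.toRingEquiv).toMulEquiv
      (x := F.map (algebraMap k[X] (RatFunc k)))).mpr hG₀
    exact this
  have hcomp : ((algebraMap E K).comp (ρ : RatFunc k →+* E)).comp (algebraMap k[X] (RatFunc k)) =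
      (aeval y' : k[X] →ₐ[k] K).toRingHom := by
    apply RingHom.ext
    intro g
    change algebraMap E K (ρ (algebraMap k[X] (RatFunc k) g)) = aeval y' g
    rw [RatFunc.algEquivOfTranscendental_algebraMap, ← aeval_algebraMap_apply,
      IntermediateField.AdjoinSimple.algebraMap_gen]
  have hGroot : aeval x G = 0 := by
    rw [aeval_def, hG, eval₂_map, eval₂_map, hcomp]
    exact hroot
  set H' := (H.map (algebraMap k[X] (RatFunc k))).map (ρ : RatFunc k →+* E) with hH'
  have hH'root : aeval x H' = 0 := by
    rw [aeval_def, hH', eval₂_map, eval₂_map, hcomp]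
    exact hrootH
  have hG0 : G ≠ 0 := hGirr.ne_zero
  have hmin := minpoly.eq_of_irreducible hGirr hGroot
  have hdvd1 : minpoly E x ∣ H' := minpoly.dvd E x hH'root
  have hdvd2 : G ∣ H' := by
    rw [← hmin] at hdvd1
    exact dvd_trans (Dvd.intro _ rfl) hdvd1
  -- transport back along `ρ`
  have hdvd3 : F.map (algebraMap k[X] (RatFunc k)) ∣ H.map (algebraMap k[X] (RatFunc k)) := by
    have h1 := map_dvd (mapRingHom (ρ.symm : E →+* RatFunc k)) hdvd2
    have e1 : ∀ P : (RatFunc k)[X], mapRingHom (ρ.symm : E →+* RatFunc k)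
        (P.map (ρ : RatFunc k →+* E)) = P := by
      intro P
      rw [coe_mapRingHom, map_map]
      have : (ρ.symm : E →+* RatFunc k).comp (ρ : RatFunc k →+* E) = RingHom.id _ := by
        ext z
        exact ρ.symm_apply_apply z
      rw [this, Polynomial.map_id]
    rwa [hG, hH', e1, e1] at h1
  -- Gauss' lemma
  exact (hprim.dvd_iff_fraction_map_dvd_fraction_map (RatFunc k)).mpr hdvd3

end A2

section A3

open Polynomial

variable {k K : Type*} [Field k] [Field K] [Algebra k K]

/-- an irreducible relation of a plane model divides every relation -/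
theorem dvd_of_aeval_eq_zero (hK : IsFunctionField k K) (x y : K)
    (hxy : IntermediateField.adjoin k ({x, y} : Set K) = ⊤)
    {f h : MvPolynomial (Fin 2) k} (hf : Irreducible f)
    (hfxy : MvPolynomial.aeval ![x, y] f = 0) (hhxy : MvPolynomial.aeval ![x, y] h = 0) :
    f ∣ h := by
  classical
  -- a transcendental combination `y - t x`
  have hex : ∃ t : k, y - algebraMap k K t * x ∉ Set.range (algebraMap k K) := by
    by_contra hcon
    push Not at hcon
    obtain ⟨c₀, hc₀⟩ := hcon 0
    obtain ⟨c₁, hc₁⟩ := hcon 1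
    rw [map_zero, zero_mul, sub_zero] at hc₀
    rw [map_one, one_mul] at hc₁
    have hxr : x = algebraMap k K (c₀ - c₁) := by
      rw [map_sub, hc₀, hc₁]; ring
    have hle : IntermediateField.adjoin k ({x, y} : Set K) ≤ ⊥ := by
      rw [IntermediateField.adjoin_le_iff]
      intro z hz
      rw [Set.mem_insert_iff, Set.mem_singleton_iff] at hz
      rw [SetLike.mem_coe, IntermediateField.mem_bot]
      rcases hz with rfl | rfl
      · exact ⟨_, hxr.symm⟩
      · exact ⟨c₀, hc₀⟩
    rw [hxy] at hle
    obtain ⟨⟨x₀, hx₀, -⟩, -⟩ := hK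
    have : x₀ ∈ (⊥ : IntermediateField k K) := hle IntermediateField.mem_top
    rw [IntermediateField.mem_bot] at this
    obtain ⟨c, rfl⟩ := this
    exact hx₀ (isAlgebraic_algebraMap c)
  obtain ⟨t, hy'nc⟩ := hex
  set y' := y - algebraMap k K t * x with hy'
  have htr := FF.transcendental_of_not_mem_range hK hy'nc
  have hF := FPD.irreducible_Phi t hf
  have hrootgen : ∀ p : MvPolynomial (Fin 2) k, MvPolynomial.aeval ![x, y] p = 0 →
      eval₂ (aeval y' : k[X] →ₐ[k] K).toRingHom x (FPD.Phi t p) = 0 := by
    intro p hp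
    have h1 := congrArg (fun φ => φ p) (FPD.Theta_comp_Phi x y t)
    simp only [AlgHom.comp_apply] at h1
    rw [hp, FPD.Theta_eq_eval₂] at h1
    exact h1
  have hprim : (FPD.Phi t f).IsPrimitive := by
    rw [isPrimitive_iff_isUnit_of_C_dvd]
    intro r hr
    obtain ⟨G, hG⟩ := hr
    rcases hF.isUnit_or_isUnit hG with hu | hu
    · exact isUnit_C.mp hu
    · exfalso
      have h1 : FPD.Theta x y t (FPD.Phi t f) = 0 := by
        rw [FPD.Theta_eq_eval₂]
        exact hrootgen f hfxy
      rw [hG, map_mul, FPD.Theta_C] at h1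
      have h2 : FPD.Theta x y t G ≠ 0 := (hu.map (FPD.Theta x y t)).ne_zero
      have h3 : aeval y' r = 0 := (mul_eq_zero.mp h1).resolve_right h2
      have hr0 : r ≠ 0 := by
        rintro rfl
        rw [C_0, zero_mul] at hG
        exact hF.ne_zero hG
      exact htr ⟨r, hr0, h3⟩
  have hdvd := dvd_of_root x y' htr hF hprim (hrootgen f hfxy) (hrootgen h hhxy)
  have h1 := map_dvd (FPD.Psi t) hdvd
  have e1 : ∀ p : MvPolynomial (Fin 2) k, FPD.Psi t (FPD.Phi t p) = p := by
    intro p
    have := congrArg (fun φ => φ p) (FPD.Psi_comp_Phi t)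
    simpa using this
  rwa [e1, e1] at h1

end A3

section C

open MvPolynomial

variable {k K : Type*} [Field k] [Field K] [Algebra k K]

/-- the graded evaluation map on a form -/
theorem Psi_of_isHomogeneous (φ : Fin 3 → K) {H : MvPolynomial (Fin 3) k} {e : ℕ}
    (hH : H.IsHomogeneous e) :
    aeval (fun i => Polynomial.C (φ i) * Polynomial.X) H =
      Polynomial.C (aeval φ H) * Polynomial.X ^ e := by
  have h1 : (fun i => Polynomial.C (φ i) * (Polynomial.X : Polynomial K)) =
      fun i => (Polynomial.X : Polynomial K) * Polynomial.C (φ i) := by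
    funext i; ring
  rw [h1, FT.aeval_mul_of_isHomogeneous hH, mul_comm]
  congr 1
  have h2 := MvPolynomial.aeval_algebraMap_apply (R := k) (A := K) (B := Polynomial K) φ H
  rw [Polynomial.algebraMap_eq] at h2
  exact h2

/-- the graded evaluation map in general -/
theorem Psi_eq_sum (φ : Fin 3 → K) (H : MvPolynomial (Fin 3) k) :
    aeval (fun i => Polynomial.C (φ i) * Polynomial.X) H =
      ∑ e ∈ Finset.range (H.totalDegree + 1),
        Polynomial.C (aeval φ (homogeneousComponent e H)) * Polynomial.X ^ e := by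
  conv_lhs => rw [← sum_homogeneousComponent H, map_sum]
  apply Finset.sum_congr rfl
  intro e _
  exact Psi_of_isHomogeneous φ (homogeneousComponent_isHomogeneous e H)

/-- vanishing of the graded evaluation is vanishing of all components -/
theorem aeval_component_eq_zero (φ : Fin 3 → K) {H : MvPolynomial (Fin 3) k}
    (hH : aeval (fun i => Polynomial.C (φ i) * Polynomial.X) H = 0) (e : ℕ) :
    aeval φ (homogeneousComponent e H) = 0 := by
  by_cases he : e ∈ Finset.range (H.totalDegree + 1)
  · have h1 := congrArg (fun p => Polynomial.coeff p e) (Psi_eq_sum φ H)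
    simp only [hH, Polynomial.coeff_zero, Polynomial.finsetSum_coeff,
      Polynomial.coeff_C_mul, Polynomial.coeff_X_pow] at h1
    rw [Finset.sum_eq_single e] at h1
    · simpa using h1.symm
    · intro b _ hb
      rw [if_neg (Ne.symm hb), mul_zero]
    · intro h; exact absurd he h
  · rw [Finset.mem_range, not_lt] at he
    rw [homogeneousComponent_eq_zero e H (by omega), map_zero]

variable [Infinite k]

/-- divisibility of dehomogenisations lifts to forms -/
theorem hom_dvd_of_dvd_dehom {f₀ : MvPolynomial (Fin 2) k} (hf₀ : f₀ ≠ 0)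
    {H : MvPolynomial (Fin 3) k} {e : ℕ} (hH : H.IsHomogeneous e)
    (hdvd : f₀ ∣ FDH.dehom H) : FAH.hom f₀ ∣ H := by
  by_cases hH0 : H = 0
  · rw [hH0]; exact dvd_zero _
  have hd0 : FDH.dehom H ≠ 0 := fun h0 => hH0 (FDH.eq_zero_of_dehom_eq_zero hH h0)
  obtain ⟨q, hq⟩ := hdvd
  have hq0 : q ≠ 0 := by
    rintro rfl
    rw [mul_zero] at hq
    exact hd0 hq
  have hdeg : f₀.totalDegree + q.totalDegree ≤ e := by
    rw [← totalDegree_mul_of_isDomain hf₀ hq0, ← hq]
    exact FDH.totalDegree_dehom_le H hH
  have hX0 : FDH.dehom (X 0 : MvPolynomial (Fin 3) k) = 1 := by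
    unfold FDH.dehom
    rw [aeval_X]
    rfl
  have hG' : (FAH.hom f₀ * FAH.hom q * X 0 ^ (e - (f₀.totalDegree + q.totalDegree))).IsHomogeneous
      e := by
    have h1 := ((FAH.hom_isHomogeneous f₀).mul (FAH.hom_isHomogeneous q)).mul
      (isHomogeneous_X_pow (R := k) (0 : Fin 3) (e - (f₀.totalDegree + q.totalDegree)))
    have h2 : f₀.totalDegree + q.totalDegree + (e - (f₀.totalDegree + q.totalDegree)) = e := by
      omega
    rwa [h2] at h1
  have heq : H = FAH.hom f₀ * FAH.hom q * X 0 ^ (e - (f₀.totalDegree + q.totalDegree)) := by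
    apply FDH.eq_of_dehom_eq hH hG'
    rw [map_mul, map_mul, map_pow, FDH.dehom_hom, FDH.dehom_hom, hX0, one_pow, mul_one, hq]
  rw [heq, mul_assoc]
  exact Dvd.intro _ rfl

end C

section main

open MvPolynomial

variable {k K : Type*} [Field k] [IsAlgClosed k] [Field K] [Algebra k K]

/-- **S11073** -/
theorem main (hK : IsFunctionField k K) (x y : K)
    (hxy : IntermediateField.adjoin k ({x, y} : Set K) = ⊤) :
    ∃ f : MvPolynomial (Fin 3) k, Irreducible f ∧ f.IsHomogeneous f.totalDegree ∧
      RingHom.ker (MvPolynomial.aeval fun i => Polynomial.C (![(1 : K), x, y] i) * Polynomial.X) =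
        Ideal.span {f} := by
  classical
  obtain ⟨f₀, hf₀, hf₀xy⟩ := exists_irreducible_mem_ker hK x y
  have hf₀0 : f₀ ≠ 0 := hf₀.ne_zero
  have hf0 : FAH.hom f₀ ≠ 0 := by
    intro h0
    have := FDH.dehom_hom f₀
    rw [h0, map_zero] at this
    exact hf₀0 this.symm
  have hhomd := FAH.hom_isHomogeneous f₀
  have htd : (FAH.hom f₀).totalDegree = f₀.totalDegree := hhomd.totalDegree hf0
  have hker : RingHom.ker (MvPolynomial.aeval fun i =>
      Polynomial.C (![(1 : K), x, y] i) * Polynomial.X : MvPolynomial (Fin 3) k →ₐ[k] _) =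
      Ideal.span {FAH.hom f₀} := by
    ext H
    rw [RingHom.mem_ker, Ideal.mem_span_singleton]
    constructor
    · intro hH
      rw [← sum_homogeneousComponent H]
      apply Finset.dvd_sum
      intro e _
      have h1 := aeval_component_eq_zero ![(1 : K), x, y] hH e
      rw [← FDH.aeval_dehom] at h1
      have h2 := dvd_of_aeval_eq_zero hK x y hxy hf₀ hf₀xy h1
      exact hom_dvd_of_dvd_dehom hf₀0 (homogeneousComponent_isHomogeneous e H) h2
    · rintro ⟨G, rfl⟩
      rw [map_mul, Psi_of_isHomogeneous _ hhomd, FAH.aeval_hom, hf₀xy, map_zero, zero_mul,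
        zero_mul]
  refine ⟨FAH.hom f₀, ?_, ?_, hker⟩
  · have hprime : (RingHom.ker (MvPolynomial.aeval fun i =>
        Polynomial.C (![(1 : K), x, y] i) * Polynomial.X :
        MvPolynomial (Fin 3) k →ₐ[k] _)).IsPrime := RingHom.ker_isPrime _
    rw [hker, Ideal.span_singleton_prime hf0] at hprime
    exact hprime.irreducible
  · rw [htd]
    exact hhomd

end main

end Groth.Agent.Lib.helper16.FPK
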