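import Groth.Agent.Lib.helper16.FPlaneNS1

/-! Helper library (helper16): power-basis coefficients over an integrally closed base. -/

set_option autoImplicit false

namespace Groth.Agent.Lib.helper16.FPN

open Polynomial Module

section coeff

variable {A F K : Type*} [CommRing A] [IsDomain A] [IsIntegrallyClosed A] [Field F] [Field K]
  [Algebra A F] [IsFractionRing A F] [Algebra A K] [Algebra F K] [IsScalarTower A F K]

theorem natDegree_minpoly_eq {x : K} (hx : IsIntegral A x) :
    (minpoly A x).natDegree = (minpoly F x).natDegree := by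
  rw [minpoly.isIntegrallyClosed_eq_field_fractions' F hx,
    (minpoly.monic hx).natDegree_map]

/-- elements of `A[x]` are `A`-combinations of `1, x, …, x^(d-1)`, `d = [F(x) : F]` -/
theorem exists_coeff_range {x : K} (hx : IsIntegral A x) {z : K}
    (hz : z ∈ Algebra.adjoin A ({x} : Set K)) :
    ∃ c : ℕ → A, z = ∑ b ∈ Finset.range (minpoly F x).natDegree,
      algebraMap A K (c b) * x ^ b := by
  have hy : ∃ f : A[X], z = aeval x f := by
    rw [Algebra.adjoin_singleton_eq_range_aeval] at hz
    obtain ⟨f, hf⟩ := hz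
    exact ⟨f, hf.symm⟩
  have h1 := IsIntegral.mem_span_pow hx hy
  rw [Submodule.mem_span_range_iff_exists_fun] at h1
  obtain ⟨c, hc⟩ := h1
  rw [← natDegree_minpoly_eq (F := F) hx]
  refine ⟨fun b => if h : b < (minpoly A x).natDegree then c ⟨b, h⟩ else 0, ?_⟩
  rw [← hc, ← Fin.sum_univ_eq_sum_range
    (fun b => algebraMap A K (if h : b < (minpoly A x).natDegree then c ⟨b, h⟩ else 0) * x ^ b)]
  apply Finset.sum_congr rfl
  intro b _
  rw [dif_pos b.2, Algebra.smul_def]

omit [IsDomain A] [IsIntegrallyClosed A] [IsFractionRing A F] [Algebra A K] [IsScalarTower A F K] in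
theorem coeff_unique {x : K} {α β : ℕ → F}
    (h : ∑ b ∈ Finset.range (minpoly F x).natDegree, algebraMap F K (α b) * x ^ b =
      ∑ b ∈ Finset.range (minpoly F x).natDegree, algebraMap F K (β b) * x ^ b) :
    ∀ b < (minpoly F x).natDegree, α b = β b := by
  have hli := linearIndependent_pow (K := F) x
  rw [Fintype.linearIndependent_iff] at hli
  have h1 : ∑ i : Fin (minpoly F x).natDegree, (α i - β i) • x ^ (i : ℕ) = 0 := by
    rw [Fin.sum_univ_eq_sum_range (fun b => (α b - β b) • x ^ b)]
    rw [← sub_eq_zero, ← Finset.sum_sub_distrib] at h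
    rw [← h]
    apply Finset.sum_congr rfl
    intro b _
    rw [Algebra.smul_def, map_sub, sub_mul]
  intro b hb
  have := hli (fun i => α i - β i) h1 ⟨b, hb⟩
  exact sub_eq_zero.mp this

end coeff

end Groth.Agent.Lib.helper16.FPN
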