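import Groth.Agent.Lib.helper16.FXConorm

/-! Helper library (helper16): local integral bases.  For a place `P` of `K` and a finite
extension `K'/K`, the semilocal ring `B_P = ⋂_{Q | P} O_Q` is a free `O_P`-module of rank
`[K' : K]`. -/

set_option autoImplicit false

namespace Groth.Agent.Lib.helper16.FX

open FunFld WithZero Polynomial Module Groth.Agent.Lib.helper16.FF
open scoped IntermediateField

section indep

variable {k L : Type*} [Field k] [Field L] [Algebra k L]

/-- at a single place: the elements `t ^ j * z a` (`j < E`) are `k`-independent modulo `t ^ E` -/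
theorem indep_single (Q : Place k L) (E : ℕ) {t : L} (ht : Q.1 t = exp (-1)) {A : Type*}
    [Fintype A] (s z : A → L) (hs : ∀ a, Q.1 (s a) ≤ 1)
    (hind : ∀ c : A → k, Q.1 (∑ a, c a • s a) < 1 → ∀ a, c a = 0)
    (hz : ∀ a, Q.1 (z a - s a) < 1)
    (c : A × Fin E → k)
    (hrel : Q.1 (∑ α, c α • (t ^ (α.2 : ℕ) * z α.1)) ≤ exp (-(E : ℤ))) :
    ∀ α, c α = 0 := by
  classical
  by_contra hcon
  push Not at hcon
  obtain ⟨α₀, hα₀⟩ := hcon
  have hex : ∃ n : ℕ, ∃ α : A × Fin E, (α.2 : ℕ) = n ∧ c α ≠ 0 := ⟨_, α₀, rfl, hα₀⟩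
  obtain ⟨α₁, hα₁n, hα₁c⟩ := Nat.find_spec hex
  have hmin : ∀ α : A × Fin E, (α.2 : ℕ) < Nat.find hex → c α = 0 := by
    intro α hα
    by_contra hne
    exact Nat.find_min hex hα ⟨α, rfl, hne⟩
  have hj₀E : Nat.find hex < E := by rw [← hα₁n]; exact α₁.2.2
  let j₀ : Fin E := ⟨Nat.find hex, hj₀E⟩
  have hza : ∀ a, Q.1 (z a) ≤ 1 := by
    intro a
    have : z a = (z a - s a) + s a := by ring
    rw [this]
    exact le_trans (Q.1.map_add _ _) (max_le (hz a).le (hs a))
  let S : Fin E → L := fun j => ∑ a, c (a, j) • z a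
  have hS1 : ∀ j, Q.1 (S j) ≤ 1 := by
    intro j
    apply Valuation.map_sum_le
    intro a _
    exact le_trans (val_smul_le Q _ _) (hza a)
  have hsum : (∑ α, c α • (t ^ (α.2 : ℕ) * z α.1)) = ∑ j : Fin E, t ^ (j : ℕ) * S j := by
    rw [Fintype.sum_prod_type_right]
    apply Finset.sum_congr rfl
    intro j _
    rw [Finset.mul_sum]
    apply Finset.sum_congr rfl
    intro a _
    rw [mul_smul_comm]
  have hS0 : Q.1 (S j₀) = 1 := by
    apply le_antisymm (hS1 j₀)
    by_contra hlt
    rw [not_le] at hlt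
    have h2 : Q.1 (∑ a, c (a, j₀) • s a) < 1 := by
      have e : (∑ a, c (a, j₀) • s a) = S j₀ - ∑ a, c (a, j₀) • (z a - s a) := by
        simp only [S]
        rw [← Finset.sum_sub_distrib]
        apply Finset.sum_congr rfl
        intro a _
        rw [smul_sub]
        ring
      rw [e]
      refine lt_of_le_of_lt (Q.1.map_sub _ _) (max_lt hlt ?_)
      apply Valuation.map_sum_lt _ one_ne_zero
      intro a _
      exact lt_of_le_of_lt (val_smul_le Q _ _) (hz a)
    have h3 := hind (fun a => c (a, j₀)) h2 α₁.1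
    apply hα₁c
    have : α₁ = (α₁.1, j₀) := Prod.ext rfl (Fin.ext hα₁n)
    rw [this]
    exact h3
  have hmain : Q.1 (t ^ (j₀ : ℕ) * S j₀) = exp (-((Nat.find hex : ℕ) : ℤ)) := by
    rw [map_mul, map_pow, ht, hS0, mul_one, ← exp_nsmul]
    simp only [nsmul_eq_mul, mul_neg, mul_one]
    rfl
  have hrest : Q.1 (∑ j ∈ Finset.univ.erase j₀, t ^ (j : ℕ) * S j) <
      exp (-((Nat.find hex : ℕ) : ℤ)) := by
    apply Valuation.map_sum_lt _ exp_ne_zero
    intro j hj
    have hjne : j ≠ j₀ := (Finset.mem_erase.mp hj).1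
    rcases lt_or_gt_of_ne (fun h => hjne (Fin.ext h) : (j : ℕ) ≠ Nat.find hex) with hlt | hgt
    · have : S j = 0 := by
        simp only [S]
        apply Finset.sum_eq_zero
        intro a _
        rw [hmin (a, j) hlt, zero_smul]
      rw [this, mul_zero, map_zero]
      exact exp_pos
    · rw [map_mul, map_pow, ht, ← exp_nsmul]
      calc exp ((j : ℕ) • (-1 : ℤ)) * Q.1 (S j) ≤ exp ((j : ℕ) • (-1 : ℤ)) * 1 := by
            gcongr
            exact hS1 j
        _ = exp ((j : ℕ) • (-1 : ℤ)) := mul_one _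
        _ < _ := by
            rw [exp_lt_exp]
            simp only [nsmul_eq_mul, mul_neg, mul_one]
            omega
  have htotal : Q.1 (∑ j : Fin E, t ^ (j : ℕ) * S j) = exp (-((Nat.find hex : ℕ) : ℤ)) := by
    rw [← Finset.add_sum_erase Finset.univ _ (Finset.mem_univ j₀),
      Valuation.map_add_eq_of_lt_left, hmain]
    rw [hmain]
    exact hrest
  rw [hsum, htotal, exp_le_exp] at hrel
  omega

/-- at several places: the elements `t i ^ j * z i a` are `k`-independent modulo the ideal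
`{y | ∀ i, v_i y ≤ exp (- e i)}` -/
theorem indep_multi {ι : Type*} [Fintype ι] [DecidableEq ι] (Q : ι → Place k L) (e d : ι → ℕ)
    (t : ι → L) (ht1 : ∀ i, (Q i).1 (t i) = exp (-1)) (ht2 : ∀ i j, i ≠ j → (Q j).1 (t i) = 1)
    (s z : (i : ι) → Fin (d i) → L) (hs : ∀ i a, (Q i).1 (s i a) ≤ 1)
    (hind : ∀ i (c : Fin (d i) → k), (Q i).1 (∑ a, c a • s i a) < 1 → ∀ a, c a = 0)
    (hz1 : ∀ i a, (Q i).1 (z i a - s i a) < 1)
    (hz2 : ∀ i a j, j ≠ i → (Q j).1 (z i a) ≤ exp (-(e j : ℤ)))
    (c : (Σ i, Fin (d i) × Fin (e i)) → k)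
    (hrel : ∀ i, (Q i).1 (∑ α, c α • (t α.1 ^ (α.2.2 : ℕ) * z α.1 α.2.1)) ≤ exp (-(e i : ℤ))) :
    ∀ α, c α = 0 := by
  rintro ⟨i₀, β⟩
  have h1 := hrel i₀
  rw [Fintype.sum_sigma, ← Finset.add_sum_erase Finset.univ _ (Finset.mem_univ i₀)] at h1
  have hrest : (Q i₀).1 (∑ i ∈ Finset.univ.erase i₀, ∑ β : Fin (d i) × Fin (e i),
      c ⟨i, β⟩ • (t i ^ (β.2 : ℕ) * z i β.1)) ≤ exp (-(e i₀ : ℤ)) := by
    apply Valuation.map_sum_le
    intro i hi
    have hne : i ≠ i₀ := (Finset.mem_erase.mp hi).1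
    apply Valuation.map_sum_le
    intro β _
    refine le_trans (val_smul_le _ _ _) ?_
    rw [map_mul, map_pow, ht2 i i₀ hne, one_pow, one_mul]
    exact hz2 i β.1 i₀ (Ne.symm hne)
  have hmain : (Q i₀).1 (∑ β : Fin (d i₀) × Fin (e i₀),
      c ⟨i₀, β⟩ • (t i₀ ^ (β.2 : ℕ) * z i₀ β.1)) ≤ exp (-(e i₀ : ℤ)) := by
    have e1 : ∀ x y : L, x = (x + y) - y := fun x y => by ring
    rw [e1 (∑ β : Fin (d i₀) × Fin (e i₀), c ⟨i₀, β⟩ • (t i₀ ^ (β.2 : ℕ) * z i₀ β.1))
      (∑ i ∈ Finset.univ.erase i₀, ∑ β : Fin (d i) × Fin (e i),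
      c ⟨i, β⟩ • (t i ^ (β.2 : ℕ) * z i β.1))]
    exact le_trans ((Q i₀).1.map_sub _ _) (max_le h1 hrest)
  exact indep_single (Q i₀) (e i₀) (ht1 i₀) (s i₀) (z i₀) (hs i₀) (hind i₀) (hz1 i₀)
    (fun β => c ⟨i₀, β⟩) hmain β

end indep

section semilocal

variable {k K K' : Type*} [Field k] [Field K] [Field K'] [Algebra k K] [Algebra K K']
  [Algebra k K'] [IsScalarTower k K K']

variable (K') in
/-- the semilocal ring `B_P = ⋂_{Q | P} O_Q` -/
def semiLocal (P : Place k K) : Subring K' where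
  carrier := {y | ∀ Q : Place k K', IsOver Q P → Q.1 y ≤ 1}
  mul_mem' {x y} hx hy Q hQ := by
    rw [map_mul]
    exact mul_le_one' (hx Q hQ) (hy Q hQ)
  one_mem' Q _ := by rw [map_one]
  add_mem' {x y} hx hy Q hQ := le_trans (Q.1.map_add _ _) (max_le (hx Q hQ) (hy Q hQ))
  zero_mem' Q _ := by rw [map_zero]; exact zero_le
  neg_mem' {x} hx Q hQ := by rw [Valuation.map_neg]; exact hx Q hQ

theorem mem_semiLocal {P : Place k K} {y : K'} :
    y ∈ semiLocal K' P ↔ ∀ Q : Place k K', IsOver Q P → Q.1 y ≤ 1 := Iff.rfl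

variable (K') in
/-- the ideal `t B_P` of the semilocal ring, as a `k`-subspace of `K'` -/
def semiLocalT (P : Place k K) : Submodule k K' where
  carrier := {y | ∀ Q : Place k K', IsOver Q P → Q.1 y ≤ exp (-(ramIdx Q P : ℤ))}
  add_mem' {x y} hx hy Q hQ := le_trans (Q.1.map_add _ _) (max_le (hx Q hQ) (hy Q hQ))
  zero_mem' Q _ := by rw [map_zero]; exact zero_le
  smul_mem' c x hx Q hQ := le_trans (val_smul_le Q c x) (hx Q hQ)

theorem mem_semiLocalT {P : Place k K} {y : K'} :
    y ∈ semiLocalT K' P ↔ ∀ Q : Place k K', IsOver Q P → Q.1 y ≤ exp (-(ramIdx Q P : ℤ)) :=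
  Iff.rfl

theorem algebraMap_mem_semiLocal [Algebra.IsAlgebraic K K'] {P : Place k K} {c : K}
    (hc : P.1 c ≤ 1) : algebraMap K K' c ∈ semiLocal K' P := by
  intro Q hQ
  rw [isOverWith_ramIdx hQ c]
  exact pow_le_one₀ zero_le hc

/-- `m_P B_P ⊆ t B_P` -/
theorem smul_mem_semiLocalT [Algebra.IsAlgebraic K K'] {P : Place k K} {c : K} (hc : P.1 c < 1)
    {y : K'} (hy : y ∈ semiLocal K' P) : c • y ∈ semiLocalT K' P := by
  intro Q hQ
  rw [Algebra.smul_def, map_mul, isOverWith_ramIdx hQ c]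
  calc P.1 c ^ ramIdx Q P * Q.1 y ≤ exp (-1) ^ ramIdx Q P * 1 := by
        gcongr
        · exact lt_one_iff_le_exp_neg_one.mp hc
        · exact hy Q hQ
    _ = exp (-(ramIdx Q P : ℤ)) := by
        rw [mul_one, ← exp_nsmul]
        simp

theorem smul_mem_semiLocal [Algebra.IsAlgebraic K K'] {P : Place k K} {c : K} (hc : P.1 c ≤ 1)
    {y : K'} (hy : y ∈ semiLocal K' P) : c • y ∈ semiLocal K' P := by
  rw [Algebra.smul_def]
  exact (semiLocal K' P).mul_mem (algebraMap_mem_semiLocal hc) hy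

theorem semiLocalT_le_semiLocal {P : Place k K} {y : K'} (hy : y ∈ semiLocalT K' P) :
    y ∈ semiLocal K' P := by
  intro Q hQ
  refine le_trans (hy Q hQ) ?_
  rw [← exp_zero, exp_le_exp]
  omega

/-- a family of elements of `K'` is `O_P`-independent modulo `t B_P` -/
def IndepModT (P : Place k K) {ι : Type*} [Fintype ι] (b : ι → K') : Prop :=
  ∀ c : ι → K, (∀ i, P.1 (c i) ≤ 1) → ∑ i, c i • b i ∈ semiLocalT K' P → ∀ i, P.1 (c i) < 1

/-- **Lemma 1**: coefficients of elements of `B_P` with respect to a family independent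
modulo `t` are integral -/
theorem coeff_integral [Algebra.IsAlgebraic K K'] {P : Place k K} {ι : Type*} [Fintype ι]
    {b : ι → K'} (hb : IndepModT P b) (c : ι → K)
    (hc : ∑ i, c i • b i ∈ semiLocal K' P) : ∀ i, P.1 (c i) ≤ 1 := by
  classical
  by_contra hcon
  push Not at hcon
  obtain ⟨i₁, hi₁⟩ := hcon
  have : Nonempty ι := ⟨i₁⟩
  obtain ⟨i₀, hi₀⟩ := Finite.exists_max (fun i => P.1 (c i))
  have hu : 1 < P.1 (c i₀) := lt_of_lt_of_le hi₁ (hi₀ i₁)
  have hu0 : c i₀ ≠ 0 := by
    rintro h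
    rw [h, map_zero] at hu
    exact absurd hu (not_lt.mpr zero_le)
  have hinv : P.1 (c i₀)⁻¹ < 1 := by
    rw [map_inv₀]
    exact inv_lt_one_of_one_lt₀ hu
  have h1 := hb (fun i => (c i₀)⁻¹ * c i) (fun i => by
    rw [map_mul, map_inv₀]
    calc (P.1 (c i₀))⁻¹ * P.1 (c i) ≤ (P.1 (c i₀))⁻¹ * P.1 (c i₀) := by
          gcongr
          exact hi₀ i
      _ = 1 := inv_mul_cancel₀ (val_ne_zero P hu0)) (by
    have : ∑ i, ((c i₀)⁻¹ * c i) • b i = (c i₀)⁻¹ • ∑ i, c i • b i := by
      rw [Finset.smul_sum]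
      apply Finset.sum_congr rfl
      intro i _
      rw [mul_smul]
    rw [this]
    exact smul_mem_semiLocalT hinv hc) i₀
  rw [inv_mul_cancel₀ hu0, map_one] at h1
  exact lt_irrefl _ h1

theorem linearIndependent_of_indepModT [Algebra.IsAlgebraic K K'] {P : Place k K} {ι : Type*}
    [Fintype ι] {b : ι → K'} (hb : IndepModT P b) : LinearIndependent K b := by
  rw [Fintype.linearIndependent_iff]
  intro c hc i
  by_contra hne
  obtain ⟨u, hu⟩ := exists_val_eq_exp P 1
  have hu0 : u ≠ 0 := by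
    rintro rfl
    rw [map_zero] at hu
    exact exp_ne_zero hu.symm
  have h1 := coeff_integral hb (fun j => (u * (c i)⁻¹) * c j) (by
    have : ∑ j, ((u * (c i)⁻¹) * c j) • b j = (u * (c i)⁻¹) • ∑ j, c j • b j := by
      rw [Finset.smul_sum]
      apply Finset.sum_congr rfl
      intro j _
      rw [mul_smul]
    rw [this, hc, smul_zero]
    exact (semiLocal K' P).zero_mem) i
  rw [mul_assoc, inv_mul_cancel₀ hne, mul_one, hu, ← exp_zero, exp_le_exp] at h1
  omega

end semilocal

section residueBasis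

variable {k L : Type*} [Field k] [Field L] [Algebra k L]

/-- lifts of a `k`-basis of the residue field of a place -/
theorem exists_residue_basis_lift (hL : IsFF1 k L) (Q : Place k L) :
    ∃ s : Fin Q.deg → L, (∀ a, Q.1 (s a) ≤ 1) ∧
      (∀ c : Fin Q.deg → k, Q.1 (∑ a, c a • s a) < 1 → ∀ a, c a = 0) ∧
      ∀ y : L, Q.1 y ≤ 1 → ∃ μ : Fin Q.deg → k, Q.1 (y - ∑ a, μ a • s a) < 1 := by
  have hfd : FiniteDimensional k (IsLocalRing.ResidueField Q.O) :=
    finiteDimensional_residueField hL Q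
  let b : Module.Basis (Fin Q.deg) k (IsLocalRing.ResidueField Q.O) := Module.finBasis k _
  have hsurj : Function.Surjective (IsLocalRing.residue Q.O) := IsLocalRing.residue_surjective
  choose lift hlift using hsurj
  refine ⟨fun a => (lift (b a) : L), fun a => (lift (b a)).2, ?_, ?_⟩
  · intro c hc
    have h1 : (∑ a, c a • (lift (b a) : L)) = ((∑ a, c a • lift (b a) : Q.O) : L) := by
      rw [coe_sum_O]
      apply Finset.sum_congr rfl
      intro a _
      rw [coe_smul_O]
    rw [h1, ← residue_eq_zero_iff, map_sum] at hc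
    simp only [residue_smul, hlift] at hc
    exact Fintype.linearIndependent_iff.mp b.linearIndependent c hc
  · intro y hy
    let y' : Q.O := ⟨y, hy⟩
    refine ⟨fun a => b.repr (IsLocalRing.residue Q.O y') a, ?_⟩
    have h1 : y - ∑ a, (b.repr (IsLocalRing.residue Q.O y') a) • (lift (b a) : L) =
        ((y' - ∑ a, (b.repr (IsLocalRing.residue Q.O y') a) • lift (b a) : Q.O) : L) := by
      show y - _ = (y' : L) - ((∑ a, (b.repr (IsLocalRing.residue Q.O y') a) • lift (b a) : Q.O) : L)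
      rw [coe_sum_O]
      congr 1
      apply Finset.sum_congr rfl
      intro a _
      rw [coe_smul_O]
    rw [h1, ← residue_eq_zero_iff, map_sub, map_sum]
    simp only [residue_smul, hlift]
    have := b.sum_repr (IsLocalRing.residue Q.O y')
    rw [sub_eq_zero]
    exact this.symm

end residueBasis

section family

universe v

variable {k K : Type*} {K' : Type v} [Field k] [Field K] [Field K'] [Algebra k K] [Algebra K K']
  [Algebra k K'] [IsScalarTower k K K']

/-- many elements of `B_P`, `k`-independent modulo `t B_P` -/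
theorem exists_indep_family [FiniteDimensional K K'] (hK : IsFunctionField k K) (P : Place k K) :
    ∃ (N : Type v) (_ : Fintype N) (w : N → K'), Fintype.card N = finrank K K' * P.deg ∧
      (∀ α, w α ∈ semiLocal K' P) ∧
      ∀ c : N → k, ∑ α, c α • w α ∈ semiLocalT K' P → ∀ α, c α = 0 := by
  classical
  have hK1 : IsFF1 k K := hK.1
  have hK' : IsFF1 k K' := isFF1_of_finite K' hK1
  obtain ⟨hfin, hsum⟩ := sum_ramIdx_mul_deg (K' := K') hK P
  have hsum' := hsum hfin.toFinset (fun Q => hfin.mem_toFinset)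
  let ι := ↥hfin.toFinset
  let Q : ι → Place k K' := fun i => i.1
  have hQover : ∀ i, IsOver (Q i) P := fun i => hfin.mem_toFinset.mp i.2
  have hQinj : Function.Injective Q := Subtype.val_injective
  let e : ι → ℕ := fun i => ramIdx (Q i) P
  let d : ι → ℕ := fun i => (Q i).deg
  -- the uniformizers
  have ht : ∀ i, ∃ y : K', (Q i).1 y = exp (-1) ∧ ∀ j, i ≠ j → (Q j).1 y = 1 := by
    intro i
    obtain ⟨π, hπ⟩ := exists_uniformizer (Q i)
    obtain ⟨y, hy⟩ := weak_approximation Q hQinj (fun j => if j = i then π else 1) 2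
    refine ⟨y, ?_, ?_⟩
    · have h1 := hy i
      simp only [if_true] at h1
      have h2 : y = π + (y - π) := by ring
      rw [h2, Valuation.map_add_eq_of_lt_left, hπ]
      rw [hπ]
      refine lt_of_le_of_lt h1 ?_
      rw [exp_lt_exp]; omega
    · intro j hij
      have h1 := hy j
      rw [if_neg (Ne.symm hij)] at h1
      have h2 : y = 1 + (y - 1) := by ring
      rw [h2, Valuation.map_add_eq_of_lt_left, map_one]
      rw [map_one]
      refine lt_of_le_of_lt h1 ?_
      rw [← exp_zero, exp_lt_exp]; omega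
  choose t ht1 ht2 using ht
  -- the residue bases
  have hs := fun i => exists_residue_basis_lift hK' (Q i)
  choose s hs1 hs2 hs3 using hs
  -- approximations
  let M : ℤ := ∑ i, (e i : ℤ) + 1
  have hM : ∀ j, (e j : ℤ) ≤ M := by
    intro j
    have : (e j : ℤ) ≤ ∑ i, (e i : ℤ) :=
      Finset.single_le_sum (f := fun i => (e i : ℤ)) (fun i _ => by positivity) (Finset.mem_univ j)
    omega
  have hM1 : 1 ≤ M := by
    have : (0 : ℤ) ≤ ∑ i, (e i : ℤ) := Finset.sum_nonneg (fun i _ => by positivity)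
    omega
  have hz : ∀ i (a : Fin (d i)), ∃ y : K', (Q i).1 (y - s i a) < 1 ∧
      ∀ j, j ≠ i → (Q j).1 y ≤ exp (-(e j : ℤ)) := by
    intro i a
    obtain ⟨y, hy⟩ := weak_approximation Q hQinj (fun j => if j = i then s i a else 0) M
    refine ⟨y, ?_, ?_⟩
    · have h1 := hy i
      simp only [if_true] at h1
      refine lt_of_le_of_lt h1 ?_
      rw [← exp_zero, exp_lt_exp]; omega
    · intro j hj
      have h1 := hy j
      rw [if_neg hj, sub_zero] at h1
      refine le_trans h1 ?_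
      rw [exp_le_exp]
      have := hM j
      omega
  choose z hz1 hz2 using hz
  have hzint : ∀ i a, (Q i).1 (z i a) ≤ 1 := by
    intro i a
    have : z i a = (z i a - s i a) + s i a := by ring
    rw [this]
    exact le_trans ((Q i).1.map_add _ _) (max_le (hz1 i a).le (hs1 i a))
  refine ⟨(Σ i, Fin (d i) × Fin (e i)), inferInstance,
    fun α => t α.1 ^ (α.2.2 : ℕ) * z α.1 α.2.1, ?_, ?_, ?_⟩
  · rw [Fintype.card_sigma, ← hsum', ← Finset.sum_coe_sort hfin.toFinset]
    apply Finset.sum_congr rfl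
    intro i _
    rw [Fintype.card_prod, Fintype.card_fin, Fintype.card_fin, mul_comm]
  · rintro ⟨i, a, l⟩ Q' hQ'
    let j : ι := ⟨Q', hfin.mem_toFinset.mpr hQ'⟩
    show (Q j).1 (t i ^ (l : ℕ) * z i a) ≤ 1
    rw [map_mul, map_pow]
    by_cases hij : i = j
    · rw [← hij, ht1 i]
      calc exp (-1 : ℤ) ^ (l : ℕ) * (Q i).1 (z i a) ≤ 1 * 1 := by
            gcongr
            · exact pow_le_one₀ zero_le (by rw [← exp_zero, exp_le_exp]; omega)
            · exact hzint i a
        _ = 1 := one_mul _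
    · rw [ht2 i j hij, one_pow, one_mul]
      refine le_trans (hz2 i a j (Ne.symm hij)) ?_
      rw [← exp_zero, exp_le_exp]
      omega
  · intro c hc
    exact indep_multi Q e d t ht1 ht2 s z hs1 hs2 hz1 hz2 c (fun i => hc (Q i) (hQover i))

end family

section maximal

variable {k K K' : Type*} [Field k] [Field K] [Field K'] [Algebra k K] [Algebra K K']
  [Algebra k K'] [IsScalarTower k K K']

theorem smul_mem_semiLocalT' [Algebra.IsAlgebraic K K'] {P : Place k K} {c : K} (hc : P.1 c ≤ 1)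
    {y : K'} (hy : y ∈ semiLocalT K' P) : c • y ∈ semiLocalT K' P := by
  intro Q hQ
  rw [Algebra.smul_def, map_mul, isOverWith_ramIdx hQ c]
  calc P.1 c ^ ramIdx Q P * Q.1 y ≤ 1 * exp (-(ramIdx Q P : ℤ)) := by
        gcongr
        · exact pow_le_one₀ zero_le hc
        · exact hy Q hQ
    _ = _ := one_mul _

/-- a maximal family independent modulo `t` spans `B_P` modulo `t B_P` -/
theorem exists_mod_of_maximal [Algebra.IsAlgebraic K K'] {P : Place k K} {m : ℕ}
    {b : Fin m → K'} (hb : IndepModT P b)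
    (hmax : ∀ b' : Fin (m + 1) → K', (∀ i, b' i ∈ semiLocal K' P) → ¬ IndepModT P b')
    (hbB : ∀ i, b i ∈ semiLocal K' P) {y : K'} (hy : y ∈ semiLocal K' P) :
    ∃ c : Fin m → K, (∀ i, P.1 (c i) ≤ 1) ∧ y - ∑ i, c i • b i ∈ semiLocalT K' P := by
  have h1 := hmax (Fin.snoc b y) (fun i => by
    refine Fin.lastCases ?_ (fun i => ?_) i
    · rw [Fin.snoc_last]; exact hy
    · rw [Fin.snoc_castSucc]; exact hbB i)
  unfold IndepModT at h1
  push Not at h1
  obtain ⟨c', hc'1, hc'2, i₀, hi₀⟩ := h1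
  rw [Fin.sum_univ_castSucc] at hc'2
  simp only [Fin.snoc_castSucc, Fin.snoc_last] at hc'2
  by_cases hlast : P.1 (c' (Fin.last m)) < 1
  · exfalso
    have h2 : ∑ i : Fin m, c' i.castSucc • b i ∈ semiLocalT K' P := by
      have := (semiLocalT K' P).sub_mem hc'2 (smul_mem_semiLocalT hlast hy)
      rwa [add_sub_cancel_right] at this
    have h3 := hb (fun i => c' i.castSucc) (fun i => hc'1 _) h2
    revert hi₀
    refine Fin.lastCases ?_ (fun i => ?_) i₀
    · exact fun h => absurd hlast (not_lt.mpr h)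
    · exact fun h => absurd (h3 i) (not_lt.mpr h)
  · have hu1 : P.1 (c' (Fin.last m)) = 1 := le_antisymm (hc'1 _) (not_lt.mp hlast)
    have hu0 : c' (Fin.last m) ≠ 0 := by
      intro h
      rw [h, map_zero] at hu1
      exact zero_ne_one hu1
    have hinv : P.1 (c' (Fin.last m))⁻¹ ≤ 1 := by rw [map_inv₀, hu1, inv_one]
    refine ⟨fun i => -((c' (Fin.last m))⁻¹ * c' i.castSucc), fun i => ?_, ?_⟩
    · rw [Valuation.map_neg, map_mul]
      exact mul_le_one' hinv (hc'1 _)
    · have h4 := smul_mem_semiLocalT' hinv hc'2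
      have e1 : (c' (Fin.last m))⁻¹ • (∑ i : Fin m, c' i.castSucc • b i + c' (Fin.last m) • y) =
          y - ∑ i : Fin m, (-((c' (Fin.last m))⁻¹ * c' i.castSucc)) • b i := by
        rw [smul_add, smul_smul, inv_mul_cancel₀ hu0, one_smul, Finset.smul_sum]
        simp only [neg_smul, Finset.sum_neg_distrib, sub_neg_eq_add, mul_smul]
        rw [add_comm]
      rw [e1] at h4
      exact h4

end maximal

section main

universe v

variable {k K : Type*} {K' : Type v} [Field k] [Field K] [Field K'] [Algebra k K] [Algebra K K']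
  [Algebra k K'] [IsScalarTower k K K']

omit [Field K'] [Algebra K K'] [Algebra k K'] [IsScalarTower k K K'] in
theorem deg_pos (hK : IsFF1 k K) (P : Place k K) : 0 < P.deg := by
  have := finiteDimensional_residueField hK P
  exact Module.finrank_pos

/-- **Local integral basis**: `B_P` has an `O_P`-basis of `[K' : K]` elements -/
theorem exists_integral_basis [FiniteDimensional K K'] (hK : IsFunctionField k K)
    (P : Place k K) :
    ∃ b : Fin (finrank K K') → K', (∀ i, b i ∈ semiLocal K' P) ∧ IndepModT P b := by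
  classical
  have hK1 : IsFF1 k K := hK.1
  let p : ℕ → Prop := fun m => ∃ b : Fin m → K', (∀ i, b i ∈ semiLocal K' P) ∧ IndepModT P b
  have h0 : p 0 := ⟨fun i => i.elim0, fun i => i.elim0, fun c _ _ i => i.elim0⟩
  have hle : ∀ m, p m → m ≤ finrank K K' := by
    rintro m ⟨b, -, hb⟩
    have := (linearIndependent_of_indepModT hb).fintype_card_le_finrank
    rwa [Fintype.card_fin] at this
  have hpm : p (Nat.findGreatest p (finrank K K')) :=
    Nat.findGreatest_spec (Nat.zero_le _) h0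
  suffices hsuff : finrank K K' ≤ Nat.findGreatest p (finrank K K') by
    have heq : Nat.findGreatest p (finrank K K') = finrank K K' :=
      le_antisymm (Nat.findGreatest_le _) hsuff
    rw [heq] at hpm
    exact hpm
  set m := Nat.findGreatest p (finrank K K') with hm
  obtain ⟨b, hbB, hb⟩ := hpm
  have hmax : ∀ b' : Fin (m + 1) → K', (∀ i, b' i ∈ semiLocal K' P) → ¬ IndepModT P b' := by
    intro b' hb'B hb'
    have h1 : p (m + 1) := ⟨b', hb'B, hb'⟩
    exact Nat.findGreatest_is_greatest (Nat.lt_succ_self m) (hle _ h1) h1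
  obtain ⟨N, hNfin, w, hcard, hwB, hwind⟩ := exists_indep_family (K' := K') hK P
  obtain ⟨s, hs1, -, hs3⟩ := exists_residue_basis_lift hK1 P
  let π := (semiLocalT K' P).mkQ
  have hπ0 : ∀ y, π y = 0 ↔ y ∈ semiLocalT K' P := fun y => Submodule.Quotient.mk_eq_zero _
  have hwli : LinearIndependent k (fun α => π (w α)) := by
    rw [Fintype.linearIndependent_iff]
    intro c hc
    apply hwind c
    rw [← hπ0, map_sum]
    simpa only [map_smul] using hc
  let g : Fin m × Fin P.deg → K' := fun ia => s ia.2 • b ia.1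
  let S' : Submodule k (K' ⧸ semiLocalT K' P) := Submodule.span k (Set.range fun ia => π (g ia))
  have hwS : ∀ α, π (w α) ∈ S' := by
    intro α
    obtain ⟨c, hc1, hc2⟩ := exists_mod_of_maximal hb hmax hbB (hwB α)
    have hμ := fun i => hs3 (c i) (hc1 i)
    choose μ hμ using hμ
    have h1 : w α - ∑ ia : Fin m × Fin P.deg, μ ia.1 ia.2 • g ia ∈ semiLocalT K' P := by
      have e1 : w α - ∑ ia : Fin m × Fin P.deg, μ ia.1 ia.2 • g ia =
          (w α - ∑ i, c i • b i) + ∑ i, (c i - ∑ a, μ i a • s a) • b i := by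
        rw [Fintype.sum_prod_type]
        simp only [g, sub_smul, Finset.sum_sub_distrib, Finset.sum_smul, smul_assoc]
        ring
      rw [e1]
      refine (semiLocalT K' P).add_mem hc2 ((semiLocalT K' P).sum_mem fun i _ => ?_)
      exact smul_mem_semiLocalT (hμ i) (hbB i)
    have h2 : π (w α) = ∑ ia : Fin m × Fin P.deg, μ ia.1 ia.2 • π (g ia) := by
      rw [← sub_eq_zero, ← (hπ0 _).mpr h1, map_sub, map_sum]
      simp only [map_smul]
    rw [h2]
    exact S'.sum_mem fun ia _ => S'.smul_mem _ (Submodule.subset_span ⟨ia, rfl⟩)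
  have hli' : LinearIndependent k (fun α => (⟨π (w α), hwS α⟩ : S')) :=
    LinearIndependent.of_comp S'.subtype hwli
  have hfin : FiniteDimensional k S' := FiniteDimensional.span_of_finite k (Set.finite_range _)
  have h3 := hli'.fintype_card_le_finrank
  have h4 : finrank k S' ≤ Fintype.card (Fin m × Fin P.deg) := finrank_range_le_card _
  rw [hcard] at h3
  rw [Fintype.card_prod, Fintype.card_fin, Fintype.card_fin] at h4
  exact Nat.le_of_mul_le_mul_right (le_trans h3 h4) (deg_pos hK1 P)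

end main

end Groth.Agent.Lib.helper16.FX
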