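import Groth.Agent.Lib.helper16.FXGal
import Groth.Agent.Lib.helper16.FXLocal

/-! Helper library (helper16): residue degrees of places lying over a place; the quadratic case. -/

set_option autoImplicit false

namespace Groth.Agent.Lib.helper16.FX

open FunFld WithZero Polynomial Module Groth.Agent.Lib.helper16.FF
open scoped IntermediateField

variable {k K K' : Type*} [Field k] [Field K] [Field K'] [Algebra k K] [Algebra K K']
  [Algebra k K'] [IsScalarTower k K K']

/-- the inclusion `O_P → O_Q` for `Q | P` -/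
def overO {Q : Place k K'} {P : Place k K} {e : ℕ} (h : IsOverWith Q P e) (y : P.O) : Q.O :=
  ⟨algebraMap K K' (y : K), by
    show Q.1 (algebraMap K K' (y : K)) ≤ 1
    rw [h]
    exact pow_le_one₀ zero_le y.2⟩

omit [IsScalarTower k K K'] in
theorem coe_overO {Q : Place k K'} {P : Place k K} {e : ℕ} (h : IsOverWith Q P e) (y : P.O) :
    ((overO h y : Q.O) : K') = algebraMap K K' (y : K) := rfl

/-- the residue map of `Q` restricted to `O_P` -/
noncomputable def overResidue {Q : Place k K'} {P : Place k K} {e : ℕ} (h : IsOverWith Q P e) :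
    P.O →ₗ[k] IsLocalRing.ResidueField Q.O where
  toFun y := IsLocalRing.residue Q.O (overO h y)
  map_add' y z := by
    have h' : overO h (y + z) = overO h y + overO h z := Subtype.ext (map_add _ _ _)
    rw [h', map_add]
  map_smul' c y := by
    have h' : overO h (c • y) = c • overO h y :=
      Subtype.ext (by
        rw [coe_overO, coe_smul_O, coe_smul_O, coe_overO, Algebra.smul_def, Algebra.smul_def,
          map_mul, ← IsScalarTower.algebraMap_apply])
    rw [h']
    exact residue_smul Q c _

theorem ker_overResidue [Algebra.IsAlgebraic K K'] {Q : Place k K'} {P : Place k K} {e : ℕ}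
    (h : IsOverWith Q P e) :
    LinearMap.ker (overResidue h) = LinearMap.ker (residueₗ P) := by
  ext y
  rw [LinearMap.mem_ker, LinearMap.mem_ker, residueₗ_apply, residue_eq_zero_iff]
  show IsLocalRing.residue Q.O (overO h y) = 0 ↔ _
  rw [residue_eq_zero_iff, coe_overO, h]
  have he := isOverWith_pos h
  constructor
  · intro h1
    by_contra h2
    rw [not_lt] at h2
    exact absurd h1 (not_lt.mpr (one_le_pow₀ h2))
  · intro h1
    exact pow_lt_one₀ zero_le h1 (by omega)

/-- residue degrees grow in extensions -/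
theorem deg_le_of_isOverWith [FiniteDimensional K K'] (hK : IsFF1 k K) {Q : Place k K'}
    {P : Place k K} {e : ℕ} (h : IsOverWith Q P e) : P.deg ≤ Q.deg := by
  have hfd := finiteDimensional_residueField (isFF1_of_finite K' hK) Q
  have h1 := (LinearMap.quotKerEquivOfSurjective _ (residueₗ_surjective P)).finrank_eq
  have h2 := (LinearMap.quotKerEquivRange (overResidue h)).finrank_eq
  rw [ker_overResidue] at h2
  unfold Place.deg
  rw [← h1, h2]
  exact Submodule.finrank_le _

theorem deg_le_of_isOver [FiniteDimensional K K'] (hK : IsFF1 k K) {Q : Place k K'}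
    {P : Place k K} (h : IsOver Q P) : P.deg ≤ Q.deg := by
  obtain ⟨e, he⟩ := h
  exact deg_le_of_isOverWith hK he

/-- in a quadratic extension, a place over which every place is ramified has exactly one
place above it, with `e = 2` and the same degree -/
theorem unique_of_ramified [FiniteDimensional K K'] (hK : IsFunctionField k K)
    (hdeg : finrank K K' = 2) (P : Place k K)
    (hram : ∀ Q : Place k K', IsOver Q P → 2 ≤ ramIdx Q P) :
    (∃! Q : Place k K', IsOver Q P) ∧
    ∀ Q : Place k K', IsOver Q P → IsOverWith Q P 2 ∧ Q.deg = P.deg := by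
  classical
  obtain ⟨hfin, hsum⟩ := sum_ramIdx_mul_deg (K' := K') hK P
  have h1 := hsum hfin.toFinset (fun Q => hfin.mem_toFinset)
  rw [hdeg] at h1
  have hP := FX.deg_pos hK.1 P
  have hkey : ∀ Q : Place k K', IsOver Q P →
      2 * P.deg ≤ ramIdx Q P * Q.deg := by
    intro Q hQ
    have h2 := hram Q hQ
    have h3 := deg_le_of_isOver hK.1 hQ
    calc 2 * P.deg ≤ ramIdx Q P * P.deg := Nat.mul_le_mul_right _ h2
      _ ≤ ramIdx Q P * Q.deg := Nat.mul_le_mul_left _ h3
  have hne : hfin.toFinset.Nonempty := by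
    by_contra hemp
    rw [Finset.not_nonempty_iff_eq_empty] at hemp
    rw [hemp, Finset.sum_empty] at h1
    omega
  obtain ⟨Q₀, hQ₀⟩ := hne
  have hQ₀' : IsOver Q₀ P := hfin.mem_toFinset.mp hQ₀
  have huniq : ∀ Q : Place k K', IsOver Q P → Q = Q₀ := by
    intro Q hQ
    by_contra hne
    have hQm : Q ∈ hfin.toFinset := hfin.mem_toFinset.mpr hQ
    have h2 : ∑ Q' ∈ ({Q, Q₀} : Finset (Place k K')), ramIdx Q' P * Q'.deg ≤
        ∑ Q' ∈ hfin.toFinset, ramIdx Q' P * Q'.deg := by
      apply Finset.sum_le_sum_of_subset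
      intro Q' hQ'
      rw [Finset.mem_insert, Finset.mem_singleton] at hQ'
      rcases hQ' with rfl | rfl
      · exact hQm
      · exact hQ₀
    rw [Finset.sum_pair hne, h1] at h2
    have h3 := hkey Q hQ
    have h4 := hkey Q₀ hQ₀'
    omega
  have hall : ∀ Q : Place k K', IsOver Q P → IsOverWith Q P 2 ∧ Q.deg = P.deg := by
    intro Q hQ
    have hQQ := huniq Q hQ
    have hs : hfin.toFinset = {Q₀} := by
      ext Q'
      rw [Finset.mem_singleton, hfin.mem_toFinset]
      exact ⟨huniq Q', fun h => h ▸ hQ₀'⟩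
    rw [hs, Finset.sum_singleton] at h1
    rw [hQQ]
    have h2 := hram Q₀ hQ₀'
    have h3 := deg_le_of_isOver hK.1 hQ₀'
    have h4 : ramIdx Q₀ P = 2 ∧ Q₀.deg = P.deg := by
      have h5 : 2 * P.deg ≤ 2 * Q₀.deg := Nat.mul_le_mul_left _ h3
      have h6 : 2 * Q₀.deg ≤ ramIdx Q₀ P * Q₀.deg := Nat.mul_le_mul_right _ h2
      have h7 : Q₀.deg = P.deg := by omega
      refine ⟨?_, h7⟩
      rw [h7] at h1
      exact Nat.eq_of_mul_eq_mul_right hP h1
    refine ⟨?_, h4.2⟩
    rw [← h4.1]
    exact isOverWith_ramIdx hQ₀'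
  exact ⟨⟨Q₀, hQ₀', huniq⟩, hall⟩

end Groth.Agent.Lib.helper16.FX
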