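import Groth.Agent.Lib.helper16.FHyper
import Groth.Agent.Lib.helper16.FXOver

/-! Helper library (helper16): places of the rational function field `k(X)`. -/

set_option autoImplicit false

namespace Groth.Agent.Lib.helper16.FR

open FunFld WithZero Polynomial Module Groth.Agent.Lib.helper16.FF Groth.Agent.Lib.helper16.FX
open scoped IntermediateField

variable {k : Type*} [Field k]

/-- `k(X)` is a function field over `k` -/
theorem isFunctionField_ratFunc : IsFunctionField k (RatFunc k) := by
  refine ⟨⟨RatFunc.X, RatFunc.transcendental_X, ?_⟩, ?_⟩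
  · apply Module.finite_of_finrank_pos
    rw [RatFunc.adjoin_X, IntermediateField.finrank_top]
    exact one_pos
  · intro r hr
    by_contra hcon
    apply RatFunc.transcendental_of_ne_C r _ hr
    rintro ⟨c, rfl⟩
    exact hcon ⟨c, (RatFunc.algebraMap_eq_C (K := k) ▸ rfl)⟩

theorem finrank_adjoin_X : finrank k⟮(RatFunc.X : RatFunc k)⟯ (RatFunc k) = 1 := by
  rw [RatFunc.adjoin_X, IntermediateField.finrank_top]

theorem alg_eq_aeval (g : k[X]) :
    algebraMap k[X] (RatFunc k) g = aeval (RatFunc.X : RatFunc k) g :=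
  (RatFunc.aeval_X_left_eq_algebraMap g).symm

theorem alg_ne_zero {g : k[X]} (hg : g ≠ 0) : algebraMap k[X] (RatFunc k) g ≠ 0 := by
  rwa [Ne, map_eq_zero_iff _ (RatFunc.algebraMap_injective k)]

/-- polynomials are integral at finite places -/
theorem val_alg_le_one (P : Place k (RatFunc k)) (hX : P.1 RatFunc.X ≤ 1) (g : k[X]) :
    P.1 (algebraMap k[X] (RatFunc k) g) ≤ 1 := by
  rw [alg_eq_aeval]
  exact val_aeval_le_one P hX g

/-- at a pole of `X`, a polynomial has the valuation of its leading term -/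
theorem val_alg_of_pole (P : Place k (RatFunc k)) (hX : 1 < P.1 RatFunc.X) {g : k[X]}
    (hg : g ≠ 0) : P.1 (algebraMap k[X] (RatFunc k) g) = P.1 RatFunc.X ^ g.natDegree := by
  rw [alg_eq_aeval, aeval_eq_sum_range, Finset.sum_range_succ]
  have hlead : P.1 (g.coeff g.natDegree • (RatFunc.X : RatFunc k) ^ g.natDegree) =
      P.1 RatFunc.X ^ g.natDegree := by
    rw [val_smul P (by rwa [Ne, ← leadingCoeff, leadingCoeff_eq_zero]), map_pow]
  have hpos : P.1 RatFunc.X ^ g.natDegree ≠ 0 :=
    pow_ne_zero _ (ne_of_gt (lt_trans zero_lt_one hX))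
  have hlt : P.1 (∑ i ∈ Finset.range g.natDegree, g.coeff i • (RatFunc.X : RatFunc k) ^ i) <
      P.1 RatFunc.X ^ g.natDegree := by
    apply Valuation.map_sum_lt _ hpos
    intro i hi
    rw [Finset.mem_range] at hi
    refine lt_of_le_of_lt (val_smul_le P _ _) ?_
    rw [map_pow]
    exact pow_lt_pow_right₀ hX hi
  rw [← hlead] at hlt ⊢
  exact Valuation.map_add_eq_of_lt_right _ hlt

theorem ord_alg_of_pole (P : Place k (RatFunc k)) (hX : P.ord RatFunc.X < 0) {g : k[X]}
    (hg : g ≠ 0) :
    P.ord (algebraMap k[X] (RatFunc k) g) = g.natDegree * P.ord (RatFunc.X : RatFunc k) := by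
  have hX0 : (RatFunc.X : RatFunc k) ≠ 0 := RatFunc.X_ne_zero
  have h1 := val_alg_of_pole P ((one_lt_val_iff P hX0).mpr hX) hg
  rw [← map_pow] at h1
  rw [← ord_pow]
  unfold Place.ord
  rw [h1]

/-- a place where a nonzero polynomial vanishes is finite -/
theorem val_X_le_one_of_alg_lt_one (P : Place k (RatFunc k)) {g : k[X]} (hg : g ≠ 0)
    (h : P.1 (algebraMap k[X] (RatFunc k) g) < 1) : P.1 RatFunc.X ≤ 1 := by
  by_contra hX
  rw [not_le] at hX
  rw [val_alg_of_pole P hX hg] at h
  exact absurd h (not_lt.mpr (one_le_pow₀ hX.le))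

/-- polynomials prime to `p` are units at a place where `p` vanishes -/
theorem val_alg_eq_one_of_not_dvd (P : Place k (RatFunc k)) {p : k[X]} (hp : Irreducible p)
    (hPp : P.1 (algebraMap k[X] (RatFunc k) p) < 1) {g : k[X]} (hg : ¬ p ∣ g) :
    P.1 (algebraMap k[X] (RatFunc k) g) = 1 := by
  have hX := val_X_le_one_of_alg_lt_one P hp.ne_zero hPp
  obtain ⟨a, b, hab⟩ := hp.coprime_iff_not_dvd.mpr hg
  have h1 := congrArg (algebraMap k[X] (RatFunc k)) hab
  rw [map_add, map_mul, map_mul, map_one] at h1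
  have h2 : P.1 (algebraMap k[X] (RatFunc k) a * algebraMap k[X] (RatFunc k) p) < 1 := by
    rw [map_mul]
    calc _ ≤ 1 * P.1 (algebraMap k[X] (RatFunc k) p) := by
          gcongr
          exact val_alg_le_one P hX a
      _ < 1 := by rwa [one_mul]
  have h3 : P.1 (algebraMap k[X] (RatFunc k) b * algebraMap k[X] (RatFunc k) g) = 1 := by
    have h4 : P.1 (algebraMap k[X] (RatFunc k) a * algebraMap k[X] (RatFunc k) p +
        algebraMap k[X] (RatFunc k) b * algebraMap k[X] (RatFunc k) g) = 1 := by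
      rw [h1, map_one]
    by_contra hne
    have h5 : P.1 (algebraMap k[X] (RatFunc k) b * algebraMap k[X] (RatFunc k) g) < 1 := by
      refine lt_of_le_of_ne ?_ hne
      rw [map_mul]
      exact mul_le_one' (val_alg_le_one P hX b) (val_alg_le_one P hX g)
    have h6 := lt_of_le_of_lt (P.1.map_add _ _) (max_lt h2 h5)
    rw [h4] at h6
    exact lt_irrefl _ h6
  apply le_antisymm (val_alg_le_one P hX g)
  rw [map_mul] at h3
  by_contra hlt
  rw [not_le] at hlt
  have : P.1 (algebraMap k[X] (RatFunc k) b) * P.1 (algebraMap k[X] (RatFunc k) g) < 1 := by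
    calc _ ≤ 1 * P.1 (algebraMap k[X] (RatFunc k) g) := by
          gcongr
          exact val_alg_le_one P hX b
      _ < 1 := by rwa [one_mul]
  rw [h3] at this
  exact lt_irrefl _ this

/-- the order of a polynomial at the place of `p` is its `p`-adic multiplicity times `ord p` -/
theorem ord_alg_eq (P : Place k (RatFunc k)) {p : k[X]} (hp : Irreducible p)
    (hPp : P.1 (algebraMap k[X] (RatFunc k) p) < 1) {g : k[X]} (hg : g ≠ 0) :
    P.ord (algebraMap k[X] (RatFunc k) g) =
      multiplicity p g * P.ord (algebraMap k[X] (RatFunc k) p) := by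
  obtain ⟨c, hc, hpc⟩ :=
    (FiniteMultiplicity.of_prime_left hp.prime hg).exists_eq_pow_mul_and_not_dvd
  have hc0 : c ≠ 0 := by
    rintro rfl
    exact hpc (dvd_zero _)
  have h1 : P.ord (algebraMap k[X] (RatFunc k) c) = 0 := by
    unfold Place.ord
    rw [val_alg_eq_one_of_not_dvd P hp hPp hpc]
    simp
  conv_lhs => rw [hc]
  rw [map_mul, map_pow, ord_mul P (pow_ne_zero _ (alg_ne_zero hp.ne_zero)) (alg_ne_zero hc0),
    ord_pow, h1, add_zero]

/-- normalization: `p` is a uniformizer at its place -/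
theorem ord_alg_irreducible (P : Place k (RatFunc k)) {p : k[X]} (hp : Irreducible p)
    (hPp : P.1 (algebraMap k[X] (RatFunc k) p) < 1) :
    P.ord (algebraMap k[X] (RatFunc k) p) = 1 := by
  obtain ⟨t, ht⟩ := exists_uniformizer P
  have ht0 : t ≠ 0 := by
    rintro rfl
    rw [map_zero] at ht
    exact exp_ne_zero ht.symm
  have hordt : P.ord t = 1 := by
    rw [val_eq_exp_neg_ord P ht0, exp_inj] at ht
    omega
  have hnum : t.num ≠ 0 := by
    intro h0
    apply ht0
    rw [← RatFunc.num_div_denom t, h0, map_zero, zero_div]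
  have hden : t.denom ≠ 0 := t.denom_ne_zero
  have h1 : P.ord t = P.ord (algebraMap k[X] (RatFunc k) t.num) -
      P.ord (algebraMap k[X] (RatFunc k) t.denom) := by
    conv_lhs => rw [← RatFunc.num_div_denom t]
    rw [div_eq_mul_inv, ord_mul P (alg_ne_zero hnum) (inv_ne_zero (alg_ne_zero hden)), ord_inv]
    ring
  rw [ord_alg_eq P hp hPp hnum, ord_alg_eq P hp hPp hden, hordt] at h1
  have hpos : 0 < P.ord (algebraMap k[X] (RatFunc k) p) :=
    (val_lt_one_iff P (alg_ne_zero hp.ne_zero)).mp hPp
  apply Int.eq_one_of_dvd_one hpos.le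
  exact ⟨(multiplicity p t.num : ℤ) - multiplicity p t.denom, by rw [h1]; ring⟩

/-- a squarefree polynomial vanishes to order one at the place of each of its prime factors -/
theorem ord_alg_squarefree (P : Place k (RatFunc k)) {p : k[X]} (hp : Irreducible p)
    (hPp : P.1 (algebraMap k[X] (RatFunc k) p) < 1) {f : k[X]} (hf : Squarefree f)
    (hpf : p ∣ f) : P.ord (algebraMap k[X] (RatFunc k) f) = 1 := by
  have hf0 : f ≠ 0 := hf.ne_zero
  have h1 : emultiplicity p f = 1 := by
    apply le_antisymm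
    · rcases (squarefree_iff_emultiplicity_le_one f).mp hf p with h | h
      · exact h
      · exact absurd h hp.not_isUnit
    · have := emultiplicity_pos_of_dvd hpf
      exact Order.one_le_iff_pos.mpr this
  have h2 : multiplicity p f = 1 := multiplicity_eq_of_emultiplicity_eq_some h1
  rw [ord_alg_eq P hp hPp hf0, h2, ord_alg_irreducible P hp hPp]
  simp

/-- a nonzero polynomial vanishing at a place has an irreducible factor vanishing there -/
theorem exists_irreducible_of_alg_lt_one (P : Place k (RatFunc k)) {g : k[X]} (hg : g ≠ 0)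
    (h : P.1 (algebraMap k[X] (RatFunc k) g) < 1) :
    ∃ p : k[X], Irreducible p ∧ p ∣ g ∧ P.1 (algebraMap k[X] (RatFunc k) p) < 1 := by
  induction g using UniqueFactorizationMonoid.induction_on_prime with
  | h₁ => exact absurd rfl hg
  | h₂ u hu =>
    exfalso
    obtain ⟨c, hc0, rfl⟩ : ∃ c : k, c ≠ 0 ∧ C c = u := by
      obtain ⟨c, hc, rfl⟩ := Polynomial.isUnit_iff.mp hu
      exact ⟨c, hc.ne_zero, rfl⟩
    have : algebraMap k[X] (RatFunc k) (C c) = algebraMap k (RatFunc k) c := by
      rw [RatFunc.algebraMap_C, RatFunc.algebraMap_eq_C]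
    rw [this, val_algebraMap P hc0] at h
    exact lt_irrefl _ h
  | h₃ a p ha hp ih =>
    by_cases hPp : P.1 (algebraMap k[X] (RatFunc k) p) < 1
    · exact ⟨p, hp.irreducible, dvd_mul_right _ _, hPp⟩
    · rw [map_mul, map_mul] at h
      have hX := val_X_le_one_of_alg_lt_one P hg (by rwa [map_mul, map_mul])
      have hp1 : P.1 (algebraMap k[X] (RatFunc k) p) = 1 :=
        le_antisymm (val_alg_le_one P hX p) (not_lt.mp hPp)
      rw [hp1, one_mul] at h
      obtain ⟨q, hq, hqa, hPq⟩ := ih ha h
      exact ⟨q, hq, dvd_mul_of_dvd_right hqa _, hPq⟩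

/-- normalization at infinity: `X` has a simple pole -/
theorem ord_X_of_pole (P : Place k (RatFunc k)) (hX : P.ord RatFunc.X < 0) :
    P.ord (RatFunc.X : RatFunc k) = -1 := by
  obtain ⟨t, ht⟩ := exists_uniformizer P
  have ht0 : t ≠ 0 := by
    rintro rfl
    rw [map_zero] at ht
    exact exp_ne_zero ht.symm
  have hordt : P.ord t = 1 := by
    rw [val_eq_exp_neg_ord P ht0, exp_inj] at ht
    omega
  have hnum : t.num ≠ 0 := by
    intro h0
    apply ht0
    rw [← RatFunc.num_div_denom t, h0, map_zero, zero_div]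
  have hden : t.denom ≠ 0 := t.denom_ne_zero
  have h1 : P.ord t = P.ord (algebraMap k[X] (RatFunc k) t.num) -
      P.ord (algebraMap k[X] (RatFunc k) t.denom) := by
    conv_lhs => rw [← RatFunc.num_div_denom t]
    rw [div_eq_mul_inv, ord_mul P (alg_ne_zero hnum) (inv_ne_zero (alg_ne_zero hden)), ord_inv]
    ring
  rw [ord_alg_of_pole P hX hnum, ord_alg_of_pole P hX hden, hordt] at h1
  have h2 : -P.ord (RatFunc.X : RatFunc k) = 1 := by
    apply Int.eq_one_of_dvd_one (by omega)
    exact ⟨(t.denom.natDegree : ℤ) - t.num.natDegree, by rw [h1]; ring⟩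
  omega

/-- the place at infinity of `k(X)` is rational -/
theorem deg_of_pole (P : Place k (RatFunc k)) (hX : P.ord RatFunc.X < 0) : P.deg = 1 := by
  have hK := isFunctionField_ratFunc (k := k)
  have h1 := FX.deg_pos hK.1 P
  have h2 := deg_poleDiv_eq hK.1 (RatFunc.transcendental_X (K := k))
  rw [finrank_adjoin_X] at h2
  have h3 : Finsupp.single P (1 : ℤ) ≤ poleDiv k (RatFunc.X : RatFunc k) := by
    intro Q
    rw [poleDiv_apply hK.1]
    by_cases hQ : Q = P
    · subst hQ
      rw [Finsupp.single_eq_same, ord_X_of_pole Q hX]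
      simp
    · rw [Finsupp.single_eq_of_ne hQ]
      exact le_max_right _ _
  have h4 := deg_mono h3
  rw [deg_single, h2, one_mul] at h4
  have : P.deg ≤ 1 := by exact_mod_cast h4
  omega

end Groth.Agent.Lib.helper16.FR
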