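import Groth.Agent.Lib.helper16.FPlaneNS2
import Groth.Agent.Lib.helper16.FNonsing
import Groth.Agent.Lib.helper16.FRatPlace

/-! Helper library (helper16): nonsingular plane models — the coordinate ring is integrally
closed (finite part and part at infinity). -/

set_option autoImplicit false

namespace Groth.Agent.Lib.helper16.FPN

open FunFld WithZero Polynomial Module Groth.Agent.Lib.helper16.FF Groth.Agent.Lib.helper16.FX
open scoped IntermediateField

section finite

variable {k K : Type*} [Field k] [Field K] [Algebra k K]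

/-- **finite part**: if the plane model `(1 : x : y)` is nonsingular at all finite places, then
`k[x, y]` contains every function regular at all finite places -/
theorem mem_adjoin_of_finite (hK : IsFunctionField k K) (x y : K)
    (hns : ∀ P : Place k K, IsNonsingularAt ![(1 : K), x, y] P) {z : K}
    (hz : ∀ Q : Place k K, Q.1 x ≤ 1 → Q.1 y ≤ 1 → Q.1 z ≤ 1)
    (hQ₀ : ∃ Q₀ : Place k K, Q₀.1 x ≤ 1 ∧ Q₀.1 y ≤ 1) :
    z ∈ Algebra.adjoin k ({x, y} : Set K) := by
  set R := Algebra.adjoin k ({x, y} : Set K) with hR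
  have hxR : x ∈ R := Algebra.subset_adjoin (by simp)
  have hyR : y ∈ R := Algebra.subset_adjoin (by simp)
  have hval : ∀ Q : Place k K, Q.1 x ≤ 1 → Q.1 y ≤ 1 → ∀ a ∈ R, Q.1 a ≤ 1 := by
    intro Q hx hy a ha
    refine Algebra.adjoin_induction (p := fun a _ => Q.1 a ≤ 1) ?_ ?_ ?_ ?_ ha
    · rintro g (rfl | rfl)
      · exact hx
      · exact hy
    · intro c
      exact val_algebraMap_le Q c
    · intro a b _ _ ha hb
      exact le_trans (Q.1.map_add a b) (max_le ha hb)
    · intro a b _ _ ha hb
      rw [map_mul]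
      exact mul_le_one' ha hb
  apply mem_of_forall_inLoc hK R
  · obtain ⟨Q₀, h1, h2⟩ := hQ₀
    exact ⟨Q₀, hval Q₀ h1 h2⟩
  · intro Q hQ
    have hx := hQ x hxR
    have hy := hQ y hyR
    have hzQ := hz Q hx hy
    refine inLoc_of_inLocRing' ![(1 : K), x, y] Q R (v := 1) one_ne_zero ?_ ?_ (hns Q z hzQ)
    · intro i
      rw [div_one]
      fin_cases i
      · exact R.one_mem
      · exact hxR
      · exact hyR
    · intro j hj
      rw [map_one]
      apply le_antisymm
      · fin_cases j
        · show Q.1 1 ≤ 1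
          rw [map_one]
        · exact hx
        · exact hy
      · have := hj 0
        rwa [show (![(1 : K), x, y] 0) = 1 from rfl, map_one] at this

end finite

section tower

variable {k F K : Type*} [Field k] [Field F] [Field K] [Algebra k F] [Algebra F K] [Algebra k K]
  [IsScalarTower k F K]

theorem isScalarTower_O' (P : Place k F) [Algebra P.O K] [IsScalarTower P.O F K] :
    IsScalarTower k P.O K :=
  IsScalarTower.of_algebraMap_eq fun a => by
    rw [IsScalarTower.algebraMap_apply P.O F K, IsScalarTower.algebraMap_apply k F K]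
    rfl

end tower

section infinite

variable {k K : Type*} [Field k] [Field K] [Algebra k K] [Algebra (RatFunc k) K]
  [IsScalarTower k (RatFunc k) K] [FiniteDimensional (RatFunc k) K]

/-- **part at infinity**: for a generic linear form `u` (of least order at every place at
infinity), nonsingularity at the places at infinity gives `B_∞ = O_∞[x/u]` -/
theorem mem_adjoin_of_infinite (hK : IsFunctionField k K) (x y : K) (a₀ a₁ : k) (ha₁ : a₁ ≠ 0)
    (hu : algebraMap (RatFunc k) K RatFunc.X = a₀ • x + a₁ • y)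
    (hgen : ∀ Q : Place k K, 0 < mapDiv k ![(1 : K), x, y] Q →
      Q.1 (algebraMap (RatFunc k) K RatFunc.X) = exp (mapDiv k ![(1 : K), x, y] Q))
    (hns : ∀ P : Place k K, IsNonsingularAt ![(1 : K), x, y] P)
    (P : Place k (RatFunc k)) [Algebra P.O K] [IsScalarTower P.O (RatFunc k) K]
    (hP : 1 < P.1 RatFunc.X) {w : K} (hw : w ∈ semiLocal K P) :
    w ∈ Algebra.adjoin P.O ({x / algebraMap (RatFunc k) K RatFunc.X} : Set K) := by
  classical
  have hF : IsFunctionField k (RatFunc k) := Groth.Agent.Lib.helper16.FR.isFunctionField_ratFunc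
  haveI := isScalarTower_O' (K := K) P
  obtain ⟨u, hu'⟩ : ∃ u : K, u = algebraMap (RatFunc k) K RatFunc.X := ⟨_, rfl⟩
  rw [← hu'] at hu hgen ⊢
  obtain ⟨D, hD⟩ : ∃ D : Divisor k K, D = mapDiv k ![(1 : K), x, y] := ⟨_, rfl⟩
  rw [← hD] at hgen
  have hφL : ∀ i, ![(1 : K), x, y] i ∈ L D := fun i => by rw [hD]; exact mem_L_mapDiv hK _ i
  have hxL : x ∈ L D := hφL 1
  have hyL : y ∈ L D := hφL 2
  have huL : u ∈ L D := by
    rw [hu]
    exact Submodule.add_mem _ (Submodule.smul_mem _ _ hxL) (Submodule.smul_mem _ _ hyL)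
  -- places over `P`
  have hover : ∀ (Q : Place k K) (e : ℕ), IsOverWith Q P e →
      u ≠ 0 ∧ Q.1 u = exp (D Q) ∧ 0 < D Q := by
    intro Q e he
    have he1 := isOverWith_pos he
    have h1 : 1 < Q.1 u := by
      rw [hu', he RatFunc.X]
      exact one_lt_pow₀ hP (by omega)
    have h2 : 0 < D Q := by
      have := lt_of_lt_of_le h1 (huL Q)
      rwa [← exp_zero, exp_lt_exp] at this
    refine ⟨?_, hgen Q h2, h2⟩
    rintro rfl
    rw [map_zero] at h1
    exact not_lt.mpr zero_le h1
  obtain ⟨R', hR'⟩ : ∃ R' : Subalgebra k K,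
      R' = (Algebra.adjoin P.O ({x / u} : Set K)).restrictScalars k := ⟨_, rfl⟩
  have hmemR' : ∀ a : K, a ∈ R' ↔ a ∈ Algebra.adjoin P.O ({x / u} : Set K) := by
    intro a
    rw [hR']
    exact Subalgebra.mem_restrictScalars k
  have hvalR' : ∀ (Q : Place k K) (e : ℕ), IsOverWith Q P e → ∀ a ∈ R', Q.1 a ≤ 1 := by
    intro Q e he a ha
    obtain ⟨hu0, hQu, hDQ⟩ := hover Q e he
    rw [hmemR'] at ha
    refine Algebra.adjoin_induction (p := fun a _ => Q.1 a ≤ 1) ?_ ?_ ?_ ?_ ha
    · intro g hg
      rw [Set.mem_singleton_iff.mp hg, map_div₀, hQu]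
      exact div_le_one_of_le₀ (hxL Q) zero_le
    · intro r
      rw [IsScalarTower.algebraMap_apply P.O (RatFunc k) K, he]
      exact pow_le_one₀ zero_le r.2
    · intro a b _ _ ha hb
      exact le_trans (Q.1.map_add a b) (max_le ha hb)
    · intro a b _ _ ha hb
      rw [map_mul]
      exact mul_le_one' ha hb
  rw [← hmemR']
  apply mem_of_forall_inLoc hK R'
  · obtain ⟨Q₀, e, he⟩ := Groth.Agent.Lib.helper16.FCE.exists_isOver_above (K' := K) hF P
    exact ⟨Q₀, hvalR' Q₀ e he⟩
  · intro Q hQ
    -- `Q` lies over `P`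
    obtain ⟨P', e, he⟩ := exists_isOverWith (K' := K) hF.1 Q
    have he1 := isOverWith_pos he
    have hPP : P = P' := by
      apply eq_of_valuationRing_le
      intro f hf
      have h1 : algebraMap P.O K ⟨f, hf⟩ ∈ R' := by
        rw [hmemR']
        exact Subalgebra.algebraMap_mem _ _
      have h2 := hQ _ h1
      rw [IsScalarTower.algebraMap_apply P.O (RatFunc k) K, he] at h2
      exact (pow_le_one_iff_of_nonneg zero_le (by omega)).mp h2
    rw [← hPP] at he
    obtain ⟨hu0, hQu, hDQ⟩ := hover Q e he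
    have hwQ : Q.1 w ≤ 1 := hw Q ⟨e, he⟩
    refine inLoc_of_inLocRing' ![(1 : K), x, y] Q R' (v := u) hu0 ?_ ?_ (hns Q w hwQ)
    · have hxu : x / u ∈ R' := by
        rw [hmemR']
        exact Algebra.subset_adjoin rfl
      intro i
      fin_cases i
      · show (1 : K) / u ∈ R'
        have hXinv : P.1 (RatFunc.X : RatFunc k)⁻¹ ≤ 1 := by
          rw [map_inv₀]
          exact inv_le_one_of_one_le₀ hP.le
        have h1 : (1 : K) / u = algebraMap P.O K ⟨(RatFunc.X : RatFunc k)⁻¹, hXinv⟩ := by
          rw [IsScalarTower.algebraMap_apply P.O (RatFunc k) K, hu', one_div]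
          exact (map_inv₀ (algebraMap (RatFunc k) K) RatFunc.X).symm
        rw [h1, hmemR']
        exact Subalgebra.algebraMap_mem _ _
      · exact hxu
      · show y / u ∈ R'
        have h1 : y / u = a₁⁻¹ • ((1 : K) - a₀ • (x / u)) := by
          have hy : y = a₁⁻¹ • (u - a₀ • x) := by
            rw [hu, add_sub_cancel_left, smul_smul, inv_mul_cancel₀ ha₁, one_smul]
          rw [hy]
          simp only [Algebra.smul_def]
          field_simp
        rw [h1]
        exact R'.smul_mem (R'.sub_mem R'.one_mem (R'.smul_mem hxu _)) _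
    · intro j hj
      rw [hQu]
      apply le_antisymm (hφL j Q)
      obtain ⟨j', hj'⟩ := exists_ord_eq_neg_mapDiv hK ![(1 : K), x, y] Q
      rw [← hD] at hj'
      have h0 : ![(1 : K), x, y] j' ≠ 0 := by
        intro h0
        rw [h0, ord_zero] at hj'
        omega
      have := hj j'
      rwa [val_eq_exp_neg_ord Q h0, hj', neg_neg] at this

end infinite

end Groth.Agent.Lib.helper16.FPN
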