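import Groth.Agent.Lib.helper16.FPlaneNS3

/-! Helper library (helper16): nonsingular plane models — `L(nD)` is spanned by the monomials
`u^a x^b`, `b < d`, `a + b ≤ n`. -/

set_option autoImplicit false

namespace Groth.Agent.Lib.helper16.FPN

open FunFld WithZero Polynomial Module Groth.Agent.Lib.helper16.FF Groth.Agent.Lib.helper16.FX
open scoped IntermediateField

section combine

variable {k K : Type*} [Field k] [Field K] [Algebra k K] [Algebra (RatFunc k) K]
  [IsScalarTower k (RatFunc k) K] [FiniteDimensional (RatFunc k) K]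
  [Algebra k[X] K] [IsScalarTower k[X] (RatFunc k) K] [IsScalarTower k k[X] K]

omit [FiniteDimensional (RatFunc k) K] [IsScalarTower k (RatFunc k) K] in
theorem algebraMap_poly_eq_sum (p : k[X]) :
    algebraMap k[X] K p = ∑ a ∈ Finset.range (p.natDegree + 1),
      p.coeff a • (algebraMap (RatFunc k) K RatFunc.X) ^ a := by
  conv_lhs => rw [p.as_sum_range_C_mul_X_pow]
  rw [map_sum]
  apply Finset.sum_congr rfl
  intro a _
  rw [map_mul, map_pow, ← Polynomial.algebraMap_eq, ← IsScalarTower.algebraMap_apply k k[X] K,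
    IsScalarTower.algebraMap_apply k[X] (RatFunc k) K X, RatFunc.algebraMap_X, Algebra.smul_def]

/-- the key structural statement: under nonsingularity, `L(nD)` consists of the combinations
`∑_{b<d} p_b(u) x^b` with `deg p_b ≤ n - b` -/
theorem exists_poly_of_mem_L [IsAlgClosed k] (hK : IsFunctionField k K) (x y : K) (a₀ a₁ : k)
    (ha₁ : a₁ ≠ 0)
    (hu : algebraMap (RatFunc k) K RatFunc.X = a₀ • x + a₁ • y)
    (hgen : ∀ Q : Place k K, 0 < mapDiv k ![(1 : K), x, y] Q →
      Q.1 (algebraMap (RatFunc k) K RatFunc.X) = exp (mapDiv k ![(1 : K), x, y] Q))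
    (hns : ∀ P : Place k K, IsNonsingularAt ![(1 : K), x, y] P)
    (hFx : (RatFunc k)⟮x⟯ = ⊤) {n : ℕ} (hn : (minpoly (RatFunc k) x).natDegree ≤ n + 1)
    {z : K} (hz : z ∈ L (n • mapDiv k ![(1 : K), x, y])) :
    ∃ p : ℕ → k[X], (∀ b < (minpoly (RatFunc k) x).natDegree, (p b).natDegree ≤ n - b) ∧
      z = ∑ b ∈ Finset.range (minpoly (RatFunc k) x).natDegree,
        algebraMap k[X] K (p b) * x ^ b := by
  classical
  have hF : IsFunctionField k (RatFunc k) := Groth.Agent.Lib.helper16.FR.isFunctionField_ratFunc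
  obtain ⟨u, hu'⟩ : ∃ u : K, u = algebraMap (RatFunc k) K RatFunc.X := ⟨_, rfl⟩
  obtain ⟨D, hD⟩ : ∃ D : Divisor k K, D = mapDiv k ![(1 : K), x, y] := ⟨_, rfl⟩
  obtain ⟨d, hd⟩ : ∃ d : ℕ, d = (minpoly (RatFunc k) x).natDegree := ⟨_, rfl⟩
  have hgen0 := hgen
  rw [← hD] at hgen hz
  rw [← hd] at hn ⊢
  have hφL : ∀ i, ![(1 : K), x, y] i ∈ L D := fun i => by rw [hD]; exact mem_L_mapDiv hK _ i
  have h1L : (1 : K) ∈ L D := hφL 0
  have hxL : x ∈ L D := hφL 1
  have hyL : y ∈ L D := hφL 2
  have hD0 : ∀ P, 0 ≤ D P := fun P => by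
    have := h1L P
    rwa [map_one, ← exp_zero, exp_le_exp] at this
  have huL : u ∈ L D := by
    rw [hu', hu]
    exact Submodule.add_mem _ (Submodule.smul_mem _ _ hxL) (Submodule.smul_mem _ _ hyL)
  -- `u` is not constant
  have hutr : Transcendental k u := by
    rw [hu']
    have h1 : Transcendental k (RatFunc.X : RatFunc k) := RatFunc.transcendental_X
    exact (transcendental_algebraMap_iff (algebraMap (RatFunc k) K).injective).mpr h1
  have hur : u ∉ Set.range (algebraMap k K) := by
    rintro ⟨c, hc⟩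
    apply hutr
    rw [← hc]
    exact isAlgebraic_algebraMap c
  -- finite places
  have hfinite : ∀ Q : Place k K, Q.1 u ≤ 1 → D Q = 0 := by
    intro Q hQ
    by_contra hne
    have hpos : 0 < D Q := lt_of_le_of_ne (hD0 Q) (Ne.symm hne)
    have := hgen Q hpos
    rw [← hu'] at this
    rw [this, ← exp_zero, exp_le_exp] at hQ
    omega
  have hD_of_int : ∀ Q : Place k K, Q.1 x ≤ 1 → Q.1 y ≤ 1 → D Q = 0 := by
    intro Q hx hy
    apply hfinite
    rw [hu', hu]
    exact le_trans (Q.1.map_add _ _) (max_le ((val_smul_le Q _ _).trans hx)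
      ((val_smul_le Q _ _).trans hy))
  -- step 1: `z ∈ k[x, y]`
  have hz1 : z ∈ Algebra.adjoin k ({x, y} : Set K) := by
    apply mem_adjoin_of_finite hK x y hns
    · intro Q hx hy
      have := hz Q
      rwa [Finsupp.smul_apply, hD_of_int Q hx hy, smul_zero, exp_zero] at this
    · obtain ⟨Q₀, hQ₀⟩ := exists_place_lt_one hK hur
      have h0 := hfinite Q₀ hQ₀.le
      refine ⟨Q₀, ?_, ?_⟩
      · have := hxL Q₀
        rwa [h0, exp_zero] at this
      · have := hyL Q₀
        rwa [h0, exp_zero] at this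
  -- step 2: `z ∈ k[u][x]`
  have huA : algebraMap k[X] K X = u := by
    rw [IsScalarTower.algebraMap_apply k[X] (RatFunc k) K, RatFunc.algebraMap_X, hu']
  have hz2 : z ∈ Algebra.adjoin k[X] ({x} : Set K) := by
    have hxA : x ∈ Algebra.adjoin k[X] ({x} : Set K) := Algebra.subset_adjoin rfl
    have hkA : ∀ c : k, algebraMap k K c ∈ Algebra.adjoin k[X] ({x} : Set K) := by
      intro c
      rw [IsScalarTower.algebraMap_apply k k[X] K]
      exact Subalgebra.algebraMap_mem _ _
    refine Algebra.adjoin_induction (p := fun a _ => a ∈ Algebra.adjoin k[X] ({x} : Set K))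
      ?_ ?_ ?_ ?_ hz1
    · rintro g (rfl | rfl)
      · exact hxA
      · have hy : g = a₁⁻¹ • (u - a₀ • x) := by
          rw [hu', hu, add_sub_cancel_left, smul_smul, inv_mul_cancel₀ ha₁, one_smul]
        rw [hy, Algebra.smul_def, Algebra.smul_def]
        refine Subalgebra.mul_mem _ (hkA _) (Subalgebra.sub_mem _ ?_ (Subalgebra.mul_mem _ (hkA _) hxA))
        rw [← huA]
        exact Subalgebra.algebraMap_mem _ _
    · exact hkA
    · intro a b _ _ ha hb
      exact Subalgebra.add_mem _ ha hb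
    · intro a b _ _ ha hb
      exact Subalgebra.mul_mem _ ha hb
  -- `x` is integral over `k[u]`
  have hxint : IsIntegral k[X] x := by
    by_contra hcon
    have hx' : x ∉ (integralClosure k[X] K).toSubring := hcon
    obtain ⟨V, hV1, hV2⟩ := Subring.exists_le_valuationSubring_of_isIntegrallyClosedIn hx'
    have hkV : ∀ c : k, algebraMap k K c ∈ V := by
      intro c
      apply hV1
      rw [IsScalarTower.algebraMap_apply k k[X] K]
      exact Subalgebra.algebraMap_mem _ _
    obtain ⟨Q, hQ⟩ := exists_place_of_valuationSubring hK V hkV (by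
      rintro rfl
      exact hV2 trivial)
    have huV : u ∈ V := by
      apply hV1
      rw [← huA]
      exact Subalgebra.algebraMap_mem _ _
    have huQ : Q.1 u ≤ 1 := by
      have : u ∈ Q.O := by rw [hQ]; exact huV
      exact this
    have h0 := hfinite Q huQ
    have hxQ : Q.1 x ≤ 1 := by
      have := hxL Q
      rwa [h0, exp_zero] at this
    apply hV2
    rw [← hQ]
    exact hxQ
  obtain ⟨p, hp⟩ := exists_coeff_range (F := RatFunc k) hxint hz2
  rw [← hd] at hp
  refine ⟨p, ?_, hp⟩
  -- a place at infinity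
  obtain ⟨Qi, hQi⟩ := exists_place_one_lt hK hur
  obtain ⟨P, e, he⟩ := exists_isOverWith (K' := K) hF.1 Qi
  have he1 := isOverWith_pos he
  have hPX : 1 < P.1 RatFunc.X := by
    by_contra hle
    push Not at hle
    have := he RatFunc.X
    rw [← hu'] at this
    rw [this] at hQi
    exact not_lt.mpr (pow_le_one₀ zero_le hle) hQi
  letI : Algebra P.O K := ((algebraMap (RatFunc k) K).comp P.O.subtype).toAlgebra
  haveI : IsScalarTower P.O (RatFunc k) K := IsScalarTower.of_algebraMap_eq (fun _ => rfl)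
  have hu0 : u ≠ 0 := by
    rintro rfl
    exact hur ⟨0, map_zero _⟩
  have hover : ∀ (Q : Place k K), IsOver Q P → Q.1 u = exp (D Q) := by
    rintro Q ⟨e', he'⟩
    have he1' := isOverWith_pos he'
    have h1 : 1 < Q.1 u := by
      rw [hu', he' RatFunc.X]
      exact one_lt_pow₀ hPX (by omega)
    have h2 : 0 < D Q := by
      have := lt_of_lt_of_le h1 (huL Q)
      rwa [← exp_zero, exp_lt_exp] at this
    have := hgen Q h2
    rwa [← hu'] at this
  have hzB : z / u ^ n ∈ semiLocal K P := by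
    intro Q hQ
    rw [map_div₀, map_pow, hover Q hQ, ← exp_nsmul]
    have := hz Q
    rw [Finsupp.smul_apply] at this
    exact div_le_one_of_le₀ this zero_le
  have hxB : x / u ∈ semiLocal K P := by
    intro Q hQ
    rw [map_div₀, hover Q hQ]
    exact div_le_one_of_le₀ (hxL Q) zero_le
  have hstep3 := mem_adjoin_of_infinite hK x y a₀ a₁ ha₁ hu hgen0 hns P hPX hzB
  rw [← hu'] at hstep3
  have hx'int : IsIntegral P.O (x / u) :=
    Groth.Agent.Lib.helper16.FCE.isIntegral_of_mem_semiLocal hF P hxB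
  obtain ⟨c, hc⟩ := exists_coeff_range (F := RatFunc k) hx'int hstep3
  have hd' : (minpoly (RatFunc k) (x / u)).natDegree = d := by
    have h1 : (RatFunc k)⟮x / u⟯ = ⊤ := by
      rw [eq_top_iff, ← hFx, IntermediateField.adjoin_simple_le_iff]
      have hxe : x = algebraMap (RatFunc k) K RatFunc.X * (x / u) := by
        rw [← hu']; field_simp
      have hmem : algebraMap (RatFunc k) K RatFunc.X * (x / u) ∈ (RatFunc k)⟮x / u⟯ :=
        mul_mem (IntermediateField.algebraMap_mem _ _)
          (IntermediateField.mem_adjoin_simple_self _ _)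
      rwa [← hxe] at hmem
    rw [hd, ← IntermediateField.adjoin.finrank (Algebra.IsIntegral.isIntegral (x / u)),
      ← IntermediateField.adjoin.finrank (Algebra.IsIntegral.isIntegral x), h1, hFx]
  rw [hd'] at hc
  -- compare coefficients
  have hA : z = ∑ b ∈ Finset.range (minpoly (RatFunc k) x).natDegree,
      algebraMap (RatFunc k) K (algebraMap k[X] (RatFunc k) (p b)) * x ^ b := by
    rw [← hd, hp]
    apply Finset.sum_congr rfl
    intro b _
    rw [← IsScalarTower.algebraMap_apply k[X] (RatFunc k) K]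
  have hB : z = ∑ b ∈ Finset.range (minpoly (RatFunc k) x).natDegree,
      algebraMap (RatFunc k) K (RatFunc.X ^ (n - b) * ((c b : P.O) : RatFunc k)) * x ^ b := by
    have h1 : z = u ^ n * (z / u ^ n) := by field_simp
    rw [h1, hc, ← hd, Finset.mul_sum]
    apply Finset.sum_congr rfl
    intro b hb
    have hbn : b ≤ n := by
      have := Finset.mem_range.mp hb
      omega
    rw [map_mul, map_pow, ← hu', IsScalarTower.algebraMap_apply P.O (RatFunc k) K]
    have h2 : u ^ n = u ^ (n - b) * u ^ b := by rw [← pow_add]; congr 1; omega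
    rw [h2, _root_.div_pow]
    have : algebraMap (↥P.O) (RatFunc k) (c b) = ((c b : P.O) : RatFunc k) := rfl
    rw [this]
    field_simp
  have hcmp := coeff_unique (hA.symm.trans hB)
  intro b hb
  rw [hd] at hb
  have h1 := hcmp b hb
  by_cases hp0 : p b = 0
  · rw [hp0, natDegree_zero]; exact Nat.zero_le _
  have h2 : P.1 (algebraMap k[X] (RatFunc k) (p b)) = P.1 RatFunc.X ^ (p b).natDegree :=
    Groth.Agent.Lib.helper16.FR.val_alg_of_pole P hPX hp0
  have h3 : P.1 (RatFunc.X ^ (n - b) * ((c b : P.O) : RatFunc k)) ≤ P.1 RatFunc.X ^ (n - b) := by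
    rw [map_mul, map_pow]
    calc P.1 RatFunc.X ^ (n - b) * P.1 ((c b : P.O) : RatFunc k)
        ≤ P.1 RatFunc.X ^ (n - b) * 1 := by
          gcongr
          exact (c b).2
      _ = _ := mul_one _
  rw [← h1, h2] at h3
  exact (pow_le_pow_iff_right₀ hPX).mp h3

/-- dimension bound for `L(nD)` under nonsingularity -/
theorem ell_le_of_nonsingular [IsAlgClosed k] (hK : IsFunctionField k K) (x y : K) (a₀ a₁ : k)
    (ha₁ : a₁ ≠ 0)
    (hu : algebraMap (RatFunc k) K RatFunc.X = a₀ • x + a₁ • y)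
    (hgen : ∀ Q : Place k K, 0 < mapDiv k ![(1 : K), x, y] Q →
      Q.1 (algebraMap (RatFunc k) K RatFunc.X) = exp (mapDiv k ![(1 : K), x, y] Q))
    (hns : ∀ P : Place k K, IsNonsingularAt ![(1 : K), x, y] P)
    (hFx : (RatFunc k)⟮x⟯ = ⊤) {n : ℕ} (hn : (minpoly (RatFunc k) x).natDegree ≤ n + 1) :
    ell (n • mapDiv k ![(1 : K), x, y]) ≤
      ∑ b ∈ Finset.range (minpoly (RatFunc k) x).natDegree, (n + 1 - b) := by
  classical
  obtain ⟨u, hu'⟩ : ∃ u : K, u = algebraMap (RatFunc k) K RatFunc.X := ⟨_, rfl⟩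
  obtain ⟨d, hd⟩ : ∃ d : ℕ, d = (minpoly (RatFunc k) x).natDegree := ⟨_, rfl⟩
  rw [← hd]
  let mono : (Σ b : Fin d, Fin (n + 1 - b)) → K := fun i => u ^ (i.2 : ℕ) * x ^ (i.1 : ℕ)
  have hle : L (n • mapDiv k ![(1 : K), x, y]) ≤ Submodule.span k (Set.range mono) := by
    intro z hz
    obtain ⟨p, hpdeg, hp⟩ := exists_poly_of_mem_L hK x y a₀ a₁ ha₁ hu hgen hns hFx hn hz
    rw [← hd] at hpdeg hp
    rw [hp]
    refine Submodule.sum_mem _ fun b hb => ?_
    have hb' := Finset.mem_range.mp hb
    rw [algebraMap_poly_eq_sum, Finset.sum_mul]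
    refine Submodule.sum_mem _ fun a ha => ?_
    have ha' := Finset.mem_range.mp ha
    have hdeg := hpdeg b hb'
    rw [smul_mul_assoc, ← hu']
    refine Submodule.smul_mem _ _ (Submodule.subset_span ?_)
    exact ⟨⟨⟨b, hb'⟩, ⟨a, by show a < n + 1 - b; omega⟩⟩, rfl⟩
  haveI : Module.Finite k (Submodule.span k (Set.range mono)) :=
    FiniteDimensional.span_of_finite k (Set.finite_range mono)
  have h1 := Submodule.finrank_mono hle
  have h2 := finrank_range_le_card (R := k) mono
  rw [Fintype.card_sigma] at h2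
  simp only [Fintype.card_fin] at h2
  rw [Fin.sum_univ_eq_sum_range (fun b => n + 1 - b) d] at h2
  exact h1.trans h2

end combine

end Groth.Agent.Lib.helper16.FPN
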