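import Groth.Agent.Lib.helper16.FPlaneNS4

/-! Helper library (helper16): the genus of a nonsingular plane model. -/

set_option autoImplicit false

namespace Groth.Agent.Lib.helper16.FPN

open FunFld WithZero Polynomial Module Groth.Agent.Lib.helper16.FF Groth.Agent.Lib.helper16.FX
open scoped IntermediateField

variable {k K : Type*} [Field k] [Field K] [Algebra k K]

/-- a generic linear form `u = a₀ x + a₁ y` of a plane model: it has least order at every place at
infinity -/
theorem exists_generic_form [IsAlgClosed k] (hK : IsFunctionField k K) (x y : K)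
    (hxy : IntermediateField.adjoin k ({x, y} : Set K) = ⊤) :
    ∃ a₀ a₁ : k, a₁ ≠ 0 ∧
      (∀ P : Place k K, 0 < mapDiv k ![(1 : K), x, y] P →
        P.1 (a₀ • x + a₁ • y) = exp (mapDiv k ![(1 : K), x, y] P)) ∧
      (a₀ • x + a₁ • y) ∉ Set.range (algebraMap k K) ∧
      (mapDiv k ![(1 : K), x, y]).deg = (finrank k⟮a₀ • x + a₁ • y⟯ K : ℤ) ∧
      IntermediateField.adjoin k ({a₀ • x + a₁ • y, x} : Set K) = ⊤ := by
  classical
  have hL : ∀ i, ![(1 : K), x, y] i ∈ L (mapDiv k ![(1 : K), x, y]) :=
    fun i => mem_L_mapDiv hK _ i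
  set D := mapDiv k ![(1 : K), x, y] with hD
  have h1L : (1 : K) ∈ L D := hL 0
  have hxL : x ∈ L D := hL 1
  have hyL : y ∈ L D := hL 2
  have hD0 : ∀ P, 0 ≤ D P := fun P => by
    have := h1L P
    rwa [map_one, ← exp_zero, exp_le_exp] at this
  have hattain : ∀ P : Place k K, 0 < D P → P.1 x = exp (D P) ∨ P.1 y = exp (D P) := by
    intro P hP
    obtain ⟨j, hj⟩ := exists_ord_eq_neg_mapDiv hK ![(1 : K), x, y] P
    rw [← hD] at hj
    fin_cases j
    · have : P.ord (1 : K) = -(D P) := hj
      rw [ord_one] at this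
      omega
    · left
      have hj' : P.ord x = -(D P) := hj
      have hx0 : x ≠ 0 := by
        rintro rfl
        rw [ord_zero] at hj'
        omega
      rw [val_eq_exp_neg_ord P hx0, hj', neg_neg]
    · right
      have hj' : P.ord y = -(D P) := hj
      have hy0 : y ≠ 0 := by
        rintro rfl
        rw [ord_zero] at hj'
        omega
      rw [val_eq_exp_neg_ord P hy0, hj', neg_neg]
  -- a generic linear form
  have hSfin : (D.support : Set (Place k K)).Finite := D.support.finite_toSet
  let extra : Submodule k (Fin 2 → k) := LinearMap.ker (LinearMap.proj 1 : (Fin 2 → k) →ₗ[k] k)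
  have hextra : extra ≠ ⊤ := by
    intro h
    have h1 : (Pi.single 1 1 : Fin 2 → k) ∈ extra := by rw [h]; exact Submodule.mem_top
    have h2 : (Pi.single 1 1 : Fin 2 → k) 1 = 0 := h1
    rw [Pi.single_eq_same] at h2
    exact one_ne_zero h2
  obtain ⟨a, ha1, hamax⟩ := exists_generic_max_val ![x, y] _ hSfin extra hextra
  have ha1' : a 1 ≠ 0 := fun h => ha1 h
  have hu' : ∑ i, a i • ![x, y] i = a 0 • x + a 1 • y := by
    rw [Fin.sum_univ_two]
    rfl
  rw [hu'] at hamax
  set u := a 0 • x + a 1 • y with hu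
  have huL : u ∈ L D :=
    Submodule.add_mem _ (Submodule.smul_mem _ _ hxL) (Submodule.smul_mem _ _ hyL)
  have huval : ∀ P, 0 < D P → P.1 u = exp (D P) := by
    intro P hP
    have hmem : P ∈ (D.support : Set (Place k K)) := by
      rw [Finset.mem_coe, Finsupp.mem_support_iff]
      omega
    apply le_antisymm (huL P)
    rcases hattain P hP with h | h
    · rw [← h]; exact hamax P hmem 0
    · rw [← h]; exact hamax P hmem 1
  have hpole : poleDiv k u = D := by
    ext P
    rw [poleDiv_apply hK]
    rcases (hD0 P).lt_or_eq with hP | hP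
    · have h1 := huval P hP
      have hu0 : u ≠ 0 := by
        intro h0
        rw [h0, map_zero] at h1
        exact exp_ne_zero h1.symm
      rw [val_eq_exp_neg_ord P hu0, exp_inj] at h1
      omega
    · have h1 := huL P
      rw [← hP, exp_zero] at h1
      by_cases hu0 : u = 0
      · rw [hu0, ord_zero]
        omega
      · rw [val_le_one_iff P hu0] at h1
        omega
  have hunc : u ∉ Set.range (algebraMap k K) := by
    intro hur
    have hDz : ∀ P, D P = 0 := by
      intro P
      by_contra hne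
      have hP : 0 < D P := lt_of_le_of_ne (hD0 P) (Ne.symm hne)
      obtain ⟨c, hc⟩ := hur
      have h1 := huval P hP
      rw [← hc] at h1
      have h2 := val_algebraMap_le P c
      rw [h1, ← exp_zero, exp_le_exp] at h2
      omega
    have hxr : x ∈ Set.range (algebraMap k K) := mem_range_of_forall_val_le_one hK (fun Q => by
      have := hxL Q
      rwa [hDz Q, exp_zero] at this)
    have hyr : y ∈ Set.range (algebraMap k K) := mem_range_of_forall_val_le_one hK (fun Q => by
      have := hyL Q
      rwa [hDz Q, exp_zero] at this)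
    obtain ⟨z, hz⟩ := exists_not_mem_range hK
    apply hz
    have hz' : z ∈ IntermediateField.adjoin k ({x, y} : Set K) := by
      rw [hxy]; exact IntermediateField.mem_top
    have hbot : IntermediateField.adjoin k ({x, y} : Set K) = ⊥ := by
      rw [IntermediateField.adjoin_eq_bot_iff]
      rintro w (rfl | rfl)
      · exact IntermediateField.mem_bot.mpr hxr
      · exact IntermediateField.mem_bot.mpr hyr
    rw [hbot] at hz'
    exact IntermediateField.mem_bot.mp hz'
  have htr := transcendental_of_not_mem_range hK hunc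
  have hfd := finiteDimensional_of_transcendental hK htr
  have hdeg : D.deg = (finrank k⟮u⟯ K : ℤ) := by
    rw [← hpole]; exact deg_poleDiv_eq hK hunc
  have hux : IntermediateField.adjoin k ({u, x} : Set K) = ⊤ := by
    rw [eq_top_iff, ← hxy, IntermediateField.adjoin_le_iff]
    rintro w (rfl | rfl)
    · exact IntermediateField.subset_adjoin k _ (by simp)
    · have hw : w = (a 1)⁻¹ • (u - a 0 • x) := by
        rw [hu, add_sub_cancel_left, smul_smul, inv_mul_cancel₀ ha1', one_smul]
      rw [hw]
      have hmu : u ∈ IntermediateField.adjoin k ({u, x} : Set K) :=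
        IntermediateField.subset_adjoin k _ (by simp)
      have hmx : x ∈ IntermediateField.adjoin k ({u, x} : Set K) :=
        IntermediateField.subset_adjoin k _ (by simp)
      exact IntermediateField.smul_mem _ (sub_mem hmu (IntermediateField.smul_mem _ hmx))
  exact ⟨a 0, a 1, ha1', huval, hunc, hdeg, hux⟩

/-- **genus of a nonsingular plane model** (lower bound) -/
theorem two_mul_genus_ge_of_nonsingular [IsAlgClosed k] (hK : IsFunctionField k K) (x y : K)
    (hxy : IntermediateField.adjoin k ({x, y} : Set K) = ⊤)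
    (hns : ∀ P : Place k K, IsNonsingularAt ![(1 : K), x, y] P) :
    ((mapDiv k ![(1 : K), x, y]).deg - 1) * ((mapDiv k ![(1 : K), x, y]).deg - 2) ≤
      2 * (genus k K : ℤ) := by
  classical
  obtain ⟨a₀, a₁, ha₁, hgen, hunc, hdeg, hux⟩ := exists_generic_form hK x y hxy
  obtain ⟨u, hu⟩ : ∃ u : K, u = a₀ • x + a₁ • y := ⟨_, rfl⟩
  rw [← hu] at hgen hunc hdeg hux
  have hutr : Transcendental k u := transcendental_of_not_mem_range hK hunc
  haveI hfd : FiniteDimensional k⟮u⟯ K := finiteDimensional_of_transcendental hK hutr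
  letI : Algebra (RatFunc k) K := (Groth.Agent.Lib.helper16.FH.ratEmb hutr).toRingHom.toAlgebra
  haveI : IsScalarTower k (RatFunc k) K :=
    IsScalarTower.of_algebraMap_eq fun c => ((Groth.Agent.Lib.helper16.FH.ratEmb hutr).commutes c).symm
  have halg : ∀ r : RatFunc k, algebraMap (RatFunc k) K r =
      Groth.Agent.Lib.helper16.FH.ratEmb hutr r := fun r => rfl
  letI : Algebra k[X] K := (aeval u).toRingHom.toAlgebra
  have halgA : ∀ p : k[X], algebraMap k[X] K p = aeval u p := fun p => rfl
  haveI : IsScalarTower k k[X] K := IsScalarTower.of_algebraMap_eq fun c => by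
    rw [halgA, Polynomial.algebraMap_eq, aeval_C]
  haveI : IsScalarTower k[X] (RatFunc k) K := IsScalarTower.of_algebraMap_eq fun p => by
    rw [halgA, halg, Groth.Agent.Lib.helper16.FH.ratEmb_algebraMap]
  have he : (algebraMap (RatFunc k) K).comp
      (RatFunc.algEquivOfTranscendental u hutr).symm.toRingEquiv.toRingHom =
      (RingEquiv.refl K).toRingHom.comp (algebraMap k⟮u⟯ K) := by
    ext a
    show Groth.Agent.Lib.helper16.FH.ratEmb hutr ((RatFunc.algEquivOfTranscendental u hutr).symm a) = a
    show ((RatFunc.algEquivOfTranscendental u hutr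
      ((RatFunc.algEquivOfTranscendental u hutr).symm a) : k⟮u⟯) : K) = a
    rw [AlgEquiv.apply_symm_apply]
  haveI : FiniteDimensional (RatFunc k) K :=
    Module.Finite.of_equiv_equiv (RatFunc.algEquivOfTranscendental u hutr).symm.toRingEquiv
      (RingEquiv.refl K) he
  have hrank : finrank k⟮u⟯ K = finrank (RatFunc k) K :=
    Algebra.finrank_eq_of_equiv_equiv (RatFunc.algEquivOfTranscendental u hutr).symm.toRingEquiv
      (RingEquiv.refl K) he
  have hX : algebraMap (RatFunc k) K RatFunc.X = a₀ • x + a₁ • y := by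
    rw [halg, ← RatFunc.algebraMap_X, Groth.Agent.Lib.helper16.FH.ratEmb_algebraMap, aeval_X, hu]
  have hgen' : ∀ Q : Place k K, 0 < mapDiv k ![(1 : K), x, y] Q →
      Q.1 (algebraMap (RatFunc k) K RatFunc.X) = exp (mapDiv k ![(1 : K), x, y] Q) := by
    intro Q hQ
    rw [hX, ← hu]
    exact hgen Q hQ
  have hFx : (RatFunc k)⟮x⟯ = ⊤ := by
    rw [← IntermediateField.restrictScalars_eq_top_iff (K := k), eq_top_iff, ← hux,
      IntermediateField.adjoin_le_iff]
    rintro g (rfl | rfl)
    · show g ∈ (RatFunc k)⟮x⟯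
      rw [hu, ← hX]
      exact IntermediateField.algebraMap_mem _ _
    · exact IntermediateField.mem_adjoin_simple_self _ _
  have hd : (minpoly (RatFunc k) x).natDegree = finrank (RatFunc k) K := by
    rw [← IntermediateField.adjoin.finrank (Algebra.IsIntegral.isIntegral x), hFx,
      IntermediateField.finrank_top']
  have hdpos : 0 < finrank (RatFunc k) K := Module.finrank_pos
  obtain ⟨d, hd'⟩ : ∃ d : ℕ, d = finrank (RatFunc k) K := ⟨_, rfl⟩
  rw [← hd'] at hd hdpos
  rw [hrank, ← hd'] at hdeg
  obtain ⟨n, hn⟩ : ∃ n : ℕ, n = 2 * genus k K + d := ⟨_, rfl⟩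
  have hell_le := ell_le_of_nonsingular hK x y a₀ a₁ ha₁ hX hgen' hns hFx (n := n)
    (by rw [hd]; omega)
  rw [hd] at hell_le
  have htri := two_mul_sum_triangle n d (by omega)
  have hell := ell_eq_of_deg_ge hK (D := n • mapDiv k ![(1 : K), x, y]) (by
    rw [deg_nsmul, hdeg]
    have : (1 : ℤ) ≤ d := by exact_mod_cast hdpos
    have hn' : (n : ℤ) = 2 * genus k K + d := by rw [hn]; push_cast; ring
    nlinarith)
  rw [deg_nsmul, hdeg] at hell
  have hcard' : (ell (n • mapDiv k ![(1 : K), x, y]) : ℤ) ≤
      ((∑ b ∈ Finset.range d, (n + 1 - b) : ℕ) : ℤ) := by exact_mod_cast hell_le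
  rw [hdeg]
  have hn' : (n : ℤ) = 2 * genus k K + d := by rw [hn]; push_cast; ring
  nlinarith

theorem deg_mapDiv_pos [IsAlgClosed k] (hK : IsFunctionField k K) (x y : K)
    (hxy : IntermediateField.adjoin k ({x, y} : Set K) = ⊤) :
    1 ≤ (mapDiv k ![(1 : K), x, y]).deg := by
  obtain ⟨a₀, a₁, ha₁, hgen, hunc, hdeg, hux⟩ := exists_generic_form hK x y hxy
  have hutr := transcendental_of_not_mem_range hK hunc
  haveI hfd : FiniteDimensional k⟮a₀ • x + a₁ • y⟯ K := finiteDimensional_of_transcendental hK hutr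
  rw [hdeg]
  have : 0 < finrank k⟮a₀ • x + a₁ • y⟯ K := Module.finrank_pos
  exact_mod_cast this

/-- **genus formula for nonsingular plane models** -/
theorem two_mul_genus_eq_of_nonsingular [IsAlgClosed k] (hK : IsFunctionField k K) (x y : K)
    (hxy : IntermediateField.adjoin k ({x, y} : Set K) = ⊤)
    (hns : ∀ P : Place k K, IsNonsingularAt ![(1 : K), x, y] P) :
    2 * (genus k K : ℤ) =
      ((mapDiv k ![(1 : K), x, y]).deg - 1) * ((mapDiv k ![(1 : K), x, y]).deg - 2) :=
  le_antisymm (two_mul_genus_le_of_plane_model hK x y hxy)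
    (two_mul_genus_ge_of_nonsingular hK x y hxy hns)

/-- S11060 -/
theorem exists_triangular_of_nonsingular [IsAlgClosed k] (hK : IsFunctionField k K)
    (h : ∃ x y : K, IntermediateField.adjoin k ({x, y} : Set K) = ⊤ ∧
      ∀ P : Place k K, IsNonsingularAt ![(1 : K), x, y] P) :
    ∃ m : ℕ, 2 * genus k K = m * (m + 1) := by
  obtain ⟨x, y, hxy, hns⟩ := h
  have h1 := two_mul_genus_eq_of_nonsingular hK x y hxy hns
  have h2 := deg_mapDiv_pos hK x y hxy
  obtain ⟨d, hd⟩ : ∃ d : ℕ, (mapDiv k ![(1 : K), x, y]).deg = d :=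
    ⟨(mapDiv k ![(1 : K), x, y]).deg.toNat, (Int.toNat_of_nonneg (by omega)).symm⟩
  rw [hd] at h1 h2
  have hd1 : 1 ≤ d := by exact_mod_cast h2
  rcases Nat.lt_or_ge d 2 with hlt | hge
  · have hd' : d = 1 := by omega
    refine ⟨0, ?_⟩
    rw [hd'] at h1
    have : (2 * genus k K : ℤ) = 0 := by rw [h1]; norm_num
    have : 2 * genus k K = 0 := by exact_mod_cast this
    rw [this]
  · refine ⟨d - 2, ?_⟩
    obtain ⟨m, rfl⟩ : ∃ m, d = m + 2 := ⟨d - 2, by omega⟩
    have : (2 * genus k K : ℤ) = (m : ℤ) * (m + 1) := by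
      rw [h1]; push_cast; ring
    rw [Nat.add_sub_cancel]
    exact_mod_cast this

end Groth.Agent.Lib.helper16.FPN
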