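import Groth.Agent.Lib.helper16.FPlaneNS5
import Groth.Agent.Lib.helper16.FFMore

/-! Helper library (helper16): a plane model with `2g = (d-1)(d-2)` is nonsingular. -/

set_option autoImplicit false

namespace Groth.Agent.Lib.helper16.FPN

open FunFld WithZero Polynomial Module Groth.Agent.Lib.helper16.FF Groth.Agent.Lib.helper16.FX
open scoped IntermediateField

variable {k K : Type*} [Field k] [Field K] [Algebra k K]

/-- polynomials of degree `≤ n` in `x, y` -/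
def Vn (k : Type*) {K : Type*} [Field k] [Field K] [Algebra k K] (x y : K) (n : ℕ) :
    Submodule k K :=
  Submodule.span k {z | ∃ i j : ℕ, i + j ≤ n ∧ z = x ^ i * y ^ j}

theorem Vn_mono (x y : K) {n m : ℕ} (h : n ≤ m) : Vn k x y n ≤ Vn k x y m := by
  apply Submodule.span_mono
  rintro z ⟨i, j, hij, rfl⟩
  exact ⟨i, j, by omega, rfl⟩

theorem mul_mem_Vn (x y : K) {n m : ℕ} {a b : K} (ha : a ∈ Vn k x y n) (hb : b ∈ Vn k x y m) :
    a * b ∈ Vn k x y (n + m) := by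
  have h1 : a * b ∈ Vn k x y n * Vn k x y m := Submodule.mul_mem_mul ha hb
  unfold Vn at h1
  rw [Submodule.span_mul_span] at h1
  refine Submodule.span_mono ?_ h1
  rintro z ⟨z₁, ⟨i, j, hij, rfl⟩, z₂, ⟨i', j', hij', rfl⟩, rfl⟩
  exact ⟨i + i', j + j', by omega, by ring⟩

theorem one_mem_Vn (x y : K) (n : ℕ) : (1 : K) ∈ Vn k x y n :=
  Submodule.subset_span ⟨0, 0, by omega, by simp⟩

theorem x_mem_Vn (x y : K) : x ∈ Vn k x y 1 :=
  Submodule.subset_span ⟨1, 0, by omega, by simp⟩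

theorem y_mem_Vn (x y : K) : y ∈ Vn k x y 1 :=
  Submodule.subset_span ⟨0, 1, by omega, by simp⟩

theorem pow_mem_Vn (x y : K) {a : K} (ha : a ∈ Vn k x y 1) (e : ℕ) : a ^ e ∈ Vn k x y e := by
  induction e with
  | zero => rw [pow_zero]; exact one_mem_Vn x y 0
  | succ e ih =>
    rw [pow_succ]
    exact mul_mem_Vn x y ih ha

/-- the local ring of the Veronese-type tuple `(x^i y^j)_{i+j ≤ n}` is that of `(1, x, y)` -/
theorem isNonsingularAt_of_veronese (x y : K) (n : ℕ) (P : Place k K)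
    (h : IsNonsingularAt
      (fun i : (Σ i : Fin (n + 1), Fin (n + 1 - i)) => x ^ (i.1 : ℕ) * y ^ (i.2 : ℕ)) P) :
    IsNonsingularAt ![(1 : K), x, y] P := by
  intro z hz
  have hψ := h z hz
  obtain ⟨ψ, hψdef⟩ : ∃ ψ : (Σ i : Fin (n + 1), Fin (n + 1 - i)) → K,
      ψ = fun i => x ^ (i.1 : ℕ) * y ^ (i.2 : ℕ) := ⟨_, rfl⟩
  rw [← hψdef] at hψ
  obtain ⟨j₀, hj₀⟩ := exists_max_val ![(1 : K), x, y] P
  obtain ⟨v₀, hv₀⟩ : ∃ v₀ : K, v₀ = ![(1 : K), x, y] j₀ := ⟨_, rfl⟩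
  rw [← hv₀] at hj₀
  have hM1 : 1 ≤ P.1 v₀ := by
    have := hj₀ 0
    rwa [show (![(1 : K), x, y] 0) = 1 from rfl, map_one] at this
  have hv₀ne : v₀ ≠ 0 := by
    rintro rfl
    rw [map_zero] at hM1
    exact not_le.mpr zero_lt_one hM1
  have hxM : P.1 x ≤ P.1 v₀ := hj₀ 1
  have hyM : P.1 y ≤ P.1 v₀ := hj₀ 2
  obtain ⟨j₁, hj₁⟩ : ∃ j₁, ψ j₁ = v₀ ^ n := by
    rw [hv₀, hψdef]
    fin_cases j₀
    · exact ⟨⟨⟨0, by omega⟩, ⟨0, by show 0 < n + 1 - 0; omega⟩⟩, by simp⟩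
    · exact ⟨⟨⟨n, by omega⟩, ⟨0, by show 0 < n + 1 - n; omega⟩⟩, by simp⟩
    · exact ⟨⟨⟨0, by omega⟩, ⟨n, by show n < n + 1 - 0; omega⟩⟩, by simp⟩
  have hψne : ψ j₁ ≠ 0 := by rw [hj₁]; exact pow_ne_zero _ hv₀ne
  have hmax₁ : ∀ i, P.1 (ψ i) ≤ P.1 (ψ j₁) := by
    rintro ⟨a, b⟩
    have hb := b.2
    rw [hj₁, hψdef, map_mul, map_pow, map_pow, map_pow]
    calc P.1 x ^ (a : ℕ) * P.1 y ^ (b : ℕ) ≤ P.1 v₀ ^ (a : ℕ) * P.1 v₀ ^ (b : ℕ) :=
          mul_le_mul' (pow_le_pow_left₀ zero_le hxM _) (pow_le_pow_left₀ zero_le hyM _)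
      _ = P.1 v₀ ^ ((a : ℕ) + (b : ℕ)) := (pow_add _ _ _).symm
      _ ≤ P.1 v₀ ^ n := pow_le_pow_right₀ hM1 (by omega)
  have hin := inLoc_of_inLocRing ψ P j₁ hψne hmax₁ hψ
  have hle : Algebra.adjoin k (Set.range fun i => ψ i / ψ j₁) ≤
      Algebra.adjoin k (Set.range fun i => ![(1 : K), x, y] i / ![(1 : K), x, y] j₀) := by
    apply Algebra.adjoin_le
    rintro _ ⟨⟨a, b⟩, rfl⟩
    have hb := b.2
    have hgen : ∀ i, ![(1 : K), x, y] i / v₀ ∈
        Algebra.adjoin k (Set.range fun i => ![(1 : K), x, y] i / ![(1 : K), x, y] j₀) := by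
      intro i
      rw [hv₀]
      exact Algebra.subset_adjoin ⟨i, rfl⟩
    have h1 : ψ ⟨a, b⟩ / ψ j₁ =
        (x / v₀) ^ (a : ℕ) * (y / v₀) ^ (b : ℕ) * ((1 : K) / v₀) ^ (n - (a : ℕ) - (b : ℕ)) := by
      rw [hj₁, hψdef]
      have h2 : v₀ ^ n = v₀ ^ (a : ℕ) * v₀ ^ (b : ℕ) * v₀ ^ (n - (a : ℕ) - (b : ℕ)) := by
        rw [← pow_add, ← pow_add]
        congr 1
        omega
      rw [h2, _root_.div_pow, _root_.div_pow, _root_.div_pow, one_pow, div_mul_div_comm,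
        div_mul_div_comm, mul_one]
    show ψ ⟨a, b⟩ / ψ j₁ ∈ _
    rw [h1]
    exact Subalgebra.mul_mem _ (Subalgebra.mul_mem _ (Subalgebra.pow_mem _ (hgen 1) _)
      (Subalgebra.pow_mem _ (hgen 2) _)) (Subalgebra.pow_mem _ (hgen 0) _)
  obtain ⟨a, ha, b, hb, hb1, hzab⟩ := hin
  exact ⟨j₀, by rw [← hv₀]; exact hv₀ne, by rw [← hv₀]; exact hj₀, a, hle ha, b, hle hb, hb1, hzab⟩

/-- if the genus bound of a plane model is attained, then `L(nD)` is the space of polynomials of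
degree `≤ n` in `x, y` for a large `n` -/
theorem exists_Vn_eq_L [IsAlgClosed k] (hK : IsFunctionField k K) (x y : K)
    (hxy : IntermediateField.adjoin k ({x, y} : Set K) = ⊤)
    (heq : 2 * (genus k K : ℤ) =
      ((mapDiv k ![(1 : K), x, y]).deg - 1) * ((mapDiv k ![(1 : K), x, y]).deg - 2)) :
    ∃ n : ℕ, 2 * (genus k K : ℤ) + 1 ≤ (n • mapDiv k ![(1 : K), x, y]).deg ∧
      Vn k x y n = L (n • mapDiv k ![(1 : K), x, y]) := by
  classical
  obtain ⟨a₀, a₁, ha₁, hgen, hunc, hdeg, hux⟩ := exists_generic_form hK x y hxy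
  obtain ⟨u, hu⟩ : ∃ u : K, u = a₀ • x + a₁ • y := ⟨_, rfl⟩
  rw [← hu] at hgen hunc hdeg hux
  obtain ⟨D, hD⟩ : ∃ D : Divisor k K, D = mapDiv k ![(1 : K), x, y] := ⟨_, rfl⟩
  rw [← hD] at hgen hdeg heq ⊢
  have hφL : ∀ i, ![(1 : K), x, y] i ∈ L D := fun i => by rw [hD]; exact mem_L_mapDiv hK _ i
  have h1L : (1 : K) ∈ L D := hφL 0
  have hxL : x ∈ L D := hφL 1
  have hyL : y ∈ L D := hφL 2
  have hD0 : ∀ P, 0 ≤ D P := fun P => by
    have := h1L P
    rwa [map_one, ← exp_zero, exp_le_exp] at this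
  have huL : u ∈ L D := by
    rw [hu]
    exact Submodule.add_mem _ (Submodule.smul_mem _ _ hxL) (Submodule.smul_mem _ _ hyL)
  have htr : Transcendental k u := transcendental_of_not_mem_range hK hunc
  haveI hfd : FiniteDimensional k⟮u⟯ K := finiteDimensional_of_transcendental hK htr
  have hFx : (k⟮u⟯)⟮x⟯ = ⊤ := by
    rw [← IntermediateField.restrictScalars_eq_top_iff (K := k),
      IntermediateField.adjoin_adjoin_left]
    rw [← hux]
    congr 1
  have hint : IsIntegral k⟮u⟯ x := Algebra.IsIntegral.isIntegral x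
  have hd' : (minpoly k⟮u⟯ x).natDegree = finrank k⟮u⟯ K := by
    rw [← IntermediateField.adjoin.finrank hint, hFx, IntermediateField.finrank_top']
  have hdpos : 0 < finrank k⟮u⟯ K := Module.finrank_pos
  obtain ⟨d, hd⟩ : ∃ d : ℕ, d = finrank k⟮u⟯ K := ⟨_, rfl⟩
  rw [← hd] at hd' hdpos hdeg
  obtain ⟨n, hn⟩ : ∃ n : ℕ, n = 2 * genus k K + d := ⟨_, rfl⟩
  have hn' : (n : ℤ) = 2 * genus k K + d := by rw [hn]; push_cast; ring
  have hd1 : (1 : ℤ) ≤ d := by exact_mod_cast hdpos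
  have hdegn : (n • D).deg = n * d := by rw [deg_nsmul, hdeg]
  refine ⟨n, by rw [hdegn]; nlinarith, ?_⟩
  -- `Vn ≤ L`
  have hVL : Vn k x y n ≤ L (n • D) := by
    apply Submodule.span_le.mpr
    rintro z ⟨i, j, hij, rfl⟩ P
    have h1 : (1 : ℤᵐ⁰) ≤ exp (D P) := by rw [← exp_zero, exp_le_exp]; exact hD0 P
    rw [map_mul, map_pow, map_pow, Finsupp.smul_apply, exp_nsmul]
    calc P.1 x ^ i * P.1 y ^ j
        ≤ exp (D P) ^ i * exp (D P) ^ j :=
          mul_le_mul' (pow_le_pow_left₀ zero_le (hxL P) _) (pow_le_pow_left₀ zero_le (hyL P) _)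
      _ = exp (D P) ^ (i + j) := (pow_add _ _ _).symm
      _ ≤ exp (D P) ^ n := pow_le_pow_right₀ h1 hij
  apply le_antisymm hVL
  -- the monomials `u^a x^b`
  have hli := linearIndependent_monomials (x := x) htr n
  obtain ⟨mono, hmono⟩ : ∃ mono : (Σ b : Fin (minpoly k⟮u⟯ x).natDegree, Fin (n + 1 - b)) → K,
      mono = fun i => u ^ (i.2 : ℕ) * x ^ (i.1 : ℕ) := ⟨_, rfl⟩
  rw [← hmono] at hli
  have hmonoV : Submodule.span k (Set.range mono) ≤ Vn k x y n := by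
    apply Submodule.span_le.mpr
    rintro _ ⟨⟨b, a⟩, rfl⟩
    have ha := a.2
    have hb := b.2
    rw [hmono]
    have huV : u ∈ Vn k x y 1 := by
      rw [hu]
      exact Submodule.add_mem _ (Submodule.smul_mem _ _ (x_mem_Vn x y))
        (Submodule.smul_mem _ _ (y_mem_Vn x y))
    exact Vn_mono x y (by omega) (mul_mem_Vn x y (pow_mem_Vn x y huV a) (pow_mem_Vn x y (x_mem_Vn x y) b))
  have hmonoL : Submodule.span k (Set.range mono) ≤ L (n • D) := hmonoV.trans hVL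
  have hfdL := finiteDimensional_L hK (n • D)
  have hcard : finrank k (Submodule.span k (Set.range mono)) = ∑ b ∈ Finset.range d, (n + 1 - b) := by
    rw [finrank_span_eq_card hli, Fintype.card_sigma]
    simp only [Fintype.card_fin]
    rw [hd', Fin.sum_univ_eq_sum_range (fun b => n + 1 - b) d]
  have htri := two_mul_sum_triangle n d (by omega)
  have hell := ell_eq_of_deg_ge hK (D := n • D) (by rw [hdegn]; nlinarith)
  rw [hdegn] at hell
  have hfr : finrank k (Submodule.span k (Set.range mono)) = finrank k (L (n • D)) := by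
    have h1 : ((∑ b ∈ Finset.range d, (n + 1 - b) : ℕ) : ℤ) = (ell (n • D) : ℤ) := by
      rw [hdeg] at heq
      nlinarith
    rw [hcard]
    unfold ell at h1
    exact_mod_cast h1
  have := Submodule.eq_of_le_of_finrank_eq hmonoL hfr
  rw [← this]
  exact hmonoV

/-- **a plane model attaining the genus bound is nonsingular** -/
theorem nonsingular_of_two_mul_genus_eq [IsAlgClosed k] (hK : IsFunctionField k K) (x y : K)
    (hxy : IntermediateField.adjoin k ({x, y} : Set K) = ⊤)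
    (heq : 2 * (genus k K : ℤ) =
      ((mapDiv k ![(1 : K), x, y]).deg - 1) * ((mapDiv k ![(1 : K), x, y]).deg - 2))
    (P : Place k K) : IsNonsingularAt ![(1 : K), x, y] P := by
  classical
  obtain ⟨n, hdeg, hVL⟩ := exists_Vn_eq_L hK x y hxy heq
  apply isNonsingularAt_of_veronese x y n P
  obtain ⟨E, hE⟩ : ∃ E : Divisor k K, E = n • mapDiv k ![(1 : K), x, y] := ⟨_, rfl⟩
  rw [← hE] at hdeg hVL
  have hspan : Submodule.span k (Set.range
      (fun i : (Σ i : Fin (n + 1), Fin (n + 1 - i)) => x ^ (i.1 : ℕ) * y ^ (i.2 : ℕ))) = L E := by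
    rw [← hVL]
    unfold Vn
    congr 1
    ext z
    constructor
    · rintro ⟨⟨i, j⟩, rfl⟩
      have := j.2
      exact ⟨i, j, by omega, rfl⟩
    · rintro ⟨i, j, hij, rfl⟩
      exact ⟨⟨⟨i, by omega⟩, ⟨j, by show j < n + 1 - i; omega⟩⟩, rfl⟩
  have hQdeg : ∀ Q : Place k K, (Q.deg : ℤ) = 1 := fun Q => by
    rw [deg_eq_one_of_isAlgClosed hK Q]; rfl
  have hellE := ell_eq_of_deg_ge hK (D := E) (by omega)
  have hell1 : ∀ Q : Place k K,
      (ell (E - Finsupp.single Q (1 : ℤ)) : ℤ) = E.deg - 1 + 1 - genus k K := by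
    intro Q
    have hd : (E - Finsupp.single Q (1 : ℤ)).deg = E.deg - 1 := by
      rw [deg_sub, deg_single, hQdeg, mul_one]
    rw [← hd]
    exact ell_eq_of_deg_ge hK (by rw [hd]; omega)
  have hell2 : ∀ Q Q' : Place k K,
      (ell (E - Finsupp.single Q (1 : ℤ) - Finsupp.single Q' (1 : ℤ)) : ℤ) =
        E.deg - 2 + 1 - genus k K := by
    intro Q Q'
    have hd : (E - Finsupp.single Q (1 : ℤ) - Finsupp.single Q' (1 : ℤ)).deg = E.deg - 2 := by
      rw [deg_sub, deg_sub, deg_single, deg_single, hQdeg, hQdeg]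
      ring
    rw [← hd]
    exact ell_eq_of_deg_ge hK (by rw [hd]; omega)
  refine isNonsingularAt_of_very_ample hK (D := E) ?_ ?_ _ hspan P
  · intro Q
    have := hell1 Q
    omega
  · intro Q Q'
    have h1 := hell1 Q
    have h2 := hell2 Q Q'
    omega

/-- S11059 -/
theorem two_mul_genus_eq_iff_nonsingular [IsAlgClosed k] (hK : IsFunctionField k K) (x y : K)
    (hxy : IntermediateField.adjoin k ({x, y} : Set K) = ⊤) :
    2 * (genus k K : ℤ) =
        ((mapDiv k ![(1 : K), x, y]).deg - 1) * ((mapDiv k ![(1 : K), x, y]).deg - 2) ↔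
      ∀ P : Place k K, IsNonsingularAt ![(1 : K), x, y] P :=
  ⟨fun h P => nonsingular_of_two_mul_genus_eq hK x y hxy h P,
    fun h => two_mul_genus_eq_of_nonsingular hK x y hxy h⟩

end Groth.Agent.Lib.helper16.FPN
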