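import Mathlib

/-! Helper library (helper16): quadratic extensions — Kummer and Artin–Schreier generators. -/

set_option autoImplicit false

namespace Groth.Agent.Lib.helper16.FQ

open Polynomial Module
open scoped IntermediateField

variable {F K : Type*} [Field F] [Field K] [Algebra F K]

/-- in an extension of degree two, every element outside the base field generates and satisfies a
monic quadratic equation -/
theorem exists_quadratic (hdeg : finrank F K = 2) (y : K)
    (hy : y ∉ Set.range (algebraMap F K)) :
    F⟮y⟯ = ⊤ ∧ (minpoly F y).natDegree = 2 ∧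
      y ^ 2 + algebraMap F K ((minpoly F y).coeff 1) * y +
        algebraMap F K ((minpoly F y).coeff 0) = 0 := by
  have hfin : FiniteDimensional F K := Module.finite_of_finrank_pos (by omega)
  have hint : IsIntegral F y := Algebra.IsIntegral.isIntegral y
  have h1 := Module.finrank_mul_finrank F F⟮y⟯ K
  rw [hdeg] at h1
  have hne1 : finrank F F⟮y⟯ ≠ 1 := by
    intro h
    rw [IntermediateField.finrank_eq_one_iff, IntermediateField.adjoin_simple_eq_bot_iff,
      IntermediateField.mem_bot] at h
    exact hy h
  have hdvd : finrank F F⟮y⟯ ∣ 2 := ⟨_, h1.symm⟩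
  have h2 : finrank F F⟮y⟯ = 2 := by
    rcases (Nat.dvd_prime Nat.prime_two).mp hdvd with h | h
    · exact absurd h hne1
    · exact h
  have htop : F⟮y⟯ = ⊤ := by
    apply IntermediateField.eq_of_le_of_finrank_eq le_top
    rw [h2, IntermediateField.finrank_top', hdeg]
  have hnd : (minpoly F y).natDegree = 2 := by
    rw [← IntermediateField.adjoin.finrank hint, h2]
  refine ⟨htop, hnd, ?_⟩
  have h3 := minpoly.aeval F y
  rw [aeval_eq_sum_range, hnd] at h3
  simp only [Finset.sum_range_succ, Finset.sum_range_zero, zero_add, pow_zero, pow_one,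
    Algebra.smul_def, mul_one] at h3
  have hlead : (minpoly F y).coeff 2 = 1 := by
    have := (minpoly.monic hint).leadingCoeff
    rwa [leadingCoeff, hnd] at this
  rw [hlead, map_one, one_mul] at h3
  rw [← h3]
  ring

/-- in a separable quadratic extension in characteristic two the linear coefficient is nonzero -/
theorem coeff_one_ne_zero_of_separable [CharP F 2] [Algebra.IsSeparable F K]
    (hdeg : finrank F K = 2) (y : K) (hy : y ∉ Set.range (algebraMap F K)) :
    (minpoly F y).coeff 1 ≠ 0 := by
  obtain ⟨-, hnd, -⟩ := exists_quadratic hdeg y hy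
  intro h0
  have hsep : (minpoly F y).Separable := Algebra.IsSeparable.isSeparable F y
  have hder : derivative (minpoly F y) = 0 := by
    ext n
    rw [coeff_derivative, coeff_zero]
    rcases n with _ | _ | n
    · simp [h0]
    · have h2 : ((1 : F) + 1) = 0 := by
        have := CharP.cast_eq_zero F 2
        norm_num at this
        rw [← one_add_one_eq_two] at this
        exact this
      simp only [zero_add, Nat.cast_one]
      rw [h2, mul_zero]
    · rw [coeff_eq_zero_of_natDegree_lt (by rw [hnd]; omega), zero_mul]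
  rw [separable_def, hder, isCoprime_zero_right] at hsep
  have hfin : FiniteDimensional F K := Module.finite_of_finrank_pos (by omega)
  exact (minpoly.irreducible (Algebra.IsIntegral.isIntegral y)).not_isUnit hsep

/-- **Artin–Schreier generator** of a separable quadratic extension in characteristic two -/
theorem exists_artinSchreier [CharP F 2] [Algebra.IsSeparable F K] (hdeg : finrank F K = 2) :
    ∃ (y : K) (f : F), y ^ 2 + y = algebraMap F K f ∧ F⟮y⟯ = ⊤ := by
  have hfin : FiniteDimensional F K := Module.finite_of_finrank_pos (by omega)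
  obtain ⟨y₀, hy₀⟩ : ∃ y₀ : K, y₀ ∉ Set.range (algebraMap F K) := by
    by_contra hcon
    push Not at hcon
    have : finrank F K = 1 := by
      rw [← IntermediateField.finrank_top', IntermediateField.finrank_eq_one_iff, eq_comm,
        eq_top_iff]
      intro z _
      rw [IntermediateField.mem_bot]
      exact hcon z
    omega
  obtain ⟨-, -, hrel⟩ := exists_quadratic hdeg y₀ hy₀
  have ha := coeff_one_ne_zero_of_separable hdeg y₀ hy₀
  set a := (minpoly F y₀).coeff 1 with ha_def
  set b := (minpoly F y₀).coeff 0 with hb_def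
  have ha' : algebraMap F K a ≠ 0 := by
    rwa [Ne, map_eq_zero_iff _ (algebraMap F K).injective]
  refine ⟨y₀ / algebraMap F K a, -b / a ^ 2, ?_, ?_⟩
  · rw [map_div₀, map_neg, map_pow]
    field_simp
    linear_combination hrel
  · have hy : y₀ / algebraMap F K a ∉ Set.range (algebraMap F K) := by
      rintro ⟨c, hc⟩
      apply hy₀
      refine ⟨c * a, ?_⟩
      rw [map_mul, hc]
      field_simp
    exact (exists_quadratic hdeg _ hy).1

/-- every nonzero polynomial over a field is a square times a squarefree polynomial -/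
theorem exists_sq_mul_squarefree {k : Type*} [Field k] (g : k[X]) (hg : g ≠ 0) :
    ∃ s f : k[X], g = s ^ 2 * f ∧ Squarefree f := by
  induction' hn : g.natDegree using Nat.strong_induction_on with n ih generalizing g
  by_cases hsq : Squarefree g
  · exact ⟨1, g, by ring, hsq⟩
  · unfold Squarefree at hsq
    push Not at hsq
    obtain ⟨q, ⟨g', hg'⟩, hq⟩ := hsq
    have hq0 : q ≠ 0 := by
      rintro rfl
      apply hg
      rw [hg', zero_mul, zero_mul]
    have hg'0 : g' ≠ 0 := by
      rintro rfl
      apply hg
      rw [hg', mul_zero]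
    have hqd : 0 < q.natDegree := by
      rw [Nat.pos_iff_ne_zero]
      intro h
      apply hq
      rw [Polynomial.isUnit_iff]
      obtain ⟨c, hc⟩ := Polynomial.natDegree_eq_zero.mp h
      refine ⟨c, ?_, hc⟩
      rw [isUnit_iff_ne_zero]
      rintro rfl
      apply hq0
      rw [← hc, map_zero]
    have hdeg : g'.natDegree < n := by
      rw [← hn, hg', Polynomial.natDegree_mul (mul_ne_zero hq0 hq0) hg'0,
        Polynomial.natDegree_mul hq0 hq0]
      omega
    obtain ⟨s, f, hsf, hf⟩ := ih _ hdeg g' hg'0 rfl
    exact ⟨q * s, f, by rw [hg', hsf]; ring, hf⟩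

/-- **Kummer generator** of a quadratic extension in characteristic different from two -/
theorem exists_kummer (h2 : (2 : F) ≠ 0) (hdeg : finrank F K = 2) :
    ∃ (y : K) (c : F), y ^ 2 = algebraMap F K c ∧ y ∉ Set.range (algebraMap F K) := by
  have hfin : FiniteDimensional F K := Module.finite_of_finrank_pos (by omega)
  obtain ⟨y₀, hy₀⟩ : ∃ y₀ : K, y₀ ∉ Set.range (algebraMap F K) := by
    by_contra hcon
    push Not at hcon
    have : finrank F K = 1 := by
      rw [← IntermediateField.finrank_top', IntermediateField.finrank_eq_one_iff, eq_comm,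
        eq_top_iff]
      intro z _
      rw [IntermediateField.mem_bot]
      exact hcon z
    omega
  obtain ⟨-, -, hrel⟩ := exists_quadratic hdeg y₀ hy₀
  set a := (minpoly F y₀).coeff 1 with ha_def
  set b := (minpoly F y₀).coeff 0 with hb_def
  have h2' : (2 : K) ≠ 0 := by
    have : (2 : K) = algebraMap F K 2 := by rw [map_ofNat]
    rw [this, Ne, map_eq_zero_iff _ (algebraMap F K).injective]
    exact h2
  refine ⟨y₀ + algebraMap F K (a / 2), a ^ 2 / 4 - b, ?_, ?_⟩
  · have h4 : (4 : K) ≠ 0 := by
      have : (4 : K) = 2 * 2 := by norm_num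
      rw [this]
      exact mul_ne_zero h2' h2'
    simp only [map_div₀, map_sub, map_pow, map_ofNat]
    have e : (y₀ + algebraMap F K a / 2) ^ 2 - (algebraMap F K a ^ 2 / 4 - algebraMap F K b) =
        y₀ ^ 2 + algebraMap F K a * y₀ + algebraMap F K b := by
      field_simp
      ring
    rw [← sub_eq_zero, e, hrel]
  · rintro ⟨c, hc⟩
    apply hy₀
    refine ⟨c - a / 2, ?_⟩
    rw [map_sub, hc]
    ring

/-- a quadratic extension of `k(x)` in characteristic `≠ 2` is generated by a square root of a
squarefree polynomial -/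
theorem exists_sqrt_squarefree {k : Type*} [Field k] {K : Type*} [Field K]
    [Algebra (RatFunc k) K] (h2 : (2 : k) ≠ 0) (hdeg : finrank (RatFunc k) K = 2) :
    ∃ (y : K) (f : k[X]), Squarefree f ∧
      y ^ 2 = algebraMap (RatFunc k) K (algebraMap k[X] (RatFunc k) f) ∧
      (RatFunc k)⟮y⟯ = ⊤ := by
  have h2F : (2 : RatFunc k) ≠ 0 := by
    have : (2 : RatFunc k) = algebraMap k (RatFunc k) 2 := by rw [map_ofNat]
    rw [this, Ne, map_eq_zero_iff _ (algebraMap k (RatFunc k)).injective]
    exact h2
  obtain ⟨y₁, c, hyc, hy₁⟩ := exists_kummer h2F hdeg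
  have hc0 : c ≠ 0 := by
    rintro rfl
    rw [map_zero] at hyc
    apply hy₁
    exact ⟨0, by rw [map_zero, eq_zero_of_pow_eq_zero hyc]⟩
  have hd0 : c.denom ≠ 0 := c.denom_ne_zero
  have hn0 : c.num ≠ 0 := by
    intro h
    apply hc0
    rw [← RatFunc.num_div_denom c, h, map_zero, zero_div]
  obtain ⟨s, f, hsf, hf⟩ := exists_sq_mul_squarefree (c.num * c.denom) (mul_ne_zero hn0 hd0)
  have hs0 : s ≠ 0 := by
    rintro rfl
    have : c.num * c.denom = 0 := by rw [hsf]; ring
    exact mul_ne_zero hn0 hd0 this
  let ι : k[X] →+* K := (algebraMap (RatFunc k) K).comp (algebraMap k[X] (RatFunc k))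
  have hιinj : Function.Injective ι :=
    (algebraMap (RatFunc k) K).injective.comp (IsFractionRing.injective k[X] (RatFunc k))
  have hιs : ι s ≠ 0 := by rwa [Ne, map_eq_zero_iff _ hιinj]
  have hιd : ι c.denom ≠ 0 := by rwa [Ne, map_eq_zero_iff _ hιinj]
  have hcK : algebraMap (RatFunc k) K c = ι c.num / ι c.denom := by
    conv_lhs => rw [← RatFunc.num_div_denom c]
    rw [map_div₀]
    rfl
  refine ⟨ι c.denom * y₁ / ι s, f, hf, ?_, ?_⟩
  · show _ = ι f
    have h3 : ι (c.num * c.denom) = ι s ^ 2 * ι f := by rw [hsf, map_mul, map_pow]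
    rw [map_mul] at h3
    rw [div_pow, mul_pow, hyc, hcK]
    field_simp
    linear_combination h3
  · have hy : ι c.denom * y₁ / ι s ∉ Set.range (algebraMap (RatFunc k) K) := by
      rintro ⟨r, hr⟩
      apply hy₁
      refine ⟨r * algebraMap k[X] (RatFunc k) s / algebraMap k[X] (RatFunc k) c.denom, ?_⟩
      rw [map_div₀, map_mul, hr]
      show _ * ι s / ι c.denom = _
      field_simp
    exact (exists_quadratic hdeg _ hy).1

end Groth.Agent.Lib.helper16.FQ
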