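import Groth.Agent.Lib.helper16.FWDivInv

/-! Helper library (helper16): existence of Hasse families for other separating variables, existence
of the orders at a place, and positivity of the Weierstrass divisor at a fixed point (S12610). -/

set_option autoImplicit false

namespace Groth.Agent.Lib.helper16.FWP

open FunFld WithZero LocRes
open Groth.Agent.Lib.helper16

universe u v

section hasseExists

variable {k : Type u} {K : Type v} [Field k] [Field K] [Algebra k K]

theorem constantCoeff_subst' {b : PowerSeries K} (hb0 : PowerSeries.constantCoeff b = 0)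
    (f : PowerSeries K) :
    PowerSeries.constantCoeff (PowerSeries.subst b f) = PowerSeries.constantCoeff f := by
  have hb : PowerSeries.HasSubst b := PowerSeries.HasSubst.of_constantCoeff_zero' hb0
  rw [← PowerSeries.coeff_zero_eq_constantCoeff_apply, PowerSeries.coeff_subst' hb,
    finsum_eq_single _ 0]
  · rw [pow_zero, PowerSeries.coeff_one, if_pos rfl, smul_eq_mul, mul_one,
      PowerSeries.coeff_zero_eq_constantCoeff_apply]
  · intro d hd
    rw [FHs.coeff_pow_of_lt hb0 (Nat.pos_of_ne_zero hd), smul_zero]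

/-- a Hasse family for `s` yields one for every `t` with `D_s t ≠ 0` -/
theorem exists_isHasseFamily {s t : K} {Hs : K →ₐ[k] PowerSeries K} (hHs : IsHasseFamily s Hs)
    (ht : hasseD Hs 1 t ≠ 0) : ∃ Ht : K →ₐ[k] PowerSeries K, IsHasseFamily t Ht := by
  set w := FHs.subSer Hs t with hw
  have hw0 : PowerSeries.constantCoeff w = 0 := FHs.constantCoeff_subSer hHs t
  have hw1 : PowerSeries.coeff 1 w = hasseD Hs 1 t := FHs.coeff_one_subSer Hs t
  letI : Invertible (PowerSeries.coeff 1 w) := invertibleOfNonzero (by rw [hw1]; exact ht)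
  set u := PowerSeries.substInv w with hu
  have hu0 : PowerSeries.constantCoeff u = 0 := PowerSeries.constantCoeff_substInv w
  have hus : PowerSeries.HasSubst u := PowerSeries.HasSubst.of_constantCoeff_zero' hu0
  let S : PowerSeries K →ₐ[K] PowerSeries K := PowerSeries.substAlgHom hus
  have hS : ∀ f, S f = PowerSeries.subst u f := fun f => by
    show PowerSeries.substAlgHom (R := K) hus f = _
    rw [PowerSeries.coe_substAlgHom]
  let Ht : K →ₐ[k] PowerSeries K := (S.restrictScalars k).comp Hs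
  have hHt : ∀ y, Ht y = S (Hs y) := fun y => rfl
  refine ⟨Ht, ?_, fun y => ?_⟩
  · have h1 : Hs t = PowerSeries.C t + w := by
      rw [hw]; unfold FHs.subSer; ring
    have h2 : S (PowerSeries.C t) = PowerSeries.C t := by
      have := S.commutes t
      rwa [PowerSeries.algebraMap_apply, Algebra.algebraMap_self, RingHom.id_apply] at this
    rw [hHt, h1, map_add, h2, hS, PowerSeries.subst_substInv_right w hw0]
  · rw [hHt, hS, constantCoeff_subst' hu0, hHs.2]

/-- over a function field: a Hasse family exists for every separating `t` as soon as one exists -/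
theorem exists_isHasseFamily_of_D_ne_zero (hK : IsFunctionField k K) (hg : IsGeometric k K)
    {s t : K} {Hs : K →ₐ[k] PowerSeries K} (hHs : IsHasseFamily s Hs)
    (ht : KaehlerDifferential.D k K t ≠ 0) : ∃ Ht : K →ₐ[k] PowerSeries K, IsHasseFamily t Ht := by
  apply exists_isHasseFamily hHs
  intro h0
  apply ht
  rw [FWI.kaehler_eq_hasseD_smul hK hg hHs t, h0, zero_smul]

end hasseExists

section ordersExist

variable {R : Type*} [Field R]

/-- columns span everything as soon as the rows are independent -/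
theorem span_cols_eq_top_of_rows_indep {m : ℕ} {κ : Type*} (c : κ → (Fin m → R))
    (h : LinearIndependent R (fun i : Fin m => fun j : κ => c j i)) :
    Submodule.span R (Set.range c) = ⊤ := by
  classical
  by_contra hne
  obtain ⟨f, hf0, hle⟩ := Submodule.exists_le_ker_of_lt_top _ (lt_top_iff_ne_top.mpr hne)
  set a : Fin m → R := fun i => f (fun j => if i = j then 1 else 0) with ha
  have hfa : ∀ v : Fin m → R, f v = ∑ i, a i * v i := by
    intro v
    rw [LinearMap.pi_apply_eq_sum_univ f v]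
    apply Finset.sum_congr rfl
    intro i _
    rw [smul_eq_mul, mul_comm]
  have hsum : ∑ i, a i • (fun j : κ => c j i) = 0 := by
    funext j
    rw [Finset.sum_apply]
    simp only [Pi.smul_apply, smul_eq_mul, Pi.zero_apply]
    rw [← hfa (c j)]
    exact hle (Submodule.subset_span ⟨j, rfl⟩)
  have h0 := Fintype.linearIndependent_iff.mp h a hsum
  apply hf0
  apply LinearMap.ext
  intro v
  rw [hfa, LinearMap.zero_apply]
  apply Finset.sum_eq_zero
  intro i _
  rw [h0 i, zero_mul]

/-- existence of the order sequence of a spanning column sequence with nonzero leading column -/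
theorem exists_isOrders_of_span_eq_top {n : ℕ} (c : ℕ → (Fin (n + 1) → R))
    (hV : Submodule.span R (Set.range c) = ⊤) (hc0 : c 0 ≠ 0) :
    ∃ J : Fin n → ℕ, IsOrders R c J := by
  classical
  have li := FHs.linearIndependent_jumps (R := R) c
  haveI : Finite {j // IsJump R c j} := li.finite
  have hspan : Submodule.span R (Set.range fun j : {j // IsJump R c j} => c j) = ⊤ := by
    have : (Set.range fun j : {j // IsJump R c j} => c j) = c '' {j | IsJump R c j} := by
      ext v
      constructor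
      · rintro ⟨j, rfl⟩
        exact ⟨j, j.2, rfl⟩
      · rintro ⟨j, hj, rfl⟩
        exact ⟨⟨j, hj⟩, rfl⟩
    rw [this, ← FHs.span_range_eq_span_jumps, hV]
  let b := Module.Basis.mk li (ge_of_eq hspan)
  have hcardS : Nat.card {j // IsJump R c j} = n + 1 := by
    rw [← Module.finrank_eq_nat_card_basis b, Module.finrank_fin_fun]
  have hfin : {j | IsJump R c j}.Finite := Set.finite_coe_iff.mp this
  set Sf : Finset ℕ := hfin.toFinset with hSf
  have hSfcard : Sf.card = n + 1 := by
    rw [← hcardS, hSf, ← Set.ncard_eq_toFinset_card _ hfin]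
    rfl
  have hmemSf : ∀ j, j ∈ Sf ↔ IsJump R c j := fun j => by
    rw [hSf, Set.Finite.mem_toFinset]
    rfl
  have h0 : (0 : ℕ) ∈ Sf := by
    rw [hmemSf]
    unfold IsJump
    have : c '' Set.Iio 0 = ∅ := by
      ext v
      simp
    rw [this, Submodule.span_empty, Submodule.mem_bot]
    exact hc0
  set S'f : Finset ℕ := (Sf.erase 0).image Nat.pred with hS'f
  have hmemS' : ∀ j, j ∈ S'f ↔ IsJump R c (j + 1) := by
    intro j
    rw [hS'f, Finset.mem_image, ← hmemSf]
    constructor
    · rintro ⟨i, hi, rfl⟩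
      rw [Finset.mem_erase] at hi
      have : i.pred + 1 = i := Nat.succ_pred_eq_of_ne_zero hi.1
      rw [this]
      exact hi.2
    · intro h
      exact ⟨j + 1, Finset.mem_erase.mpr ⟨Nat.succ_ne_zero j, h⟩, rfl⟩
  have hS'card : S'f.card = n := by
    rw [hS'f, Finset.card_image_of_injOn, Finset.card_erase_of_mem h0, hSfcard]
    · rfl
    · intro i hi i' hi' h
      rw [Finset.coe_erase] at hi hi'
      have h1 : i ≠ 0 := hi.2
      have h2 : i' ≠ 0 := hi'.2
      have h3 : i.pred = i'.pred := h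
      rw [← Nat.succ_pred_eq_of_ne_zero h1, ← Nat.succ_pred_eq_of_ne_zero h2, h3]
  let J : Fin n → ℕ := S'f.orderEmbOfFin hS'card
  have hJrange : ∀ j, j ∈ Set.range J ↔ IsJump R c (j + 1) := by
    intro j
    rw [← hmemS']
    show j ∈ Set.range (S'f.orderEmbOfFin hS'card) ↔ _
    rw [Finset.range_orderEmbOfFin]
    rfl
  exact ⟨J, (S'f.orderEmbOfFin hS'card).strictMono, hJrange⟩

end ordersExist

section S12610

variable {k : Type u} {K : Type v} [Field k] [Field K] [Algebra k K] [IsAlgClosed k]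

/-- a local parameter is separating -/
theorem D_ne_zero_of_uniformizer (hK : IsFunctionField k K) (P : Place k K) {t : K}
    (ht : P.1 t = exp (-1)) : KaehlerDifferential.D k K t ≠ 0 := by
  apply FDE.kaehler_ne_zero_of_D_ne_zero (FHL.Φ hK P ht)
  have h1 : Valued.v (FHL.Φ hK P ht t) = exp (-(1 : ℤ)) := by rw [FHL.val_Φ, ht]
  have h2 := (FDE.val_D_of_val_eq h1).1 (by simp)
  intro h0
  rw [h0, map_zero] at h2
  exact exp_ne_zero h2.symm

/-- existence of the orders at a place -/
theorem exists_isOrdersAt (hK : IsFunctionField k K) (P : Place k K) {t : K}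
    (ht : P.1 t = exp (-1)) {Ht : K →ₐ[k] PowerSeries K} (hHt : IsHasseFamily t Ht) {n : ℕ}
    (φ : Fin (n + 1) → K) (hφ : LinearIndependent k φ)
    (heff : (1 : K) ∈ Submodule.span k (Set.range φ)) (hnorm : ∀ i, P.1 (φ i) ≤ 1) :
    ∃ J' : Fin n → ℕ, IsOrders (IsLocalRing.ResidueField P.O) (hcolAt P Ht φ) J' := by
  apply exists_isOrders_of_span_eq_top
  · have h1 := FHL.linearIndependent_evalP_hasseD hK P ht hHt φ hφ hnorm
    have h2 := span_cols_eq_top_of_rows_indep
      (fun j : ℕ => fun i => evalP P (hasseD Ht j (φ i))) h1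
    rw [eq_top_iff, ← h2]
    apply Submodule.span_mono
    rintro _ ⟨j, rfl⟩
    exact ⟨j + 1, rfl⟩
  · intro h0
    have hlt : ∀ i, P.1 (φ i) < 1 := fun i => by
      have h1 : evalP P (φ i) = 0 := congrFun h0 i
      unfold evalP at h1
      rwa [dif_pos (hnorm i), FF.residue_eq_zero_iff] at h1
    obtain ⟨c, hc⟩ := (Submodule.mem_span_range_iff_exists_fun k).mp heff
    have h1 : P.1 (1 : K) < 1 := by
      rw [← hc]
      apply Valuation.map_sum_lt P.1 one_ne_zero
      intro i _
      exact (FF.val_smul_le P _ _).trans_lt (hlt i)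
    rw [map_one] at h1
    exact lt_irrefl _ h1

omit [IsAlgClosed k] in
/-- an endomorphism fixing the ratios of a birational map is the identity -/
theorem eq_id_of_fixes_ratios {n : ℕ} (φ : Fin (n + 1) → K)
    (hbir : IntermediateField.adjoin k (Set.range fun i => φ i / φ 0) = ⊤) (τ : K →ₐ[k] K)
    (hfix : ∀ i, τ (φ i / φ 0) = φ i / φ 0) : τ = AlgHom.id k K := by
  have hk : ∀ c : k, τ.toRingHom (algebraMap k K c) = (RingHom.id K) (algebraMap k K c) :=
    fun c => τ.commutes c
  have hle : IntermediateField.adjoin k (Set.range fun i => φ i / φ 0) ≤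
      FHs.eqField (k := k) τ.toRingHom (RingHom.id K) hk := by
    rw [IntermediateField.adjoin_le_iff]
    rintro _ ⟨i, rfl⟩
    exact hfix i
  rw [hbir] at hle
  apply AlgHom.ext
  intro x
  exact hle (IntermediateField.mem_top (x := x))

/-- S12610 -/
theorem wDiv_pos_of_isFixedPt (hK : IsFunctionField k K) {n : ℕ} (φ : Fin (n + 1) → K)
    (hφ : LinearIndependent k φ)
    (hbir : IntermediateField.adjoin k (Set.range fun i => φ i / φ 0) = ⊤)
    (τ : K →ₐ[k] K) (hτ : τ ≠ AlgHom.id k K) (P : Place k K) (hP : IsFixedPt τ P)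
    {s : K} {H : K →ₐ[k] PowerSeries K} (hH : IsHasseFamily s H)
    (J : Fin n → ℕ) (hJ : IsOrders K (hcol τ H φ) J)
    (Φ : Place k K → (K →ₐ[k] LaurentSeries k))
    (hΦ : ∀ P : Place k K, IsExpansionAt P.1 (Φ P)) :
    0 < wDiv τ H Φ s φ J P := by
  classical
  have hg := FG.isGeometric_of_perfectField k K hK.2
  obtain ⟨t, ht⟩ := FF.exists_uniformizer P
  obtain ⟨Ht, hHt⟩ := exists_isHasseFamily_of_D_ne_zero hK hg hH
    (D_ne_zero_of_uniformizer hK P ht)
  have hφ0 : ∀ i, φ i ≠ 0 := fun i => hφ.ne_zero i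
  obtain ⟨j₀, -, hj₀⟩ := Finset.exists_max_image Finset.univ (fun i => P.1 (φ i))
    ⟨0, Finset.mem_univ _⟩
  set y := (φ j₀)⁻¹ with hy
  have hy0 : y ≠ 0 := inv_ne_zero (hφ0 j₀)
  set φ'' : Fin (n + 1) → K := y • φ with hφ''
  have hφ''i : ∀ i, φ'' i = y * φ i := fun i => rfl
  have hφ''eq : ∀ i, φ'' i = y * ∑ j, (1 : Matrix (Fin (n + 1)) (Fin (n + 1)) k) i j • φ j := by
    intro i
    rw [hφ''i]
    congr 1
    simp only [Matrix.one_apply, ite_smul, one_smul, zero_smul, Finset.sum_ite_eq,
      Finset.mem_univ, if_true]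
  have hwd : wDiv τ Ht Φ t φ'' J = wDiv τ H Φ s φ J :=
    FWI.wDiv_eq_of_equiv hK φ hφ τ hH hHt J hJ 1 (by rw [Matrix.det_one]; exact one_ne_zero)
      y hy0 φ'' hφ''eq Φ hΦ
  rw [← hwd]
  have hφ''li : LinearIndependent k φ'' := by
    rw [Fintype.linearIndependent_iff]
    intro g hg0
    apply Fintype.linearIndependent_iff.mp hφ g
    have h1 : ∑ i, g i • φ'' i = y * ∑ i, g i • φ i := by
      rw [Finset.mul_sum]
      apply Finset.sum_congr rfl
      intro i _
      rw [hφ''i, mul_smul_comm]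
    rw [h1] at hg0
    exact (mul_eq_zero.mp hg0).resolve_left hy0
  have heff : (1 : K) ∈ Submodule.span k (Set.range φ'') := by
    apply Submodule.subset_span
    refine ⟨j₀, ?_⟩
    rw [hφ''i, hy, inv_mul_cancel₀ (hφ0 j₀)]
  have hnorm : ∀ i, P.1 (φ'' i) ≤ 1 := by
    intro i
    rw [hφ''i, hy, map_mul, map_inv₀, inv_mul_le_iff₀ (zero_lt_iff.mpr
      ((Valuation.ne_zero_iff _).mpr (hφ0 j₀))), mul_one]
    exact hj₀ i (Finset.mem_univ _)
  have hJ'' : IsOrders K (hcol τ Ht φ'') J :=
    (FW.isOrders_hcol_smul τ Ht hHt hy0 φ J).mpr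
      (((FHs.isOrders_change_variable hK hg φ τ hH hHt).1 J).mpr hJ)
  obtain ⟨J', hJ'⟩ := exists_isOrdersAt hK P ht hHt φ'' hφ''li heff hnorm
  have hkey := FHL.sum_sub_le_wDiv_of_isFixedPt_and_eq_iff hK P ht hHt τ hP φ'' hφ''li heff hnorm
    J hJ'' J' hJ' Φ hΦ
  have hJ'pos : ∀ l, 0 < J' l := fun l => FHL.one_le_of_isOrders P hHt φ'' hJ' l
  have hdetJ' : (wrMat τ Ht φ'' J').det ≠ 0 := by
    have h1 := (FHL.val_det_wrMat_le_and_eq_iff hK P ht hHt τ hP φ'' hφ''li heff hnorm J' hJ'
      J').2 (Or.inl hJ'pos)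
    have h2 := h1.mpr (by rw [FHL.det_binomMat_self hJ'.1]; exact one_ne_zero)
    intro h0
    rw [h0, map_zero] at h2
    exact exp_ne_zero h2.symm
  have hle : ∀ l, J l ≤ J' l := by
    apply FHL.le_of_linearIndependent_cols (hcol τ Ht φ'') hJ'' hJ'.1
    have h1 : IsUnit (wrMat τ Ht φ'' J') :=
      (Matrix.isUnit_iff_isUnit_det _).mpr (isUnit_iff_ne_zero.mpr hdetJ')
    rw [FW.wrMat_eq, ← Matrix.linearIndependent_cols_iff_isUnit] at h1
    exact h1
  refine lt_of_lt_of_le ?_ hkey.1
  by_contra hnot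
  have hsum0 : ∑ l, ((J' l : ℤ) - J l) = 0 :=
    le_antisymm (not_lt.mp hnot) (Finset.sum_nonneg fun l _ => by have := hle l; omega)
  rw [Finset.sum_eq_zero_iff_of_nonneg (fun l _ => by have := hle l; omega)] at hsum0
  have heq : ∀ l, J' l = J l := fun l => by
    have := hsum0 l (Finset.mem_univ l)
    omega
  have hnj : ¬ IsJump K (hcol τ Ht φ'') 1 := by
    intro hj
    obtain ⟨l, hl⟩ := (hJ''.2 0).mpr hj
    have := hJ'pos l
    rw [heq l, hl] at this
    exact lt_irrefl _ this
  unfold IsJump at hnj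
  rw [not_not] at hnj
  have himg : hcol τ Ht φ'' '' Set.Iio 1 = {hcol τ Ht φ'' 0} := by
    ext v
    simp
  rw [himg, Submodule.mem_span_singleton] at hnj
  obtain ⟨z, hz⟩ := hnj
  have hzi : ∀ i, z * τ (φ'' i) = φ'' i := fun i => by
    have h1 := congrFun hz i
    rw [show hcol τ Ht φ'' 1 i = hasseD Ht 0 (φ'' i) from rfl, FHs.hasseD_zero hHt] at h1
    exact h1
  have hφ''0 : ∀ i, φ'' i ≠ 0 := fun i => hφ''li.ne_zero i
  have hz0 : z ≠ 0 := by
    rintro rfl
    have := hzi 0
    rw [zero_mul] at this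
    exact hφ''0 0 this.symm
  apply hτ
  apply eq_id_of_fixes_ratios φ hbir τ
  intro i
  have e1 : φ i / φ 0 = φ'' i / φ'' 0 := by
    rw [hφ''i, hφ''i, mul_div_mul_left _ _ hy0]
  have e2 : φ'' i / φ'' 0 = (z * τ (φ'' i)) / (z * τ (φ'' 0)) := by
    rw [hzi i, hzi 0]
  rw [e1, map_div₀]
  conv_rhs => rw [e2]
  rw [mul_div_mul_left _ _ hz0]

end S12610

end Groth.Agent.Lib.helper16.FWP
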