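import Groth.Agent.Lib.helper16.FResGlobal
import Groth.Agent.Lib.helper16.FDivDiff
import Groth.Agent.Lib.helper16.FWDivPos

/-! Helper library (helper16): the divisor of an exact differential is canonical
(algebraically closed constant field). -/

set_option autoImplicit false

namespace Groth.Agent.Lib.helper16.FRC

open FunFld WithZero LocRes Module
open Groth.Agent.Lib.helper16
open Groth.Agent.Lib.helper16.FPT
open Groth.Agent.Lib.helper16.FRL
open Groth.Agent.Lib.helper16.FRG

universe u v

variable {k : Type u} {K : Type v} [Field k] [Field K] [Algebra k K]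
variable [IsAlgClosed k] (hK : IsFunctionField k K)

include hK

/-- the residue of a differential regular at `P` -/
theorem dL_res_eq_zero_of_le {f g : K} {P : Place k K} (hf : P.1 f ≤ 1) (hg : P.1 g ≤ 1) :
    (dL hK P).res f g = 0 := by
  rw [dL_res_eq]
  apply fpTr_eq_zero_of_pow (n := 2)
  apply LinearMap.ext
  intro x
  rw [pow_two, Module.End.mul_apply, LinearMap.zero_apply]
  exact theta_eq_zero hK P (htP P) hf hg (theta_mem hK P (htP P) hg _)

theorem dL_res_zero_left (g : K) (P : Place k K) : (dL hK P).res 0 g = 0 := by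
  have := (dL hK P).res_smul_left 0 0 g
  rwa [zero_smul, zero_mul] at this

section diff

variable {s : K} (hs : KaehlerDifferential.D k K s ≠ 0)

include hs

theorem exists_coeff (P : Place k K) : ∃ u : K, u ≠ 0 ∧
    KaehlerDifferential.D k K s = u • KaehlerDifferential.D k K (tP P) := by
  have hg := FG.isGeometric_of_perfectField k K hK.2
  obtain ⟨u, hu⟩ := FDE.exists_kaehler_smul hK hg s (FWP.D_ne_zero_of_uniformizer hK P (htP P))
  refine ⟨u, ?_, hu⟩
  rintro rfl
  rw [zero_smul] at hu
  exact hs hu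

/-- the coefficient of `ds` with respect to the chosen uniformizer -/
noncomputable def cdiff (P : Place k K) : K := Classical.choose (exists_coeff hK hs P)

theorem cdiff_ne_zero (P : Place k K) : cdiff hK hs P ≠ 0 :=
  (Classical.choose_spec (exists_coeff hK hs P)).1

theorem cdiff_spec (P : Place k K) :
    KaehlerDifferential.D k K s = cdiff hK hs P • KaehlerDifferential.D k K (tP P) :=
  (Classical.choose_spec (exists_coeff hK hs P)).2

/-- the local residue of `a ds` vanishes when `a ds` is regular -/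
theorem res_eq_zero_of_le {P : Place k K} {a : K}
    (ha : P.1 a ≤ exp (P.ord (cdiff hK hs P))) : (dL hK P).res a s = 0 := by
  apply dloc_res_eq_zero hK P (htP P) (cdiff_spec hK hs P)
  rw [map_mul, FF.val_eq_exp_neg_ord P (cdiff_ne_zero hK hs P)]
  calc exp (-P.ord (cdiff hK hs P)) * P.1 a
      ≤ exp (-P.ord (cdiff hK hs P)) * exp (P.ord (cdiff hK hs P)) := mul_le_mul' le_rfl ha
    _ = 1 := by rw [← exp_add, neg_add_cancel, exp_zero]

variable (Φ : Place k K → (K →ₐ[k] LaurentSeries k)) (hΦ : ∀ P, IsExpansionAt P.1 (Φ P))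

include hΦ

theorem divDiff_eq_ord (P : Place k K) : divDiff Φ 1 s P = P.ord (cdiff hK hs P) := by
  have hg := FG.isGeometric_of_perfectField k K hK.2
  rw [FDD.divDiff_apply hK 1 s hs Φ hΦ]
  have hx : vDiff (Φ P) 1 s ≠ 0 := by
    rw [FDE.vDiff_one, ne_eq, map_eq_zero]
    exact FDD.D_expand_ne_zero hK hg P (Φ P) (hΦ P) hs
  obtain ⟨-, -, h3⟩ := FDE.ordDiff_eq_add P (Φ P) (hΦ P) (cdiff_spec hK hs P) hx
  rw [h3, FDD.ordDiff_eq_zero_of_sub P (Φ P) (hΦ P) (a := 0)
    (by rw [map_zero, sub_zero]; exact htP P), add_zero]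

theorem finite_support_res (a : ↥(adele k K)) :
    (Function.support fun P : Place k K => (dL hK P).res ((a : Place k K → K) P) s).Finite := by
  have h1 := FF.mem_adele_iff.mp a.2
  have h2 := (divDiff Φ 1 s).support.finite_toSet
  refine (h1.union h2).subset ?_
  intro P hP
  by_contra hcon
  rw [Set.mem_union, not_or] at hcon
  apply hP
  have h3 : P.1 ((a : Place k K → K) P) ≤ 1 := not_not.mp hcon.1
  have h4 : divDiff Φ 1 s P = 0 := by
    have : P ∉ (divDiff Φ 1 s).support := hcon.2
    exact Finsupp.notMem_support_iff.mp this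
  apply res_eq_zero_of_le hK hs
  rw [← divDiff_eq_ord hK hs Φ hΦ, h4, exp_zero]
  exact h3

/-- the Weil differential attached to `ds` -/
noncomputable def omega : Module.Dual k ↥(adele k K) where
  toFun a := ∑ᶠ P : Place k K, (dL hK P).res ((a : Place k K → K) P) s
  map_add' a b := by
    rw [← finsum_add_distrib (finite_support_res hK hs Φ hΦ a) (finite_support_res hK hs Φ hΦ b)]
    apply finsum_congr
    intro P
    exact (dL hK P).res_add_left _ _ s
  map_smul' c a := by
    rw [RingHom.id_apply, smul_eq_mul, mul_finsum]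
    apply finsum_congr
    intro P
    exact (dL hK P).res_smul_left c _ s

theorem omega_apply (a : ↥(adele k K)) :
    omega hK hs Φ hΦ a = ∑ᶠ P : Place k K, (dL hK P).res ((a : Place k K → K) P) s := rfl

theorem omega_diag (x : K) (a : ↥(adele k K)) (ha : (a : Place k K → K) = diag k K x) :
    omega hK hs Φ hΦ a = 0 := by
  classical
  have h1 : {P : Place k K | ¬ P.1 x ≤ 1}.Finite :=
    FF.mem_adele_iff.mp (FF.diag_le_adele hK ⟨x, rfl⟩)
  have h2 : {P : Place k K | ¬ P.1 s ≤ 1}.Finite :=
    FF.mem_adele_iff.mp (FF.diag_le_adele hK ⟨s, rfl⟩)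
  set S : Finset (Place k K) := (h1.union h2).toFinset with hSdef
  have hS : ∀ P ∉ S, P.1 x ≤ 1 ∧ P.1 s ≤ 1 := by
    intro P hP
    rw [hSdef, Set.Finite.mem_toFinset, Set.mem_union, not_or] at hP
    exact ⟨not_not.mp hP.1, not_not.mp hP.2⟩
  rw [omega_apply, ha]
  rw [finsum_eq_sum_of_support_subset (s := S)]
  · exact sum_res_eq_zero hK x s S hS
  · intro P hP
    by_contra hcon
    apply hP
    obtain ⟨hx, hs'⟩ := hS P hcon
    exact dL_res_eq_zero_of_le hK hx hs'

theorem omega_AD (a : ↥(adele k K)) (ha : (a : Place k K → K) ∈ AD (divDiff Φ 1 s)) :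
    omega hK hs Φ hΦ a = 0 := by
  rw [omega_apply]
  apply finsum_eq_zero_of_forall_eq_zero
  intro P
  apply res_eq_zero_of_le hK hs
  rw [← divDiff_eq_ord hK hs Φ hΦ]
  exact ha P

theorem omega_mem_WD : omega hK hs Φ hΦ ∈ WD (divDiff Φ 1 s) := by
  rw [FF.mem_WD_iff]
  intro a ha
  obtain ⟨x, hx, y, ⟨z, rfl⟩, hxy⟩ := Submodule.mem_sup.mp ha
  have h1 : a = (⟨x, FF.AD_le_adele _ hx⟩ : ↥(adele k K)) +
      ⟨diag k K z, FF.diag_le_adele hK ⟨z, rfl⟩⟩ := Subtype.ext hxy.symm
  rw [h1, map_add, omega_AD hK hs Φ hΦ _ hx, omega_diag hK hs Φ hΦ z _ rfl, add_zero]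

theorem omega_iota (P : Place k K) (x : K) :
    omega hK hs Φ hΦ (iota P x) = (dL hK P).res x s := by
  classical
  rw [omega_apply, finsum_eq_single _ P]
  · rw [iota_apply, if_pos rfl]
  · intro Q hQ
    rw [iota_apply, if_neg hQ]
    exact dL_res_zero_left hK s Q

/-- **the divisor of `ds` is the divisor of the Weil differential `ω_s`** -/
theorem isDivOf_omega : IsDivOf (omega hK hs Φ hΦ) (divDiff Φ 1 s) := by
  classical
  intro E
  constructor
  · intro hE
    by_contra hle
    obtain ⟨P, hP⟩ : ∃ P, ¬ E P ≤ divDiff Φ 1 s P := by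
      by_contra hcon
      apply hle
      intro Q
      by_contra hQ
      exact hcon ⟨Q, hQ⟩
    have hu := cdiff_ne_zero hK hs P
    have ht0 : tP P ≠ 0 := by
      intro h0
      have := htP P
      rw [h0, map_zero] at this
      exact exp_ne_zero.symm this
    set x : K := (cdiff hK hs P)⁻¹ * (tP P)⁻¹ with hx
    have hx0 : x ≠ 0 := mul_ne_zero (inv_ne_zero hu) (inv_ne_zero ht0)
    have h1 : (iota P x : Place k K → K) ∈ AD E := by
      intro Q
      rw [iota_apply]
      split_ifs with h
      · rw [h, FF.val_le_exp_iff P hx0, hx, FF.ord_mul P (inv_ne_zero hu) (inv_ne_zero ht0),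
          FF.ord_inv, FF.ord_inv]
        have h2 : P.ord (tP P) = 1 := by
          unfold Place.ord
          rw [htP P, log_exp]
          norm_num
        rw [h2, ← divDiff_eq_ord hK hs Φ hΦ]
        omega
      · rw [map_zero]; exact zero_le
    have h2 := (FF.mem_WD_iff.mp hE) (iota P x) (Submodule.mem_sup_left h1)
    have h3 : (dL hK P).res ((cdiff hK hs P)⁻¹ * (tP P)⁻¹) s = 1 :=
      dloc_res_eq_one hK P (htP P) (cdiff_spec hK hs P) hu
    rw [omega_iota, hx, h3] at h2
    exact one_ne_zero h2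
  · intro hE
    exact FF.WD_antitone hE (omega_mem_WD hK hs Φ hΦ)

/-- **the divisor of an exact differential is canonical** -/
theorem isCanonical_divDiff : IsCanonical k K (divDiff Φ 1 s) := by
  obtain ⟨P⟩ := FF.nonempty_place hK
  exact ⟨omega hK hs Φ hΦ, FF.isDivOf_ne_zero' (isDivOf_omega hK hs Φ hΦ) P,
    isDivOf_omega hK hs Φ hΦ⟩

/-- **`deg [ds] = 2g - 2`** -/
theorem deg_divDiff : (divDiff Φ 1 s).deg = 2 * (genus k K : ℤ) - 2 :=
  (FF.isCanonical_ell_deg hK (isCanonical_divDiff hK hs Φ hΦ)).2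

end diff

end Groth.Agent.Lib.helper16.FRC
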