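import Groth.Agent.Lib.helper16.FResOmega
import Groth.Agent.Lib.helper16.FAbsRes2
import Groth.Prelude.Def_LocRes

/-! Helper library (helper16): Tate's residue on a field of Laurent series `F⸨X⸩` over a
subfield `k` of `F` of finite codimension equals the trace of the coefficient of `X⁻¹`. -/

set_option autoImplicit false

namespace Groth.Agent.Lib.helper16.FRLa

open Module
open Groth.Agent.Lib.helper16
open Groth.Agent.Lib.helper16.FPT
open scoped LaurentSeries

variable {k F : Type*} [Field k] [Field F] [Algebra k F]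

/-- `f` has order at least `n` -/
def Ord (n : ℤ) (f : F⸨X⸩) : Prop := ∀ m < n, f.coeff m = 0

theorem Ord.mono {n n' : ℤ} {f : F⸨X⸩} (h : Ord n f) (hn : n' ≤ n) : Ord n' f :=
  fun m hm => h m (lt_of_lt_of_le hm hn)

theorem Ord.add {n : ℤ} {f g : F⸨X⸩} (hf : Ord n f) (hg : Ord n g) : Ord n (f + g) := by
  intro m hm
  rw [HahnSeries.coeff_add, hf m hm, hg m hm, add_zero]

theorem Ord.sub {n : ℤ} {f g : F⸨X⸩} (hf : Ord n f) (hg : Ord n g) : Ord n (f - g) := by
  intro m hm
  rw [HahnSeries.coeff_sub, hf m hm, hg m hm, sub_zero]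

theorem Ord.zero (n : ℤ) : Ord n (0 : F⸨X⸩) := fun _ _ => rfl

theorem exists_ord (f : F⸨X⸩) : ∃ n : ℤ, Ord n f :=
  ⟨f.order, fun _ hm => HahnSeries.coeff_eq_zero_of_lt_order hm⟩

theorem Ord.mul {n m : ℤ} {f g : F⸨X⸩} (hf : Ord n f) (hg : Ord m g) : Ord (n + m) (f * g) := by
  intro l hl
  rw [HahnSeries.coeff_mul]
  apply Finset.sum_eq_zero
  rintro ⟨i, j⟩ hij
  rw [Finset.mem_antidiagonal] at hij
  simp only at hij ⊢
  by_cases hi : i < n
  · rw [hf i hi, zero_mul]
  · rw [hg j (by omega), mul_zero]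

theorem Ord.single {n j : ℤ} (hj : n ≤ j) (b : F) : Ord n (HahnSeries.single j b : F⸨X⸩) := by
  intro m hm
  rw [HahnSeries.coeff_single_of_ne (by omega)]

/-- the polar part -/
noncomputable def pol : F⸨X⸩ →ₗ[k] F⸨X⸩ := HahnSeries.truncLTLinearMap k (0 : ℤ)

/-- the integral part -/
noncomputable def ip : F⸨X⸩ →ₗ[k] F⸨X⸩ := LinearMap.id - pol

theorem coeff_pol (f : F⸨X⸩) (n : ℤ) :
    ((pol (k := k) f : F⸨X⸩)).coeff n = if n < 0 then f.coeff n else 0 := rfl

theorem coeff_ip (f : F⸨X⸩) (n : ℤ) :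
    ((ip (k := k) f : F⸨X⸩)).coeff n = if n < 0 then 0 else f.coeff n := by
  unfold ip
  rw [LinearMap.sub_apply, LinearMap.id_apply, HahnSeries.coeff_sub, coeff_pol]
  split_ifs
  · rw [sub_self]
  · rw [sub_zero]

theorem ip_add_pol (f : F⸨X⸩) : ip (k := k) f + pol (k := k) f = f := by
  unfold ip
  rw [LinearMap.sub_apply, LinearMap.id_apply, sub_add_cancel]

/-- integral Laurent series -/
def Ahat : Submodule k F⸨X⸩ where
  carrier := {f | Ord 0 f}
  add_mem' hf hg := hf.add hg
  zero_mem' := Ord.zero 0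
  smul_mem' c f hf := by
    intro m hm
    rw [HahnSeries.coeff_smul, hf m hm, smul_zero]

theorem mem_Ahat {f : F⸨X⸩} : f ∈ Ahat (k := k) ↔ Ord 0 f := Iff.rfl

theorem ord_ip (f : F⸨X⸩) : Ord 0 (ip (k := k) f) := by
  intro m hm
  rw [coeff_ip, if_pos hm]

theorem ord_ip' {n : ℤ} {f : F⸨X⸩} (hf : Ord n f) : Ord n (ip (k := k) f) := by
  intro m hm
  rw [coeff_ip]
  split_ifs
  · rfl
  · exact hf m hm

theorem ord_pol {n : ℤ} {f : F⸨X⸩} (hf : Ord n f) : Ord n (pol (k := k) f) := by
  intro m hm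
  rw [coeff_pol]
  split_ifs
  · exact hf m hm
  · rfl

theorem ip_of_ord {f : F⸨X⸩} (hf : Ord 0 f) : ip (k := k) f = f := by
  ext n
  rw [coeff_ip]
  split_ifs with h
  · exact (hf n h).symm
  · rfl

theorem pol_of_ord {f : F⸨X⸩} (hf : Ord 0 f) : pol (k := k) f = 0 := by
  ext n
  rw [coeff_pol]
  split_ifs with h
  · exact hf n h
  · rfl

/-- polar parts of bounded order -/
def Wpol (N : ℕ) : Submodule k F⸨X⸩ where
  carrier := {f | Ord (-(N : ℤ)) f ∧ ∀ m : ℤ, 0 ≤ m → f.coeff m = 0}
  add_mem' hf hg := ⟨hf.1.add hg.1, fun m hm => by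
    rw [HahnSeries.coeff_add, hf.2 m hm, hg.2 m hm, add_zero]⟩
  zero_mem' := ⟨Ord.zero _, fun _ _ => rfl⟩
  smul_mem' c f hf := ⟨fun m hm => by rw [HahnSeries.coeff_smul, hf.1 m hm, smul_zero],
    fun m hm => by rw [HahnSeries.coeff_smul, hf.2 m hm, smul_zero]⟩

theorem finiteDimensional_Wpol [FiniteDimensional k F] (N : ℕ) :
    FiniteDimensional k (Wpol (k := k) (F := F) N) := by
  let φ : Wpol (k := k) (F := F) N →ₗ[k] (Fin N → F) :=
    { toFun := fun f i => (f : F⸨X⸩).coeff ((i : ℤ) - N)
      map_add' := fun f g => by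
        funext i
        simp
      map_smul' := fun c f => by
        funext i
        simp }
  have hinj : Function.Injective φ := by
    intro f g h
    apply Subtype.ext
    ext m
    by_cases h1 : m < -(N : ℤ)
    · rw [f.2.1 m h1, g.2.1 m h1]
    · by_cases h2 : 0 ≤ m
      · rw [f.2.2 m h2, g.2.2 m h2]
      · have h3 : 0 ≤ m + N := by omega
        obtain ⟨i, hi⟩ := Int.eq_ofNat_of_zero_le h3
        have hiN : i < N := by omega
        have := congrFun h ⟨i, hiN⟩
        simp only [φ, LinearMap.coe_mk, AddHom.coe_mk] at this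
        rw [show ((i : ℤ) - N) = m by omega] at this
        exact this
  exact FiniteDimensional.of_injective φ hinj

theorem pol_mem_Wpol {N : ℕ} {f : F⸨X⸩} (hf : Ord (-(N : ℤ)) f) :
    pol (k := k) f ∈ Wpol (k := k) (F := F) N := by
  refine ⟨ord_pol hf, fun m hm => ?_⟩
  rw [coeff_pol, if_neg (by omega)]

theorem algebraMap_mul_eq_smul (c : k) (x : F⸨X⸩) : algebraMap k F⸨X⸩ c * x = c • x := by
  rw [HahnSeries.algebraMap_apply', PowerSeries.algebraMap_apply, HahnSeries.ofPowerSeries_C,
    HahnSeries.C_mul_eq_smul, algebraMap_smul]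

/-- multiplication by a Laurent series as a `k`-linear map -/
noncomputable def mulL (f : F⸨X⸩) : F⸨X⸩ →ₗ[k] F⸨X⸩ where
  toFun x := f * x
  map_add' x y := mul_add f x y
  map_smul' c x := by
    show f * (c • x) = c • (f * x)
    rw [← algebraMap_smul F c x, ← algebraMap_smul F c (f * x), ← HahnSeries.C_mul_eq_smul,
      ← HahnSeries.C_mul_eq_smul, mul_left_comm]

theorem mulL_apply (f x : F⸨X⸩) : mulL (k := k) f x = f * x := rfl

/-- the action of Laurent series on themselves, as a `k`-algebra homomorphism -/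
noncomputable def rhoL : F⸨X⸩ →ₐ[k] Module.End k F⸨X⸩ where
  toFun f := mulL f
  map_one' := by
    apply LinearMap.ext; intro x
    show (1 : F⸨X⸩) * x = x
    rw [one_mul]
  map_mul' f g := by
    apply LinearMap.ext; intro x
    show f * g * x = f * (g * x)
    rw [mul_assoc]
  map_zero' := by
    apply LinearMap.ext; intro x
    show (0 : F⸨X⸩) * x = 0
    rw [zero_mul]
  map_add' f g := by
    apply LinearMap.ext; intro x
    show (f + g) * x = f * x + g * x
    rw [add_mul]
  commutes' c := by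
    apply LinearMap.ext; intro x
    show algebraMap k F⸨X⸩ c * x = (algebraMap k (Module.End k F⸨X⸩) c) x
    rw [algebraMap_mul_eq_smul, Module.algebraMap_end_apply]

theorem rhoL_apply (f x : F⸨X⸩) : rhoL (k := k) f x = f * x := rfl

variable [FiniteDimensional k F]

theorem nearStab_rhoL (f : F⸨X⸩) :
    NearStab (Ahat (k := k) (F := F)) (rhoL (k := k) f) := by
  obtain ⟨n, hn⟩ := exists_ord f
  set N : ℕ := (-n).toNat with hN
  have hn' : Ord (-(N : ℤ)) f := hn.mono (by omega)
  refine ⟨Wpol N, finiteDimensional_Wpol N, ?_⟩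
  rintro _ ⟨a, ha, rfl⟩
  have h1 : Ord (-(N : ℤ)) (f * a) := by
    have := hn'.mul (mem_Ahat.mp ha)
    rwa [add_zero] at this
  have h2 : (rhoL (k := k) f) a = ip (k := k) (f * a) + pol (k := k) (f * a) :=
    (ip_add_pol _).symm
  rw [h2]
  exact Submodule.add_mem _ (Submodule.mem_sup_left (ord_ip _))
    (Submodule.mem_sup_right (pol_mem_Wpol h1))

/-- the residue data on Laurent series -/
noncomputable def dhat : ResData k F⸨X⸩ F⸨X⸩ where
  A := Ahat
  π := ip
  ρ := rhoL
  hπ := AlmostProj.of_proj (fun x => ord_ip x) (fun _ ha => ip_of_ord ha)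
  hρ := nearStab_rhoL

/-- the operator `[π, g] f` -/
noncomputable def theta (f g : F⸨X⸩) : F⸨X⸩ →ₗ[k] F⸨X⸩ :=
  FPT.comm (ip (k := k)) (rhoL (k := k) g) ∘ₗ rhoL (k := k) f

omit [FiniteDimensional k F] in
theorem theta_apply (f g x : F⸨X⸩) :
    theta (k := k) f g x = ip (k := k) (g * (f * x)) - g * ip (k := k) (f * x) := rfl

theorem dhat_res_eq (f g : F⸨X⸩) :
    (dhat (k := k) (F := F)).res f g = fpTr (theta (k := k) f g) := rfl

/-- continuity: the residue of `f dg` vanishes when `g` is integral of high order -/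
theorem res_eq_zero_of_ord {n M : ℤ} {f g : F⸨X⸩} (hf : Ord n f) (hg : Ord M g) (hM : 0 ≤ M)
    (hnM : 1 ≤ n + M) : (dhat (k := k) (F := F)).res f g = 0 := by
  rw [dhat_res_eq]
  have hθ : ∀ x, theta (k := k) f g x = ip (k := k) (g * pol (k := k) (f * x)) := by
    intro x
    rw [theta_apply]
    have h1 : g * (f * x) = g * ip (k := k) (f * x) + g * pol (k := k) (f * x) := by
      rw [← mul_add, ip_add_pol]
    have h2 : Ord 0 (g * ip (k := k) (f * x)) := by
      have := hg.mul (ord_ip (k := k) (f * x))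
      exact this.mono (by omega)
    rw [h1, map_add, ip_of_ord h2, add_sub_cancel_left]
  have hstep : ∀ (j : ℤ) (x : F⸨X⸩), Ord j x → Ord (j + 1) (theta (k := k) f g x) ∧
      Ord 0 (theta (k := k) f g x) := by
    intro j x hx
    rw [hθ]
    refine ⟨?_, ord_ip _⟩
    apply ord_ip'
    have h1 := hg.mul (ord_pol (k := k) (hf.mul hx))
    exact h1.mono (by omega)
  have hkill : ∀ x : F⸨X⸩, Ord (-n) x → theta (k := k) f g x = 0 := by
    intro x hx
    rw [hθ]
    have h1 : Ord 0 (f * x) := by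
      have := hf.mul hx
      rwa [add_neg_cancel] at this
    rw [pol_of_ord h1, mul_zero, map_zero]
  have hpow : ∀ (r : ℕ) (x : F⸨X⸩), Ord (r : ℤ) ((theta (k := k) f g ^ (r + 1)) x) := by
    intro r
    induction r with
    | zero =>
      intro x
      obtain ⟨j, hj⟩ := exists_ord x
      rw [zero_add, pow_one]
      exact (hstep j x hj).2
    | succ r ih =>
      intro x
      rw [pow_succ', Module.End.mul_apply]
      have := (hstep r _ (ih x)).1
      push_cast
      exact this
  set r₀ : ℕ := (-n).toNat with hr₀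
  apply fpTr_eq_zero_of_pow (n := r₀ + 2)
  apply LinearMap.ext
  intro x
  rw [pow_succ', Module.End.mul_apply, LinearMap.zero_apply]
  apply hkill
  exact (hpow r₀ x).mono (by omega)

/-- the trace of an endomorphism of a finite-dimensional space -/
theorem fpTr_eq_trace {V : Type*} [AddCommGroup V] [Module k V] [FiniteDimensional k V]
    (θ : V →ₗ[k] V) : fpTr θ = LinearMap.trace k V θ := by
  have hcore : IsCore θ ⊤ := by
    refine ⟨inferInstance, fun x _ => Submodule.mem_top, 0, ?_⟩
    intro x _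
    exact Submodule.mem_top
  rw [fpTr_eq hcore]
  unfold trOn
  have h1 : θ.restrict hcore.2.1 = (Submodule.topEquiv (R := k) (M := V)).symm.conj θ := by
    apply LinearMap.ext
    intro x
    apply Subtype.ext
    rfl
  rw [h1, LinearMap.trace_conj']

/-- the uniformizer `X` -/
noncomputable def U : F⸨X⸩ := HahnSeries.single 1 1

/-- `X⁻¹` -/
noncomputable def Ui : F⸨X⸩ := HahnSeries.single (-1) 1

theorem U_mul_Ui : (U : F⸨X⸩) * Ui = 1 := by
  unfold U Ui
  rw [HahnSeries.single_mul_single]
  simp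

theorem coeff_U_mul (y : F⸨X⸩) (m : ℤ) : (U * y).coeff m = y.coeff (m - 1) := by
  unfold U
  rw [HahnSeries.coeff_single_mul, one_mul]

theorem coeff_Ui_mul (y : F⸨X⸩) (m : ℤ) : (Ui * y).coeff m = y.coeff (m + 1) := by
  unfold Ui
  rw [HahnSeries.coeff_single_mul, one_mul, sub_neg_eq_add]

/-- the residue of `h dX` -/
theorem res_U (h : F⸨X⸩) :
    (dhat (k := k) (F := F)).res h U = Algebra.trace k F (h.coeff (-1)) := by
  rw [dhat_res_eq]
  let ℓ : F⸨X⸩ →ₗ[k] F := HahnSeries.coeff.linearMap (-1 : ℤ) ∘ₗ mulL (k := k) h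
  let ι : F →ₗ[k] F⸨X⸩ := HahnSeries.single.linearMap (0 : ℤ)
  have hθ : theta (k := k) h U = ι ∘ₗ ℓ := by
    apply LinearMap.ext
    intro x
    rw [theta_apply]
    ext m
    show _ = (HahnSeries.single (0 : ℤ) ((h * x).coeff (-1))).coeff m
    rw [HahnSeries.coeff_sub, coeff_ip, coeff_U_mul, coeff_U_mul, coeff_ip]
    rcases lt_trichotomy m 0 with hm | hm | hm
    · rw [if_pos hm, if_pos (by omega), sub_zero, HahnSeries.coeff_single_of_ne (by omega)]
    · subst hm
      rw [if_neg (by omega), if_pos (by omega), sub_zero, HahnSeries.coeff_single_same]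
      rfl
    · rw [if_neg (by omega), if_neg (by omega), sub_self,
        HahnSeries.coeff_single_of_ne (by omega)]
  have hcore : IsCore (ℓ ∘ₗ ι) ⊤ := by
    refine ⟨inferInstance, fun x _ => Submodule.mem_top, 0, ?_⟩
    intro x _
    exact Submodule.mem_top
  rw [hθ, fpTr_comm ι ℓ hcore, fpTr_eq_trace, Algebra.trace_apply]
  congr 1
  apply LinearMap.ext
  intro c
  show (h * HahnSeries.single (0 : ℤ) c).coeff (-1) = h.coeff (-1) * c
  rw [HahnSeries.coeff_mul_single_zero]

/-- constants have zero differential -/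
theorem res_C (f : F⸨X⸩) (b : F) :
    (dhat (k := k) (F := F)).res f (HahnSeries.C b) = 0 := by
  rw [dhat_res_eq]
  have h0 : theta (k := k) f (HahnSeries.C b) = 0 := by
    apply LinearMap.ext
    intro x
    rw [theta_apply, LinearMap.zero_apply, sub_eq_zero]
    ext m
    rw [HahnSeries.C_mul_eq_smul, HahnSeries.C_mul_eq_smul, HahnSeries.coeff_smul, coeff_ip,
      coeff_ip, HahnSeries.coeff_smul]
    split_ifs
    · rw [smul_zero]
    · rfl
  rw [h0]
  exact fpTr_eq_zero_of_pow (n := 1) (by simp)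

/-- the monomial `X^j` -/
noncomputable def V (j : ℤ) : F⸨X⸩ := HahnSeries.single j 1

theorem V_succ (j : ℤ) : (V (j + 1) : F⸨X⸩) = V j * U := by
  unfold V U
  rw [HahnSeries.single_mul_single, mul_one]

theorem coeff_V_mul (j : ℤ) (y : F⸨X⸩) (m : ℤ) : (V j * y).coeff m = y.coeff (m - j) := by
  unfold V
  rw [HahnSeries.coeff_single_mul, one_mul]

theorem res_V_step (j : ℤ) (f : F⸨X⸩) : (dhat (k := k) (F := F)).res f (V (j + 1)) =
    Algebra.trace k F (f.coeff (-j - 1)) + (dhat (k := k) (F := F)).res (f * U) (V j) := by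
  rw [V_succ, ResData.res_mul_right, res_U, mul_comm f (V j), coeff_V_mul,
    show (-1 : ℤ) - j = -j - 1 by ring]

/-- the residue of `f d(X^j)` -/
theorem res_V (j : ℤ) : ∀ f : F⸨X⸩,
    (dhat (k := k) (F := F)).res f (V j) = (j : k) * Algebra.trace k F (f.coeff (-j)) := by
  have hup : ∀ j : ℤ, (∀ f : F⸨X⸩, (dhat (k := k) (F := F)).res f (V j) =
      (j : k) * Algebra.trace k F (f.coeff (-j))) →
      ∀ f : F⸨X⸩, (dhat (k := k) (F := F)).res f (V (j + 1)) =
        ((j + 1 : ℤ) : k) * Algebra.trace k F (f.coeff (-(j + 1))) := by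
    intro j hP f
    rw [res_V_step, hP, mul_comm f U, coeff_U_mul, show -(j + 1) = -j - 1 by ring]
    push_cast
    ring
  have hdown : ∀ j : ℤ, (∀ f : F⸨X⸩, (dhat (k := k) (F := F)).res f (V (j + 1)) =
      ((j + 1 : ℤ) : k) * Algebra.trace k F (f.coeff (-(j + 1)))) →
      ∀ f : F⸨X⸩, (dhat (k := k) (F := F)).res f (V j) =
        (j : k) * Algebra.trace k F (f.coeff (-j)) := by
    intro j hP f
    have h1 := res_V_step (k := k) j (Ui * f)
    rw [hP, mul_comm (Ui * f) U, ← mul_assoc, U_mul_Ui, one_mul, coeff_Ui_mul, coeff_Ui_mul,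
      show -(j + 1) + 1 = -j by ring, show -j - 1 + 1 = -j by ring] at h1
    have h2 : (dhat (k := k) (F := F)).res f (V j) =
        ((j + 1 : ℤ) : k) * Algebra.trace k F (f.coeff (-j)) -
          Algebra.trace k F (f.coeff (-j)) := by
      rw [h1]; ring
    rw [h2]
    push_cast
    ring
  induction j using Int.induction_on with
  | zero =>
    intro f
    have : (V 0 : F⸨X⸩) = 1 := rfl
    rw [this, ResData.res_one_right]
    simp
  | succ j ih => exact hup j ih
  | pred j ih =>
    apply hdown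
    rw [sub_add_cancel]
    exact ih

/-- the residue of `f d(b X^j)` -/
theorem res_single (f : F⸨X⸩) (j : ℤ) (b : F) :
    (dhat (k := k) (F := F)).res f (HahnSeries.single j b) =
      (j : k) * Algebra.trace k F (b * f.coeff (-j)) := by
  have h1 : (HahnSeries.single j b : F⸨X⸩) = HahnSeries.C b * V j := by
    unfold V
    rw [← HahnSeries.single_zero_mul_eq_smul.trans HahnSeries.C_mul_eq_smul.symm,
      HahnSeries.single_mul_single, zero_add, mul_one]
  rw [h1, ResData.res_mul_right, res_C, add_zero, res_V, mul_comm f, HahnSeries.C_mul_eq_smul,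
    HahnSeries.coeff_smul, smul_eq_mul]

omit [FiniteDimensional k F] in
theorem ord_D {M : ℤ} {g : F⸨X⸩} (hg : Ord M g) : Ord (M - 1) (LocRes.D F g) := by
  intro m hm
  rw [LocRes.D_coeff, hg (m + 1) (by omega), smul_zero]

omit [FiniteDimensional k F] in
theorem D_single (j : ℤ) (b : F) :
    LocRes.D F (HahnSeries.single j b) = HahnSeries.single (j - 1) (j • b) := by
  ext m
  rw [LocRes.D_coeff]
  by_cases h : m = j - 1
  · rw [h, sub_add_cancel, HahnSeries.coeff_single_same, HahnSeries.coeff_single_same]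
  · rw [HahnSeries.coeff_single_of_ne (by omega), HahnSeries.coeff_single_of_ne h, smul_zero]

/-- **Tate's residue on Laurent series is the trace of the coefficient of `X⁻¹`** -/
theorem res_eq_trace (f g : F⸨X⸩) :
    (dhat (k := k) (F := F)).res f g = Algebra.trace k F ((f * LocRes.D F g).coeff (-1)) := by
  obtain ⟨n, hn⟩ := exists_ord f
  set M : ℤ := max 0 (1 - n) with hM
  have key : ∀ (d : ℕ) (g : F⸨X⸩), Ord (M - d) g →
      (dhat (k := k) (F := F)).res f g = Algebra.trace k F ((f * LocRes.D F g).coeff (-1)) := by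
    intro d
    induction d with
    | zero =>
      intro g hg
      rw [Nat.cast_zero, sub_zero] at hg
      rw [res_eq_zero_of_ord hn hg (le_max_left _ _) (by have := le_max_right 0 (1 - n); omega)]
      have h1 := hn.mul (ord_D hg)
      rw [h1 (-1) (by have := le_max_right 0 (1 - n); omega), map_zero]
    | succ d ih =>
      intro g hg
      set j : ℤ := M - ((d + 1 : ℕ) : ℤ) with hj
      set g' : F⸨X⸩ := g - HahnSeries.single j (g.coeff j) with hg'
      have hord : Ord (M - d) g' := by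
        intro m hm
        rw [hg', HahnSeries.coeff_sub]
        by_cases hmj : m = j
        · rw [hmj, HahnSeries.coeff_single_same, sub_self]
        · rw [HahnSeries.coeff_single_of_ne hmj, sub_zero]
          apply hg
          push_cast at hj ⊢
          omega
      have hdecomp : g = HahnSeries.single j (g.coeff j) + g' := by rw [hg']; ring
      rw [hdecomp, ResData.res_add_right, map_add, mul_add, HahnSeries.coeff_add, map_add,
        ih g' hord, res_single, D_single, HahnSeries.coeff_mul_single]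
      congr 1
      rw [show (-1 : ℤ) - (j - 1) = -j by ring, mul_smul_comm, map_zsmul, zsmul_eq_mul,
        mul_comm (f.coeff (-j))]
  obtain ⟨m, hm⟩ := exists_ord g
  apply key (M - m).toNat g
  exact hm.mono (by omega)

end Groth.Agent.Lib.helper16.FRLa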