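import Groth.Agent.Lib.helper16.FResLocal
import Groth.Agent.Lib.helper16.FFGaps
import Groth.Prelude.Def_W4c6gradedringsgwSect

/-! Helper library (helper16): the section ring `⊕ L(nP) Tⁿ` of a point divisor and the Weierstrass
semigroup (S18668, S18670). -/

set_option autoImplicit false

namespace Groth.Agent.Lib.helper16.FSR

open FunFld WithZero LocRes Module W4c6gradedringsgw Polynomial
open Groth.Agent.Lib.helper16

universe u v

section hahn

variable {k : Type u} [Field k]

/-- the lowest possible coefficient of a product of Laurent series -/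
theorem coeff_mul_of_bounds {x y : LaurentSeries k} {a b : ℤ} (hx : ∀ i < a, x.coeff i = 0)
    (hy : ∀ j < b, y.coeff j = 0) : (x * y).coeff (a + b) = x.coeff a * y.coeff b := by
  classical
  rw [HahnSeries.coeff_mul]
  by_cases hab : (a, b) ∈ Finset.antidiagonal x.isPWO_support y.isPWO_support (a + b)
  · rw [Finset.sum_eq_single_of_mem (a, b) hab]
    rintro ⟨i, j⟩ hij hne
    rw [Finset.mem_antidiagonal] at hij
    obtain ⟨hi, hj, hsum⟩ := hij
    have hi' : a ≤ i := by
      by_contra hlt
      exact hi (hx i (by omega))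
    have hj' : b ≤ j := by
      by_contra hlt
      exact hj (hy j (by omega))
    exfalso
    apply hne
    simp only at hsum
    have h1 : i = a := by omega
    have h2 : j = b := by omega
    rw [h1, h2]
  · rw [Finset.sum_eq_zero]
    · rw [Finset.mem_antidiagonal] at hab
      by_contra hne
      apply hab
      refine ⟨?_, ?_, rfl⟩
      · intro h0
        apply hne
        rw [show x.coeff a = 0 from h0, zero_mul]
      · intro h0
        apply hne
        rw [show y.coeff b = 0 from h0, mul_zero]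
    · rintro ⟨i, j⟩ hij
      rw [Finset.mem_antidiagonal] at hij
      obtain ⟨hi, hj, hsum⟩ := hij
      have hi' : a ≤ i := by
        by_contra hlt
        exact hi (hx i (by omega))
      have hj' : b ≤ j := by
        by_contra hlt
        exact hj (hy j (by omega))
      exfalso
      apply hab
      simp only at hsum
      have h1 : i = a := by omega
      have h2 : j = b := by omega
      rw [Finset.mem_antidiagonal]
      rw [h1] at hi
      rw [h2] at hj
      exact ⟨hi, hj, rfl⟩

end hahn

variable {k : Type u} {K : Type v} [Field k] [Field K] [Algebra k K]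

theorem smul_single_self (P : Place k K) (m : ℤ) :
    (m • (Finsupp.single P (1 : ℤ) : Divisor k K)) P = m := by
  rw [Finsupp.smul_apply, Finsupp.single_eq_same, smul_eq_mul, mul_one]

theorem smul_single_of_ne {P Q : Place k K} (h : Q ≠ P) (m : ℤ) :
    (m • (Finsupp.single P (1 : ℤ) : Divisor k K)) Q = 0 := by
  classical
  rw [Finsupp.smul_apply, Finsupp.single_eq_of_ne h, smul_zero]

section lc

variable [IsAlgClosed k] (hK : IsFunctionField k K) (P : Place k K) {π : K}
  (hπ : P.1 π = exp (-1))

/-- the leading coefficient functional on `L(nP)` -/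
noncomputable def lc (n : ℕ) : K →ₗ[k] k := FRL.cfZ hK P hπ (-(n : ℤ))

theorem lc_apply (n : ℕ) (f : K) : lc hK P hπ n f = (FHL.Φ hK P hπ f).coeff (-(n : ℤ)) := rfl

/-- elements of `L(mP)` have no coefficients below `-m` -/
theorem coeff_eq_zero_of_mem_L {f : K} {m : ℤ}
    (hf : f ∈ L (m • (Finsupp.single P (1 : ℤ) : Divisor k K))) {i : ℤ} (hi : i < -m) :
    (FHL.Φ hK P hπ f).coeff i = 0 := by
  have h1 := hf P
  rw [smul_single_self] at h1
  have h2 : Valued.v (FHL.Φ hK P hπ f) ≤ exp (-(-m)) := by
    rw [FHL.val_Φ, neg_neg]; exact h1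
  exact (LaurentSeries.valuation_le_iff_coeff_lt_eq_zero k).mp h2 i hi

theorem lc_mul {f g : K} {n m : ℕ}
    (hf : f ∈ L ((n : ℤ) • (Finsupp.single P (1 : ℤ) : Divisor k K)))
    (hg : g ∈ L ((m : ℤ) • (Finsupp.single P (1 : ℤ) : Divisor k K))) :
    lc hK P hπ (n + m) (f * g) = lc hK P hπ n f * lc hK P hπ m g := by
  rw [lc_apply, lc_apply, lc_apply, map_mul]
  have : (-((n + m : ℕ) : ℤ)) = -(n : ℤ) + -(m : ℤ) := by push_cast; ring
  rw [this]
  exact coeff_mul_of_bounds (fun i hi => coeff_eq_zero_of_mem_L hK P hπ hf hi)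
    (fun j hj => coeff_eq_zero_of_mem_L hK P hπ hg hj)

theorem lc_eq_zero_of_mem {f : K} {n : ℕ}
    (hf : f ∈ L (((n : ℤ) - 1) • (Finsupp.single P (1 : ℤ) : Divisor k K))) :
    lc hK P hπ n f = 0 := by
  rw [lc_apply]
  exact coeff_eq_zero_of_mem_L hK P hπ hf (by omega)

theorem mem_of_lc_eq_zero {f : K} {n : ℕ}
    (hf : f ∈ L ((n : ℤ) • (Finsupp.single P (1 : ℤ) : Divisor k K)))
    (h0 : lc hK P hπ n f = 0) :
    f ∈ L (((n : ℤ) - 1) • (Finsupp.single P (1 : ℤ) : Divisor k K)) := by
  intro Q
  by_cases hQ : Q = P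
  · rw [hQ, smul_single_self, ← FHL.val_Φ hK P hπ]
    have : ((n : ℤ) - 1) = -(-(n : ℤ) + 1) := by ring
    rw [this, LaurentSeries.valuation_le_iff_coeff_lt_eq_zero k]
    intro i hi
    rcases lt_or_eq_of_le (show i ≤ -(n : ℤ) by omega) with h | h
    · exact coeff_eq_zero_of_mem_L hK P hπ hf h
    · rw [h]; exact h0
  · have := hf Q
    rw [smul_single_of_ne hQ] at this
    rw [smul_single_of_ne hQ]
    exact this

theorem lc_zero_algebraMap (c : k) : lc hK P hπ 0 (algebraMap k K c) = c := by
  rw [lc_apply, LocRes.map_algebraMap]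
  simp

end lc

section ring

variable [IsAlgClosed k] (hK : IsFunctionField k K) (P : Place k K) {π : K}
  (hπ : P.1 π = exp (-1))

/-- the leading-form map on polynomials -/
noncomputable def lf (p : K[X]) : k[X] :=
  ∑ n ∈ p.support, monomial n (lc hK P hπ n (p.coeff n))

theorem coeff_lf (p : K[X]) (n : ℕ) : (lf hK P hπ p).coeff n = lc hK P hπ n (p.coeff n) := by
  unfold lf
  rw [finsetSum_coeff]
  simp only [coeff_monomial]
  rw [Finset.sum_ite_eq']
  split_ifs with h
  · rfl
  · rw [notMem_support_iff.mp h, map_zero]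

omit [IsAlgClosed k] in
theorem mul_mem_L_smul {f g : K} {n m : ℕ}
    (hf : f ∈ L ((n : ℤ) • (Finsupp.single P (1 : ℤ) : Divisor k K)))
    (hg : g ∈ L ((m : ℤ) • (Finsupp.single P (1 : ℤ) : Divisor k K))) :
    f * g ∈ L (((n + m : ℕ) : ℤ) • (Finsupp.single P (1 : ℤ) : Divisor k K)) := by
  have h := mul_mem_L hf hg
  rwa [← add_smul, ← Nat.cast_add] at h

/-- the leading-form homomorphism `R_P → k[X]` -/
noncomputable def psi : ↥(sectRing (Finsupp.single P (1 : ℤ) : Divisor k K)) →ₐ[k] k[X] where
  toFun p := lf hK P hπ (p : K[X])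
  map_one' := by
    ext n
    rw [coeff_lf, Subalgebra.coe_one, coeff_one, coeff_one]
    split_ifs with h
    · subst h
      have := lc_zero_algebraMap hK P hπ (1 : k)
      rwa [map_one] at this
    · rw [map_zero]
  map_mul' p q := by
    ext n
    rw [coeff_lf, Subalgebra.coe_mul, coeff_mul, coeff_mul, map_sum]
    apply Finset.sum_congr rfl
    intro x hx
    rw [coeff_lf, coeff_lf]
    have hn : n = x.1 + x.2 := (Finset.HasAntidiagonal.mem_antidiagonal.mp hx).symm
    rw [hn]
    exact lc_mul hK P hπ (p.2 x.1) (q.2 x.2)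
  map_zero' := by
    ext n
    rw [coeff_lf, ZeroMemClass.coe_zero, coeff_zero, coeff_zero, map_zero]
  map_add' p q := by
    ext n
    rw [coeff_lf, Subalgebra.coe_add, coeff_add, coeff_add, coeff_lf, coeff_lf, map_add]
  commutes' c := by
    ext n
    rw [coeff_lf, Subalgebra.coe_algebraMap, Polynomial.algebraMap_apply,
      Polynomial.algebraMap_apply, Algebra.algebraMap_self, RingHom.id_apply, coeff_C, coeff_C]
    split_ifs with h
    · subst h
      exact lc_zero_algebraMap hK P hπ c
    · rw [map_zero]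

theorem coeff_psi (p : ↥(sectRing (Finsupp.single P (1 : ℤ) : Divisor k K))) (n : ℕ) :
    (psi hK P hπ p).coeff n = lc hK P hπ n ((p : K[X]).coeff n) := coeff_lf hK P hπ _ n

/-- pole orders through leading coefficients -/
theorem mem_poleOrders_iff (n : ℕ) :
    n ∈ poleOrders P ↔
      ∃ f ∈ L ((n : ℤ) • (Finsupp.single P (1 : ℤ) : Divisor k K)), lc hK P hπ n f ≠ 0 := by
  have hfd := FF.finiteDimensional_L hK ((n : ℤ) • (Finsupp.single P (1 : ℤ) : Divisor k K))
  have hfd' := FF.finiteDimensional_L hK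
    (((n : ℤ) - 1) • (Finsupp.single P (1 : ℤ) : Divisor k K))
  have hle : L (((n : ℤ) - 1) • (Finsupp.single P (1 : ℤ) : Divisor k K)) ≤
      L ((n : ℤ) • (Finsupp.single P (1 : ℤ) : Divisor k K)) := by
    apply FF.L_mono
    intro Q
    by_cases hQ : Q = P
    · rw [hQ, smul_single_self, smul_single_self]; omega
    · rw [smul_single_of_ne hQ, smul_single_of_ne hQ]
  have hadd : ((n : ℤ) - 1) • (Finsupp.single P (1 : ℤ) : Divisor k K) + Finsupp.single P 1 =
      (n : ℤ) • (Finsupp.single P (1 : ℤ) : Divisor k K) := by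
    rw [sub_smul, one_smul, sub_add_cancel]
  have hup := FF.ell_add_single_le hK
    (((n : ℤ) - 1) • (Finsupp.single P (1 : ℤ) : Divisor k K)) P
  rw [hadd, FF.deg_eq_one_of_isAlgClosed hK] at hup
  constructor
  · intro hn
    by_contra hall
    push Not at hall
    have h1 : L ((n : ℤ) • (Finsupp.single P (1 : ℤ) : Divisor k K)) ≤
        L (((n : ℤ) - 1) • (Finsupp.single P (1 : ℤ) : Divisor k K)) :=
      fun f hf => mem_of_lc_eq_zero hK P hπ hf (hall f hf)
    have h2 := Submodule.finrank_mono h1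
    have h3 : ell ((n : ℤ) • (Finsupp.single P (1 : ℤ) : Divisor k K)) =
        ell (((n : ℤ) - 1) • (Finsupp.single P (1 : ℤ) : Divisor k K)) + 1 := hn
    unfold ell at h3
    omega
  · rintro ⟨f, hf, hne⟩
    have hlt : L (((n : ℤ) - 1) • (Finsupp.single P (1 : ℤ) : Divisor k K)) <
        L ((n : ℤ) • (Finsupp.single P (1 : ℤ) : Divisor k K)) := by
      rw [lt_iff_le_and_ne]
      refine ⟨hle, fun heq => hne ?_⟩
      apply lc_eq_zero_of_mem hK P hπ
      rw [heq]
      exact hf
    have h2 := Submodule.finrank_lt_finrank_of_lt hlt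
    show ell ((n : ℤ) • (Finsupp.single P (1 : ℤ) : Divisor k K)) =
        ell (((n : ℤ) - 1) • (Finsupp.single P (1 : ℤ) : Divisor k K)) + 1
    unfold ell at hup ⊢
    omega

theorem exists_monic {n : ℕ} (hn : n ∈ poleOrders P) :
    ∃ f ∈ L ((n : ℤ) • (Finsupp.single P (1 : ℤ) : Divisor k K)), lc hK P hπ n f = 1 := by
  obtain ⟨f, hf, hne⟩ := (mem_poleOrders_iff hK P hπ n).mp hn
  refine ⟨(lc hK P hπ n f)⁻¹ • f, Submodule.smul_mem _ _ hf, ?_⟩
  rw [map_smul, smul_eq_mul, inv_mul_cancel₀ hne]

include hK hπ in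
theorem zero_mem_poleOrders : 0 ∈ poleOrders P := by
  rw [mem_poleOrders_iff hK P hπ]
  refine ⟨1, ?_, ?_⟩
  · have := algebraMap_mem_L_zero (K := K) (1 : k)
    rw [map_one] at this
    rwa [Nat.cast_zero, zero_smul]
  · have := lc_zero_algebraMap hK P hπ (1 : k)
    rw [map_one] at this
    rw [this]
    exact one_ne_zero

include hK hπ in
theorem add_mem_poleOrders {n m : ℕ} (hn : n ∈ poleOrders P) (hm : m ∈ poleOrders P) :
    n + m ∈ poleOrders P := by
  obtain ⟨f, hf, hf1⟩ := exists_monic hK P hπ hn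
  obtain ⟨g, hg, hg1⟩ := exists_monic hK P hπ hm
  rw [mem_poleOrders_iff hK P hπ]
  refine ⟨f * g, mul_mem_L_smul P hf hg, ?_⟩
  rw [lc_mul hK P hπ hf hg, hf1, hg1, one_mul]
  exact one_ne_zero

include hK in
/-- the Weierstrass semigroup as a submonoid -/
def semigroup : AddSubmonoid ℕ where
  carrier := poleOrders P
  add_mem' := by
    obtain ⟨π, hπ⟩ := FF.exists_uniformizer P
    exact fun hn hm => add_mem_poleOrders hK P hπ hn hm
  zero_mem' := by
    obtain ⟨π, hπ⟩ := FF.exists_uniformizer P
    exact zero_mem_poleOrders hK P hπ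

theorem closure_poleOrders : AddSubmonoid.closure (poleOrders P) = semigroup hK P :=
  AddSubmonoid.closure_eq (semigroup hK P)

include hK in
theorem mem_closure_iff (n : ℕ) : n ∈ AddSubmonoid.closure (poleOrders P) ↔ n ∈ poleOrders P := by
  rw [closure_poleOrders hK P]
  rfl

end ring

section quot

variable [IsAlgClosed k] (hK : IsFunctionField k K) (hg : 1 ≤ genus k K) (P : Place k K) {π : K}
  (hπ : P.1 π = exp (-1))

include hK hg in
/-- `L(P) = k` in positive genus -/
theorem mem_range_of_mem_L_single {a : K}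
    (ha : a ∈ L ((1 : ℤ) • (Finsupp.single P (1 : ℤ) : Divisor k K))) :
    a ∈ Set.range (algebraMap k K) := by
  rw [one_smul] at ha
  have hdegP : P.deg = 1 := FF.deg_eq_one_of_isAlgClosed hK P
  have hell : ell (Finsupp.single P (1 : ℤ) : Divisor k K) = 1 :=
    FF.ell_single_eq_one hK (by omega) hdegP
  have h1L : (1 : K) ∈ L (Finsupp.single P (1 : ℤ) : Divisor k K) := by
    intro R
    rw [map_one, ← exp_zero, exp_le_exp]
    exact Finsupp.single_nonneg.mpr (by positivity) R
  unfold ell at hell
  have hspan := (finrank_eq_one_iff_of_nonzero' (⟨1, h1L⟩ : L (Finsupp.single P (1 : ℤ) : Divisor k K))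
    (by intro h0; exact one_ne_zero (congrArg Subtype.val h0))).mp hell ⟨a, ha⟩
  obtain ⟨c, hc⟩ := hspan
  refine ⟨c, ?_⟩
  have := congrArg Subtype.val hc
  simp only [Submodule.coe_smul] at this
  rw [← this, Algebra.smul_def, mul_one]

include hK hg in
/-- the kernel of the leading-form map is generated by `aT` -/
theorem ker_psi (t : ↥(sectRing (Finsupp.single P (1 : ℤ) : Divisor k K))) (a : K) (ha : a ≠ 0)
    (ht : (t : K[X]) = C a * X) :
    RingHom.ker (psi hK P hπ) = Ideal.span {t} := by
  have haL : a ∈ L ((1 : ℤ) • (Finsupp.single P (1 : ℤ) : Divisor k K)) := by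
    have := t.2 1
    rw [ht, coeff_C_mul, coeff_X_one, mul_one] at this
    exact_mod_cast this
  obtain ⟨c, hc⟩ := mem_range_of_mem_L_single hK hg P haL
  have hc0 : c ≠ 0 := by
    rintro rfl
    rw [map_zero] at hc
    exact ha hc.symm
  have hpsit : psi hK P hπ t = 0 := by
    ext n
    rw [coeff_psi, ht, coeff_C_mul, coeff_zero, coeff_X]
    split_ifs with h
    · subst h
      rw [mul_one]
      apply lc_eq_zero_of_mem hK P hπ
      rw [Nat.cast_one, sub_self, zero_smul, ← hc]
      exact algebraMap_mem_L_zero c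
    · rw [mul_zero, map_zero]
  ext p
  rw [RingHom.mem_ker, Ideal.mem_span_singleton']
  constructor
  · intro hp
    have hcoef : ∀ n : ℕ, lc hK P hπ n ((p : K[X]).coeff n) = 0 := fun n => by
      rw [← coeff_psi, hp, coeff_zero]
    have hmem : ∀ n : ℕ, (p : K[X]).coeff n ∈
        L (((n : ℤ) - 1) • (Finsupp.single P (1 : ℤ) : Divisor k K)) :=
      fun n => mem_of_lc_eq_zero hK P hπ (p.2 n) (hcoef n)
    have hp0 : (p : K[X]).coeff 0 = 0 := by
      have h1 := hmem 0
      have hdeg : Divisor.deg (k := k) (K := K) ((((0 : ℕ) : ℤ) - 1) • (Finsupp.single P (1 : ℤ) : Divisor k K)) < 0 := by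
        rw [Finsupp.smul_single, FF.deg_single, FF.deg_eq_one_of_isAlgClosed hK]
        simp
      rw [FF.L_eq_bot_of_deg_neg hK _ hdeg] at h1
      exact (Submodule.mem_bot k).mp h1
    set q : K[X] := C a⁻¹ * divX (p : K[X]) with hq
    have hqR : q ∈ sectRing (Finsupp.single P (1 : ℤ) : Divisor k K) := by
      intro n
      rw [hq, coeff_C_mul, coeff_divX, ← hc, ← map_inv₀, ← Algebra.smul_def]
      apply Submodule.smul_mem
      have h1 := hmem (n + 1)
      have e : (((n + 1 : ℕ) : ℤ) - 1) = (n : ℤ) := by push_cast; ring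
      rwa [e] at h1
    refine ⟨⟨q, hqR⟩, ?_⟩
    apply Subtype.ext
    rw [Subalgebra.coe_mul, ht]
    show q * (C a * X) = (p : K[X])
    have h1 := X_mul_divX_add (p : K[X])
    rw [hp0, C_0, add_zero] at h1
    rw [hq]
    calc C a⁻¹ * divX (p : K[X]) * (C a * X) = (C a⁻¹ * C a) * (X * divX (p : K[X])) := by ring
      _ = (p : K[X]) := by rw [← C_mul, inv_mul_cancel₀ ha, C_1, one_mul, h1]
  · rintro ⟨q, rfl⟩
    rw [map_mul, hpsit, mul_zero]

/-- the embedding of the semigroup algebra into `k[X]` -/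
noncomputable def iota (M : AddSubmonoid ℕ) : AddMonoidAlgebra k ↥M →ₐ[k] k[X] :=
  (Polynomial.toFinsuppIsoAlg k).symm.toAlgHom.comp
    (AddMonoidAlgebra.mapDomainAlgHom k k M.subtype)

omit [Field K] [Algebra k K] [IsAlgClosed k] in
theorem iota_single (M : AddSubmonoid ℕ) (h : ↥M) (c : k) :
    iota M (AddMonoidAlgebra.single h c) = monomial (h : ℕ) c := by
  unfold iota
  simp only [AlgHom.coe_comp, Function.comp_apply, AddMonoidAlgebra.mapDomainAlgHom_apply]
  rw [AddMonoidAlgebra.mapDomain_single]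
  show (Polynomial.toFinsuppIsoAlg k).symm (AddMonoidAlgebra.single (h : ℕ) c) = _
  rw [AlgEquiv.symm_apply_eq]
  simp [Polynomial.toFinsuppIsoAlg]

omit [Field K] [Algebra k K] [IsAlgClosed k] in
theorem iota_injective (M : AddSubmonoid ℕ) : Function.Injective (iota (k := k) M) := by
  unfold iota
  intro x y h
  have h1 : (AddMonoidAlgebra.mapDomainAlgHom k k M.subtype) x =
      (AddMonoidAlgebra.mapDomainAlgHom k k M.subtype) y :=
    (Polynomial.toFinsuppIsoAlg k).symm.injective h
  rw [AddMonoidAlgebra.mapDomainAlgHom_apply, AddMonoidAlgebra.mapDomainAlgHom_apply] at h1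
  exact AddMonoidAlgebra.mapDomain_injective Subtype.val_injective h1

include hK in
/-- the range of the leading-form map is the semigroup algebra -/
theorem range_psi :
    (psi hK P hπ).range = (iota (k := k) (AddSubmonoid.closure (poleOrders P))).range := by
  classical
  apply le_antisymm
  · rintro _ ⟨p, rfl⟩
    show psi hK P hπ p ∈ _
    rw [← (psi hK P hπ p).sum_monomial_eq]
    unfold Polynomial.sum
    apply Subalgebra.sum_mem
    intro n hn
    rw [Polynomial.mem_support_iff, coeff_psi] at hn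
    have hnH : n ∈ poleOrders P := (mem_poleOrders_iff hK P hπ n).mpr ⟨_, p.2 n, hn⟩
    have hnM : n ∈ AddSubmonoid.closure (poleOrders P) := AddSubmonoid.subset_closure hnH
    exact ⟨AddMonoidAlgebra.single ⟨n, hnM⟩ _, iota_single _ ⟨n, hnM⟩ _⟩
  · rintro _ ⟨x, rfl⟩
    induction x using AddMonoidAlgebra.induction_linear with
    | zero => rw [map_zero]; exact Subalgebra.zero_mem _
    | add x y hx hy => rw [map_add]; exact Subalgebra.add_mem _ hx hy
    | single h c =>
      have hH : (h : ℕ) ∈ poleOrders P := (mem_closure_iff hK P _).mp h.2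
      obtain ⟨f, hf, hf1⟩ := exists_monic hK P hπ hH
      have hmem : (monomial (h : ℕ) (c • f) : K[X]) ∈
          sectRing (Finsupp.single P (1 : ℤ) : Divisor k K) := by
        intro n
        rw [coeff_monomial]
        split_ifs with hn
        · subst hn
          exact Submodule.smul_mem _ _ hf
        · exact Submodule.zero_mem _
      refine ⟨⟨_, hmem⟩, ?_⟩
      show psi hK P hπ ⟨_, hmem⟩ = iota _ (AddMonoidAlgebra.single h c)
      rw [iota_single]
      ext n
      show (psi hK P hπ ⟨_, hmem⟩).coeff n = _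
      rw [coeff_psi, coeff_monomial, coeff_monomial]
      split_ifs with hn
      · subst hn
        rw [map_smul, hf1, smul_eq_mul, mul_one]
      · rw [map_zero]

include hK hg in
/-- S18668 -/
theorem prime_and_quotient (t : ↥(sectRing (Finsupp.single P (1 : ℤ) : Divisor k K))) (a : K)
    (ha : a ≠ 0) (ht : (t : K[X]) = C a * X) :
    Prime t ∧ Nonempty ((↥(sectRing (Finsupp.single P (1 : ℤ) : Divisor k K)) ⧸ Ideal.span {t})
      ≃ₐ[k] AddMonoidAlgebra k ↥(AddSubmonoid.closure (poleOrders P))) := by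
  obtain ⟨π, hπ⟩ := FF.exists_uniformizer P
  have hker := ker_psi hK hg P hπ t a ha ht
  have ht0 : t ≠ 0 := by
    intro h0
    have := congrArg (fun p : ↥(sectRing (Finsupp.single P (1 : ℤ) : Divisor k K)) =>
      (p : K[X]).coeff 1) h0
    simp only [ht, coeff_C_mul, coeff_X_one, mul_one, ZeroMemClass.coe_zero, coeff_zero] at this
    exact ha this
  constructor
  · rw [← Ideal.span_singleton_prime ht0, ← hker]
    exact RingHom.ker_isPrime _
  · let f := (psi hK P hπ).rangeRestrict
    have hf : Function.Surjective f := (psi hK P hπ).rangeRestrict_surjective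
    have hkerf : Ideal.span {t} = RingHom.ker f := by
      rw [← hker]
      ext x
      rw [RingHom.mem_ker, RingHom.mem_ker]
      constructor
      · intro h
        apply Subtype.ext
        exact h
      · intro h
        exact congrArg Subtype.val h
    let e₀ := Ideal.quotientEquivAlgOfEq k hkerf
    let e₁ := Ideal.quotientKerAlgEquivOfSurjective hf
    let e₂ := Subalgebra.equivOfEq _ _ (range_psi hK P hπ)
    let e₃ := AlgEquiv.ofInjective (iota (k := k) (AddSubmonoid.closure (poleOrders P)))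
      (iota_injective _)
    exact ⟨e₀.trans (e₁.trans (e₂.trans e₃.symm))⟩

end quot

end Groth.Agent.Lib.helper16.FSR
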