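import Groth.Agent.Lib.helper16.FResGen
import Groth.Agent.Lib.helper16.FResLaurent
import Groth.Agent.Lib.helper16.FSectRing
import Groth.Agent.Lib.helper16.FDiffExp

/-! Helper library (helper16): the abstract local residue at a place equals the residue read
through a Laurent expansion (arbitrary constant field). -/

set_option autoImplicit false

namespace Groth.Agent.Lib.helper16.FRCm

open FunFld WithZero LocRes Module
open Groth.Agent.Lib.helper16
open Groth.Agent.Lib.helper16.FPT
open Groth.Agent.Lib.helper16.FRL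
open Groth.Agent.Lib.helper16.FRLa
open scoped LaurentSeries

universe u v w

variable {k : Type u} {K : Type v} {F : Type w} [Field k] [Field K] [Algebra k K] [Field F]
  [Algebra k F]

/-- an expansion homomorphism as a `k`-linear map -/
noncomputable def phiL (φ : K →ₐ[k] F⸨X⸩) : K →ₗ[k] F⸨X⸩ where
  toFun := φ
  map_add' := map_add φ
  map_smul' c x := by
    show φ (c • x) = c • φ x
    rw [Algebra.smul_def, map_mul, φ.commutes, algebraMap_mul_eq_smul]

theorem phiL_apply (φ : K →ₐ[k] F⸨X⸩) (x : K) : phiL φ x = φ x := rfl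

theorem phiL_injective (φ : K →ₐ[k] F⸨X⸩) : Function.Injective (phiL φ) :=
  φ.toRingHom.injective

section exp

variable {P : Place k K} {φ : K →ₐ[k] F⸨X⸩} (hφ : IsExpansionAt P.1 φ)

include hφ in
theorem val_le_exp_iff_ord (x : K) (n : ℤ) : P.1 x ≤ exp (-n) ↔ Ord n (φ x) := by
  rw [← hφ.1 x, LaurentSeries.valuation_le_iff_coeff_lt_eq_zero F]
  rfl

include hφ in
theorem val_le_one_iff_ord (x : K) : P.1 x ≤ 1 ↔ Ord 0 (φ x) := by
  rw [← val_le_exp_iff_ord hφ x 0, neg_zero, exp_zero]

include hφ in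
/-- monomials are approximated by elements of `K` -/
theorem exists_approx_single (a : F) (n : ℤ) :
    ∃ u : K, Ord n (φ u) ∧ (φ u).coeff n = a := by
  obtain ⟨t, ht⟩ := hφ.2.2
  have ht0 : t ≠ 0 := by
    rintro rfl
    rw [map_zero] at ht
    exact exp_ne_zero ht.symm
  have hv : Valued.v (φ (t ^ n)) = exp (-n) := by
    rw [hφ.1, map_zpow₀, ht, ← exp_zsmul]
    simp
  obtain ⟨h1, h2⟩ := FDE.val_eq_exp_iff.mp hv
  obtain ⟨z, hz1, hz2⟩ := hφ.2.1 (a / (φ (t ^ n)).coeff n)
  have hz : Ord 0 (φ z) := (val_le_one_iff_ord hφ z).mp hz1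
  refine ⟨z * t ^ n, ?_, ?_⟩
  · rw [map_mul]
    have := hz.mul (show Ord n (φ (t ^ n)) from h1)
    rwa [zero_add] at this
  · rw [map_mul]
    have := FSR.coeff_mul_of_bounds (x := φ z) (y := φ (t ^ n)) (a := 0) (b := n) hz h1
    rw [zero_add] at this
    rw [this, hz2, div_mul_cancel₀ _ h2]

include hφ in
/-- the image of `K` is dense -/
theorem exists_approx (f : F⸨X⸩) : ∃ u : K, Ord 0 (f - φ u) := by
  have key : ∀ (N : ℕ) (f : F⸨X⸩), Ord (-(N : ℤ)) f → ∃ u : K, Ord 0 (f - φ u) := by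
    intro N
    induction N with
    | zero =>
      intro f hf
      refine ⟨0, ?_⟩
      rw [map_zero, sub_zero]
      simpa using hf
    | succ N ih =>
      intro f hf
      obtain ⟨u₁, hu1, hu2⟩ := exists_approx_single hφ (f.coeff (-((N + 1 : ℕ) : ℤ)))
        (-((N + 1 : ℕ) : ℤ))
      have h1 : Ord (-(N : ℤ)) (f - φ u₁) := by
        intro m hm
        rw [HahnSeries.coeff_sub]
        by_cases hm' : m = -((N + 1 : ℕ) : ℤ)
        · rw [hm', hu2, sub_self]
        · have hlt : m < -((N + 1 : ℕ) : ℤ) := by push_cast at hm' ⊢; omega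
          rw [hf m hlt, hu1 m hlt, sub_zero]
      obtain ⟨u₂, hu₂⟩ := ih (f - φ u₁) h1
      refine ⟨u₁ + u₂, ?_⟩
      rw [map_add, ← sub_sub]
      exact hu₂
  obtain ⟨n, hn⟩ := exists_ord f
  exact key (-n).toNat f (hn.mono (by omega))

end exp

section compare

variable [FiniteDimensional k F] (hK : IsFunctionField k K) {P : Place k K}
  {φ : K →ₐ[k] F⸨X⸩} (hφ : IsExpansionAt P.1 φ)

include hφ in
/-- **the abstract local residue is the residue of the expansion** -/
theorem dloc_res_eq (u v : K) :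
    (FRN.dloc hK P).res u v = (dhat (k := k) (F := F)).res (φ u) (φ v) := by
  classical
  obtain ⟨C, hC⟩ := Submodule.exists_isCompl (OP P)
  set π : K →ₗ[k] K := (OP P).projection C hC with hπdef
  have hπ1 : ∀ x, π x ∈ OP P := fun x => Submodule.projection_apply_mem hC x
  have hπ2 : ∀ a ∈ OP P, π a = a := fun a ha => Submodule.projection_apply_of_mem_left hC ha
  have hπ3 : ∀ c ∈ C, π c = 0 := fun c hc => Submodule.projection_apply_of_mem_right hC hc
  have hπA : AlmostProj (OP P) π := AlmostProj.of_proj hπ1 hπ2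
  -- the complement upstairs
  set Ch : Submodule k F⸨X⸩ := C.map (phiL φ) with hCh
  have hcompl : IsCompl (Ahat (k := k) (F := F)) Ch := by
    constructor
    · rw [Submodule.disjoint_def]
      rintro x hxA ⟨c, hc, rfl⟩
      have h1 : c ∈ OP P := (val_le_one_iff_ord hφ c).mpr hxA
      have h2 : c ∈ OP P ⊓ C := ⟨h1, hc⟩
      rw [hC.inf_eq_bot, Submodule.mem_bot] at h2
      rw [h2, map_zero]
    · rw [codisjoint_iff, eq_top_iff]
      intro f _
      obtain ⟨w, hw⟩ := exists_approx hφ f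
      have hw' : w ∈ OP P ⊔ C := by rw [hC.sup_eq_top]; exact Submodule.mem_top
      obtain ⟨o, ho, c, hc, hoc⟩ := Submodule.mem_sup.mp hw'
      have h1 : f = (f - φ w + φ o) + phiL φ c := by
        rw [phiL_apply, ← hoc, map_add]; ring
      rw [h1]
      refine Submodule.add_mem _ (Submodule.mem_sup_left ?_)
        (Submodule.mem_sup_right ⟨c, hc, rfl⟩)
      exact hw.add ((val_le_one_iff_ord hφ o).mp ho)
  set πh : F⸨X⸩ →ₗ[k] F⸨X⸩ := (Ahat (k := k) (F := F)).projection Ch hcompl with hπhdef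
  have hπh1 : ∀ x, πh x ∈ Ahat (k := k) (F := F) :=
    fun x => Submodule.projection_apply_mem hcompl x
  have hπh2 : ∀ a ∈ Ahat (k := k) (F := F), πh a = a :=
    fun a ha => Submodule.projection_apply_of_mem_left hcompl ha
  have hπh3 : ∀ c ∈ Ch, πh c = 0 := fun c hc => Submodule.projection_apply_of_mem_right hcompl hc
  have hπhA : AlmostProj (Ahat (k := k) (F := F)) πh := AlmostProj.of_proj hπh1 hπh2
  have hπφ : ∀ x : K, πh (φ x) = φ (π x) := by
    intro x
    have hx' : x ∈ OP P ⊔ C := by rw [hC.sup_eq_top]; exact Submodule.mem_top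
    obtain ⟨o, ho, c, hc, hoc⟩ := Submodule.mem_sup.mp hx'
    have h1 : π x = o := by rw [← hoc, map_add, hπ2 o ho, hπ3 c hc, add_zero]
    rw [h1, ← hoc, map_add φ, map_add πh, hπh2 _ ((val_le_one_iff_ord hφ o).mp ho),
      hπh3 (φ c) ⟨c, hc, rfl⟩, add_zero]
  have hcomplement : ∀ y : F⸨X⸩, y - πh y ∈ Ch := by
    intro y
    have hy' : y ∈ Ahat (k := k) (F := F) ⊔ Ch := by
      rw [hcompl.sup_eq_top]; exact Submodule.mem_top
    obtain ⟨a, ha, c, hc, hac⟩ := Submodule.mem_sup.mp hy'
    rw [← hac, map_add, hπh2 a ha, hπh3 c hc, add_zero, add_sub_cancel_left]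
    exact hc
  -- the two operators
  set θ : K →ₗ[k] K := FPT.comm π (Algebra.lmul k K v) ∘ₗ Algebra.lmul k K u with hθ
  set θh : F⸨X⸩ →ₗ[k] F⸨X⸩ :=
    FPT.comm πh (rhoL (k := k) (φ v)) ∘ₗ rhoL (k := k) (φ u) with hθh
  have hθ_apply : ∀ x, θ x = π (v * (u * x)) - v * π (u * x) := fun x => rfl
  have hθh_apply : ∀ x, θh x = πh (φ v * (φ u * x)) - φ v * πh (φ u * x) := fun x => rfl
  have hrange : ∀ x, θh x ∈ LinearMap.range (phiL φ) := by
    intro x
    rw [hθh_apply]
    set y := φ u * x with hy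
    obtain ⟨c, hc, hcy⟩ := hcomplement y
    have h1 : y = πh y + φ c := by
      rw [phiL_apply] at hcy
      rw [hcy]; ring
    have h2 : πh (φ v * y) = πh (φ v * πh y) + φ (π (v * c)) := by
      have h3 : φ v * y = φ v * πh y + φ (v * c) := by
        rw [map_mul φ]
        nth_rewrite 1 [h1]
        ring
      rw [h3, map_add πh, hπφ]
    rw [h2]
    obtain ⟨c', hc', hcy'⟩ := hcomplement (φ v * πh y)
    refine ⟨π (v * c) - c', ?_⟩
    rw [phiL_apply] at hcy' ⊢
    rw [map_sub, hcy']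
    ring
  let β : F⸨X⸩ →ₗ[k] K :=
    (LinearEquiv.ofInjective (phiL φ) (phiL_injective φ)).symm.toLinearMap ∘ₗ
      θh.codRestrict (LinearMap.range (phiL φ)) hrange
  have hβ1 : phiL φ ∘ₗ β = θh := by
    apply LinearMap.ext
    intro x
    show phiL φ ((LinearEquiv.ofInjective (phiL φ) (phiL_injective φ)).symm
      (θh.codRestrict (LinearMap.range (phiL φ)) hrange x)) = θh x
    have := (LinearEquiv.ofInjective (phiL φ) (phiL_injective φ)).apply_symm_apply
      (θh.codRestrict (LinearMap.range (phiL φ)) hrange x)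
    have h3 := congrArg Subtype.val this
    rw [LinearEquiv.ofInjective_apply] at h3
    exact h3
  have hβ2 : β ∘ₗ phiL φ = θ := by
    apply LinearMap.ext
    intro x
    apply phiL_injective φ
    have h1 : phiL φ ((β ∘ₗ phiL φ) x) = θh (phiL φ x) := by
      rw [← hβ1]; rfl
    rw [h1, phiL_apply, phiL_apply, hθh_apply, hθ_apply,
      show φ u * φ x = φ (u * x) from (map_mul φ u x).symm,
      show φ v * φ (u * x) = φ (v * (u * x)) from (map_mul φ v _).symm, hπφ, hπφ, map_sub φ,
      map_mul φ]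
  have hθInF : InF (OP P) θ :=
    hπA.theta_inF (FRN.nearStab_lmul hK P u) (FRN.nearStab_lmul hK P v)
  have hcore : IsCore (β ∘ₗ phiL φ) (core₂ θ θ) := by
    rw [hβ2]
    exact hθInF.isCore
  have htr : fpTr θh = fpTr θ := by
    rw [← hβ1, fpTr_comm (phiL φ) β hcore, hβ2]
  -- conclude
  have e1 : (FRN.dloc hK P).res u v = fpTr θ :=
    absRes_eq_of_almostProj (FRN.dloc hK P).hπ hπA (FRN.nearStab_lmul hK P u)
      (FRN.nearStab_lmul hK P v) ((FRN.dloc hK P).comm_ρ u v)
  have e2 : (dhat (k := k) (F := F)).res (φ u) (φ v) = fpTr θh :=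
    absRes_eq_of_almostProj (dhat (k := k) (F := F)).hπ hπhA (nearStab_rhoL (φ u))
      (nearStab_rhoL (φ v)) ((dhat (k := k) (F := F)).comm_ρ (φ u) (φ v))
  rw [e1, e2, htr]

include hφ in
/-- the abstract local residue is the local residue read through the expansion -/
theorem dloc_res_eq_locRes (u v : K) : (FRN.dloc hK P).res u v = locRes φ u v := by
  rw [dloc_res_eq hK hφ, res_eq_trace]
  rfl

end compare

end Groth.Agent.Lib.helper16.FRCm
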