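import Groth.Agent.Lib.helper16.FResGlobal

/-! Helper library (helper16): Tate's local and global residues over an arbitrary constant
field, and the residue theorem for the abstract local residues. -/

set_option autoImplicit false

namespace Groth.Agent.Lib.helper16.FRN

open FunFld WithZero LocRes Module
open Groth.Agent.Lib.helper16
open Groth.Agent.Lib.helper16.FPT
open Groth.Agent.Lib.helper16.FRL
open Groth.Agent.Lib.helper16.FRG
open Groth.Agent.Lib.helper16.RelDim

universe u v

variable {k : Type u} {K : Type v} [Field k] [Field K] [Algebra k K]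

/-- a `k`-linear projection of `K` onto the valuation ring of `P` -/
theorem exists_proj (P : Place k K) :
    ∃ π : K →ₗ[k] K, (∀ x, P.1 (π x) ≤ 1) ∧ ∀ x, P.1 x ≤ 1 → π x = x := by
  obtain ⟨C, hC⟩ := Submodule.exists_isCompl (OP P)
  refine ⟨(OP P).projection C hC, ?_, ?_⟩
  · intro x
    exact Submodule.projection_apply_mem hC x
  · intro x hx
    exact Submodule.projection_apply_of_mem_left hC hx

/-- a chosen projection onto the valuation ring -/
noncomputable def prP (P : Place k K) : K →ₗ[k] K := Classical.choose (exists_proj P)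

theorem val_prP (P : Place k K) (x : K) : P.1 (prP P x) ≤ 1 :=
  (Classical.choose_spec (exists_proj P)).1 x

theorem prP_of_le (P : Place k K) {x : K} (hx : P.1 x ≤ 1) : prP P x = x :=
  (Classical.choose_spec (exists_proj P)).2 x hx

section glob

variable (hK : IsFunctionField k K)

include hK in
/-- multiplication operators almost preserve the valuation ring -/
theorem nearStab_lmul (P : Place k K) (f : K) : NearStab (OP P) (Algebra.lmul k K f) := by
  classical
  obtain ⟨W, hW, hfW⟩ := nearStab_rhoG hK f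
  refine ⟨W.map (prj P), inferInstance, ?_⟩
  rintro _ ⟨x, hx, rfl⟩
  have hmem : iota P x ∈ AG (k := k) (K := K) := by
    rw [mem_AG]
    intro Q
    rw [iota_apply]
    split_ifs with h
    · rw [h]; exact hx
    · rw [map_zero]; exact zero_le
  obtain ⟨a, ha, w, hw, haw⟩ := Submodule.mem_sup.mp (hfW ⟨iota P x, hmem, rfl⟩)
  have h1 : f * x = prj P (rhoG hK f (iota P x)) := by
    rw [prj_apply, rhoG_apply, iota_apply, if_pos rfl]
  rw [lmul_apply, h1, ← haw, map_add]
  refine Submodule.add_mem _ (Submodule.mem_sup_left ?_) (Submodule.mem_sup_right ⟨w, hw, rfl⟩)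
  rw [mem_AG] at ha
  exact ha P

/-- the local residue data at `P` -/
noncomputable def dloc (P : Place k K) : ResData k K K where
  A := OP P
  π := prP P
  ρ := Algebra.lmul k K
  hπ := AlmostProj.of_proj (fun x => val_prP P x) (fun _ ha => prP_of_le P ha)
  hρ := fun f => nearStab_lmul hK P f

/-- the local operator `[π, g] f` -/
theorem theta_apply (P : Place k K) (f g w : K) :
    (comm (prP P) (Algebra.lmul k K g) ∘ₗ Algebra.lmul k K f) w =
      prP P (g * (f * w)) - g * prP P (f * w) := rfl

theorem theta_mem (P : Place k K) {f g : K} (hg : P.1 g ≤ 1) (w : K) :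
    P.1 ((comm (prP P) (Algebra.lmul k K g) ∘ₗ Algebra.lmul k K f) w) ≤ 1 := by
  rw [theta_apply]
  refine (Valuation.map_sub P.1 _ _).trans (max_le (val_prP P _) ?_)
  rw [map_mul]
  exact mul_le_one' hg (val_prP P _)

theorem theta_eq_zero (P : Place k K) {f g : K} (hf : P.1 f ≤ 1) (hg : P.1 g ≤ 1) {w : K}
    (hw : P.1 w ≤ 1) :
    (comm (prP P) (Algebra.lmul k K g) ∘ₗ Algebra.lmul k K f) w = 0 := by
  rw [theta_apply]
  have h1 : P.1 (f * w) ≤ 1 := by rw [map_mul]; exact mul_le_one' hf hw
  have h2 : P.1 (g * (f * w)) ≤ 1 := by rw [map_mul]; exact mul_le_one' hg h1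
  rw [prP_of_le P h1, prP_of_le P h2, sub_self]

/-- the componentwise projection onto the integral adeles -/
noncomputable def piG : ↥(adele k K) →ₗ[k] ↥(adele k K) :=
  LinearMap.codRestrict (adele k K)
    (LinearMap.pi (fun P => prP P ∘ₗ LinearMap.proj P) ∘ₗ (adele k K).subtype)
    (fun a => FF.AD_le_adele 0 (fun P => by
      rw [Finsupp.zero_apply, exp_zero]
      exact val_prP P _))

theorem piG_apply (a : ↥(adele k K)) (P : Place k K) :
    (piG a : Place k K → K) P = prP P ((a : Place k K → K) P) := rfl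

theorem almostProj_piG : AlmostProj (AG (k := k) (K := K)) piG := by
  apply AlmostProj.of_proj
  · intro x
    rw [mem_AG]
    intro P
    rw [piG_apply]
    exact val_prP P _
  · intro a ha
    rw [mem_AG] at ha
    apply Subtype.ext
    funext P
    rw [piG_apply]
    exact prP_of_le P (ha P)

/-- the global residue data -/
noncomputable def dG : ResData k K ↥(adele k K) where
  A := AG
  π := piG
  ρ := rhoG hK
  hπ := almostProj_piG
  hρ := nearStab_rhoG hK

/-- **the global residue vanishes** (Tate) -/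
theorem dG_res_eq_zero (f g : K) : (dG hK).res f g = 0 := by
  unfold ResData.res
  have hAB : FiniteDimensional k ↥(AG (k := k) (K := K) ⊓ BG) := by
    have h1 : AG (k := k) (K := K) ⊓ BG = pb (AD 0 ⊓ LinearMap.range (diag k K)) := rfl
    rw [h1]
    exact finiteDimensional_pb (FF.finrank_AD_inf_diag hK 0).1
  obtain ⟨hq, -⟩ := FF.finrank_adele_quotient hK 0
  obtain ⟨C₀, hC₀⟩ := Submodule.exists_isCompl (ADK (0 : Divisor k K))
  have hC₀fd : FiniteDimensional k C₀ :=
    LinearEquiv.finiteDimensional (Submodule.quotientEquivOfIsCompl _ _ hC₀)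
  have hle : ADK (0 : Divisor k K) ≤ AG ⊔ BG :=
    pb_sup_le (FF.AD_le_adele 0) (FF.diag_le_adele hK)
  have htop : AG (k := k) (K := K) ⊔ BG ⊔ C₀ = ⊤ := by
    rw [eq_top_iff, ← hC₀.sup_eq_top]
    exact sup_le_sup_right hle _
  refine absRes_eq_zero_of_lattice hAB C₀ hC₀fd htop (dG hK).hπ ((dG hK).hρ f) ((dG hK).hρ g)
    ((dG hK).comm_ρ f g) ?_ ?_
  · rintro b ⟨x, hx⟩
    refine ⟨f * x, ?_⟩
    funext P
    have hb : (b : Place k K → K) P = x := (congrFun hx P).symm
    change _ = f * (b : Place k K → K) P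
    rw [hb]
    rfl
  · rintro b ⟨x, hx⟩
    refine ⟨g * x, ?_⟩
    funext P
    have hb : (b : Place k K → K) P = x := (congrFun hx P).symm
    change _ = g * (b : Place k K → K) P
    rw [hb]
    rfl

/-- the local operator -/
noncomputable def thetaL (f g : K) (P : Place k K) : K →ₗ[k] K :=
  comm (prP P) (Algebra.lmul k K g) ∘ₗ Algebra.lmul k K f

/-- the global operator -/
noncomputable def thetaG (f g : K) : ↥(adele k K) →ₗ[k] ↥(adele k K) :=
  comm piG (rhoG hK g) ∘ₗ rhoG hK f

theorem thetaG_apply (f g : K) (a : ↥(adele k K)) (P : Place k K) :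
    (thetaG hK f g a : Place k K → K) P = thetaL f g P ((a : Place k K → K) P) := rfl

theorem dG_res_eq (f g : K) : (dG hK).res f g = fpTr (thetaG hK f g) := rfl

theorem dL_res_eq (f g : K) (P : Place k K) : (dloc hK P).res f g = fpTr (thetaL f g P) := rfl

include hK in
theorem inF_thetaL (f g : K) (P : Place k K) : InF (OP P) (thetaL f g P) :=
  (dloc hK P).hπ.theta_inF ((dloc hK P).hρ f) ((dloc hK P).hρ g)

theorem inF_thetaG (f g : K) : InF (AG (k := k) (K := K)) (thetaG hK f g) :=
  (dG hK).hπ.theta_inF ((dG hK).hρ f) ((dG hK).hρ g)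

include hK in
theorem inF_piece (f g : K) (P : Place k K) :
    InF (AG (k := k) (K := K)) (iota P ∘ₗ thetaL f g P ∘ₗ prj P) := by
  classical
  obtain ⟨W₁, W₂, hW₁, hW₂, h1, h2⟩ := inF_thetaL hK f g P
  refine ⟨W₁.map (iota P), W₂.map (iota P), inferInstance, inferInstance, ?_, ?_⟩
  · rintro _ ⟨a, rfl⟩
    rw [LinearMap.comp_apply, LinearMap.comp_apply]
    obtain ⟨o, ho, w, hw, how⟩ := Submodule.mem_sup.mp (h1 ⟨prj P a, rfl⟩)
    rw [← how, map_add]
    refine Submodule.add_mem _ (Submodule.mem_sup_left ?_) (Submodule.mem_sup_right ⟨w, hw, rfl⟩)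
    rw [mem_AG]
    intro Q
    rw [iota_apply]
    split_ifs with h
    · rw [h]; exact ho
    · rw [map_zero]; exact zero_le
  · rintro _ ⟨a, ha, rfl⟩
    rw [SetLike.mem_coe, mem_AG] at ha
    rw [LinearMap.comp_apply, LinearMap.comp_apply]
    exact ⟨_, h2 ⟨prj P a, ha P, rfl⟩, rfl⟩

include hK in
theorem fpTr_piece (f g : K) (P : Place k K) :
    fpTr (iota P ∘ₗ thetaL f g P ∘ₗ prj P) = fpTr (thetaL f g P) := by
  have h1 : (thetaL f g P ∘ₗ prj P) ∘ₗ iota P = thetaL f g P := by
    apply LinearMap.ext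
    intro x
    rw [LinearMap.comp_apply, LinearMap.comp_apply, prj_apply, iota_apply, if_pos rfl]
  have hcore : IsCore ((thetaL f g P ∘ₗ prj P) ∘ₗ iota P)
      (core₂ (thetaL f g P) (thetaL f g P)) := by
    rw [h1]
    exact (inF_thetaL hK f g P).isCore
  rw [fpTr_comm (iota P) (thetaL f g P ∘ₗ prj P) hcore, h1]

/-- **the global residue is the sum of the local residues** -/
theorem dG_res_eq_sum (f g : K) (S : Finset (Place k K))
    (hS : ∀ P ∉ S, P.1 f ≤ 1 ∧ P.1 g ≤ 1) :
    (dG hK).res f g = ∑ P ∈ S, (dloc hK P).res f g := by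
  classical
  obtain ⟨hsumInF, hsum⟩ := fpTr_sum (A := AG (k := k) (K := K)) S
    (θ := fun P => iota P ∘ₗ thetaL f g P ∘ₗ prj P) (fun P _ => inF_piece hK f g P)
  set Sp : ↥(adele k K) →ₗ[k] ↥(adele k K) :=
    ∑ P ∈ S, iota P ∘ₗ thetaL f g P ∘ₗ prj P with hSp
  have hSp_apply : ∀ (a : ↥(adele k K)) (Q : Place k K), (Sp a : Place k K → K) Q =
      if Q ∈ S then thetaL f g Q ((a : Place k K → K) Q) else 0 := by
    intro a Q
    rw [hSp, LinearMap.sum_apply, Submodule.coe_sum, Finset.sum_apply]
    have : ∀ P ∈ S, ((iota P ∘ₗ thetaL f g P ∘ₗ prj P) a : Place k K → K) Q =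
        if Q = P then thetaL f g Q ((a : Place k K → K) Q) else 0 := by
      intro P _
      rw [LinearMap.comp_apply, LinearMap.comp_apply, iota_apply, prj_apply]
      split_ifs with h
      · rw [h]
      · rfl
    rw [Finset.sum_congr rfl this, Finset.sum_ite_eq]
  set rest : ↥(adele k K) →ₗ[k] ↥(adele k K) := thetaG hK f g - Sp with hrest
  have hrest_apply : ∀ (a : ↥(adele k K)) (Q : Place k K), (rest a : Place k K → K) Q =
      if Q ∈ S then 0 else thetaL f g Q ((a : Place k K → K) Q) := by
    intro a Q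
    rw [hrest, LinearMap.sub_apply, Submodule.coe_sub, Pi.sub_apply, hSp_apply, thetaG_apply]
    split_ifs
    · rw [sub_self]
    · rw [sub_zero]
  have hrest_sq : rest ^ 2 = 0 := by
    apply LinearMap.ext
    intro a
    apply Subtype.ext
    funext Q
    rw [pow_two, Module.End.mul_apply, hrest_apply]
    split_ifs with hQ
    · rfl
    · rw [hrest_apply, if_neg hQ]
      obtain ⟨hf, hg⟩ := hS Q hQ
      exact theta_eq_zero Q hf hg (theta_mem Q hg _)
  have hdecomp : thetaG hK f g = Sp + rest := by rw [hrest]; abel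
  rw [dG_res_eq, hdecomp, fpTr_add hsumInF ((inF_thetaG hK f g).sub hsumInF),
    fpTr_eq_zero_of_pow hrest_sq, add_zero, hsum]
  apply Finset.sum_congr rfl
  intro P _
  rw [fpTr_piece hK, dL_res_eq]

/-- **the residue theorem** for the abstract local residues -/
theorem sum_res_eq_zero (f g : K) (S : Finset (Place k K))
    (hS : ∀ P ∉ S, P.1 f ≤ 1 ∧ P.1 g ≤ 1) : ∑ P ∈ S, (dloc hK P).res f g = 0 := by
  rw [← dG_res_eq_sum hK f g S hS, dG_res_eq_zero]

/-- the abstract residue of a differential regular at `P` vanishes -/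
theorem dloc_res_eq_zero_of_le (P : Place k K) {f g : K} (hf : P.1 f ≤ 1) (hg : P.1 g ≤ 1) :
    (dloc hK P).res f g = 0 := by
  rw [dL_res_eq]
  apply fpTr_eq_zero_of_pow (n := 2)
  apply LinearMap.ext
  intro w
  rw [pow_two, Module.End.mul_apply]
  exact theta_eq_zero P hf hg (theta_mem P hg _)

end glob

end Groth.Agent.Lib.helper16.FRN
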