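import Groth.Agent.Lib.helper16.FResLocal
import Groth.Agent.Lib.helper16.FAbsRes2
import Groth.Agent.Lib.helper16.FFWeil

/-! Helper library (helper16): the global residue on the adele space and the residue theorem
(algebraically closed constant field). -/

set_option autoImplicit false

namespace Groth.Agent.Lib.helper16.FRG

open FunFld WithZero LocRes Module
open Groth.Agent.Lib.helper16
open Groth.Agent.Lib.helper16.FPT
open Groth.Agent.Lib.helper16.FRL
open Groth.Agent.Lib.helper16.RelDim

universe u v

variable {k : Type u} {K : Type v} [Field k] [Field K] [Algebra k K]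

section general

variable {V : Type*} [AddCommGroup V] [Module k V]

/-- a finite relative quotient gives a finite-dimensional relative complement -/
theorem exists_fd_sup_of_Q {U U' : Submodule k V} (h : FiniteDimensional k (Q U U')) :
    ∃ W : Submodule k V, FiniteDimensional k W ∧ W ≤ U' ∧ U' ≤ U ⊔ W := by
  obtain ⟨Z, hZ, hUZ, hsup, -⟩ := exists_rel_compl U U'
  refine ⟨Z, ?_, hZ, ?_⟩
  · let φ : Z →ₗ[k] Q U U' := (Submodule.mkQ _) ∘ₗ (Submodule.inclusion hZ)
    have hinj : Function.Injective φ := by
      rw [← LinearMap.ker_eq_bot, LinearMap.ker_eq_bot']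
      intro z hz
      have h1 : (Submodule.inclusion hZ z) ∈ U.comap U'.subtype := by
        rw [← Submodule.Quotient.mk_eq_zero]
        exact hz
      have h2 : (z : V) ∈ U ⊓ Z := ⟨h1, z.2⟩
      rw [hUZ, Submodule.mem_bot] at h2
      exact Subtype.ext h2
    exact FiniteDimensional.of_injective φ hinj
  · rw [hsup]
    exact le_sup_right

end general

/-- pull a subspace of all repartitions back to the adele space -/
def pb (U : Submodule k (Place k K → K)) : Submodule k ↥(adele k K) :=
  U.comap (adele k K).subtype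

theorem mem_pb {U : Submodule k (Place k K → K)} {a : ↥(adele k K)} :
    a ∈ pb U ↔ (a : Place k K → K) ∈ U := Iff.rfl

theorem finiteDimensional_pb {U : Submodule k (Place k K → K)} (h : FiniteDimensional k U) :
    FiniteDimensional k (pb U) := by
  let φ : pb U →ₗ[k] U := (adele k K).subtype.restrict (p := pb U) (q := U) (fun x hx => hx)
  have hinj : Function.Injective φ := by
    intro x y hxy
    have h1 : (φ x : Place k K → K) = (φ y : Place k K → K) := congrArg Subtype.val hxy
    exact Subtype.ext (Subtype.ext h1)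
  exact FiniteDimensional.of_injective φ hinj

theorem pb_sup_le {U₁ U₂ : Submodule k (Place k K → K)} (h₁ : U₁ ≤ adele k K)
    (h₂ : U₂ ≤ adele k K) : pb (U₁ ⊔ U₂) ≤ pb U₁ ⊔ pb U₂ := by
  intro a ha
  obtain ⟨x, hx, y, hy, hxy⟩ := Submodule.mem_sup.mp (mem_pb.mp ha)
  have : a = (⟨x, h₁ hx⟩ : ↥(adele k K)) + ⟨y, h₂ hy⟩ := Subtype.ext hxy.symm
  rw [this]
  exact Submodule.add_mem _ (Submodule.mem_sup_left hx) (Submodule.mem_sup_right hy)

section glob

variable [IsAlgClosed k] (hK : IsFunctionField k K)

/-- a chosen uniformizer at each place -/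
noncomputable def tP (P : Place k K) : K := Classical.choose (FF.exists_uniformizer P)

omit [IsAlgClosed k] in
theorem htP (P : Place k K) : P.1 (tP P) = exp (-1) :=
  Classical.choose_spec (FF.exists_uniformizer P)

/-- the local projection at `P` for the chosen uniformizer -/
noncomputable def piL (P : Place k K) : K →ₗ[k] K := piP hK P (htP P)

/-- the local residue data at `P` for the chosen uniformizer -/
noncomputable def dL (P : Place k K) : ResData k K K := dloc hK P (htP P)

/-- the componentwise projection onto the integral adeles -/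
noncomputable def piG : ↥(adele k K) →ₗ[k] ↥(adele k K) :=
  LinearMap.codRestrict (adele k K)
    (LinearMap.pi (fun P => piL hK P ∘ₗ LinearMap.proj P) ∘ₗ (adele k K).subtype)
    (fun a => FF.AD_le_adele 0 (fun P => by
      rw [Finsupp.zero_apply, exp_zero]
      exact val_piP hK P (htP P) _))

theorem piG_apply (a : ↥(adele k K)) (P : Place k K) :
    (piG hK a : Place k K → K) P = piL hK P ((a : Place k K → K) P) := rfl

/-- the action of `K` on the adele space -/
noncomputable def rhoG : K →ₐ[k] Module.End k ↥(adele k K) where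
  toFun f := (f • (LinearMap.id : (Place k K → K) →ₗ[k] (Place k K → K))).restrict
    (fun a ha => by simpa using FF.smul_mem_adele hK f a ha)
  map_one' := by
    apply LinearMap.ext; intro a; apply Subtype.ext; funext P
    simp [LinearMap.restrict_apply]
  map_mul' f g := by
    apply LinearMap.ext; intro a; apply Subtype.ext; funext P
    simp [LinearMap.restrict_apply, mul_assoc]
  map_zero' := by
    apply LinearMap.ext; intro a; apply Subtype.ext; funext P
    simp [LinearMap.restrict_apply]
  map_add' f g := by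
    apply LinearMap.ext; intro a; apply Subtype.ext; funext P
    simp [LinearMap.restrict_apply, add_mul]
  commutes' c := by
    apply LinearMap.ext; intro a; apply Subtype.ext; funext P
    simp [LinearMap.restrict_apply, Algebra.smul_def]

omit [IsAlgClosed k] in
theorem rhoG_apply (f : K) (a : ↥(adele k K)) (P : Place k K) :
    (rhoG hK f a : Place k K → K) P = f * (a : Place k K → K) P := rfl

/-- the integral adeles -/
def AG : Submodule k ↥(adele k K) := pb (AD 0)

omit [IsAlgClosed k] in
theorem mem_AG {a : ↥(adele k K)} :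
    a ∈ AG (k := k) (K := K) ↔ ∀ P : Place k K, P.1 ((a : Place k K → K) P) ≤ 1 := by
  unfold AG
  rw [mem_pb, FF.mem_AD_iff]
  simp

/-- the principal adeles -/
def BG : Submodule k ↥(adele k K) := pb (LinearMap.range (diag k K))

theorem almostProj_piG : AlmostProj (AG (k := k) (K := K)) (piG hK) := by
  apply AlmostProj.of_proj
  · intro x
    rw [mem_AG]
    intro P
    rw [piG_apply]
    exact val_piP hK P (htP P) _
  · intro a ha
    rw [mem_AG] at ha
    apply Subtype.ext
    funext P
    rw [piG_apply]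
    exact piP_of_le hK P (htP P) (ha P)

omit [IsAlgClosed k] in
theorem nearStab_rhoG (f : K) : NearStab (AG (k := k) (K := K)) (rhoG hK f) := by
  by_cases hf : f = 0
  · rw [hf, map_zero]
    apply NearStab.of_le
    rw [Submodule.map_zero]
    exact bot_le
  · set E : Divisor k K := (-FunFld.div k f) ⊔ 0 with hE
    obtain ⟨hfd, -⟩ := FF.AD_Q hK (le_sup_right : (0 : Divisor k K) ≤ E)
    obtain ⟨W, hW1, hW2, hW3⟩ := exists_fd_sup_of_Q hfd
    refine ⟨pb W, finiteDimensional_pb hW1, ?_⟩
    rintro _ ⟨a, ha, rfl⟩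
    rw [SetLike.mem_coe, mem_AG] at ha
    have h1 : (rhoG hK f a : Place k K → K) ∈ AD E := by
      intro P
      rw [rhoG_apply, map_mul]
      have h2 : P.1 f ≤ exp (E P) := by
        rw [FF.val_le_exp_iff P hf, hE, Finsupp.sup_apply, Finsupp.neg_apply, FF.div_apply hK]
        have : -P.ord f ≤ (-P.ord f) ⊔ (0 : Divisor k K) P := le_sup_left
        omega
      calc P.1 f * P.1 ((a : Place k K → K) P) ≤ exp (E P) * 1 := mul_le_mul' h2 (ha P)
        _ = exp (E P) := mul_one _
    have h3 := pb_sup_le (FF.AD_le_adele 0) (hW2.trans (FF.AD_le_adele E))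
    exact h3 (mem_pb.mpr (hW3 h1))

/-- the global residue data -/
noncomputable def dG : ResData k K ↥(adele k K) where
  A := AG
  π := piG hK
  ρ := rhoG hK
  hπ := almostProj_piG hK
  hρ := nearStab_rhoG hK

/-- **the global residue vanishes** (Tate) -/
theorem dG_res_eq_zero (f g : K) : (dG hK).res f g = 0 := by
  unfold ResData.res
  have hAB : FiniteDimensional k ↥(AG (k := k) (K := K) ⊓ BG) := by
    have h1 : AG (k := k) (K := K) ⊓ BG = pb (AD 0 ⊓ LinearMap.range (diag k K)) := rfl
    rw [h1]
    exact finiteDimensional_pb (FF.finrank_AD_inf_diag hK 0).1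
  obtain ⟨hq, -⟩ := FF.finrank_adele_quotient hK 0
  obtain ⟨C₀, hC₀⟩ := Submodule.exists_isCompl (ADK (0 : Divisor k K))
  have hC₀fd : FiniteDimensional k C₀ :=
    LinearEquiv.finiteDimensional (Submodule.quotientEquivOfIsCompl _ _ hC₀)
  have hle : ADK (0 : Divisor k K) ≤ AG ⊔ BG :=
    pb_sup_le (FF.AD_le_adele 0) (FF.diag_le_adele hK)
  have htop : AG (k := k) (K := K) ⊔ BG ⊔ C₀ = ⊤ := by
    rw [eq_top_iff, ← hC₀.sup_eq_top]
    exact sup_le_sup_right hle _
  refine absRes_eq_zero_of_lattice hAB C₀ hC₀fd htop (dG hK).hπ ((dG hK).hρ f) ((dG hK).hρ g)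
    ((dG hK).comm_ρ f g) ?_ ?_
  · rintro b ⟨x, hx⟩
    refine ⟨f * x, ?_⟩
    funext P
    have hb : (b : Place k K → K) P = x := (congrFun hx P).symm
    change _ = f * (b : Place k K → K) P
    rw [hb]
    rfl
  · rintro b ⟨x, hx⟩
    refine ⟨g * x, ?_⟩
    funext P
    have hb : (b : Place k K → K) P = x := (congrFun hx P).symm
    change _ = g * (b : Place k K → K) P
    rw [hb]
    rfl

open scoped Classical in
/-- the inclusion of the `P`-component -/
noncomputable def iota (P : Place k K) : K →ₗ[k] ↥(adele k K) :=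
  LinearMap.codRestrict (adele k K) (LinearMap.single k (fun _ : Place k K => K) P) (fun x => by
    rw [FF.mem_adele_iff]
    refine (Set.finite_singleton P).subset ?_
    intro Q hQ
    by_contra hne
    apply hQ
    have hne' : Q ≠ P := fun h => hne (by rw [h]; exact Set.mem_singleton P)
    have : (LinearMap.single k (fun _ : Place k K => K) P x) Q = 0 := by
      show (Pi.single P x : Place k K → K) Q = 0
      rw [Pi.single_apply, if_neg hne']
    rw [this, map_zero]
    exact zero_le)

omit [IsAlgClosed k] in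
open scoped Classical in
theorem iota_apply (P Q : Place k K) (x : K) :
    (iota P x : Place k K → K) Q = if Q = P then x else 0 := by
  change (Pi.single P x : Place k K → K) Q = _
  rw [Pi.single_apply]

/-- the projection to the `P`-component -/
def prj (P : Place k K) : ↥(adele k K) →ₗ[k] K := LinearMap.proj P ∘ₗ (adele k K).subtype

omit [IsAlgClosed k] in
theorem prj_apply (P : Place k K) (a : ↥(adele k K)) : prj P a = (a : Place k K → K) P := rfl

/-- the local operator -/
noncomputable def thetaL (f g : K) (P : Place k K) : K →ₗ[k] K :=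
  comm (piL hK P) (Algebra.lmul k K g) ∘ₗ Algebra.lmul k K f

/-- the global operator -/
noncomputable def thetaG (f g : K) : ↥(adele k K) →ₗ[k] ↥(adele k K) :=
  comm (piG hK) (rhoG hK g) ∘ₗ rhoG hK f

theorem thetaG_apply (f g : K) (a : ↥(adele k K)) (P : Place k K) :
    (thetaG hK f g a : Place k K → K) P = thetaL hK f g P ((a : Place k K → K) P) := rfl

theorem dG_res_eq (f g : K) : (dG hK).res f g = fpTr (thetaG hK f g) := rfl

theorem dL_res_eq (f g : K) (P : Place k K) : (dL hK P).res f g = fpTr (thetaL hK f g P) := rfl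

theorem inF_thetaL (f g : K) (P : Place k K) : InF (OP P) (thetaL hK f g P) :=
  (dL hK P).hπ.theta_inF ((dL hK P).hρ f) ((dL hK P).hρ g)

theorem inF_thetaG (f g : K) : InF (AG (k := k) (K := K)) (thetaG hK f g) :=
  (dG hK).hπ.theta_inF ((dG hK).hρ f) ((dG hK).hρ g)

theorem inF_piece (f g : K) (P : Place k K) :
    InF (AG (k := k) (K := K)) (iota P ∘ₗ thetaL hK f g P ∘ₗ prj P) := by
  classical
  obtain ⟨W₁, W₂, hW₁, hW₂, h1, h2⟩ := inF_thetaL hK f g P
  refine ⟨W₁.map (iota P), W₂.map (iota P), inferInstance, inferInstance, ?_, ?_⟩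
  · rintro _ ⟨a, rfl⟩
    rw [LinearMap.comp_apply, LinearMap.comp_apply]
    obtain ⟨o, ho, w, hw, how⟩ := Submodule.mem_sup.mp (h1 ⟨prj P a, rfl⟩)
    rw [← how, map_add]
    refine Submodule.add_mem _ (Submodule.mem_sup_left ?_) (Submodule.mem_sup_right ⟨w, hw, rfl⟩)
    rw [mem_AG]
    intro Q
    rw [iota_apply]
    split_ifs with h
    · rw [h]; exact ho
    · rw [map_zero]; exact zero_le
  · rintro _ ⟨a, ha, rfl⟩
    rw [SetLike.mem_coe, mem_AG] at ha
    rw [LinearMap.comp_apply, LinearMap.comp_apply]
    exact ⟨_, h2 ⟨prj P a, ha P, rfl⟩, rfl⟩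

theorem fpTr_piece (f g : K) (P : Place k K) :
    fpTr (iota P ∘ₗ thetaL hK f g P ∘ₗ prj P) = fpTr (thetaL hK f g P) := by
  have h1 : (thetaL hK f g P ∘ₗ prj P) ∘ₗ iota P = thetaL hK f g P := by
    apply LinearMap.ext
    intro x
    rw [LinearMap.comp_apply, LinearMap.comp_apply, prj_apply, iota_apply, if_pos rfl]
  have hcore : IsCore ((thetaL hK f g P ∘ₗ prj P) ∘ₗ iota P)
      (core₂ (thetaL hK f g P) (thetaL hK f g P)) := by
    rw [h1]
    exact (inF_thetaL hK f g P).isCore
  rw [fpTr_comm (iota P) (thetaL hK f g P ∘ₗ prj P) hcore, h1]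

/-- **the global residue is the sum of the local residues** -/
theorem dG_res_eq_sum (f g : K) (S : Finset (Place k K))
    (hS : ∀ P ∉ S, P.1 f ≤ 1 ∧ P.1 g ≤ 1) :
    (dG hK).res f g = ∑ P ∈ S, (dL hK P).res f g := by
  classical
  obtain ⟨hsumInF, hsum⟩ := fpTr_sum (A := AG (k := k) (K := K)) S
    (θ := fun P => iota P ∘ₗ thetaL hK f g P ∘ₗ prj P) (fun P _ => inF_piece hK f g P)
  set Sp : ↥(adele k K) →ₗ[k] ↥(adele k K) :=
    ∑ P ∈ S, iota P ∘ₗ thetaL hK f g P ∘ₗ prj P with hSp
  have hSp_apply : ∀ (a : ↥(adele k K)) (Q : Place k K), (Sp a : Place k K → K) Q =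
      if Q ∈ S then thetaL hK f g Q ((a : Place k K → K) Q) else 0 := by
    intro a Q
    rw [hSp, LinearMap.sum_apply, Submodule.coe_sum, Finset.sum_apply]
    have : ∀ P ∈ S, ((iota P ∘ₗ thetaL hK f g P ∘ₗ prj P) a : Place k K → K) Q =
        if Q = P then thetaL hK f g Q ((a : Place k K → K) Q) else 0 := by
      intro P _
      rw [LinearMap.comp_apply, LinearMap.comp_apply, iota_apply, prj_apply]
      split_ifs with h
      · rw [h]
      · rfl
    rw [Finset.sum_congr rfl this, Finset.sum_ite_eq]
  set rest : ↥(adele k K) →ₗ[k] ↥(adele k K) := thetaG hK f g - Sp with hrest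
  have hrest_apply : ∀ (a : ↥(adele k K)) (Q : Place k K), (rest a : Place k K → K) Q =
      if Q ∈ S then 0 else thetaL hK f g Q ((a : Place k K → K) Q) := by
    intro a Q
    rw [hrest, LinearMap.sub_apply, Submodule.coe_sub, Pi.sub_apply, hSp_apply, thetaG_apply]
    split_ifs
    · rw [sub_self]
    · rw [sub_zero]
  have hrest_sq : rest ^ 2 = 0 := by
    apply LinearMap.ext
    intro a
    apply Subtype.ext
    funext Q
    rw [pow_two, Module.End.mul_apply, hrest_apply]
    split_ifs with hQ
    · rfl
    · rw [hrest_apply, if_neg hQ]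
      obtain ⟨hf, hg⟩ := hS Q hQ
      exact theta_eq_zero hK Q (htP Q) hf hg (theta_mem hK Q (htP Q) hg _)
  have hdecomp : thetaG hK f g = Sp + rest := by rw [hrest]; abel
  rw [dG_res_eq, hdecomp, fpTr_add hsumInF ((inF_thetaG hK f g).sub hsumInF),
    fpTr_eq_zero_of_pow hrest_sq, add_zero, hsum]
  apply Finset.sum_congr rfl
  intro P _
  rw [fpTr_piece, dL_res_eq]

/-- **the residue theorem** -/
theorem sum_res_eq_zero (f g : K) (S : Finset (Place k K))
    (hS : ∀ P ∉ S, P.1 f ≤ 1 ∧ P.1 g ≤ 1) : ∑ P ∈ S, (dL hK P).res f g = 0 := by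
  rw [← dG_res_eq_sum hK f g S hS, dG_res_eq_zero]

end glob

end Groth.Agent.Lib.helper16.FRG
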