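import Groth.Agent.Lib.helper16.FResOmega
import Groth.Agent.Lib.helper16.FHasseLoc

/-! Helper library (helper16): the local residue at a place via Tate's construction
(algebraically closed constant field). -/

set_option autoImplicit false

namespace Groth.Agent.Lib.helper16.FRL

open FunFld WithZero LocRes Module
open Groth.Agent.Lib.helper16
open Groth.Agent.Lib.helper16.FPT
open Groth.Agent.Lib.helper16.FHL

universe u v

variable {k : Type u} {K : Type v} [Field k] [Field K] [Algebra k K]

/-- a rank one operator has trace its value -/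
theorem fpTr_smulRight {V : Type*} [AddCommGroup V] [Module k V] (l : V →ₗ[k] k) (v : V) :
    fpTr (l.smulRight v) = l v := by
  set W : Submodule k V := Submodule.span k {v} with hW
  have hst : ∀ x ∈ W, (l.smulRight v) x ∈ W := by
    intro x _
    rw [LinearMap.smulRight_apply]
    exact Submodule.smul_mem _ _ (Submodule.mem_span_singleton_self v)
  have hcore : IsCore (l.smulRight v) W := by
    refine ⟨inferInstance, hst, 1, ?_⟩
    rintro _ ⟨x, rfl⟩
    rw [pow_one, LinearMap.smulRight_apply]
    exact Submodule.smul_mem _ _ (Submodule.mem_span_singleton_self v)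
  rw [fpTr_eq hcore]
  unfold trOn
  have h1 : (l.smulRight v).restrict hst =
      (l ∘ₗ W.subtype).smulRight (⟨v, Submodule.mem_span_singleton_self v⟩ : W) := by
    apply LinearMap.ext
    intro x
    apply Subtype.ext
    rfl
  rw [h1, LinearMap.trace_smulRight]
  rfl

/-- the valuation ring as a `k`-subspace -/
def OP (P : Place k K) : Submodule k K where
  carrier := {z | P.1 z ≤ 1}
  add_mem' {x y} hx hy := (P.1.map_add x y).trans (max_le hx hy)
  zero_mem' := by simp
  smul_mem' c x hx := by
    change P.1 (c • x) ≤ 1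
    rw [Algebra.smul_def, map_mul]
    exact (mul_le_mul' (P.2.1 c) hx).trans_eq (one_mul _)

theorem mem_OP {P : Place k K} {z : K} : z ∈ OP P ↔ P.1 z ≤ 1 := Iff.rfl

section loc

variable [IsAlgClosed k] (hK : IsFunctionField k K) (P : Place k K) {t : K}
  (ht : P.1 t = exp (-1))

include hK

/-- the general coefficient functional -/
noncomputable def cfZ (n : ℤ) : K →ₗ[k] k where
  toFun z := (Φ hK P ht z).coeff n
  map_add' a b := by rw [map_add, HahnSeries.coeff_add]
  map_smul' c a := by
    rw [RingHom.id_apply, Algebra.smul_def, map_mul, LocRes.map_algebraMap,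
      HahnSeries.C_mul_eq_smul, HahnSeries.coeff_smul, Algebra.algebraMap_self, RingHom.id_apply]

theorem cfZ_apply (n : ℤ) (z : K) : cfZ hK P ht n z = (Φ hK P ht z).coeff n := rfl

theorem Φ_tinv_pow (n : ℕ) : Φ hK P ht ((t⁻¹) ^ n) = HahnSeries.single (-(n : ℤ)) 1 := by
  have ht0 : t ≠ 0 := by
    rintro rfl
    rw [map_zero] at ht
    exact (exp_ne_zero).symm ht
  have hne : (HahnSeries.single (n : ℤ) (1 : k) : LaurentSeries k) ≠ 0 := by
    intro h
    have := congrArg (fun s => HahnSeries.coeff s (n : ℤ)) h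
    simp at this
  apply mul_right_cancel₀ hne
  have h1 : (HahnSeries.single (n : ℤ) (1 : k) : LaurentSeries k) = Φ hK P ht (t ^ n) := by
    rw [map_pow, Φ_t, HahnSeries.single_pow, one_pow, nsmul_eq_mul, mul_one]
  rw [HahnSeries.single_mul_single, neg_add_cancel, mul_one]
  rw [h1, ← map_mul, ← mul_pow, inv_mul_cancel₀ ht0, one_pow, map_one]
  rfl

theorem proj_unique {y y' : K} (hy : P.1 y ≤ 1) (hy' : P.1 y' ≤ 1)
    (h : ∀ j, cf hK P ht j y = cf hK P ht j y') : y = y' := by
  have h1 : P.1 (y - y') ≤ 1 := (Valuation.map_sub P.1 _ _).trans (max_le hy hy')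
  have h2 := eq_zero_of_cf hK P ht h1 (fun j => by rw [map_sub, h j, sub_self])
  exact sub_eq_zero.mp h2

/-- the span of the first `M` negative powers of `t` -/
def Wneg (t : K) (M : ℕ) : Submodule k K :=
  Submodule.span k ((fun j : ℕ => (t⁻¹) ^ (j + 1)) '' Set.Iio M)

omit hK [IsAlgClosed k] in
theorem finiteDimensional_Wneg (t : K) (M : ℕ) : FiniteDimensional k (Wneg (k := k) t M) :=
  FiniteDimensional.span_of_finite k ((Set.finite_Iio M).image _)

omit hK [IsAlgClosed k] in
theorem Wneg_mono (t : K) {M N : ℕ} (h : M ≤ N) : Wneg (k := k) t M ≤ Wneg t N :=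
  Submodule.span_mono (Set.image_mono (Set.Iio_subset_Iio h))

theorem exists_proj_aux (M : ℕ) : ∀ z : K, P.1 z ≤ exp (M : ℤ) →
    ∃ y, P.1 y ≤ 1 ∧ (∀ j, cf hK P ht j y = cf hK P ht j z) ∧ z - y ∈ Wneg (k := k) t M := by
  induction M with
  | zero =>
    intro z hz
    refine ⟨z, by simpa using hz, fun _ => rfl, ?_⟩
    rw [sub_self]
    exact Submodule.zero_mem _
  | succ M ih =>
    intro z hz
    set c : k := (Φ hK P ht z).coeff (-((M + 1 : ℕ) : ℤ)) with hc
    set z' : K := z - c • (t⁻¹) ^ (M + 1) with hz'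
    have hΦz' : Φ hK P ht z' = Φ hK P ht z - c • HahnSeries.single (-((M + 1 : ℕ) : ℤ)) 1 := by
      rw [hz', map_sub, Algebra.smul_def, map_mul, LocRes.map_algebraMap, Φ_tinv_pow,
        HahnSeries.C_mul_eq_smul, Algebra.algebraMap_self, RingHom.id_apply]
    have h1 : P.1 z' ≤ exp (M : ℤ) := by
      rw [← val_Φ hK P ht]
      have : (M : ℤ) = -(-(M : ℤ)) := by ring
      rw [this, LaurentSeries.valuation_le_iff_coeff_lt_eq_zero k]
      intro n hn
      rw [hΦz', HahnSeries.coeff_sub, HahnSeries.coeff_smul]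
      by_cases hn1 : n = -((M + 1 : ℕ) : ℤ)
      · rw [hn1, HahnSeries.coeff_single_same, smul_eq_mul, mul_one, ← hc, sub_self]
      · rw [HahnSeries.coeff_single_of_ne hn1, smul_zero, sub_zero]
        have h2 : Valued.v (Φ hK P ht z) ≤ exp (-(-((M + 1 : ℕ) : ℤ))) := by
          rw [val_Φ, neg_neg]; exact hz
        refine (LaurentSeries.valuation_le_iff_coeff_lt_eq_zero k).mp h2 n ?_
        push_cast at hn1 ⊢
        omega
    obtain ⟨y, hy1, hy2, hy3⟩ := ih z' h1
    refine ⟨y, hy1, fun j => ?_, ?_⟩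
    · rw [hy2 j, cf_apply, cf_apply, hΦz', HahnSeries.coeff_sub, HahnSeries.coeff_smul,
        HahnSeries.coeff_single_of_ne, smul_zero, sub_zero]
      push_cast
      omega
    · have h3 : z - y = (z' - y) + c • (t⁻¹) ^ (M + 1) := by rw [hz']; ring
      rw [h3]
      refine Submodule.add_mem _ (Wneg_mono t (Nat.le_succ M) hy3) ?_
      refine Submodule.smul_mem _ _ (Submodule.subset_span ⟨M, ?_, rfl⟩)
      exact Set.mem_Iio.mpr (Nat.lt_succ_self M)

omit [IsAlgClosed k] hK in
theorem exists_nat_val_le (z : K) : ∃ M : ℕ, P.1 z ≤ exp (M : ℤ) := by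
  by_cases hz : z = 0
  · exact ⟨0, by rw [hz, map_zero]; exact zero_le⟩
  · refine ⟨(-P.ord z).toNat, ?_⟩
    rw [FF.val_le_exp_iff P hz]
    have := Int.self_le_toNat (-P.ord z)
    omega

theorem exists_proj (z : K) :
    ∃ y, P.1 y ≤ 1 ∧ ∀ j, cf hK P ht j y = cf hK P ht j z := by
  obtain ⟨M, hM⟩ := exists_nat_val_le P z
  obtain ⟨y, h1, h2, -⟩ := exists_proj_aux hK P ht M z hM
  exact ⟨y, h1, h2⟩

/-- the projection onto the valuation ring along the negative powers of `t` -/
noncomputable def piP : K →ₗ[k] K where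
  toFun z := Classical.choose (exists_proj hK P ht z)
  map_add' a b := by
    have ha := Classical.choose_spec (exists_proj hK P ht a)
    have hb := Classical.choose_spec (exists_proj hK P ht b)
    have hab := Classical.choose_spec (exists_proj hK P ht (a + b))
    apply proj_unique hK P ht hab.1 ((P.1.map_add _ _).trans (max_le ha.1 hb.1))
    intro j
    rw [hab.2 j, map_add, map_add, ha.2 j, hb.2 j]
  map_smul' c a := by
    have ha := Classical.choose_spec (exists_proj hK P ht a)
    have hca := Classical.choose_spec (exists_proj hK P ht (c • a))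
    rw [RingHom.id_apply]
    apply proj_unique hK P ht hca.1 ((OP P).smul_mem c ha.1)
    intro j
    rw [hca.2 j, map_smul, map_smul, ha.2 j]

theorem val_piP (z : K) : P.1 (piP hK P ht z) ≤ 1 :=
  (Classical.choose_spec (exists_proj hK P ht z)).1

theorem cf_piP (j : ℕ) (z : K) : cf hK P ht j (piP hK P ht z) = cf hK P ht j z :=
  (Classical.choose_spec (exists_proj hK P ht z)).2 j

theorem piP_of_le {z : K} (hz : P.1 z ≤ 1) : piP hK P ht z = z :=
  proj_unique hK P ht (val_piP hK P ht z) hz (fun j => cf_piP hK P ht j z)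

omit [IsAlgClosed k] hK in
include ht in
theorem val_t_le : P.1 t ≤ 1 := by
  rw [ht, ← exp_zero, exp_le_exp]; omega

/-- the key identity `[π, t] w = c₋₁(w)` -/
theorem piP_t_mul (w : K) :
    piP hK P ht (t * w) - t * piP hK P ht w =
      algebraMap k K ((Φ hK P ht w).coeff (-1)) := by
  rw [sub_eq_iff_eq_add]
  have h1 : P.1 (t * piP hK P ht w) ≤ 1 := by
    rw [map_mul]
    exact mul_le_one' (val_t_le P ht) (val_piP hK P ht w)
  apply proj_unique hK P ht (val_piP hK P ht _)
    ((P.1.map_add _ _).trans (max_le (FF.val_algebraMap_le P _) h1))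
  intro j
  rw [cf_piP, map_add, cf_apply, cf_apply, cf_apply, map_mul, map_mul, Φ_t, AlgHom.commutes]
  have hC : ((algebraMap k (LaurentSeries k)) ((Φ hK P ht w).coeff (-1))).coeff (j : ℤ) =
      if j = 0 then (Φ hK P ht w).coeff (-1) else 0 := by
    rw [HahnSeries.algebraMap_apply', PowerSeries.algebraMap_apply, HahnSeries.ofPowerSeries_C,
      Algebra.algebraMap_self, RingHom.id_apply, HahnSeries.C_apply, HahnSeries.coeff_single]
    simp
  rw [hC]
  have hj : (j : ℤ) = ((j : ℤ) - 1) + 1 := by ring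
  rw [hj, HahnSeries.coeff_single_mul_add, HahnSeries.coeff_single_mul_add, one_mul, one_mul]
  by_cases hj0 : j = 0
  · subst hj0
    rw [if_pos rfl]
    have : ((0 : ℕ) : ℤ) - 1 = -1 := by norm_num
    rw [this, coeff_neg_eq_zero hK P ht (val_piP hK P ht w) (by norm_num), add_zero]
  · rw [if_neg hj0, zero_add]
    obtain ⟨i, rfl⟩ := Nat.exists_eq_succ_of_ne_zero hj0
    have : ((i.succ : ℕ) : ℤ) - 1 = (i : ℤ) := by push_cast; ring
    rw [this, ← cf_apply, ← cf_apply, cf_piP]

omit hK [IsAlgClosed k] in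
theorem lmul_apply (f a : K) : Algebra.lmul k K f a = f * a := rfl

include ht in
/-- multiplication operators almost preserve the valuation ring -/
theorem nearStab_lmul (f : K) : NearStab (OP P) (Algebra.lmul k K f) := by
  obtain ⟨M, hM⟩ := exists_nat_val_le P f
  refine ⟨Wneg t M, finiteDimensional_Wneg t M, ?_⟩
  rintro _ ⟨a, ha, rfl⟩
  have h1 : P.1 (f * a) ≤ exp (M : ℤ) := by
    rw [map_mul]
    calc P.1 f * P.1 a ≤ exp (M : ℤ) * 1 := mul_le_mul' hM ha
      _ = exp (M : ℤ) := mul_one _
  obtain ⟨y, hy1, -, hy3⟩ := exists_proj_aux hK P ht M (f * a) h1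
  have h2 : (Algebra.lmul k K f) a = y + (f * a - y) := by
    rw [lmul_apply]; ring
  rw [h2]
  exact Submodule.add_mem _ (Submodule.mem_sup_left hy1) (Submodule.mem_sup_right hy3)

/-- the local residue data at `P` -/
noncomputable def dloc : ResData k K K where
  A := OP P
  π := piP hK P ht
  ρ := Algebra.lmul k K
  hπ := AlmostProj.of_proj (fun x => val_piP hK P ht x) (fun _ ha => piP_of_le hK P ht ha)
  hρ := fun f => nearStab_lmul hK P ht f

/-- the local operator `[π, g] f` -/
theorem theta_apply (f g w : K) :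
    (comm (piP hK P ht) (Algebra.lmul k K g) ∘ₗ Algebra.lmul k K f) w =
      piP hK P ht (g * (f * w)) - g * piP hK P ht (f * w) := rfl

theorem theta_t_eq (h : K) :
    comm (piP hK P ht) (Algebra.lmul k K t) ∘ₗ Algebra.lmul k K h =
      ((cfZ hK P ht (-1)) ∘ₗ Algebra.lmul k K h).smulRight (1 : K) := by
  apply LinearMap.ext
  intro w
  rw [theta_apply, piP_t_mul, LinearMap.smulRight_apply, LinearMap.comp_apply, cfZ_apply,
    lmul_apply, Algebra.smul_def, mul_one]

/-- the local residue of `h dt` is the coefficient `c₋₁(h)` -/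
theorem dloc_res_t (h : K) : (dloc hK P ht).res h t = (Φ hK P ht h).coeff (-1) := by
  unfold ResData.res absRes
  change fpTr (comm (piP hK P ht) (Algebra.lmul k K t) ∘ₗ Algebra.lmul k K h) = _
  rw [theta_t_eq, fpTr_smulRight, LinearMap.comp_apply, cfZ_apply, lmul_apply, mul_one]

/-- the residue of a differential regular at `P` vanishes -/
theorem dloc_res_eq_zero {f g u : K}
    (h : KaehlerDifferential.D k K g = u • KaehlerDifferential.D k K t)
    (hu : P.1 (u * f) ≤ 1) : (dloc hK P ht).res f g = 0 := by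
  rw [ResData.res_eq_of_kaehler _ h, dloc_res_t]
  exact coeff_neg_eq_zero hK P ht hu (by norm_num)

/-- a differential with a simple pole and residue one -/
theorem dloc_res_eq_one {g u : K}
    (h : KaehlerDifferential.D k K g = u • KaehlerDifferential.D k K t) (hu : u ≠ 0) :
    (dloc hK P ht).res (u⁻¹ * t⁻¹) g = 1 := by
  rw [ResData.res_eq_of_kaehler _ h, dloc_res_t, ← mul_assoc, mul_inv_cancel₀ hu, one_mul]
  have := Φ_tinv_pow hK P ht 1
  rw [pow_one] at this
  rw [this]
  simp

/-- for integral `f`, `g` the local operator maps into the valuation ring -/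
theorem theta_mem {f g : K} (hg : P.1 g ≤ 1) (w : K) :
    P.1 ((comm (piP hK P ht) (Algebra.lmul k K g) ∘ₗ Algebra.lmul k K f) w) ≤ 1 := by
  rw [theta_apply]
  refine (Valuation.map_sub P.1 _ _).trans (max_le (val_piP hK P ht _) ?_)
  rw [map_mul]
  exact mul_le_one' hg (val_piP hK P ht _)

/-- for integral `f`, `g` the local operator kills the valuation ring -/
theorem theta_eq_zero {f g : K} (hf : P.1 f ≤ 1) (hg : P.1 g ≤ 1) {w : K} (hw : P.1 w ≤ 1) :
    (comm (piP hK P ht) (Algebra.lmul k K g) ∘ₗ Algebra.lmul k K f) w = 0 := by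
  rw [theta_apply]
  have h1 : P.1 (f * w) ≤ 1 := by rw [map_mul]; exact mul_le_one' hf hw
  have h2 : P.1 (g * (f * w)) ≤ 1 := by rw [map_mul]; exact mul_le_one' hg h1
  rw [piP_of_le hK P ht h1, piP_of_le hK P ht h2, sub_self]

end loc

end Groth.Agent.Lib.helper16.FRL
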