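import Groth.Agent.Lib.helper16.FAbsRes

/-! Helper library (helper16): abstract residues factor through Kähler differentials. -/

set_option autoImplicit false

namespace Groth.Agent.Lib.helper16.FPT

open Module

universe u v w

/-- functionals on `K`, as a `K`-module by precomposition with multiplication -/
def Fn (k : Type u) (K : Type v) [Field k] [CommRing K] [Algebra k K] : Type (max u v) :=
  K →ₗ[k] k

section fn

variable {k : Type u} {K : Type v} [Field k] [CommRing K] [Algebra k K]

instance : AddCommGroup (Fn k K) := inferInstanceAs (AddCommGroup (K →ₗ[k] k))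

instance : Module k (Fn k K) := inferInstanceAs (Module k (K →ₗ[k] k))

/-- evaluation -/
def Fn.ev (l : Fn k K) (f : K) : k := (show K →ₗ[k] k from l) f

/-- constructor -/
def Fn.mk (l : K →ₗ[k] k) : Fn k K := l

@[simp] theorem Fn.ev_mk (l : K →ₗ[k] k) (f : K) : (Fn.mk l).ev f = l f := rfl

theorem Fn.ext {l l' : Fn k K} (h : ∀ f, l.ev f = l'.ev f) : l = l' :=
  LinearMap.ext h

@[simp] theorem Fn.ev_add (l l' : Fn k K) (f : K) : (l + l').ev f = l.ev f + l'.ev f := rfl

@[simp] theorem Fn.ev_zero (f : K) : (0 : Fn k K).ev f = 0 := rfl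

@[simp] theorem Fn.ev_smul_base (c : k) (l : Fn k K) (f : K) : (c • l).ev f = c * l.ev f := rfl

instance : SMul K (Fn k K) :=
  ⟨fun h l => Fn.mk ((show K →ₗ[k] k from l).comp (LinearMap.mulLeft k h))⟩

@[simp] theorem Fn.ev_smul (h : K) (l : Fn k K) (f : K) : (h • l).ev f = l.ev (h * f) := rfl

instance : Module K (Fn k K) where
  one_smul l := Fn.ext fun f => by rw [Fn.ev_smul, one_mul]
  mul_smul a b l := Fn.ext fun f => by
    rw [Fn.ev_smul, Fn.ev_smul, Fn.ev_smul, mul_comm a b, mul_assoc]
  smul_zero a := Fn.ext fun f => by rw [Fn.ev_smul, Fn.ev_zero, Fn.ev_zero]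
  smul_add a l l' := Fn.ext fun f => by
    rw [Fn.ev_smul, Fn.ev_add, Fn.ev_add, Fn.ev_smul, Fn.ev_smul]
  add_smul a b l := Fn.ext fun f => by
    rw [Fn.ev_smul, Fn.ev_add, Fn.ev_smul, Fn.ev_smul, add_mul]
    exact map_add (show K →ₗ[k] k from l) _ _
  zero_smul l := Fn.ext fun f => by
    rw [Fn.ev_smul, zero_mul, Fn.ev_zero]
    exact map_zero (show K →ₗ[k] k from l)

instance : IsScalarTower k K (Fn k K) :=
  ⟨fun c h l => Fn.ext fun f => by
    rw [Fn.ev_smul, Fn.ev_smul_base, Fn.ev_smul, smul_mul_assoc]
    exact map_smul (show K →ₗ[k] k from l) c _⟩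

end fn

section data

variable (k : Type u) (K : Type v) (V : Type w) [Field k] [Field K] [Algebra k K]
  [AddCommGroup V] [Module k V]

/-- the data defining an abstract residue on `K` -/
structure ResData where
  /-- the subspace -/
  A : Submodule k V
  /-- the almost projection -/
  π : V →ₗ[k] V
  /-- the action -/
  ρ : K →ₐ[k] Module.End k V
  hπ : AlmostProj A π
  hρ : ∀ f, NearStab A (ρ f)

end data

section res

variable {k : Type u} {K : Type v} {V : Type w} [Field k] [Field K] [Algebra k K]
  [AddCommGroup V] [Module k V] (d : ResData k K V)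

/-- the residue of `f dg` -/
noncomputable def ResData.res (f g : K) : k := absRes d.π (d.ρ f) (d.ρ g)

theorem ResData.comm_ρ (f g : K) : d.ρ f ∘ₗ d.ρ g = d.ρ g ∘ₗ d.ρ f := by
  rw [← Module.End.mul_eq_comp, ← Module.End.mul_eq_comp, ← map_mul, ← map_mul, mul_comm]

theorem ResData.res_add_left (f₁ f₂ g : K) : d.res (f₁ + f₂) g = d.res f₁ g + d.res f₂ g := by
  unfold ResData.res
  rw [map_add, absRes_add_left d.hπ (d.hρ f₁) (d.hρ f₂) (d.hρ g)]

theorem ResData.res_smul_left (c : k) (f g : K) : d.res (c • f) g = c * d.res f g := by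
  unfold ResData.res
  rw [map_smul, absRes_smul_left d.hπ (d.hρ f) (d.hρ g)]

theorem ResData.res_add_right (f g₁ g₂ : K) : d.res f (g₁ + g₂) = d.res f g₁ + d.res f g₂ := by
  unfold ResData.res
  rw [map_add, absRes_add_right d.hπ (d.hρ f) (d.hρ g₁) (d.hρ g₂)]

theorem ResData.res_smul_right (c : k) (f g : K) : d.res f (c • g) = c * d.res f g := by
  unfold ResData.res
  rw [map_smul, absRes_smul_right d.hπ (d.hρ f) (d.hρ g)]

theorem ResData.res_mul_right (f g h : K) :
    d.res f (g * h) = d.res (f * g) h + d.res (f * h) g := by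
  unfold ResData.res
  rw [map_mul, map_mul, map_mul, Module.End.mul_eq_comp, Module.End.mul_eq_comp,
    Module.End.mul_eq_comp,
    absRes_mul_right d.hπ (d.hρ f) (d.hρ g) (d.hρ h) (d.comm_ρ f h)]

theorem ResData.res_one_right (f : K) : d.res f 1 = 0 := by
  unfold ResData.res absRes
  have : comm d.π (d.ρ 1) = 0 := by
    rw [map_one]
    unfold comm
    apply LinearMap.ext
    intro x
    simp
  rw [this, LinearMap.zero_comp]
  exact fpTr_eq_zero_of_pow (n := 1) (by simp)

/-- the residue as a functional of `f` -/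
noncomputable def ResData.resL (g : K) : K →ₗ[k] k where
  toFun f := d.res f g
  map_add' f₁ f₂ := d.res_add_left f₁ f₂ g
  map_smul' c f := by
    rw [RingHom.id_apply, smul_eq_mul]
    exact d.res_smul_left c f g

/-- the residue as a derivation into functionals -/
noncomputable def ResData.der : Derivation k K (Fn k K) where
  toFun g := Fn.mk (d.resL g)
  map_add' g₁ g₂ := Fn.ext fun f => d.res_add_right f g₁ g₂
  map_smul' c g := Fn.ext fun f => by
    rw [RingHom.id_apply, Fn.ev_smul_base]
    exact d.res_smul_right c f g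
  map_one_eq_zero' := Fn.ext fun f => d.res_one_right f
  leibniz' g h := Fn.ext fun f => by
    show d.res f (g * h) = _
    rw [Fn.ev_add, Fn.ev_smul, Fn.ev_smul]
    show _ = d.res (g * f) h + d.res (h * f) g
    rw [d.res_mul_right, mul_comm f g, mul_comm f h]

theorem ResData.der_ev (g f : K) : (d.der g).ev f = d.res f g := rfl

/-- residues factor through Kähler differentials -/
theorem ResData.res_eq_of_kaehler {g t u : K}
    (h : KaehlerDifferential.D k K g = u • KaehlerDifferential.D k K t) (f : K) :
    d.res f g = d.res (u * f) t := by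
  have h1 := congrArg d.der.liftKaehlerDifferential h
  rw [map_smul, Derivation.liftKaehlerDifferential_comp_D,
    Derivation.liftKaehlerDifferential_comp_D] at h1
  have h2 := congrArg (fun l => Fn.ev l f) h1
  simp only [Fn.ev_smul, ResData.der_ev] at h2
  exact h2

end res

end Groth.Agent.Lib.helper16.FPT
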