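import Groth.Agent.Lib.helper16.FResCompare
import Groth.Agent.Lib.helper16.FFFibre

/-! Helper library (helper16): the residue theorem through Laurent expansions over an arbitrary
constant field (S12579). -/

set_option autoImplicit false

namespace Groth.Agent.Lib.helper16.FRTh

open FunFld WithZero LocRes Module
open Groth.Agent.Lib.helper16
open scoped LaurentSeries

universe u v w

variable {k : Type u} {K : Type v} [Field k] [Field K] [Algebra k K]

theorem finite_poles (hK : IsFunctionField k K) (x : K) : {P : Place k K | 1 < P.1 x}.Finite := by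
  by_cases hx0 : x = 0
  · rw [hx0]
    convert Set.finite_empty
    ext P
    simp
  · have h1 := FF.zeros_finite_of_ne_zero hK (inv_ne_zero hx0)
    apply h1.subset
    intro P hP
    show P.1 x⁻¹ < 1
    rw [map_inv₀]
    exact inv_lt_one_of_one_lt₀ hP

variable (hK : IsFunctionField k K)
  (F : Place k K → Type w) [∀ P, Field (F P)] [∀ P, Algebra k (F P)]
  [∀ P, FiniteDimensional k (F P)]
  (φ : ∀ P, K →ₐ[k] LaurentSeries (F P)) (hφ : ∀ P, IsExpansionAt P.1 (φ P))

include hK hφ in
/-- the local residues of `u dv` vanish outside the poles of `u` and `v` -/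
theorem locRes_eq_zero_of_le {P : Place k K} {u v : K} (hu : P.1 u ≤ 1) (hv : P.1 v ≤ 1) :
    locRes (φ P) u v = 0 := by
  rw [← FRCm.dloc_res_eq_locRes hK (hφ P), FRN.dloc_res_eq_zero_of_le hK P hu hv]

include hK hφ in
/-- **the residue theorem** (S12579) -/
theorem sum_locRes_eq_zero (u v : K) :
    (Function.support fun P => locRes (φ P) u v).Finite ∧ ∑ᶠ P, locRes (φ P) u v = 0 := by
  classical
  have hS : ({P : Place k K | 1 < P.1 u} ∪ {P : Place k K | 1 < P.1 v}).Finite :=
    (finite_poles hK u).union (finite_poles hK v)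
  have hsub : (Function.support fun P => locRes (φ P) u v) ⊆
      {P : Place k K | 1 < P.1 u} ∪ {P : Place k K | 1 < P.1 v} := by
    intro P hP
    by_contra hcon
    rw [Set.mem_union, not_or] at hcon
    apply hP
    exact locRes_eq_zero_of_le hK F φ hφ (not_lt.mp hcon.1) (not_lt.mp hcon.2)
  refine ⟨hS.subset hsub, ?_⟩
  have hsub' : (Function.support fun P => locRes (φ P) u v) ⊆ ↑hS.toFinset := by
    rw [Set.Finite.coe_toFinset]
    exact hsub
  rw [finsum_eq_sum_of_support_subset _ hsub']
  have h1 := FRN.sum_res_eq_zero hK u v hS.toFinset (by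
    intro P hP
    rw [Set.Finite.mem_toFinset, Set.mem_union, not_or] at hP
    exact ⟨not_lt.mp hP.1, not_lt.mp hP.2⟩)
  rw [← h1]
  apply Finset.sum_congr rfl
  intro P _
  exact (FRCm.dloc_res_eq_locRes hK (hφ P) u v).symm

end Groth.Agent.Lib.helper16.FRTh
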