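import Groth.Agent.Lib.helper16.FFWeil
import Groth.Agent.Lib.helper16.FFRam
import Groth.Agent.Lib.helper16.FFFibre
import Groth.Prelude.Def_W4bk4goldsch45

/-! Helper library (helper16): finiteness of the class group and the number of effective divisors
over a finite constant field (S11037). -/

set_option autoImplicit false

namespace Groth.Agent.Lib.helper16.FZ

open FunFld WithZero Module Polynomial
open Groth.Agent.Lib.helper16

variable {k K : Type*} [Field k] [Field K] [Algebra k K]

theorem degHom_apply (D : Divisor k K) : FunFld.degHom k K D = D.deg := by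
  unfold FunFld.degHom Divisor.deg
  rw [Finsupp.liftAddHom_apply]
  rfl

/-- principal divisors are the divisors of nonzero functions -/
theorem mem_prinDivs_iff (hK : IsFunctionField k K) (D : Divisor k K) :
    D ∈ prinDivs k K ↔ ∃ x : K, x ≠ 0 ∧ D = FunFld.div k x := by
  constructor
  · intro h
    unfold prinDivs at h
    induction h using AddSubgroup.closure_induction with
    | mem D hD =>
      obtain ⟨x, rfl⟩ := hD
      by_cases hx : x = 0
      · refine ⟨1, one_ne_zero, ?_⟩
        rw [hx]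
        ext P
        rw [FF.div_apply hK, FF.div_apply hK, FF.ord_zero, FF.ord_one]
      · exact ⟨x, hx, rfl⟩
    | zero =>
      refine ⟨1, one_ne_zero, ?_⟩
      ext P
      rw [FF.div_apply hK, FF.ord_one]
      rfl
    | add D₁ D₂ _ _ h₁ h₂ =>
      obtain ⟨x, hx, rfl⟩ := h₁
      obtain ⟨y, hy, rfl⟩ := h₂
      exact ⟨x * y, mul_ne_zero hx hy, (FF.div_mul hK hx hy).symm⟩
    | neg D _ h =>
      obtain ⟨x, hx, rfl⟩ := h
      exact ⟨x⁻¹, inv_ne_zero hx, (FF.div_inv hK x).symm⟩
  · rintro ⟨x, -, rfl⟩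
    exact AddSubgroup.subset_closure ⟨x, rfl⟩

section finite

variable [Finite k] (hK : IsFunctionField k K)

omit [Finite k] in
include hK in
/-- a place of degree `≤ n` at which `x` is integral is a zero of `m(x)` for a monic `m` of
degree `≤ n` -/
theorem exists_poly_of_deg_le (P : Place k K) {x : K} (hx : P.1 x ≤ 1) :
    ∃ m : k[X], m.Monic ∧ m.natDegree ≤ P.deg ∧ P.1 (aeval x m) < 1 := by
  have hfd := FF.finiteDimensional_residueField hK P
  set z : P.O := ⟨x, hx⟩ with hz
  set xb := IsLocalRing.residue P.O z with hxb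
  have hint' : Algebra.IsIntegral k (IsLocalRing.ResidueField P.O) :=
    @Algebra.IsIntegral.of_finite k _ _ _ _ hfd
  have hint : IsIntegral k xb := hint'.isIntegral xb
  have hdeg : (minpoly k xb).natDegree ≤ P.deg := @minpoly.natDegree_le k _ _ _ _ hfd xb _
  refine ⟨minpoly k xb, minpoly.monic hint, hdeg, ?_⟩
  have h1 := FF.residue_eval_map P (minpoly k xb) z
  rw [← hxb, minpoly.aeval] at h1
  rw [FF.residue_eq_zero_iff, FF.coe_eval_map] at h1
  exact h1

include hK in
/-- over a finite field there are finitely many places of bounded degree -/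
theorem finite_places_deg_le (n : ℕ) : {P : Place k K | P.deg ≤ n}.Finite := by
  classical
  obtain ⟨x, hx⟩ := FF.exists_not_mem_range hK
  have htr := FF.transcendental_of_not_mem_range hK hx
  have hx0 : x ≠ 0 := by
    rintro rfl
    exact hx ⟨0, map_zero _⟩
  -- finitely many polynomials of bounded degree
  have hpolyfin : {m : k[X] | m ≠ 0 ∧ m.natDegree ≤ n}.Finite := by
    have : Finite (degreeLT k (n + 1)) := by
      have e := degreeLTEquiv k (n + 1)
      exact Finite.of_equiv _ e.symm.toEquiv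
    have h1 : (↑(degreeLT k (n + 1)) : Set k[X]).Finite := Set.toFinite _
    apply h1.subset
    rintro m ⟨hm0, hm⟩
    rw [SetLike.mem_coe, mem_degreeLT, degree_eq_natDegree hm0]
    exact_mod_cast Nat.lt_succ_of_le hm
  have hpoles : {P : Place k K | 1 < P.1 x}.Finite := by
    have h1 := FF.zeros_finite_of_ne_zero hK (inv_ne_zero hx0)
    apply h1.subset
    intro P hP
    show P.1 x⁻¹ < 1
    rw [map_inv₀]
    exact inv_lt_one_of_one_lt₀ hP
  have hzeros : (⋃ m ∈ {m : k[X] | m ≠ 0 ∧ m.natDegree ≤ n},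
      {P : Place k K | P.1 (aeval x m) < 1}).Finite := by
    apply Set.Finite.biUnion hpolyfin
    rintro m ⟨hm0, -⟩
    apply FF.zeros_finite_of_ne_zero hK
    intro h0
    exact hm0 (transcendental_iff.mp htr m h0)
  apply (hpoles.union hzeros).subset
  intro P hP
  by_cases hPx : P.1 x ≤ 1
  · right
    obtain ⟨m, hm1, hm2, hm3⟩ := exists_poly_of_deg_le hK P hPx
    rw [Set.mem_iUnion₂]
    exact ⟨m, ⟨hm1.ne_zero, hm2.trans hP⟩, hm3⟩
  · left
    exact not_le.mp hPx

end finite

section eff

variable [Finite k] (hK : IsFunctionField k K)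

omit [Finite k] in
theorem mul_deg_le_deg {D : Divisor k K} (hD : 0 ≤ D) (P : Place k K) :
    D P * (P.deg : ℤ) ≤ D.deg := by
  classical
  have hle : (Finsupp.single P (D P) : Divisor k K) ≤ D := by
    intro Q
    by_cases hQ : Q = P
    · rw [hQ, Finsupp.single_eq_same]
    · rw [Finsupp.single_eq_of_ne hQ]; exact hD Q
  have := FF.deg_mono hle
  rwa [FF.deg_single] at this

include hK in
/-- finitely many effective divisors of a given degree -/
theorem finite_eff (n : ℕ) : Finite {D : Divisor k K // 0 ≤ D ∧ D.deg = n} := by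
  classical
  set S := (finite_places_deg_le hK n).toFinset with hS
  have hbound : ∀ (D : {D : Divisor k K // 0 ≤ D ∧ D.deg = n}) (P : Place k K),
      (D.1 P).toNat < n + 1 := by
    intro D P
    have h1 := mul_deg_le_deg D.2.1 P
    rw [D.2.2] at h1
    have h2 : 0 ≤ D.1 P := D.2.1 P
    have h3 : (1 : ℤ) ≤ P.deg := by exact_mod_cast FF.deg_place_pos hK P
    have h4 : D.1 P ≤ n := by nlinarith
    omega
  have hsupp : ∀ (D : {D : Divisor k K // 0 ≤ D ∧ D.deg = n}) (P : Place k K),
      P ∉ S → D.1 P = 0 := by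
    intro D P hP
    by_contra hne
    apply hP
    rw [hS, Set.Finite.mem_toFinset, Set.mem_ofPred_eq]
    have h1 := mul_deg_le_deg D.2.1 P
    rw [D.2.2] at h1
    have h2 : 0 ≤ D.1 P := D.2.1 P
    have h3 : (1 : ℤ) ≤ D.1 P := by omega
    have h4 : (P.deg : ℤ) ≤ n := by nlinarith
    exact_mod_cast h4
  let f : {D : Divisor k K // 0 ≤ D ∧ D.deg = n} → (↥S → Fin (n + 1)) :=
    fun D P => ⟨(D.1 P.1).toNat, hbound D P.1⟩
  apply Finite.of_injective f
  intro D D' h
  apply Subtype.ext
  ext P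
  by_cases hP : P ∈ S
  · have h1 := congrArg (fun g => (g ⟨P, hP⟩ : Fin (n + 1)).1) h
    simp only [f] at h1
    have h2 : 0 ≤ D.1 P := D.2.1 P
    have h3 : 0 ≤ D'.1 P := D'.2.1 P
    omega
  · rw [hsupp D P hP, hsupp D' P hP]

include hK in
/-- the group of divisor classes of degree zero is finite -/
theorem finite_pic0 :
    Finite ((FunFld.degHom k K).ker ⧸ (prinDivs k K).addSubgroupOf (FunFld.degHom k K).ker) := by
  classical
  obtain ⟨P₀⟩ := FF.nonempty_place hK
  set g := genus k K with hg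
  set D₀ : Divisor k K := Finsupp.single P₀ ((max g 1 : ℕ) : ℤ) with hD₀
  set n₀ : ℕ := max g 1 * P₀.deg with hn₀
  have hdegD₀ : D₀.deg = n₀ := by
    rw [hD₀, FF.deg_single, hn₀]
    push_cast
    ring
  have hn₀g : g ≤ n₀ := by
    have := FF.deg_place_pos hK P₀
    rw [hn₀]
    calc g ≤ max g 1 := le_max_left _ _
      _ = max g 1 * 1 := (mul_one _).symm
      _ ≤ max g 1 * P₀.deg := Nat.mul_le_mul_left _ this
  have := finite_eff hK n₀
  let ψ : {D : Divisor k K // 0 ≤ D ∧ D.deg = n₀} →
      ((FunFld.degHom k K).ker ⧸ (prinDivs k K).addSubgroupOf (FunFld.degHom k K).ker) :=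
    fun E => QuotientAddGroup.mk ⟨E.1 - D₀, by
      rw [AddMonoidHom.mem_ker, degHom_apply, FF.deg_sub, E.2.2, hdegD₀, sub_self]⟩
  apply Finite.of_surjective ψ
  intro c
  induction c using QuotientAddGroup.induction_on with
  | H C =>
    obtain ⟨C, hC⟩ := C
    rw [AddMonoidHom.mem_ker, degHom_apply] at hC
    have hdeg : (C + D₀).deg = n₀ := by rw [FF.deg_add, hC, hdegD₀, zero_add]
    have hell : 0 < ell (C + D₀) := by
      have h1 := FF.delta_le_genus hK (C + D₀)
      unfold FF.delta at h1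
      rw [hdeg] at h1
      have : (g : ℤ) ≤ n₀ := by exact_mod_cast hn₀g
      omega
    obtain ⟨z, hz0, hz⟩ := FF.exists_ne_zero_mem_L hK hell
    have hE := (FF.nonneg_add_div_iff hK _ hz0).mp hz
    have hEdeg : (C + D₀ + FunFld.div k z).deg = n₀ := by
      rw [FF.deg_add, hdeg, FF.deg_div_eq_zero hK z, add_zero]
    refine ⟨⟨C + D₀ + FunFld.div k z, hE, hEdeg⟩, ?_⟩
    show QuotientAddGroup.mk _ = QuotientAddGroup.mk _
    rw [QuotientAddGroup.eq, AddSubgroup.mem_addSubgroupOf]
    rw [mem_prinDivs_iff hK]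
    refine ⟨z⁻¹, inv_ne_zero hz0, ?_⟩
    rw [FF.div_inv hK]
    simp only [AddSubgroup.coe_add, AddSubgroup.coe_neg]
    abel


omit [Finite k] in
include hK in
theorem div_smul {u : k} (hu : u ≠ 0) {f : K} (hf : f ≠ 0) :
    FunFld.div k (u • f) = FunFld.div k f := by
  ext P
  rw [FF.div_apply hK, FF.div_apply hK]
  have h1 := FF.val_smul P hu f
  have hne : u • f ≠ 0 := smul_ne_zero hu hf
  rw [FF.val_eq_exp_neg_ord P hne, FF.val_eq_exp_neg_ord P hf, exp_inj] at h1
  omega

include hK in
/-- the number of nonzero elements of a Riemann–Roch space -/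
theorem card_L_ne_zero (D : Divisor k K) :
    Nat.card {f : K // f ∈ L D ∧ f ≠ 0} = Nat.card k ^ ell D - 1 := by
  classical
  have hfd := FF.finiteDimensional_L hK D
  have h1 : Nat.card (L D) = Nat.card k ^ ell D := Module.natCard_eq_pow_finrank
  have : Finite (L D) := Module.finite_of_finite k
  have e : {f : K // f ∈ L D ∧ f ≠ 0} ≃ {f : L D // ¬ f = 0} :=
    { toFun := fun f => ⟨⟨f.1, f.2.1⟩, fun h => f.2.2 (congrArg Subtype.val h)⟩
      invFun := fun f => ⟨f.1.1, f.1.2, fun h => f.2 (Subtype.ext h)⟩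
      left_inv := fun f => rfl
      right_inv := fun f => rfl }
  rw [Nat.card_congr e, ← h1]
  have h2 := Nat.card_congr (Equiv.sumCompl (· = (0 : L D)))
  rw [Nat.card_sum, Nat.card_unique] at h2
  omega

include hK in
/-- the counting identity `(q - 1) a(n) = h (q^(n+1-g) - 1)` -/
theorem count_eq {n : ℕ} (hn : 2 * genus k K ≤ n + 1) {D₁ : Divisor k K} (hD₁ : D₁.deg = n) :
    (Nat.card k - 1) * effDivCount k K n =
      classNum k K * (Nat.card k ^ (n + 1 - genus k K) - 1) := by
  classical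
  have hfin := finite_pic0 hK
  have hfinB := finite_eff hK n
  set Q := (FunFld.degHom k K).ker ⧸ (prinDivs k K).addSubgroupOf (FunFld.degHom k K).ker with hQ
  letI : Fintype Q := Fintype.ofFinite Q
  let rep : Q → Divisor k K := fun c => ((Quotient.out c : (FunFld.degHom k K).ker) : Divisor k K)
  have hrepdeg : ∀ c, (rep c).deg = 0 := by
    intro c
    have := (Quotient.out c : (FunFld.degHom k K).ker).2
    rwa [AddMonoidHom.mem_ker, degHom_apply] at this
  let Dc : Q → Divisor k K := fun c => D₁ + rep c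
  have hDcdeg : ∀ c, (Dc c).deg = n := by
    intro c
    show (D₁ + rep c).deg = n
    rw [FF.deg_add, hD₁, hrepdeg, add_zero]
  have hell : ∀ c, ell (Dc c) = n + 1 - genus k K := by
    intro c
    have h1 := FF.ell_eq_of_deg_ge hK (D := Dc c) (by rw [hDcdeg]; omega)
    rw [hDcdeg] at h1
    omega
  let p : Q → K → Prop := fun c f => f ∈ L (Dc c) ∧ f ≠ 0
  -- the count of the total space
  have hA : Nat.card {x : Q × K // p x.1 x.2} =
      classNum k K * (Nat.card k ^ (n + 1 - genus k K) - 1) := by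
    rw [Nat.card_congr (Equiv.subtypeProdEquivSigmaSubtype p)]
    have : ∀ c, Finite {f : K // p c f} := by
      intro c
      have hfd := FF.finiteDimensional_L hK (Dc c)
      have : Finite (L (Dc c)) := Module.finite_of_finite k
      exact Finite.of_injective (fun f : {f : K // p c f} => (⟨f.1, f.2.1⟩ : L (Dc c)))
        (fun a b h => Subtype.ext (by
          have := congrArg (fun z : L (Dc c) => (z : K)) h
          exact this))
    rw [Nat.card_sigma]
    have : ∀ c, Nat.card {f : K // p c f} = Nat.card k ^ (n + 1 - genus k K) - 1 := by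
      intro c
      rw [← hell c]
      exact card_L_ne_zero hK (Dc c)
    simp_rw [this]
    rw [Finset.sum_const, Finset.card_univ, smul_eq_mul]
    unfold classNum
    show Fintype.card Q * _ = Nat.card Q * _
    rw [Nat.card_eq_fintype_card (α := Q)]
  rw [← hA]
  unfold effDivCount
  rw [← Nat.card_units, ← Nat.card_prod]
  -- the class of an effective divisor and a function cutting it out
  have hmem : ∀ E : {E : Divisor k K // 0 ≤ E ∧ E.deg = n},
      E.1 - D₁ ∈ (FunFld.degHom k K).ker := by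
    intro E
    rw [AddMonoidHom.mem_ker, degHom_apply, FF.deg_sub, E.2.2, hD₁, sub_self]
  let cE : {E : Divisor k K // 0 ≤ E ∧ E.deg = n} → Q :=
    fun E => QuotientAddGroup.mk ⟨E.1 - D₁, hmem E⟩
  have hcE : ∀ E, cE E = QuotientAddGroup.mk ⟨E.1 - D₁, hmem E⟩ := fun E => rfl
  have hcls : ∀ E : {E : Divisor k K // 0 ≤ E ∧ E.deg = n},
      ∃ (f : K), f ≠ 0 ∧ f ∈ L (Dc (cE E)) ∧ Dc (cE E) + FunFld.div k f = E.1 := by
    intro E
    have h1 : (QuotientAddGroup.mk (Quotient.out (cE E)) : Q) = cE E := Quotient.out_eq (cE E)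
    have h2 := h1
    rw [hcE E, QuotientAddGroup.eq, AddSubgroup.mem_addSubgroupOf, mem_prinDivs_iff hK] at h2
    obtain ⟨x, hx0, hx⟩ := h2
    simp only [AddSubgroup.coe_add, AddSubgroup.coe_neg] at hx
    have hE : Dc (cE E) + FunFld.div k x = E.1 := by
      show D₁ + rep (cE E) + FunFld.div k x = E.1
      rw [← hx]
      show D₁ + ((Quotient.out (cE E) : (FunFld.degHom k K).ker) : Divisor k K) +
        (-((Quotient.out (cE E) : (FunFld.degHom k K).ker) : Divisor k K) + (E.1 - D₁)) = E.1
      abel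
    refine ⟨x, hx0, ?_, hE⟩
    rw [FF.nonneg_add_div_iff hK _ hx0, hE]
    exact E.2.1
  choose fE hfE0 hfEL hfE using hcls
  let Ψ : kˣ × {E : Divisor k K // 0 ≤ E ∧ E.deg = n} → {x : Q × K // p x.1 x.2} :=
    fun uE => ⟨(cE uE.2, (uE.1 : k) • fE uE.2),
      Submodule.smul_mem _ _ (hfEL uE.2), smul_ne_zero uE.1.ne_zero (hfE0 uE.2)⟩
  apply Nat.card_eq_of_bijective Ψ
  constructor
  · rintro ⟨u, E⟩ ⟨u', E'⟩ h
    have h1 : cE E = cE E' := congrArg (fun x => x.1.1) h
    have h2 : (u : k) • fE E = (u' : k) • fE E' := congrArg (fun x => x.1.2) h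
    have h3 : E = E' := by
      apply Subtype.ext
      rw [← hfE E, ← hfE E', ← div_smul hK u.ne_zero (hfE0 E), ← div_smul hK u'.ne_zero (hfE0 E'),
        h1, h2]
    subst h3
    have h4 : ((u : k) - (u' : k)) • fE E = 0 := by rw [sub_smul, h2, sub_self]
    rcases smul_eq_zero.mp h4 with h5 | h5
    · have : u = u' := Units.ext (sub_eq_zero.mp h5)
      rw [this]
    · exact absurd h5 (hfE0 E)
  · rintro ⟨⟨c, f⟩, hfL, hf0⟩
    have hE0 : 0 ≤ Dc c + FunFld.div k f := (FF.nonneg_add_div_iff hK _ hf0).mp hfL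
    have hEdeg : (Dc c + FunFld.div k f).deg = n := by
      rw [FF.deg_add, hDcdeg, FF.deg_div_eq_zero hK f, add_zero]
    set E : {E : Divisor k K // 0 ≤ E ∧ E.deg = n} := ⟨Dc c + FunFld.div k f, hE0, hEdeg⟩ with hEdef
    have hc : cE E = c := by
      rw [hcE E]
      have h1 : (QuotientAddGroup.mk (Quotient.out c) : Q) = c := Quotient.out_eq c
      rw [← h1, QuotientAddGroup.eq, AddSubgroup.mem_addSubgroupOf, mem_prinDivs_iff hK]
      refine ⟨f⁻¹, inv_ne_zero hf0, ?_⟩
      rw [FF.div_inv hK]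
      simp only [AddSubgroup.coe_add, AddSubgroup.coe_neg]
      show -(Dc c + FunFld.div k f - D₁) + rep c = -FunFld.div k f
      show -(D₁ + rep c + FunFld.div k f - D₁) + rep c = -FunFld.div k f
      abel
    have hdiv : FunFld.div k f = FunFld.div k (fE E) := by
      have h1 := hfE E
      rw [hc] at h1
      have h2 : Dc c + FunFld.div k (fE E) = Dc c + FunFld.div k f := h1
      exact (add_left_cancel h2).symm
    obtain ⟨u, hu⟩ := FF.eq_smul_of_div_eq hK (hfE0 E) hf0 hdiv
    have hu0 : u ≠ 0 := by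
      rintro rfl
      rw [zero_smul] at hu
      exact hf0 hu
    refine ⟨(Units.mk0 u hu0, E), ?_⟩
    apply Subtype.ext
    show (cE E, u • fE E) = (c, f)
    exact Prod.ext hc hu.symm

include hK in
theorem main :
    Finite ((FunFld.degHom k K).ker ⧸ (FunFld.prinDivs k K).addSubgroupOf (FunFld.degHom k K).ker) ∧
    ∀ n : ℕ, 2 * FunFld.genus k K ≤ n + 1 →
      ((∃ D : FunFld.Divisor k K, D.deg = n) →
        ((Nat.card k : ℤ) - 1) * (FunFld.effDivCount k K n : ℤ) =
          (FunFld.classNum k K : ℤ) * ((Nat.card k : ℤ) ^ (n + 1 - FunFld.genus k K) - 1)) ∧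
      ((¬ ∃ D : FunFld.Divisor k K, D.deg = n) → FunFld.effDivCount k K n = 0) := by
  refine ⟨finite_pic0 hK, fun n hn => ⟨?_, ?_⟩⟩
  · rintro ⟨D₁, hD₁⟩
    have h1 := count_eq hK hn hD₁
    have hq : 1 ≤ Nat.card k := Nat.card_pos
    have hq' : 1 ≤ Nat.card k ^ (n + 1 - genus k K) := Nat.one_le_pow _ _ hq
    have h2 := congrArg (fun m : ℕ => (m : ℤ)) h1
    simp only [Nat.cast_mul, Nat.cast_sub hq, Nat.cast_sub hq', Nat.cast_pow, Nat.cast_one] at h2
    exact h2
  · intro hno
    unfold effDivCount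
    have : IsEmpty {D : Divisor k K // 0 ≤ D ∧ D.deg = n} := by
      constructor
      rintro ⟨D, -, hD⟩
      exact hno ⟨D, hD⟩
    exact Nat.card_of_isEmpty

end eff

end Groth.Agent.Lib.helper16.FZ
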