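import Groth.Agent.Lib.helper16.FXDisc
import Groth.Agent.Lib.helper16.FNonsing3
import Groth.Agent.Lib.helper16.FSep
import Groth.Agent.Lib.helper16.FFRat
import Groth.Agent.Lib.helper16.FFRam
import Groth.Agent.Lib.helper16.FPlaneGen
import Groth.Agent.Lib.helper16.FHypGenus
import Groth.Agent.Lib.helper16.FZetaCount

/-! Helper library (helper16): a geometric function field has infinitely many places with
separable residue field (S11004). -/

set_option autoImplicit false

namespace Groth.Agent.Lib.helper16.FSPl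

open FunFld WithZero Module Polynomial IntermediateField
open Groth.Agent.Lib.helper16 Groth.Agent.Lib.helper16.FF Groth.Agent.Lib.helper16.FX

section basis

variable {k K K' : Type*} [Field k] [Field K] [Field K'] [Algebra k K] [Algebra K K']
  [Algebra k K'] [IsScalarTower k K K'] [FiniteDimensional K K']

/-- a basis of `K'/K` inside `B_P` with unit discriminant is an integral basis -/
theorem val_repr_le_one_of_discr (hK : IsFunctionField k K) (P : Place k K)
    (B : Basis (Fin (finrank K K')) K K') (hBB : ∀ i, B i ∈ semiLocal K' P)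
    (hB : P.1 (Algebra.discr K B) = 1) {w : K'} (hw : w ∈ semiLocal K' P)
    (j : Fin (finrank K K')) : P.1 (B.repr w j) ≤ 1 := by
  classical
  obtain ⟨b, hbB, hb⟩ := exists_integral_basis (K' := K') hK P
  let M : Matrix (Fin (finrank K K')) (Fin (finrank K K')) K :=
    fun i j => (basisOfIndep hb).repr (B i) j
  have hM : ∀ i j, P.1 (M i j) ≤ 1 := fun i j => val_repr_le_one hb (hBB i) j
  have hcM : (B : Fin (finrank K K') → K') = Matrix.mulVec (M.map (algebraMap K K')) b := by
    ext i
    rw [← sum_repr_basisOfIndep hb (B i)]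
    simp only [Matrix.mulVec, dotProduct, Matrix.map_apply, M, Algebra.smul_def]
  have hdet : P.1 M.det = 1 := by
    have hc := hB
    rw [hcM, Algebra.discr_of_matrix_mulVec, map_mul, map_pow] at hc
    have h1 := val_det_le_one P M hM
    by_contra hne
    have h2 : P.1 M.det < 1 := lt_of_le_of_ne h1 hne
    have h3 : P.1 M.det ^ 2 * P.1 (Algebra.discr K b) < 1 := by
      calc P.1 M.det ^ 2 * P.1 (Algebra.discr K b) ≤ P.1 M.det ^ 2 * 1 := by
            gcongr
            exact val_discr_le_one hb hbB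
        _ = P.1 M.det * P.1 M.det := by rw [mul_one, sq]
        _ ≤ P.1 M.det * 1 := by gcongr
        _ < 1 := by rw [mul_one]; exact h2
    rw [hc] at h3
    exact lt_irrefl _ h3
  have hdet0 : M.det ≠ 0 := by
    intro h0
    rw [h0, map_zero] at hdet
    exact zero_ne_one hdet
  -- `b` in terms of `B`
  have hbB' : ∀ i, b i = ∑ j, (M.det⁻¹ * M.adjugate i j) • B j := by
    intro i
    have h1 : ∑ j, M.adjugate i j • B j = M.det • b i := by
      have h2 : ∀ j, B j = ∑ l, M j l • b l := by
        intro j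
        have := congrFun hcM j
        rw [this]
        simp only [Matrix.mulVec, dotProduct, Matrix.map_apply, Algebra.smul_def]
      simp_rw [h2, Finset.smul_sum, smul_smul]
      rw [Finset.sum_comm]
      simp_rw [← Finset.sum_smul]
      have h3 : ∀ l, ∑ j, M.adjugate i j * M j l = (M.adjugate * M) i l := fun l => rfl
      simp_rw [h3, Matrix.adjugate_mul, Matrix.smul_apply, Matrix.one_apply, smul_eq_mul,
        mul_ite, mul_one, mul_zero]
      rw [Finset.sum_eq_single i]
      · rw [if_pos rfl]
      · intro l _ hl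
        rw [if_neg (Ne.symm hl), zero_smul]
      · intro h
        exact absurd (Finset.mem_univ i) h
    simp_rw [mul_smul]
    rw [← Finset.smul_sum, h1, smul_smul, inv_mul_cancel₀ hdet0, one_smul]
  have hw' : w = ∑ j, (∑ i, (basisOfIndep hb).repr w i * (M.det⁻¹ * M.adjugate i j)) • B j := by
    conv_lhs => rw [← sum_repr_basisOfIndep hb w]
    simp_rw [hbB', Finset.smul_sum, smul_smul]
    rw [Finset.sum_comm]
    simp_rw [← Finset.sum_smul]
  have hrepr : B.repr w j = ∑ i, (basisOfIndep hb).repr w i * (M.det⁻¹ * M.adjugate i j) := by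
    conv_lhs => rw [hw']
    rw [B.repr_sum_self]
  rw [hrepr]
  apply Valuation.map_sum_le
  intro i _
  rw [map_mul, map_mul, map_inv₀, hdet, inv_one, one_mul]
  exact mul_le_one' (val_repr_le_one hb hw i) (val_adjugate_le_one P M hM i j)

end basis

section degone

variable {k K : Type*} [Field k] [Field K] [Algebra k K]

/-- at a place of degree one every integral element is congruent to a constant -/
theorem exists_sub_val_lt_one_of_deg_one (P : Place k K) (hP : P.deg = 1) {x : K}
    (hx : P.1 x ≤ 1) : ∃ c : k, P.1 (x - algebraMap k K c) < 1 := by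
  have h1 : (⊥ : Subalgebra k (IsLocalRing.ResidueField P.O)) = ⊤ :=
    Subalgebra.bot_eq_top_of_finrank_eq_one hP
  have h2 : IsLocalRing.residue P.O ⟨x, hx⟩ ∈ (⊥ : Subalgebra k (IsLocalRing.ResidueField P.O)) := by
    rw [h1]
    exact Algebra.mem_top
  rw [Algebra.mem_bot] at h2
  obtain ⟨c, hc⟩ := h2
  refine ⟨c, ?_⟩
  have h0 : IsLocalRing.residue P.O (⟨x, hx⟩ - algebraMap k P.O c) = 0 := by
    rw [map_sub, ← hc]
    exact sub_self _
  rw [residue_eq_zero_iff] at h0
  exact h0

/-- a root of a polynomial at which the derivative does not vanish is separable -/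
theorem isSeparable_of_root {F : Type*} [Field F] [Algebra k F] {a : F} {p : k[X]}
    (h0 : aeval a p = 0) (h1 : aeval a (derivative p) ≠ 0) : IsSeparable k a := by
  have hp0 : p ≠ 0 := by
    rintro rfl
    rw [derivative_zero, map_zero] at h1
    exact h1 rfl
  have hint : IsIntegral k a := IsAlgebraic.isIntegral ⟨p, hp0, h0⟩
  obtain ⟨q, hq⟩ := minpoly.dvd k a h0
  unfold IsSeparable
  rw [Polynomial.separable_iff_derivative_ne_zero (minpoly.irreducible hint)]
  intro hd
  apply h1
  rw [hq, derivative_mul, hd, zero_mul, zero_add, map_mul, minpoly.aeval, zero_mul]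

end degone

section core

variable {k K₀ K : Type*} [Field k] [Field K₀] [Field K] [Algebra k K₀] [Algebra K₀ K]
  [Algebra k K] [IsScalarTower k K₀ K] [FiniteDimensional K₀ K]

theorem val_natCast_le_one {L : Type*} [Field L] [Algebra k L] (P : Place k L) (j : ℕ) :
    P.1 (j : L) ≤ 1 := by
  rw [← map_natCast (algebraMap k L) j]
  exact P.2.1 _

omit [FiniteDimensional K₀ K] [IsScalarTower k K₀ K] in
theorem val_sum_lt_one {P : Place k K₀} {Q : Place k K} {e : ℕ} (he : IsOverWith Q P e)
    (he1 : 1 ≤ e) {m : ℕ} (u : Fin m → K₀) (hu : ∀ j, P.1 (u j) < 1) (t : Fin m → K)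
    (ht : ∀ j, Q.1 (t j) ≤ 1) : Q.1 (∑ j, algebraMap K₀ K (u j) * t j) < 1 := by
  apply Valuation.map_sum_lt _ one_ne_zero
  intro j _
  rw [map_mul, he (u j)]
  apply mul_lt_one_of_lt_of_le _ (ht j)
  exact pow_lt_one₀ zero_le (hu j) (by omega)

/-- the polynomial `Y^n - Σ a_j Y^j` of a power basis -/
noncomputable def G (B : Basis (Fin (finrank K₀ K)) K₀ K) (y : K) : K₀[X] :=
  X ^ (finrank K₀ K) - ∑ j : Fin (finrank K₀ K), C (B.repr (y ^ finrank K₀ K) j) * X ^ (j : ℕ)

omit [FiniteDimensional K₀ K] in
theorem pow_eq_sum (B : Basis (Fin (finrank K₀ K)) K₀ K) (y : K) (hBy : ∀ i, B i = y ^ (i : ℕ))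
    (w : K) : w = ∑ j, algebraMap K₀ K (B.repr w j) * y ^ (j : ℕ) := by
  conv_lhs => rw [← B.sum_repr w]
  apply Finset.sum_congr rfl
  intro j _
  rw [hBy, Algebra.smul_def]

omit [FiniteDimensional K₀ K] in
theorem aeval_G (B : Basis (Fin (finrank K₀ K)) K₀ K) (y : K) (hBy : ∀ i, B i = y ^ (i : ℕ)) :
    aeval y (G B y) = 0 := by
  unfold G
  rw [map_sub, map_pow, aeval_X, map_sum]
  simp_rw [map_mul, aeval_C, map_pow, aeval_X]
  rw [← pow_eq_sum B y hBy, sub_self]

/-- the residue field at a place over a rational place where a power basis is an integral basis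
and the derivative of its equation is a unit is separable -/
theorem isSeparable_residueField (hF : IsFunctionField k K₀)
    (B : Basis (Fin (finrank K₀ K)) K₀ K) (y : K) (hBy : ∀ i, B i = y ^ (i : ℕ))
    (P : Place k K₀) (hdeg : P.deg = 1) (hy : y ∈ semiLocal K P)
    (hd : P.1 (Algebra.discr K₀ B) = 1) {Q : Place k K} (hQ : IsOver Q P)
    (hz : Q.1 (aeval y (derivative (G B y))) = 1) :
    Algebra.IsSeparable k (IsLocalRing.ResidueField Q.O) := by
  classical
  have hBB : ∀ i, B i ∈ semiLocal K P := by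
    intro i
    rw [hBy]
    exact pow_mem hy _
  have hint : ∀ {w : K}, w ∈ semiLocal K P → ∀ j, P.1 (B.repr w j) ≤ 1 :=
    fun hw j => val_repr_le_one_of_discr hF P B hBB hd hw j
  obtain ⟨e, he⟩ := hQ
  have he1 : 1 ≤ e := isOverWith_pos he
  have hyQ : Q.1 y ≤ 1 := hy Q ⟨e, he⟩
  set yO : Q.O := ⟨y, hyQ⟩ with hyO
  set yb := IsLocalRing.residue Q.O yO with hyb
  have hpow : ∀ j : ℕ, Q.1 (y ^ j) ≤ 1 := fun j => by
    rw [map_pow]
    exact pow_le_one₀ zero_le hyQ
  -- residues of polynomial expressions in `y`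
  have hres : ∀ (p : k[X]) (wO : Q.O), Q.1 ((wO : K) - aeval y p) < 1 →
      IsLocalRing.residue Q.O wO = aeval yb p := by
    intro p wO h
    rw [← residue_eval_map Q p yO, ← sub_eq_zero, ← map_sub, residue_eq_zero_iff]
    rw [show ((wO - (p.map (algebraMap k Q.O)).eval yO : Q.O) : K) =
      (wO : K) - (((p.map (algebraMap k Q.O)).eval yO : Q.O) : K) from rfl, coe_eval_map]
    exact h
  -- every integral element of `B_P` is congruent to a polynomial in `y` with constant coefficients
  have hpoly : ∀ {w : K}, w ∈ semiLocal K P → ∃ p : k[X], Q.1 (w - aeval y p) < 1 ∧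
      ∀ j : Fin (finrank K₀ K), P.1 (B.repr w j - algebraMap k K₀ (p.coeff j)) < 1 := by
    intro w hw
    choose d hd' using fun j => exists_sub_val_lt_one_of_deg_one P hdeg (hint hw j)
    refine ⟨∑ j : Fin (finrank K₀ K), C (d j) * X ^ (j : ℕ), ?_, ?_⟩
    · rw [map_sum]
      simp_rw [map_mul, aeval_C, map_pow, aeval_X]
      conv_lhs => rw [pow_eq_sum B y hBy w]
      rw [← Finset.sum_sub_distrib]
      have : ∀ j : Fin (finrank K₀ K), algebraMap K₀ K (B.repr w j) * y ^ (j : ℕ) -
          algebraMap k K (d j) * y ^ (j : ℕ) =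
          algebraMap K₀ K (B.repr w j - algebraMap k K₀ (d j)) * y ^ (j : ℕ) := by
        intro j
        rw [map_sub, ← IsScalarTower.algebraMap_apply, sub_mul]
      simp_rw [this]
      exact val_sum_lt_one he he1 _ hd' _ (fun j => hpow j)
    · intro j
      have : (∑ i : Fin (finrank K₀ K), C (d i) * X ^ (i : ℕ)).coeff (j : ℕ) = d j := by
        rw [finsetSum_coeff]
        simp_rw [coeff_C_mul_X_pow]
        rw [Finset.sum_eq_single j]
        · rw [if_pos rfl]
        · intro i _ hij
          rw [if_neg]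
          intro h
          exact hij (Fin.ext h.symm)
        · intro h
          exact absurd (Finset.mem_univ j) h
      rw [this]
      exact hd' j
  -- the reduced equation
  obtain ⟨q, -, hq⟩ := hpoly (pow_mem hy (finrank K₀ K))
  set gb : k[X] := X ^ finrank K₀ K - ∑ j : Fin (finrank K₀ K), C (q.coeff j) * X ^ (j : ℕ) with hgb
  have hroot : aeval yb gb = 0 := by
    have h1 := hres gb 0 (by
      rw [ZeroMemClass.coe_zero, zero_sub, Valuation.map_neg, hgb, map_sub, map_pow, aeval_X,
        map_sum]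
      simp_rw [map_mul, aeval_C, map_pow, aeval_X]
      conv_lhs => rw [pow_eq_sum B y hBy (y ^ finrank K₀ K)]
      rw [← Finset.sum_sub_distrib]
      have : ∀ j : Fin (finrank K₀ K), algebraMap K₀ K (B.repr (y ^ finrank K₀ K) j) * y ^ (j : ℕ) -
          algebraMap k K (q.coeff j) * y ^ (j : ℕ) =
          algebraMap K₀ K (B.repr (y ^ finrank K₀ K) j - algebraMap k K₀ (q.coeff j)) * y ^ (j : ℕ) := by
        intro j
        rw [map_sub, ← IsScalarTower.algebraMap_apply, sub_mul]
      simp_rw [this]
      exact val_sum_lt_one he he1 _ hq _ (fun j => hpow j))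
    rw [← h1, map_zero]
  have hderiv : aeval yb (derivative gb) ≠ 0 := by
    have hzQ : Q.1 (aeval y (derivative (G B y))) ≤ 1 := hz.le
    have e1 : aeval y (derivative (G B y)) = ((finrank K₀ K : ℕ) : K) * y ^ (finrank K₀ K - 1) -
        ∑ j : Fin (finrank K₀ K), algebraMap K₀ K (B.repr (y ^ finrank K₀ K) j * ((j : ℕ) : K₀)) *
          y ^ ((j : ℕ) - 1) := by
      unfold G
      rw [derivative_sub, derivative_sum, map_sub, map_sum]
      simp_rw [derivative_C_mul_X_pow, derivative_X_pow, map_mul, aeval_C, map_pow, aeval_X]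
      rw [map_natCast]
    have e2 : aeval y (derivative gb) = ((finrank K₀ K : ℕ) : K) * y ^ (finrank K₀ K - 1) -
        ∑ j : Fin (finrank K₀ K), algebraMap k K (q.coeff j * ((j : ℕ) : k)) *
          y ^ ((j : ℕ) - 1) := by
      rw [hgb, derivative_sub, derivative_sum, map_sub, map_sum]
      simp_rw [derivative_C_mul_X_pow, derivative_X_pow, map_mul, aeval_C, map_pow, aeval_X]
      rw [map_natCast]
    have h1 := hres (derivative gb) ⟨_, hzQ⟩ (by
      show Q.1 (aeval y (derivative (G B y)) - aeval y (derivative gb)) < 1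
      rw [e1, e2, sub_sub_sub_cancel_left, ← Finset.sum_sub_distrib]
      have : ∀ j : Fin (finrank K₀ K),
          algebraMap k K (q.coeff j * ((j : ℕ) : k)) * y ^ ((j : ℕ) - 1) -
          algebraMap K₀ K (B.repr (y ^ finrank K₀ K) j * ((j : ℕ) : K₀)) * y ^ ((j : ℕ) - 1) =
          algebraMap K₀ K (-((B.repr (y ^ finrank K₀ K) j - algebraMap k K₀ (q.coeff j)) *
            ((j : ℕ) : K₀))) * y ^ ((j : ℕ) - 1) := by
        intro j
        rw [IsScalarTower.algebraMap_apply k K₀ K, ← sub_mul, ← map_sub]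
        congr 2
        rw [map_mul, map_natCast]
        ring
      simp_rw [this]
      apply val_sum_lt_one he he1 _ _ _ (fun j => hpow _)
      intro j
      rw [Valuation.map_neg, map_mul]
      exact mul_lt_one_of_lt_of_le (hq j) (val_natCast_le_one P _))
    rw [← h1, Ne, residue_eq_zero_iff]
    show ¬ Q.1 (aeval y (derivative (G B y))) < 1
    rw [hz]
    exact lt_irrefl _
  have hsepy : IsSeparable k yb := isSeparable_of_root hroot hderiv
  -- every residue is a polynomial in `yb`
  rw [← separableClosure.eq_top_iff, eq_top_iff]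
  intro ξ _
  obtain ⟨wO, rfl⟩ := IsLocalRing.residue_surjective (R := Q.O) ξ
  obtain ⟨w', hw'B, hw'⟩ := FCE.exists_semiLocal_approx hF.1 P ⟨e, he⟩ (wO : K) wO.2
  obtain ⟨p, hp, -⟩ := hpoly hw'B
  have h1 : IsLocalRing.residue Q.O wO = aeval yb p := by
    apply hres
    have e1 : (wO : K) - aeval y p = -(w' - (wO : K)) + (w' - aeval y p) := by ring
    rw [e1]
    apply lt_of_le_of_lt (Q.1.map_add _ _)
    rw [Valuation.map_neg]
    exact max_lt hw' hp
  rw [h1]
  have h2 : aeval yb p ∈ Algebra.adjoin k {yb} := aeval_mem_adjoin_singleton k yb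
  have h3 : Algebra.adjoin k {yb} ≤
      (separableClosure k (IsLocalRing.ResidueField Q.O)).toSubalgebra := by
    apply Algebra.adjoin_le
    rintro _ rfl
    exact mem_separableClosure_iff.mpr hsepy
  exact h3 h2

end core

section main

universe u v

variable {k : Type u} {K : Type v} [Field k] [Field K] [Algebra k K]

theorem finite_val_ne_one (hK : IsFunctionField k K) {w : K} (hw : w ≠ 0) :
    {Q : Place k K | Q.1 w ≠ 1}.Finite := by
  refine (finite_support_ord hK w).subset ?_
  intro Q hQ
  rw [Function.mem_support]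
  intro h0
  apply hQ
  rw [val_eq_exp_neg_ord Q hw, h0, neg_zero, exp_zero]

theorem subsingleton_zero_const (Q : Place k K) (x : K) :
    {c : k | Q.1 (x - algebraMap k K c) < 1}.Subsingleton := by
  intro c hc c' hc'
  by_contra hne
  have h1 : Q.1 (algebraMap k K (c' - c)) = 1 := val_algebraMap Q (sub_ne_zero.mpr (Ne.symm hne))
  have h2 : algebraMap k K (c' - c) = (x - algebraMap k K c) - (x - algebraMap k K c') := by
    rw [map_sub]; ring
  rw [h2] at h1
  have h3 := lt_of_le_of_lt (Valuation.map_sub Q.1 _ _) (max_lt hc hc')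
  rw [h1] at h3
  exact lt_irrefl _ h3

/-- S11004 for an infinite constant field -/
theorem infinite_of_infinite [Infinite k] (hK : IsFunctionField k K) (hg : IsGeometric k K) :
    {P : Place k K | Algebra.IsSeparable k (IsLocalRing.ResidueField P.O)}.Infinite := by
  classical
  obtain ⟨x, hx, hsep⟩ := FS.exists_separating hK hg
  haveI : FiniteDimensional k⟮x⟯ K := finiteDimensional_of_transcendental hK.1 hx
  have hF : IsFunctionField k k⟮x⟯ :=
    FG.isFunctionField_intermediateField k K hK k⟮x⟯
      ⟨x, IntermediateField.mem_adjoin_simple_self k x, hx⟩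
  set x₀ : k⟮x⟯ := ⟨x, IntermediateField.mem_adjoin_simple_self k x⟩ with hx₀def
  have hx₀ : k⟮x₀⟯ = ⊤ := by
    apply IntermediateField.map_injective k⟮x⟯.val
    rw [IntermediateField.adjoin_map, Set.image_singleton, ← AlgHom.fieldRange_eq_map,
      IntermediateField.fieldRange_val]
    rfl
  -- power basis
  let pb := Field.powerBasisOfFiniteOfSeparable k⟮x⟯ K
  set y := pb.gen with hy
  let e : Fin pb.dim ≃ Fin (finrank k⟮x⟯ K) := finCongr pb.finrank.symm
  let B : Basis (Fin (finrank k⟮x⟯ K)) k⟮x⟯ K := pb.basis.reindex e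
  have hBy : ∀ i, B i = y ^ (i : ℕ) := by
    intro i
    show (pb.basis.reindex e) i = _
    rw [Basis.reindex_apply, PowerBasis.coe_basis]
    rfl
  have hd0 : Algebra.discr k⟮x⟯ B ≠ 0 := Algebra.discr_not_zero_of_basis k⟮x⟯ B
  have hGmin : G B y = minpoly k⟮x⟯ y := by
    have hdeg : (∑ j : Fin (finrank k⟮x⟯ K),
        C (B.repr (y ^ finrank k⟮x⟯ K) j) * X ^ (j : ℕ)).degree <
          ((finrank k⟮x⟯ K : ℕ) : WithBot ℕ) :=
      degree_sum_fin_lt _
    have hmonic : (G B y).Monic := monic_X_pow_sub hdeg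
    have hnat : (G B y).natDegree = finrank k⟮x⟯ K := by
      apply natDegree_eq_of_degree_eq_some
      unfold G
      rw [degree_sub_eq_left_of_degree_lt, degree_X_pow]
      rw [degree_X_pow]
      exact hdeg
    have hint : IsIntegral k⟮x⟯ y := Algebra.IsIntegral.isIntegral y
    apply Polynomial.eq_of_monic_of_dvd_of_natDegree_le (minpoly.monic hint) hmonic
      (minpoly.dvd k⟮x⟯ y (aeval_G B y hBy))
    rw [hnat, PowerBasis.natDegree_minpoly, pb.finrank]
  set z := aeval y (derivative (G B y)) with hz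
  have hz0 : z ≠ 0 := by
    rw [hz, hGmin]
    have h1 : IsSeparable k⟮x⟯ y := Algebra.IsSeparable.isSeparable k⟮x⟯ y
    exact Polynomial.Separable.aeval_derivative_ne_zero h1 (minpoly.aeval k⟮x⟯ y)
  set d' := algebraMap k⟮x⟯ K (Algebra.discr k⟮x⟯ B) with hd'
  have hd'0 : d' ≠ 0 := by
    rw [hd', Ne, map_eq_zero]
    exact hd0
  -- the bad places
  let Bad : Set (Place k K) := ({Q | 1 < Q.1 y} ∪ {Q | Q.1 d' ≠ 1}) ∪ {Q | Q.1 z ≠ 1}
  have hBad : Bad.Finite := by
    refine ((Set.Finite.union ?_ (finite_val_ne_one hK hd'0))).union (finite_val_ne_one hK hz0)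
    by_cases hy0 : y = 0
    · rw [hy0]
      convert Set.finite_empty
      ext Q
      simp
    · refine (finite_val_ne_one hK hy0).subset ?_
      intro Q hQ
      exact ne_of_gt hQ
  have hxc : ∀ c : k, x - algebraMap k K c ∉ Set.range (algebraMap k K) := by
    rintro c ⟨c', hc'⟩
    apply hx
    have : x = algebraMap k K (c' + c) := by rw [map_add, hc']; ring
    rw [this]
    exact isAlgebraic_algebraMap _
  choose Qc hQc using fun c => exists_place_lt_one hK (hxc c)
  have hQinj : Function.Injective Qc := by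
    intro c c' h
    exact subsingleton_zero_const (Qc c) x (hQc c) (by rw [h]; exact hQc c')
  let S : Set k := {c | ∃ Q ∈ Bad, Q.1 (x - algebraMap k K c) < 1}
  have hS : S.Finite := by
    have : S ⊆ ⋃ Q ∈ Bad, {c : k | Q.1 (x - algebraMap k K c) < 1} := by
      rintro c ⟨Q, hQ, hc⟩
      rw [Set.mem_iUnion₂]
      exact ⟨Q, hQ, hc⟩
    refine (Set.Finite.biUnion hBad ?_).subset this
    intro Q _
    exact (subsingleton_zero_const Q x).finite
  have hmain : ∀ c ∈ Sᶜ, Algebra.IsSeparable k (IsLocalRing.ResidueField (Qc c).O) := by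
    intro c hcS
    obtain ⟨P, e, he⟩ := exists_isOverWith hF.1 (Qc c)
    have he1 : 1 ≤ e := isOverWith_pos he
    have hmapx : algebraMap k⟮x⟯ K (x₀ - algebraMap k k⟮x⟯ c) = x - algebraMap k K c := by
      rw [map_sub, ← IsScalarTower.algebraMap_apply]
      rfl
    have hPx : P.1 (x₀ - algebraMap k k⟮x⟯ c) < 1 := by
      by_contra hcon
      rw [not_lt] at hcon
      have h1 := he (x₀ - algebraMap k k⟮x⟯ c)
      rw [hmapx] at h1
      have h2 := hQc c
      rw [h1] at h2
      exact absurd (one_le_pow₀ hcon) (not_le.mpr h2)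
    have hover : ∀ Q' : Place k K, IsOver Q' P → Q'.1 (x - algebraMap k K c) < 1 := by
      rintro Q' ⟨e', he'⟩
      have he1' : 1 ≤ e' := isOverWith_pos he'
      rw [← hmapx, he']
      exact pow_lt_one₀ zero_le hPx (by omega)
    have hgood : ∀ Q' : Place k K, IsOver Q' P → Q' ∉ Bad := by
      intro Q' hQ' hbad
      exact hcS ⟨Q', hbad, hover Q' hQ'⟩
    have hyB : y ∈ semiLocal K P := by
      intro Q' hQ'
      by_contra hcon
      exact hgood Q' hQ' (Or.inl (Or.inl (not_le.mp hcon)))
    have hQgood := hgood (Qc c) ⟨e, he⟩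
    have hdP : P.1 (Algebra.discr k⟮x⟯ B) = 1 := by
      have h1 : (Qc c).1 d' = 1 := by
        by_contra hcon
        exact hQgood (Or.inl (Or.inr hcon))
      rw [hd', he] at h1
      rcases lt_trichotomy (P.1 (Algebra.discr k⟮x⟯ B)) 1 with h | h | h
      · exact absurd h1 (ne_of_lt (pow_lt_one₀ zero_le h (by omega)))
      · exact h
      · exact absurd h1 (ne_of_gt (one_lt_pow₀ h (by omega)))
    have hzQ : (Qc c).1 z = 1 := by
      by_contra hcon
      exact hQgood (Or.inr hcon)
    have hdeg : P.deg = 1 := by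
      set u : k⟮x⟯ := (x₀ - algebraMap k k⟮x⟯ c)⁻¹ with hu
      have hne0 : x₀ - algebraMap k k⟮x⟯ c ≠ 0 := by
        intro h0
        have := congrArg (algebraMap k⟮x⟯ K) h0
        rw [hmapx, map_zero] at this
        exact hxc c ⟨0, by rw [map_zero, this]⟩
      have hutop : k⟮u⟯ = ⊤ := by
        rw [eq_top_iff, ← hx₀, IntermediateField.adjoin_simple_le_iff]
        have h1 : x₀ = u⁻¹ + algebraMap k k⟮x⟯ c := by rw [hu, inv_inv, sub_add_cancel]
        rw [h1]
        exact add_mem (inv_mem (IntermediateField.mem_adjoin_simple_self k u))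
          (IntermediateField.algebraMap_mem _ c)
      obtain ⟨P', hP'deg, -, hP'others⟩ := exists_simple_pole_of_adjoin_eq_top hF hutop
      have hPP' : P = P' := by
        by_contra hne
        have h1 := hP'others P hne
        rw [hu, ord_inv] at h1
        have h2 := (val_lt_one_iff P hne0).mp hPx
        omega
      rw [hPP']
      exact hP'deg
    exact isSeparable_residueField hF B y hBy P hdeg hyB hdP ⟨e, he⟩ hzQ
  exact Set.infinite_of_injOn_mapsTo (f := Qc) hQinj.injOn hmain hS.infinite_compl

/-- a function field of one variable has infinitely many places -/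
theorem infinite_places (hK : IsFunctionField k K) : (Set.univ : Set (Place k K)).Infinite := by
  classical
  intro hfin
  obtain ⟨x, hx⟩ := exists_not_mem_range hK
  have htr := transcendental_of_not_mem_range hK hx
  have hex : ∀ Q : Place k K, ∃ m : k[X], m.Monic ∧ (Q.1 x ≤ 1 → Q.1 (aeval x m) < 1) := by
    intro Q
    by_cases h : Q.1 x ≤ 1
    · obtain ⟨m, hm1, -, hm3⟩ := FZ.exists_poly_of_deg_le hK Q h
      exact ⟨m, hm1, fun _ => hm3⟩
    · exact ⟨1, monic_one, fun h' => absurd h' h⟩
  choose m hm1 hm2 using hex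
  set r : k[X] := ∏ Q ∈ hfin.toFinset, m Q with hr
  have hrmonic : r.Monic := monic_prod_of_monic _ _ (fun Q _ => hm1 Q)
  set p : k[X] := X * r with hp
  have hpmonic : p.Monic := monic_X.mul hrmonic
  have hpdeg : 1 ≤ p.natDegree := by
    rw [hp, monic_X.natDegree_mul hrmonic, natDegree_X]
    omega
  have hdeglt : (1 : k[X]).degree < p.degree := by
    rw [degree_one, degree_eq_natDegree hpmonic.ne_zero]
    exact_mod_cast hpdeg
  have hhmonic : (p + 1).Monic := hpmonic.add_of_left hdeglt
  have hhdeg : (p + 1).natDegree = p.natDegree := by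
    apply natDegree_eq_of_degree_eq
    exact degree_add_eq_left_of_degree_lt hdeglt
  have hnr : aeval x (p + 1) ∉ Set.range (algebraMap k K) := by
    rintro ⟨c, hc⟩
    have h1 : aeval x (p + 1 - C c) = 0 := by rw [map_sub, aeval_C, hc, sub_self]
    have h2 := transcendental_iff.mp htr _ h1
    have h3 : p + 1 = C c := sub_eq_zero.mp h2
    rw [h3, natDegree_C] at hhdeg
    omega
  obtain ⟨Q, hQ⟩ := exists_place_lt_one hK hnr
  have hQx : Q.1 x ≤ 1 := by
    by_contra hcon
    rw [not_le] at hcon
    rw [FHG.val_aeval_of_one_lt Q hcon hhmonic.ne_zero] at hQ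
    exact absurd (one_le_pow₀ hcon.le) (not_le.mpr hQ)
  have hQmem : Q ∈ hfin.toFinset := hfin.mem_toFinset.mpr (Set.mem_univ Q)
  obtain ⟨s, hs⟩ : m Q ∣ p := Dvd.dvd.mul_left (Finset.dvd_prod_of_mem m hQmem) X
  have h1 : Q.1 (aeval x p) < 1 := by
    rw [hs, map_mul, map_mul]
    exact mul_lt_one_of_lt_of_le (hm2 Q hQx) (val_aeval_le_one Q hQx s)
  have h2 : (1 : K) = aeval x (p + 1) - aeval x p := by rw [map_add, map_one]; ring
  have h3 := lt_of_le_of_lt (Valuation.map_sub Q.1 _ _) (max_lt hQ h1)
  rw [← h2, map_one] at h3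
  exact lt_irrefl _ h3

/-- S11004 -/
theorem main (hK : IsFunctionField k K) (hg : IsGeometric k K) :
    {P : Place k K | Algebra.IsSeparable k (IsLocalRing.ResidueField P.O)}.Infinite := by
  rcases finite_or_infinite k with hfin | hinf
  · have hall : {P : Place k K | Algebra.IsSeparable k (IsLocalRing.ResidueField P.O)} =
        Set.univ := by
      rw [Set.eq_univ_iff_forall]
      intro P
      have hfd := finiteDimensional_residueField hK P
      have : Algebra.IsAlgebraic k (IsLocalRing.ResidueField P.O) :=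
        @Algebra.IsAlgebraic.of_finite k _ _ _ _ _ hfd
      exact Algebra.IsAlgebraic.isSeparable_of_perfectField
    rw [hall]
    exact infinite_places hK
  · exact infinite_of_infinite hK hg

end main

end Groth.Agent.Lib.helper16.FSPl
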