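import Groth.Agent.Lib.helper16.FResThm
import Groth.Agent.Lib.helper16.FDivDiff
import Groth.Agent.Lib.helper16.FSepPlaces

/-! Helper library (helper16): the Weil differential of residues against `u dv` through Laurent
expansions over an arbitrary constant field, and its divisor (S12581 and companions). -/

set_option autoImplicit false

namespace Groth.Agent.Lib.helper16.FRW

open FunFld WithZero LocRes Module
open Groth.Agent.Lib.helper16
open Groth.Agent.Lib.helper16.FRLa
open Groth.Agent.Lib.helper16.FRG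
open scoped LaurentSeries

universe u v w

section loc

variable {k : Type u} {K : Type v} {F : Type w} [Field k] [Field K] [Algebra k K] [Field F]
  [Algebra k F]

theorem locRes_add_left (φ : K →ₐ[k] F⸨X⸩) (x y v : K) :
    locRes φ (x + y) v = locRes φ x v + locRes φ y v := by
  unfold locRes resExp
  rw [map_add, add_mul, map_add, map_add]

theorem locRes_smul_left (φ : K →ₐ[k] F⸨X⸩) (c : k) (x v : K) :
    locRes φ (c • x) v = c * locRes φ x v := by
  unfold locRes resExp
  rw [Algebra.smul_def, map_mul φ, φ.commutes, mul_assoc, algebraMap_mul_eq_smul, res_apply,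
    HahnSeries.coeff_smul, map_smul, smul_eq_mul, res_apply]

theorem locRes_zero_left (φ : K →ₐ[k] F⸨X⸩) (v : K) : locRes φ 0 v = 0 := by
  unfold locRes resExp
  rw [map_zero, zero_mul, map_zero, map_zero]

theorem ord_D_of_ord_zero {f : F⸨X⸩} (hf : Ord 0 f) : Ord 0 (LocRes.D F f) := by
  intro m hm
  rw [LocRes.D_coeff]
  by_cases h : m + 1 < 0
  · rw [hf (m + 1) h, smul_zero]
  · have : m + 1 = 0 := by omega
    rw [this, zero_smul]

variable {P : Place k K} {φ : K →ₐ[k] F⸨X⸩} (hφ : IsExpansionAt P.1 φ)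

/-- the series `φ u · (φ v)'` -/
noncomputable def ser (φ : K →ₐ[k] F⸨X⸩) (u v : K) : F⸨X⸩ := φ u * LocRes.D F (φ v)

theorem vDiff_eq (φ : K →ₐ[k] F⸨X⸩) (u v : K) : vDiff φ u v = Valued.v (ser φ u v) := rfl

theorem locRes_eq (φ : K →ₐ[k] F⸨X⸩) (u v : K) :
    locRes φ u v = Algebra.trace k F ((ser φ u v).coeff (-1)) := rfl

theorem ser_mul (φ : K →ₐ[k] F⸨X⸩) (a u v : K) : ser φ (a * u) v = φ a * ser φ u v := by
  unfold ser
  rw [map_mul, mul_assoc]

theorem val_ser (φ : K →ₐ[k] F⸨X⸩) {u v : K} (h : ser φ u v ≠ 0) :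
    Valued.v (ser φ u v) = exp (-(ordDiff φ u v)) := by
  unfold ordDiff
  rw [neg_neg, vDiff_eq, exp_log]
  rwa [Ne, map_eq_zero]

theorem ord_ser (φ : K →ₐ[k] F⸨X⸩) {u v : K} (h : ser φ u v ≠ 0) :
    Ord (ordDiff φ u v) (ser φ u v) ∧ (ser φ u v).coeff (ordDiff φ u v) ≠ 0 :=
  FDE.val_eq_exp_iff.mp (val_ser φ h)

include hφ in
/-- regular differentials have no residue -/
theorem locRes_eq_zero_of_val_le {a u v : K} (h : ser φ u v ≠ 0)
    (ha : P.1 a ≤ exp (ordDiff φ u v)) : locRes φ (a * u) v = 0 := by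
  rw [locRes_eq, ser_mul]
  have h1 : Ord (-(ordDiff φ u v)) (φ a) := by
    rw [← FRCm.val_le_exp_iff_ord hφ, neg_neg]
    exact ha
  have h2 := h1.mul (ord_ser φ h).1
  rw [neg_add_cancel] at h2
  rw [h2 (-1) (by omega), map_zero]

include hφ in
/-- the order of `u dv` is non-negative where `u` and `v` are integral -/
theorem ordDiff_nonneg {u v : K} (h : ser φ u v ≠ 0) (hu : P.1 u ≤ 1) (hv : P.1 v ≤ 1) :
    0 ≤ ordDiff φ u v := by
  have h1 : Ord 0 (ser φ u v) := by
    have := ((FRCm.val_le_one_iff_ord hφ u).mp hu).mul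
      (ord_D_of_ord_zero ((FRCm.val_le_one_iff_ord hφ v).mp hv))
    rwa [add_zero] at this
  by_contra hneg
  rw [not_le] at hneg
  exact (ord_ser φ h).2 (h1 _ hneg)

include hφ in
/-- a differential `x u dv` with a simple pole and prescribed residue -/
theorem exists_resExp_eq {u v : K} (h : ser φ u v ≠ 0) (c₀ : F) :
    ∃ x : K, P.1 x ≤ exp (ordDiff φ u v + 1) ∧ (ser φ (x * u) v).coeff (-1) = c₀ := by
  obtain ⟨h1, h2⟩ := ord_ser φ h
  obtain ⟨x, hx1, hx2⟩ := FRCm.exists_approx_single hφ (c₀ / (ser φ u v).coeff (ordDiff φ u v))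
    (-1 - ordDiff φ u v)
  refine ⟨x, ?_, ?_⟩
  · have := (FRCm.val_le_exp_iff_ord hφ x (-1 - ordDiff φ u v)).mpr hx1
    rwa [show -(-1 - ordDiff φ u v) = ordDiff φ u v + 1 by ring] at this
  · rw [ser_mul]
    have := FSR.coeff_mul_of_bounds (x := φ x) (y := ser φ u v) hx1 h1
    rw [show -1 - ordDiff φ u v + ordDiff φ u v = -1 by ring] at this
    rw [this, hx2, div_mul_cancel₀ _ h2]

end loc

section glob

variable {k : Type u} {K : Type v} [Field k] [Field K] [Algebra k K]
  (hK : IsFunctionField k K)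
  (F : Place k K → Type w) [∀ P, Field (F P)] [∀ P, Algebra k (F P)]
  [∀ P, FiniteDimensional k (F P)]
  (φ : ∀ P, K →ₐ[k] LaurentSeries (F P)) (hφ : ∀ P, IsExpansionAt P.1 (φ P))
  (u v : K)

include hK hφ in
theorem finite_support_res (a : ↥(adele k K)) :
    (Function.support fun P : Place k K =>
      locRes (φ P) ((a : Place k K → K) P * u) v).Finite := by
  have h1 := FF.mem_adele_iff.mp a.2
  have h2 := FRTh.finite_poles hK u
  have h3 := FRTh.finite_poles hK v
  refine ((h1.union h2).union h3).subset ?_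
  intro P hP
  by_contra hcon
  rw [Set.mem_union, Set.mem_union, not_or, not_or] at hcon
  apply hP
  obtain ⟨⟨h4, h5⟩, h6⟩ := hcon
  have h4' : P.1 ((a : Place k K → K) P) ≤ 1 := not_not.mp h4
  have h5' : P.1 u ≤ 1 := not_lt.mp h5
  have h6' : P.1 v ≤ 1 := not_lt.mp h6
  apply FRTh.locRes_eq_zero_of_le hK F φ hφ _ h6'
  rw [map_mul]
  exact mul_le_one' h4' h5'

/-- the functional `a ↦ ∑_P Res_P(a_P u dv)` -/
noncomputable def omega : Module.Dual k ↥(adele k K) where
  toFun a := ∑ᶠ P : Place k K, locRes (φ P) ((a : Place k K → K) P * u) v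
  map_add' a b := by
    rw [← finsum_add_distrib (finite_support_res hK F φ hφ u v a)
      (finite_support_res hK F φ hφ u v b)]
    apply finsum_congr
    intro P
    rw [← locRes_add_left, ← add_mul]
    rfl
  map_smul' c a := by
    rw [RingHom.id_apply, smul_eq_mul, mul_finsum]
    apply finsum_congr
    intro P
    rw [← locRes_smul_left, ← smul_mul_assoc]
    rfl

theorem omega_apply (a : ↥(adele k K)) :
    omega hK F φ hφ u v a = ∑ᶠ P : Place k K, locRes (φ P) ((a : Place k K → K) P * u) v := rfl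

theorem omega_diag (x : K) (a : ↥(adele k K)) (ha : (a : Place k K → K) = diag k K x) :
    omega hK F φ hφ u v a = 0 := by
  rw [omega_apply, ha]
  exact (FRTh.sum_locRes_eq_zero hK F φ hφ (x * u) v).2

theorem omega_iota (P : Place k K) (x : K) :
    omega hK F φ hφ u v (iota P x) = locRes (φ P) (x * u) v := by
  classical
  rw [omega_apply, finsum_eq_single _ P]
  · rw [iota_apply, if_pos rfl]
  · intro Q hQ
    rw [iota_apply, if_neg hQ, zero_mul]
    exact locRes_zero_left _ _

end glob


section sep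

variable {k : Type u} {K : Type v} {F : Type w} [Field k] [Field K] [Algebra k K] [Field F]
  [Algebra k F] {P : Place k K} {φ : K →ₐ[k] F⸨X⸩} (hφ : IsExpansionAt P.1 φ)

include hφ in
theorem ord_zero_of_mem (s : P.O) : Ord 0 (φ (s : K)) :=
  (FRCm.val_le_one_iff_ord hφ (s : K)).mp s.2

/-- the constant term of the expansion, on the valuation ring -/
noncomputable def ct : P.O →ₐ[k] F where
  toFun s := (φ (s : K)).coeff 0
  map_one' := by
    change (φ ((1 : K))).coeff 0 = 1
    rw [map_one, HahnSeries.coeff_one, if_pos rfl]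
  map_mul' s t := by
    change (φ ((s : K) * (t : K))).coeff 0 = _
    rw [map_mul]
    have := FSR.coeff_mul_of_bounds (ord_zero_of_mem hφ s) (ord_zero_of_mem hφ t)
    rwa [add_zero] at this
  map_zero' := by
    change (φ ((0 : K))).coeff 0 = 0
    rw [map_zero, HahnSeries.coeff_zero]
  map_add' s t := by
    change (φ ((s : K) + (t : K))).coeff 0 = _
    rw [map_add, HahnSeries.coeff_add]
  commutes' c := by
    change (φ (algebraMap k K c)).coeff 0 = _
    rw [LocRes.map_algebraMap, HahnSeries.C_apply, HahnSeries.coeff_single_same]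

theorem ct_apply (s : P.O) : ct hφ s = (φ (s : K)).coeff 0 := rfl

theorem ct_eq_zero_of_lt (s : P.O) (hs : P.1 (s : K) < 1) : ct hφ s = 0 := by
  rw [ct_apply]
  have h1 : P.1 (s : K) ≤ exp (-(1 : ℤ)) := FF.lt_one_iff_le_exp_neg_one.mp hs
  exact ((FRCm.val_le_exp_iff_ord hφ _ 1).mp h1) 0 (by norm_num)

include hφ in
/-- the coefficient field of an expansion at a place with separable residue field is separable -/
theorem isSeparable_of_residue [Algebra.IsSeparable k (IsLocalRing.ResidueField P.O)] :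
    Algebra.IsSeparable k F := by
  constructor
  intro a
  obtain ⟨f, hf1, hf2⟩ := hφ.2.1 a
  let s : P.O := ⟨f, hf1⟩
  have hsa : ct hφ s = a := hf2
  have hsep := Algebra.IsSeparable.isSeparable k (IsLocalRing.residue P.O s)
  have hint : IsIntegral k (IsLocalRing.residue P.O s) := hsep.isIntegral
  set m := minpoly k (IsLocalRing.residue P.O s) with hm
  have h1 : (Polynomial.aeval (IsLocalRing.residue P.O s)) m = 0 := minpoly.aeval _ _
  have h2 : IsLocalRing.residue P.O (Polynomial.aeval s m) = 0 := by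
    rw [← FF.ρO_apply, ← Polynomial.aeval_algHom_apply, FF.ρO_apply]
    exact h1
  have h3 : ct hφ (Polynomial.aeval s m) = 0 :=
    ct_eq_zero_of_lt hφ _ ((FF.residue_eq_zero_iff P _).mp h2)
  rw [← Polynomial.aeval_algHom_apply, hsa] at h3
  have h4 : minpoly k a ∣ m := minpoly.dvd k a h3
  exact Polynomial.Separable.of_dvd hsep h4

end sep

section canon

variable {k : Type u} {K : Type v} [Field k] [Field K] [Algebra k K]
  (hK : IsFunctionField k K) (hg : IsGeometric k K)
  (F : Place k K → Type w) [∀ P, Field (F P)] [∀ P, Algebra k (F P)]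
  [∀ P, FiniteDimensional k (F P)]
  (φ : ∀ P, K →ₐ[k] LaurentSeries (F P)) (hφ : ∀ P, IsExpansionAt P.1 (φ P))
  {u v : K} (hu : u ≠ 0) (hv : KaehlerDifferential.D k K v ≠ 0)

include hK hg hφ hu hv in
theorem ser_ne_zero (P : Place k K) : ser (φ P) u v ≠ 0 :=
  mul_ne_zero ((map_ne_zero (φ P)).mpr hu) (FDD.D_expand_ne_zero hK hg P (φ P) (hφ P) hv)

include hK hg hφ hu hv in
/-- `ω` vanishes on `A(E)` for every divisor `E` below the local orders -/
theorem omega_AD (E : Divisor k K) (hE : ∀ P, E P ≤ ordDiff (φ P) u v) (a : ↥(adele k K))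
    (ha : (a : Place k K → K) ∈ AD E) : omega hK F φ hφ u v a = 0 := by
  rw [omega_apply]
  apply finsum_eq_zero_of_forall_eq_zero
  intro P
  apply locRes_eq_zero_of_val_le (hφ P) (ser_ne_zero hK hg F φ hφ hu hv P)
  exact (ha P).trans (exp_le_exp.mpr (hE P))

include hK hg hφ hu hv in
theorem omega_mem_WD (E : Divisor k K) (hE : ∀ P, E P ≤ ordDiff (φ P) u v) :
    omega hK F φ hφ u v ∈ WD E := by
  rw [FF.mem_WD_iff]
  intro a ha
  obtain ⟨x, hx, y, ⟨z, rfl⟩, hxy⟩ := Submodule.mem_sup.mp ha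
  have h1 : a = (⟨x, FF.AD_le_adele _ hx⟩ : ↥(adele k K)) +
      ⟨diag k K z, FF.diag_le_adele hK ⟨z, rfl⟩⟩ := Subtype.ext hxy.symm
  rw [h1, map_add, omega_AD hK hg F φ hφ hu hv E hE _ hx, omega_diag hK F φ hφ u v z _ rfl,
    add_zero]

include hK hg hφ hu hv in
/-- a crude divisor below the local orders -/
theorem exists_le_ordDiff : ∃ E : Divisor k K, ∀ P, E P ≤ ordDiff (φ P) u v := by
  classical
  have h2 := FRTh.finite_poles hK u
  have h3 := FRTh.finite_poles hK v
  set S : Finset (Place k K) := (h2.union h3).toFinset with hSdef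
  refine ⟨Finsupp.onFinset S (fun P => if P ∈ S then min (ordDiff (φ P) u v) 0 else 0) ?_, ?_⟩
  · intro P hP
    by_contra hcon
    rw [if_neg hcon] at hP
    exact hP rfl
  · intro P
    rw [Finsupp.onFinset_apply]
    split_ifs with h
    · exact min_le_left _ _
    · rw [hSdef, Set.Finite.mem_toFinset, Set.mem_union, not_or] at h
      exact ordDiff_nonneg (hφ P) (ser_ne_zero hK hg F φ hφ hu hv P) (not_lt.mp h.1)
        (not_lt.mp h.2)

include hK hg hφ hu hv in
theorem isWeil_omega : IsWeil (omega hK F φ hφ u v) := by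
  obtain ⟨E, hE⟩ := exists_le_ordDiff hK hg F φ hφ hu hv
  exact ⟨E, omega_mem_WD hK hg F φ hφ hu hv E hE⟩

include hK hg hφ hu hv in
/-- the local component of `ω` at a place whose coefficient field is separable is nonzero, with
a pole one order worse than allowed -/
theorem exists_omega_iota_ne_zero (P : Place k K) [Algebra.IsSeparable k (F P)] :
    ∃ x : K, P.1 x ≤ exp (ordDiff (φ P) u v + 1) ∧ omega hK F φ hφ u v (iota P x) ≠ 0 := by
  obtain ⟨c, hc⟩ : ∃ c : F P, Algebra.trace k (F P) c ≠ 0 := by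
    by_contra hcon
    push Not at hcon
    have h1 : Algebra.trace k (F P) = 0 := LinearMap.ext hcon
    exact Algebra.trace_ne_zero k (F P) h1
  obtain ⟨x, hx1, hx2⟩ := exists_resExp_eq (hφ P) (ser_ne_zero hK hg F φ hφ hu hv P) c
  refine ⟨x, hx1, ?_⟩
  rw [omega_iota, locRes_eq, hx2]
  exact hc

include hK hg hφ hu hv in
theorem omega_ne_zero : omega hK F φ hφ u v ≠ 0 := by
  obtain ⟨P₁, hP₁⟩ := (FSPl.main hK hg).nonempty
  have hsep : Algebra.IsSeparable k (IsLocalRing.ResidueField P₁.O) := hP₁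
  have : Algebra.IsSeparable k (F P₁) := isSeparable_of_residue (hφ P₁)
  obtain ⟨x, -, hx⟩ := exists_omega_iota_ne_zero hK hg F φ hφ hu hv P₁
  intro h0
  apply hx
  rw [h0]
  rfl


include hK hg hφ hu hv in
/-- every coefficient field is separable over `k`: the local component of `ω` at `P` is not zero -/
theorem isSeparable_coeff (P : Place k K) : Algebra.IsSeparable k (F P) := by
  classical
  obtain ⟨C, hC⟩ := FF.exists_isDivOf hK _ (isWeil_omega hK hg F φ hφ hu hv)
    (omega_ne_zero hK hg F φ hφ hu hv)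
  have h1 : omega hK F φ hφ u v ∉ WD (C + Finsupp.single P 1) := by
    intro h
    have := (hC _).mp h P
    rw [Finsupp.add_apply, Finsupp.single_eq_same] at this
    omega
  rw [FF.mem_WD_iff] at h1
  push Not at h1
  obtain ⟨a, ha, hne⟩ := h1
  obtain ⟨x, hx, y, ⟨z, rfl⟩, hxy⟩ := Submodule.mem_sup.mp ha
  have h2 : a = (⟨x, FF.AD_le_adele _ hx⟩ : ↥(adele k K)) +
      ⟨diag k K z, FF.diag_le_adele hK ⟨z, rfl⟩⟩ := Subtype.ext hxy.symm
  rw [h2, map_add, omega_diag hK F φ hφ u v z ⟨diag k K z, FF.diag_le_adele hK ⟨z, rfl⟩⟩ rfl,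
    add_zero] at hne
  set X : ↥(adele k K) := ⟨x, FF.AD_le_adele _ hx⟩ with hX
  have h3 : X = (X - iota P (x P)) + iota P (x P) := (sub_add_cancel _ _).symm
  have h4 : omega hK F φ hφ u v (X - iota P (x P)) = 0 := by
    apply (FF.mem_WD_iff.mp (FF.isDivOf_mem_WD hC)) _ (Submodule.mem_sup_left ?_)
    intro Q
    rw [Submodule.coe_sub, Pi.sub_apply, iota_apply]
    split_ifs with h
    · rw [h]
      change P.1 (x P - x P) ≤ _
      rw [sub_self, map_zero]
      exact zero_le
    · rw [sub_zero]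
      have := hx Q
      rw [Finsupp.add_apply, Finsupp.single_eq_of_ne h, add_zero] at this
      exact this
  rw [h3, map_add, h4, zero_add, omega_iota, locRes_eq] at hne
  by_contra hsep
  apply hne
  rw [Algebra.trace_eq_zero_of_not_isSeparable hsep]
  rfl

include hK hg hφ hu hv in
/-- the divisor of `ω` is given by the local orders of `u dv` -/
theorem isDivOf_apply {C : Divisor k K} (hC : IsDivOf (omega hK F φ hφ u v) C) (P : Place k K) :
    C P = ordDiff (φ P) u v := by
  classical
  have hB : ∀ Q : Place k K, C Q ≤ ordDiff (φ Q) u v := by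
    intro Q
    by_contra hcon
    rw [not_le] at hcon
    have := isSeparable_coeff hK hg F φ hφ hu hv Q
    obtain ⟨x, hx1, hx2⟩ := exists_omega_iota_ne_zero hK hg F φ hφ hu hv Q
    apply hx2
    apply (FF.mem_WD_iff.mp (FF.isDivOf_mem_WD hC)) _ (Submodule.mem_sup_left ?_)
    intro R
    rw [iota_apply]
    split_ifs with h
    · rw [h]
      exact hx1.trans (exp_le_exp.mpr (by omega))
    · rw [map_zero]
      exact zero_le
  apply le_antisymm (hB P)
  have h1 : omega hK F φ hφ u v ∈ WD (C + Finsupp.single P (ordDiff (φ P) u v - C P)) := by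
    apply omega_mem_WD hK hg F φ hφ hu hv
    intro Q
    rw [Finsupp.add_apply]
    by_cases h : Q = P
    · rw [h, Finsupp.single_eq_same]
      omega
    · rw [Finsupp.single_eq_of_ne h, add_zero]
      exact hB Q
  have h2 := (hC _).mp h1 P
  rw [Finsupp.add_apply, Finsupp.single_eq_same] at h2
  omega

include hK hg hφ hu hv in
theorem exists_isDivOf_omega : ∃ C : Divisor k K, IsDivOf (omega hK F φ hφ u v) C ∧
    ∀ P, C P = ordDiff (φ P) u v := by
  obtain ⟨C, hC⟩ := FF.exists_isDivOf hK _ (isWeil_omega hK hg F φ hφ hu hv)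
    (omega_ne_zero hK hg F φ hφ hu hv)
  exact ⟨C, hC, isDivOf_apply hK hg F φ hφ hu hv hC⟩

include hK hg hφ hu hv in
theorem finite_support_ordDiff : (Function.support fun P => ordDiff (φ P) u v).Finite := by
  obtain ⟨C, -, hC⟩ := exists_isDivOf_omega hK hg F φ hφ hu hv
  refine C.support.finite_toSet.subset ?_
  intro P hP
  rw [Function.mem_support, ← hC P] at hP
  exact Finsupp.mem_support_iff.mpr hP

include hK hg hφ hu hv in
theorem isDivOf_omega (C : Divisor k K) (hC : ∀ P, C P = ordDiff (φ P) u v) :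
    IsDivOf (omega hK F φ hφ u v) C := by
  obtain ⟨C', hC', hC''⟩ := exists_isDivOf_omega hK hg F φ hφ hu hv
  have : C = C' := Finsupp.ext fun P => by rw [hC P, hC'' P]
  rw [this]
  exact hC'

include hK hg hφ hu hv in
/-- S12581 -/
theorem main :
    ∃ ω : Module.Dual k (adele k K),
      (∀ a : adele k K, (Function.support fun P =>
          locRes (φ P) ((a : Place k K → K) P * u) v).Finite ∧
        ω a = ∑ᶠ P, locRes (φ P) ((a : Place k K → K) P * u) v) ∧
      IsWeil ω ∧ ω ≠ 0 ∧
      (Function.support fun P => ordDiff (φ P) u v).Finite ∧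
      ∀ C : Divisor k K, (∀ P, C P = ordDiff (φ P) u v) → IsDivOf ω C :=
  ⟨omega hK F φ hφ u v, fun a => ⟨finite_support_res hK F φ hφ u v a, rfl⟩,
    isWeil_omega hK hg F φ hφ hu hv, omega_ne_zero hK hg F φ hφ hu hv,
    finite_support_ordDiff hK hg F φ hφ hu hv, isDivOf_omega hK hg F φ hφ hu hv⟩

end canon

end Groth.Agent.Lib.helper16.FRW
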