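import Groth.Agent.Lib.helper16.FXExt
import Groth.Prelude.Def_W4bk4goldsch45

/-! Helper library (helper16): the conorm of divisors in a finite extension of function fields. -/

set_option autoImplicit false

namespace Groth.Agent.Lib.helper16.FX

open FunFld WithZero Polynomial Module Groth.Agent.Lib.helper16.FF
open scoped IntermediateField

variable {k K K' : Type*} [Field k] [Field K] [Field K'] [Algebra k K] [Algebra K K']
  [Algebra k K'] [IsScalarTower k K K']

variable (K') in
open scoped Classical in
/-- the conorm of a single place -/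
noncomputable def conormP (P : Place k K) : Divisor k K' :=
  if h : {Q : Place k K' | IsOver Q P}.Finite then
    h.toFinset.sum (fun Q => (ramIdx Q P : ℤ) • Finsupp.single Q 1) else 0

theorem conorm_eq (D : Divisor k K) :
    conorm K' D = D.sum fun P n => n • conormP K' P := rfl

theorem finite_isOver [FiniteDimensional K K'] (hK : IsFF1 k K) (P : Place k K) :
    {Q : Place k K' | IsOver Q P}.Finite := by
  have hK' : IsFF1 k K' := isFF1_of_finite K' hK
  obtain ⟨t, ht⟩ := exists_uniformizer P
  have ht0 : t ≠ 0 := by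
    rintro rfl
    rw [map_zero] at ht
    exact exp_ne_zero ht.symm
  have httr : Transcendental k t :=
    transcendental_of_val_lt_one P ht0 (by rw [ht, ← exp_zero, exp_lt_exp]; omega)
  have ht'tr : Transcendental k (algebraMap K K' t) :=
    (transcendental_algebraMap_iff (algebraMap K K').injective).mpr httr
  refine (zeros_finite hK' ht'tr).subset ?_
  rintro Q ⟨e, he⟩
  show Q.1 (algebraMap K K' t) < 1
  rw [he t, ht]
  exact pow_lt_one₀ zero_le (by rw [← exp_zero, exp_lt_exp]; omega)
    (by have := isOverWith_pos he; omega)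

open scoped Classical in
theorem conormP_apply [FiniteDimensional K K'] (hK : IsFF1 k K) (P : Place k K)
    (Q : Place k K') :
    conormP K' P Q = if IsOver Q P then (ramIdx Q P : ℤ) else 0 := by
  unfold conormP
  rw [dif_pos (finite_isOver hK P), Finsupp.finsetSum_apply]
  by_cases hQ : IsOver Q P
  · rw [if_pos hQ, Finset.sum_eq_single Q]
    · rw [Finsupp.smul_apply, Finsupp.single_eq_same, smul_eq_mul, mul_one]
    · intro Q' _ hQ'
      rw [Finsupp.smul_apply, Finsupp.single_eq_of_ne (Ne.symm hQ'), smul_zero]
    · intro h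
      exact absurd ((finite_isOver hK P).mem_toFinset.mpr hQ) h
  · rw [if_neg hQ]
    apply Finset.sum_eq_zero
    intro Q' hQ'
    have hQ'over : IsOver Q' P := (finite_isOver hK P).mem_toFinset.mp hQ'
    have hne : Q ≠ Q' := by
      rintro rfl
      exact hQ hQ'over
    rw [Finsupp.smul_apply, Finsupp.single_eq_of_ne hne, smul_zero]

theorem deg_conormP [FiniteDimensional K K'] (hK : IsFunctionField k K) (P : Place k K) :
    (conormP K' P).deg = finrank K K' * P.deg := by
  classical
  obtain ⟨hfin, hsum⟩ := sum_ramIdx_mul_deg (K' := K') hK P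
  have h1 := hsum hfin.toFinset (fun Q => hfin.mem_toFinset)
  unfold conormP
  rw [dif_pos hfin, ← degHom_apply, map_sum]
  have h2 : ∀ Q ∈ hfin.toFinset, degHom ((ramIdx Q P : ℤ) • Finsupp.single Q (1 : ℤ)) =
      ((ramIdx Q P * Q.deg : ℕ) : ℤ) := by
    intro Q _
    rw [map_zsmul, degHom_apply, deg_single]
    push_cast
    simp
  rw [Finset.sum_congr rfl h2, ← Nat.cast_sum, h1]
  push_cast
  rfl

/-- `deg N*(D) = [K' : K] deg D` -/
theorem deg_conorm [FiniteDimensional K K'] (hK : IsFunctionField k K) (D : Divisor k K) :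
    (conorm K' D).deg = finrank K K' * D.deg := by
  rw [conorm_eq, ← degHom_apply, map_finsuppSum]
  unfold Divisor.deg Finsupp.sum
  rw [Finset.mul_sum]
  apply Finset.sum_congr rfl
  intro P _
  show degHom (D P • conormP K' P) = (finrank K K' : ℤ) * (D P * P.deg)
  rw [map_zsmul, degHom_apply, deg_conormP hK]
  simp only [smul_eq_mul]
  ring

theorem conorm_apply [FiniteDimensional K K'] (hK : IsFF1 k K) (D : Divisor k K)
    {Q : Place k K'} {P : Place k K} (h : IsOver Q P) :
    conorm K' D Q = ramIdx Q P * D P := by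
  classical
  rw [conorm_eq, Finsupp.sum_apply]
  unfold Finsupp.sum
  have hterm : ∀ P' ∈ D.support, (D P' • conormP K' P') Q =
      if P' = P then (ramIdx Q P : ℤ) * D P else 0 := by
    intro P' _
    rw [Finsupp.smul_apply, conormP_apply hK]
    by_cases hP' : P' = P
    · subst hP'
      rw [if_pos h, if_pos rfl, smul_eq_mul, mul_comm]
    · rw [if_neg hP', if_neg, smul_zero]
      intro h'
      obtain ⟨e, he⟩ := h
      obtain ⟨e', he'⟩ := h'
      exact hP' (isOverWith_unique he' he).1
  rw [Finset.sum_congr rfl hterm, Finset.sum_ite_eq']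
  by_cases hP : P ∈ D.support
  · rw [if_pos hP]
  · rw [if_neg hP, Finsupp.notMem_support_iff.mp hP, mul_zero]

/-- `(x)_{K'} = N*((x)_K)` -/
theorem div_algebraMap [FiniteDimensional K K'] (hK : IsFF1 k K) (x : K) :
    FunFld.div k (algebraMap K K' x) = conorm K' (FunFld.div k x) := by
  have hK' : IsFF1 k K' := isFF1_of_finite K' hK
  ext Q
  obtain ⟨P, e, he⟩ := exists_isOverWith hK Q
  rw [conorm_apply hK _ ⟨e, he⟩, div_apply hK', div_apply hK, ramIdx_eq he, isOverWith_ord he]

section tower

variable {K'' : Type*} [Field K''] [Algebra k K''] [Algebra K' K''] [Algebra K K'']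
  [IsScalarTower k K' K''] [IsScalarTower k K K''] [IsScalarTower K K' K'']

omit [IsScalarTower k K K'] [IsScalarTower k K' K''] [IsScalarTower k K K''] in
theorem isOverWith_trans {Q'' : Place k K''} {Q' : Place k K'} {P : Place k K} {e' e'' : ℕ}
    (h'' : IsOverWith Q'' Q' e'') (h' : IsOverWith Q' P e') : IsOverWith Q'' P (e' * e'') := by
  intro x
  rw [IsScalarTower.algebraMap_apply K K' K'', h'' (algebraMap K K' x), h' x, pow_mul]

/-- transitivity of the conorm in a tower `K ⊆ K' ⊆ K''` -/
theorem conorm_conorm [FiniteDimensional K K'] [FiniteDimensional K' K''] (hK : IsFF1 k K)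
    (D : Divisor k K) :
    conorm K'' (conorm K' D) = conorm K'' D := by
  have hK' : IsFF1 k K' := isFF1_of_finite K' hK
  have : FiniteDimensional K K'' := FiniteDimensional.trans K K' K''
  ext Q''
  obtain ⟨Q', e'', he''⟩ := exists_isOverWith hK' Q''
  obtain ⟨P, e', he'⟩ := exists_isOverWith hK Q'
  have he := isOverWith_trans he'' he'
  rw [conorm_apply hK' _ ⟨e'', he''⟩, conorm_apply hK _ ⟨e', he'⟩, conorm_apply hK _ ⟨_, he⟩,
    ramIdx_eq he'', ramIdx_eq he', ramIdx_eq he]
  push_cast
  ring

end tower

section mapDiv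

omit [IsScalarTower k K K'] [Algebra k K'] [Algebra K K'] [Field K'] in
theorem mapDiv_apply (hK : IsFF1 k K) {ι : Type*} [Fintype ι] [Nonempty ι]
    (φ : ι → K) (P : Place k K) :
    mapDiv k φ P = -(Finset.univ.inf' Finset.univ_nonempty fun i => P.ord (φ i)) := by
  have hfin : (Function.support fun P : Place k K =>
      -Finset.univ.inf' Finset.univ_nonempty (fun i => P.ord (φ i))).Finite := by
    have hsub : (Function.support fun P : Place k K =>
        -Finset.univ.inf' Finset.univ_nonempty (fun i => P.ord (φ i))) ⊆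
        ⋃ i, Function.support fun P : Place k K => P.ord (φ i) := by
      intro Q hQ
      by_contra hcon
      simp only [Set.mem_iUnion, Function.mem_support, not_exists, not_not] at hcon
      apply hQ
      show -Finset.univ.inf' Finset.univ_nonempty (fun i => Q.ord (φ i)) = 0
      have : (fun i => Q.ord (φ i)) = fun _ => (0 : ℤ) := funext hcon
      rw [this, Finset.inf'_const, neg_zero]
    exact (Set.finite_iUnion fun i => finite_support_ord hK (φ i)).subset hsub
  unfold mapDiv
  rw [dif_pos hfin]
  rfl

/-- the divisor of a projective map with entries in the smaller field, read in the bigger field,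
is the conorm of its divisor -/
theorem mapDiv_algebraMap [FiniteDimensional K K'] (hK : IsFF1 k K) {ι : Type*} [Fintype ι]
    [Nonempty ι] (φ : ι → K) :
    mapDiv k (fun i => algebraMap K K' (φ i)) = conorm K' (mapDiv k φ) := by
  have hK' : IsFF1 k K' := isFF1_of_finite K' hK
  ext Q
  obtain ⟨P, e, he⟩ := exists_isOverWith hK Q
  rw [conorm_apply hK _ ⟨e, he⟩, mapDiv_apply hK', mapDiv_apply hK, ramIdx_eq he]
  have h1 : (fun i => Q.ord (algebraMap K K' (φ i))) = fun i => (e : ℤ) * P.ord (φ i) :=
    funext fun i => isOverWith_ord he (φ i)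
  rw [h1]
  obtain ⟨j, -, hj⟩ := Finset.exists_mem_eq_inf' Finset.univ_nonempty fun i => P.ord (φ i)
  have h2 : Finset.univ.inf' Finset.univ_nonempty (fun i => (e : ℤ) * P.ord (φ i)) =
      (e : ℤ) * P.ord (φ j) := by
    apply le_antisymm
    · exact Finset.inf'_le _ (Finset.mem_univ j)
    · apply Finset.le_inf'
      intro i _
      apply mul_le_mul_of_nonneg_left _ (Int.natCast_nonneg e)
      rw [← hj]
      exact Finset.inf'_le _ (Finset.mem_univ i)
  rw [h2, hj]
  ring

end mapDiv

end Groth.Agent.Lib.helper16.FX
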