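import Groth.Agent.Lib.helper16.FResWeil3
import Groth.Agent.Lib.helper16.FResWeil2
import Groth.Agent.Lib.helper16.FSepPlaces2
import Groth.Agent.Lib.helper16.FHasseU
import Groth.Agent.Lib.helper16.FXConorm

/-! Helper library (helper16): the Riemann–Hurwitz genus formula through Laurent expansions
(S12576). -/

set_option autoImplicit false

namespace Groth.Agent.Lib.helper16.FRH

open FunFld WithZero LocRes Module
open Groth.Agent.Lib.helper16
open Groth.Agent.Lib.helper16.FRLa
open Groth.Agent.Lib.helper16.FRW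
open scoped LaurentSeries IntermediateField

universe u v w

section fd

variable {k : Type u} {K : Type v} {F : Type w} [Field k] [Field K] [Algebra k K] [Field F]
  [Algebra k F] {P : Place k K} {φ : K →ₐ[k] F⸨X⸩}

/-- the coefficient field of an expansion at a place is finite over the constants -/
theorem finiteDimensional_coeff (hK : IsFunctionField k K) (hφ : IsExpansionAt P.1 φ) :
    FiniteDimensional k F := by
  classical
  have hfd := FF.finiteDimensional_residueField hK P
  let b := Module.finBasis k (IsLocalRing.ResidueField P.O)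
  choose s hs using fun i => IsLocalRing.residue_surjective (b i)
  rw [FiniteDimensional, Module.finite_def]
  refine ⟨Finset.univ.image (fun i => ct hφ (s i)), ?_⟩
  rw [eq_top_iff]
  intro a _
  obtain ⟨f, hf1, hf2⟩ := hφ.2.1 a
  let t : P.O := ⟨f, hf1⟩
  have hta : ct hφ t = a := hf2
  have h1 := b.sum_repr (IsLocalRing.residue P.O t)
  have h2 : IsLocalRing.residue P.O (t - ∑ i, b.repr (IsLocalRing.residue P.O t) i • s i) = 0 := by
    rw [map_sub, map_sum]
    simp only [FF.residue_smul, hs]
    exact sub_eq_zero.mpr h1.symm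
  have h3 : ct hφ (t - ∑ i, b.repr (IsLocalRing.residue P.O t) i • s i) = 0 :=
    ct_eq_zero_of_lt hφ _ ((FF.residue_eq_zero_iff P _).mp h2)
  rw [map_sub, map_sum, sub_eq_zero, hta] at h3
  rw [h3]
  apply Submodule.sum_mem
  intro i _
  rw [map_smul]
  apply Submodule.smul_mem
  apply Submodule.subset_span
  rw [Finset.coe_image]
  exact ⟨i, Finset.mem_coe.mpr (Finset.mem_univ i), rfl⟩

end fd

section tower

variable {k k' : Type u} {K K' : Type v} [Field k] [Field k'] [Field K] [Field K']
  [Algebra k k'] [Algebra k K] [Algebra K K'] [Algebra k' K'] [Algebra k K']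
  [IsScalarTower k k' K'] [IsScalarTower k K K']

/-- a place over the big constant field, seen over the small one -/
def toK (Q : Place k' K') : Place k K' :=
  ⟨Q.1, fun c => by rw [IsScalarTower.algebraMap_apply k k' K']; exact Q.2.1 _, Q.2.2⟩

omit [IsScalarTower k K K'] in
theorem toK_val (Q : Place k' K') : (toK (k := k) Q).1 = Q.1 := rfl

omit [IsScalarTower k K K'] in
theorem toK_injective : Function.Injective (toK (k := k) (k' := k') (K' := K')) := by
  intro Q Q' h
  apply Subtype.ext
  have h1 : (toK (k := k) Q).1 = (toK (k := k) Q').1 := by rw [h]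
  exact h1

omit [IsScalarTower k K K'] in
theorem toK_surjective [Algebra.IsAlgebraic k k'] (R : Place k K') :
    ∃ Q : Place k' K', toK (k := k) Q = R := by
  refine ⟨⟨R.1, fun c => ?_, R.2.2⟩, rfl⟩
  have hk : ∀ c : k, algebraMap k K' c ∈ R.1.valuationSubring := fun c => R.2.1 c
  have halg : IsAlgebraic k (algebraMap k' K' c) :=
    (Algebra.IsAlgebraic.isAlgebraic c).algebraMap
  exact FX.mem_of_isAlgebraic (k := k) R.1.valuationSubring hk halg

omit [IsScalarTower k K K'] in
theorem deg_toK [FiniteDimensional k k'] (hK' : IsFunctionField k' K') (Q : Place k' K') :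
    (toK (k := k) Q).deg = finrank k k' * Q.deg := by
  letI : Algebra k (IsLocalRing.ResidueField Q.O) := Place.algRes (toK (k := k) Q)
  have : IsScalarTower k k' (IsLocalRing.ResidueField Q.O) :=
    IsScalarTower.of_algebraMap_eq (fun c =>
      congrArg (IsLocalRing.residue Q.O) (Subtype.ext (IsScalarTower.algebraMap_apply k k' K' c)))
  have hfd := FF.finiteDimensional_residueField hK' Q
  have h1 := @Module.finrank_mul_finrank k k' (IsLocalRing.ResidueField Q.O) _ _ _ _ _ _ this _ _ _ _
  exact h1.symm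

end tower


section septop

variable {k k' : Type u} {K K' : Type v} [Field k] [Field k'] [Field K] [Field K']
  [Algebra k k'] [Algebra k K] [Algebra K K'] [Algebra k' K'] [Algebra k K']
  [IsScalarTower k k' K'] [IsScalarTower k K K'] [Algebra.IsSeparable K K']

/-- a separating element of `K/k` is separating for `K'/k'` -/
theorem isSeparable_top (x : K) (hsep : Algebra.IsSeparable k⟮x⟯ K) :
    Algebra.IsSeparable k'⟮algebraMap K K' x⟯ K' := by
  set L := k⟮x⟯ with hL
  set L' := k'⟮algebraMap K K' x⟯ with hL'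
  have hmem : ∀ a : L, algebraMap K K' (a : K) ∈ L' := by
    let M : IntermediateField k K :=
      IntermediateField.comap (IsScalarTower.toAlgHom k K K') (L'.restrictScalars k)
    have hxM : x ∈ M := by
      change algebraMap K K' x ∈ L'
      exact IntermediateField.mem_adjoin_simple_self k' _
    have hle : L ≤ M := IntermediateField.adjoin_simple_le_iff.mpr hxM
    intro a
    exact hle a.2
  let ι : L →+* L' := (algebraMap K K').comp (algebraMap L K) |>.codRestrict L'.toSubfield hmem
  have hsepLK' : Algebra.IsSeparable L K' := Algebra.IsSeparable.trans L K K'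
  constructor
  intro z
  have h1 : (minpoly L z).Separable := Algebra.IsSeparable.isSeparable L z
  have h2 : ((minpoly L z).map ι).Separable := h1.map
  have h3 : Polynomial.aeval z ((minpoly L z).map ι) = 0 := by
    rw [Polynomial.aeval_def, Polynomial.eval₂_map]
    have : (algebraMap L' K').comp ι = algebraMap L K' := by
      ext a
      rfl
    rw [this, ← Polynomial.aeval_def, minpoly.aeval]
  exact Polynomial.Separable.of_dvd h2 (minpoly.dvd L' z h3)

end septop

section rh

variable {k k' : Type u} {K K' : Type v} [Field k] [Field k'] [Field K] [Field K']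
  [Algebra k k'] [Algebra k K] [Algebra K K'] [Algebra k' K'] [Algebra k K']
  [IsScalarTower k k' K'] [IsScalarTower k K K'] [FiniteDimensional k k'] [FiniteDimensional K K']
  (hK : IsFunctionField k K) (hK' : IsFunctionField k' K')
  (below : Place k' K' → Place k K) (e : Place k' K' → ℕ)
  (he : ∀ Q (z : K), Q.1 (algebraMap K K' z) = (below Q).1 z ^ e Q)

include he in
theorem isOverWith_toK (Q : Place k' K') : IsOverWith (toK (k := k) Q) (below Q) (e Q) :=
  fun z => he Q z

include hK he in
theorem finite_fibre (P : Place k K) : {Q : Place k' K' | below Q = P}.Finite := by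
  have h1 := (FX.sum_ramIdx_mul_deg (K' := K') hK P).1
  refine (h1.preimage (toK_injective (k := k) (k' := k') (K' := K')).injOn).subset ?_
  intro Q hQ
  rw [Set.mem_preimage, Set.mem_ofPred_eq]
  have hQ' : below Q = P := hQ
  rw [← hQ']
  exact ⟨e Q, isOverWith_toK below e he Q⟩

include hK hK' he in
/-- the fundamental identity over the fibre of `below` -/
theorem sum_fibre (P : Place k K) :
    ∑ Q ∈ (finite_fibre hK below e he P).toFinset, e Q * (finrank k k' * Q.deg) =
      finrank K K' * P.deg := by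
  classical
  have h1 := (FX.sum_ramIdx_mul_deg (K' := K') hK P).2
  set fib := (finite_fibre hK below e he P).toFinset with hfib
  have h2 : ∀ R : Place k K', R ∈ fib.image (toK (k := k)) ↔ IsOver R P := by
    intro R
    rw [Finset.mem_image]
    constructor
    · rintro ⟨Q, hQ, rfl⟩
      rw [hfib, Set.Finite.mem_toFinset] at hQ
      have hQ' : below Q = P := hQ
      rw [← hQ']
      exact ⟨e Q, isOverWith_toK below e he Q⟩
    · rintro ⟨e', he'⟩
      obtain ⟨Q, rfl⟩ := toK_surjective (k := k) (k' := k') R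
      refine ⟨Q, ?_, rfl⟩
      rw [hfib, Set.Finite.mem_toFinset]
      exact (FX.isOverWith_unique (isOverWith_toK below e he Q) he').1
  have h3 := h1 _ h2
  rw [Finset.sum_image (fun Q _ Q' _ h => toK_injective h)] at h3
  rw [← h3]
  apply Finset.sum_congr rfl
  intro Q hQ
  have hQ' : below Q = P := by
    rw [hfib, Set.Finite.mem_toFinset] at hQ
    exact hQ
  have h5 := isOverWith_toK (k := k) below e he Q
  rw [hQ'] at h5
  rw [FX.ramIdx_eq h5, deg_toK hK' Q]

include hK hK' he in
/-- the degree bookkeeping behind the genus formula -/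
theorem deg_identity (C : Divisor k K) (C' : Divisor k' K') :
    (Function.support fun Q => C' Q - (e Q : ℤ) * C (below Q)).Finite ∧
    (finrank k k' : ℤ) * C'.deg = (finrank K K' : ℤ) * C.deg +
      (finrank k k' : ℤ) * ∑ᶠ Q, (C' Q - (e Q : ℤ) * C (below Q)) * (Q.deg : ℤ) := by
  classical
  set T := C.support with hT
  set fib : Place k K → Finset (Place k' K') := fun P => (finite_fibre hK below e he P).toFinset
    with hfib
  have hmemfib : ∀ P Q, Q ∈ fib P ↔ below Q = P := by
    intro P Q
    rw [hfib]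
    exact Set.Finite.mem_toFinset _
  set U : Finset (Place k' K') := C'.support ∪ T.biUnion fib with hU
  have hsupp : (Function.support fun Q => C' Q - (e Q : ℤ) * C (below Q)) ⊆ U := by
    intro Q hQ
    rw [Function.mem_support] at hQ
    rw [hU, Finset.coe_union, Set.mem_union]
    by_contra hcon
    rw [not_or] at hcon
    apply hQ
    have h1 : C' Q = 0 := Finsupp.notMem_support_iff.mp hcon.1
    have h2 : C (below Q) = 0 := by
      by_contra h
      apply hcon.2
      rw [Finset.mem_coe, Finset.mem_biUnion]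
      exact ⟨below Q, Finsupp.mem_support_iff.mpr h, (hmemfib _ _).mpr rfl⟩
    rw [h1, h2, mul_zero, sub_zero]
  refine ⟨U.finite_toSet.subset hsupp, ?_⟩
  have hsupp2 : (Function.support fun Q => (C' Q - (e Q : ℤ) * C (below Q)) * (Q.deg : ℤ)) ⊆ U := by
    intro Q hQ
    apply hsupp
    rw [Function.mem_support] at hQ ⊢
    intro h
    apply hQ
    rw [h, zero_mul]
  rw [finsum_eq_sum_of_support_subset _ hsupp2]
  have hC' : C'.deg = ∑ Q ∈ U, C' Q * (Q.deg : ℤ) := by
    unfold Divisor.deg
    rw [Finsupp.sum_of_support_subset C' (Finset.subset_union_left)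
      (fun (Q : Place k' K') (n : ℤ) => n * (Q.deg : ℤ)) (fun Q _ => zero_mul _)]
  have hC : (finrank K K' : ℤ) * C.deg =
      ∑ Q ∈ U, (e Q : ℤ) * C (below Q) * ((finrank k k' : ℤ) * (Q.deg : ℤ)) := by
    have h1 : ∑ Q ∈ U, (e Q : ℤ) * C (below Q) * ((finrank k k' : ℤ) * (Q.deg : ℤ)) =
        ∑ Q ∈ T.biUnion fib, (e Q : ℤ) * C (below Q) * ((finrank k k' : ℤ) * (Q.deg : ℤ)) := by
      symm
      apply Finset.sum_subset Finset.subset_union_right
      intro Q _ hQ
      have h2 : C (below Q) = 0 := by
        by_contra h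
        apply hQ
        rw [Finset.mem_biUnion]
        exact ⟨below Q, Finsupp.mem_support_iff.mpr h, (hmemfib _ _).mpr rfl⟩
      rw [h2, mul_zero, zero_mul]
    rw [h1, Finset.sum_biUnion]
    · unfold Divisor.deg Finsupp.sum
      rw [Finset.mul_sum]
      apply Finset.sum_congr rfl
      intro P _
      have h3 := sum_fibre hK hK' below e he P
      have h4 : ∑ Q ∈ fib P, (e Q : ℤ) * C (below Q) * ((finrank k k' : ℤ) * (Q.deg : ℤ)) =
          C P * ∑ Q ∈ fib P, ((e Q * (finrank k k' * Q.deg) : ℕ) : ℤ) := by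
        rw [Finset.mul_sum]
        apply Finset.sum_congr rfl
        intro Q hQ
        rw [(hmemfib P Q).mp hQ]
        push_cast
        ring
      rw [h4, ← Nat.cast_sum]
      change _ = C P * ((∑ Q ∈ (finite_fibre hK below e he P).toFinset,
        e Q * (finrank k k' * Q.deg) : ℕ) : ℤ)
      rw [h3]
      push_cast
      ring
    · intro P _ P' _ hne
      rw [Function.onFun, Finset.disjoint_left]
      intro Q hQ hQ'
      exact hne (((hmemfib P Q).mp hQ).symm.trans ((hmemfib P' Q).mp hQ'))
  rw [hC', hC, Finset.mul_sum, Finset.mul_sum, ← Finset.sum_add_distrib]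
  apply Finset.sum_congr rfl
  intro Q _
  ring

end rh


section main

variable {k k' : Type u} {K K' : Type v} [Field k] [Field k'] [Field K] [Field K']
  [Algebra k k'] [Algebra k K] [Algebra K K'] [Algebra k' K'] [Algebra k K']
  [IsScalarTower k k' K'] [IsScalarTower k K K'] [FiniteDimensional k k'] [FiniteDimensional K K']
  [Algebra.IsSeparable K K']

/-- S12576 -/
theorem main (hK : IsFunctionField k K) (hg : IsGeometric k K) (hK' : IsFunctionField k' K')
    (F : Place k K → Type w) [∀ P, Field (F P)] [∀ P, Algebra k (F P)]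
    (φ : ∀ P, K →ₐ[k] LaurentSeries (F P)) (hφ : ∀ P, IsExpansionAt P.1 (φ P))
    (F' : Place k' K' → Type w) [∀ Q, Field (F' Q)] [∀ Q, Algebra k' (F' Q)]
    (ψ : ∀ Q, K' →ₐ[k'] LaurentSeries (F' Q)) (hψ : ∀ Q, IsExpansionAt Q.1 (ψ Q))
    (below : Place k' K' → Place k K) (e : Place k' K' → ℕ)
    (he : ∀ Q (z : K), Q.1 (algebraMap K K' z) = (below Q).1 z ^ e Q)
    (x : K) (hx : ∀ P, vDiff (φ P) 1 x ≠ 0) (hx' : ∀ Q, vDiff (ψ Q) 1 (algebraMap K K' x) ≠ 0) :
    (Function.support fun Q => diffExp (φ (below Q)) (ψ Q) (e Q) x).Finite ∧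
    (finrank k k' : ℤ) * (2 * (genus k' K' : ℤ) - 2) =
      (finrank K K' : ℤ) * (2 * (genus k K : ℤ) - 2) +
      (finrank k k' : ℤ) * ∑ᶠ Q, diffExp (φ (below Q)) (ψ Q) (e Q) x * (Q.deg : ℤ) := by
  haveI : ∀ P, FiniteDimensional k (F P) := fun P => finiteDimensional_coeff hK (hφ P)
  haveI : ∀ Q, FiniteDimensional k' (F' Q) := fun Q => finiteDimensional_coeff hK' (hψ Q)
  obtain ⟨P₀⟩ := FF.nonempty_place hK
  have hv : KaehlerDifferential.D k K x ≠ 0 := by
    apply FDE.kaehler_ne_zero_of_D_ne_zero (φ P₀)
    intro h0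
    apply hx P₀
    rw [FDE.vDiff_one, h0, map_zero]
  -- the canonical divisor of `K`
  obtain ⟨C, hCdiv, hC⟩ := exists_isDivOf_omega hK hg F φ hφ one_ne_zero hv
  have hCcan : IsCanonical k K C := ⟨_, omega_ne_zero hK hg F φ hφ one_ne_zero hv, hCdiv⟩
  have hdegC := (FF.isCanonical_ell_deg hK hCcan).2
  -- a separable place of `K'`
  have hsepK : Algebra.IsSeparable k⟮x⟯ K := FHs.isSeparable_of_D_ne_zero hK hg hv
  have hsep' : Algebra.IsSeparable k'⟮algebraMap K K' x⟯ K' := isSeparable_top x hsepK
  have htr' : Transcendental k' (algebraMap K K' x) := FS.transcendental_of_isSeparable hK' hsep'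
  obtain ⟨Q₁, hQ₁⟩ := (FSPl.main' hK' (algebraMap K K' x) htr' hsep').nonempty
  have hser' : ∀ Q, ser (ψ Q) 1 (algebraMap K K' x) ≠ 0 := by
    intro Q h
    apply hx' Q
    rw [vDiff_eq, h, map_zero]
  obtain ⟨C', hC'div, hC'⟩ := exists_isDivOf_omega' hK' F' ψ hψ hser' ⟨Q₁, hQ₁⟩
  have hC'can : IsCanonical k' K' C' :=
    ⟨_, omega_ne_zero' hK' F' ψ hψ hser' ⟨Q₁, hQ₁⟩, hC'div⟩
  have hdegC' := (FF.isCanonical_ell_deg hK' hC'can).2
  obtain ⟨h1, h2⟩ := deg_identity hK hK' below e he C C'
  have hfun : (fun Q => diffExp (φ (below Q)) (ψ Q) (e Q) x) =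
      fun Q => C' Q - (e Q : ℤ) * C (below Q) := by
    funext Q
    unfold diffExp
    rw [hC' Q, hC (below Q)]
  have hfun2 : (fun Q : Place k' K' => diffExp (φ (below Q)) (ψ Q) (e Q) x * (Q.deg : ℤ)) =
      fun Q => (C' Q - (e Q : ℤ) * C (below Q)) * (Q.deg : ℤ) := by
    funext Q
    unfold diffExp
    rw [hC' Q, hC (below Q)]
  rw [hfun, hfun2, ← hdegC, ← hdegC']
  exact ⟨h1, h2⟩

end main

end Groth.Agent.Lib.helper16.FRH
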