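import Groth.Agent.Lib.helper16.FSectRing
import Groth.Agent.Lib.helper16.FFWeil

/-! Helper library (helper16): the embedding dimension of the section ring of a point divisor
(S18670). -/

set_option autoImplicit false

namespace Groth.Agent.Lib.helper16.FSR

open FunFld WithZero LocRes Module W4c6gradedringsgw Polynomial
open Groth.Agent.Lib.helper16

universe u v

variable {k : Type u} {K : Type v} [Field k] [Field K] [Algebra k K]

section emb

variable [IsAlgClosed k] (hK : IsFunctionField k K) (hg : 1 ≤ genus k K) (P : Place k K) {π : K}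
  (hπ : P.1 π = exp (-1))

/-- the monomial `f Tⁿ` as an element of the section ring -/
noncomputable def mono (n : ℕ) (f : K)
    (hf : f ∈ L ((n : ℤ) • (Finsupp.single P (1 : ℤ) : Divisor k K))) :
    ↥(sectRing (Finsupp.single P (1 : ℤ) : Divisor k K)) :=
  ⟨monomial n f, fun m => by
    rw [coeff_monomial]
    split_ifs with h
    · subst h; exact hf
    · exact Submodule.zero_mem _⟩

omit [IsAlgClosed k] in
theorem coe_mono (n : ℕ) (f : K)
    (hf : f ∈ L ((n : ℤ) • (Finsupp.single P (1 : ℤ) : Divisor k K))) :
    ((mono P n f hf : ↥(sectRing (Finsupp.single P (1 : ℤ) : Divisor k K))) : K[X]) =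
      monomial n f := rfl

include hK in
/-- large integers are pole orders -/
theorem mem_poleOrders_of_ge {n : ℕ} (hn : 2 * genus k K ≤ n) : n ∈ poleOrders P := by
  have hdegP : P.deg = 1 := FF.deg_eq_one_of_isAlgClosed hK P
  have h1 := FF.ell_eq_of_deg_ge hK (D := (n : ℤ) • (Finsupp.single P (1 : ℤ) : Divisor k K)) (by
    rw [Finsupp.smul_single, FF.deg_single, hdegP]
    push_cast
    simp only [smul_eq_mul, mul_one]
    omega)
  have h2 := FF.ell_eq_of_deg_ge hK
    (D := ((n : ℤ) - 1) • (Finsupp.single P (1 : ℤ) : Divisor k K)) (by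
    rw [Finsupp.smul_single, FF.deg_single, hdegP]
    push_cast
    simp only [smul_eq_mul, mul_one]
    omega)
  rw [Finsupp.smul_single, FF.deg_single, hdegP] at h1 h2
  simp only [smul_eq_mul, mul_one, Nat.cast_one] at h1 h2
  show ell ((n : ℤ) • (Finsupp.single P (1 : ℤ) : Divisor k K)) =
    ell (((n : ℤ) - 1) • (Finsupp.single P (1 : ℤ) : Divisor k K)) + 1
  rw [Finsupp.smul_single, Finsupp.smul_single]
  simp only [smul_eq_mul, mul_one]
  omega

include hK hg in
theorem minGens_subset : minGens (poleOrders P) ⊆ ↑(Finset.range (4 * genus k K + 1)) := by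
  intro h hh
  rw [Finset.mem_coe, Finset.mem_range]
  by_contra hlt
  obtain ⟨-, -, hmin⟩ := hh
  have h1 := mem_poleOrders_of_ge hK P (n := 2 * genus k K) le_rfl
  have h2 := mem_poleOrders_of_ge hK P (n := h - 2 * genus k K) (by omega)
  exact hmin _ h1 _ h2 (by omega) (by omega) (by omega)

include hK hg in
theorem minGens_finite : (minGens (poleOrders P)).Finite :=
  (Finset.finite_toSet _).subset (minGens_subset hK hg P)

end emb

section gens

variable [IsAlgClosed k] (hK : IsFunctionField k K) (hg : 1 ≤ genus k K) (P : Place k K) {π : K}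
  (hπ : P.1 π = exp (-1))

omit [IsAlgClosed k] in
theorem one_mem_L_smul (n : ℕ) :
    (1 : K) ∈ L ((n : ℤ) • (Finsupp.single P (1 : ℤ) : Divisor k K)) := by
  intro R
  rw [map_one, ← exp_zero, exp_le_exp, Finsupp.smul_single]
  exact Finsupp.single_nonneg.mpr (by positivity) R

/-- the irrelevant ideal -/
noncomputable def irr : Ideal ↥(sectRing (Finsupp.single P (1 : ℤ) : Divisor k K)) :=
  RingHom.ker (Polynomial.constantCoeff.comp
    (sectRing (Finsupp.single P (1 : ℤ) : Divisor k K)).val.toRingHom)

omit [IsAlgClosed k] in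
theorem mem_irr (p : ↥(sectRing (Finsupp.single P (1 : ℤ) : Divisor k K))) :
    p ∈ irr P ↔ (p : K[X]).coeff 0 = 0 := by
  unfold irr
  rw [RingHom.mem_ker]
  rfl

/-- a chosen monic function of pole order `h` -/
noncomputable def gen (h : ℕ) : ↥(sectRing (Finsupp.single P (1 : ℤ) : Divisor k K)) := by
  classical
  exact if hh : h ∈ poleOrders P then
    mono P h (Classical.choose (exists_monic hK P hπ hh))
      (Classical.choose_spec (exists_monic hK P hπ hh)).1
  else 0

/-- the generating set of the irrelevant ideal -/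
noncomputable def gens : Set ↥(sectRing (Finsupp.single P (1 : ℤ) : Divisor k K)) :=
  insert (mono P 1 1 (one_mem_L_smul P 1)) (gen hK P hπ '' minGens (poleOrders P))

include hg in
theorem ncard_gens_le : (gens hK P hπ).ncard ≤ (minGens (poleOrders P)).ncard + 1 := by
  unfold gens
  refine (Set.ncard_insert_le _ _).trans ?_
  exact Nat.succ_le_succ (Set.ncard_image_le (minGens_finite hK hg P))

include hg in
theorem gens_finite : (gens hK P hπ).Finite :=
  ((minGens_finite hK hg P).image _).insert _

omit [IsAlgClosed k] in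
theorem mono_add (n : ℕ) (f g : K)
    (hf : f ∈ L ((n : ℤ) • (Finsupp.single P (1 : ℤ) : Divisor k K)))
    (hg' : g ∈ L ((n : ℤ) • (Finsupp.single P (1 : ℤ) : Divisor k K))) :
    mono P n (f + g) (Submodule.add_mem _ hf hg') = mono P n f hf + mono P n g hg' := by
  apply Subtype.ext
  show monomial n (f + g) = monomial n f + monomial n g
  rw [map_add]

omit [IsAlgClosed k] in
theorem mono_smul (n : ℕ) (c : k) (f : K)
    (hf : f ∈ L ((n : ℤ) • (Finsupp.single P (1 : ℤ) : Divisor k K))) :
    mono P n (c • f) (Submodule.smul_mem _ c hf) = c • mono P n f hf := by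
  apply Subtype.ext
  show monomial n (c • f) = c • monomial n f
  rw [Polynomial.smul_monomial]

omit [IsAlgClosed k] in
theorem mono_mul (a b : ℕ) (f g : K)
    (hf : f ∈ L ((a : ℤ) • (Finsupp.single P (1 : ℤ) : Divisor k K)))
    (hg' : g ∈ L ((b : ℤ) • (Finsupp.single P (1 : ℤ) : Divisor k K))) :
    mono P (a + b) (f * g) (mul_mem_L_smul P hf hg') = mono P a f hf * mono P b g hg' := by
  apply Subtype.ext
  show monomial (a + b) (f * g) = monomial a f * monomial b g
  rw [monomial_mul_monomial]

include hK in
/-- every homogeneous element of positive degree lies in the ideal generated by `gens` -/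
theorem mono_mem_span (n : ℕ) (hn : 1 ≤ n) (f : K)
    (hf : f ∈ L ((n : ℤ) • (Finsupp.single P (1 : ℤ) : Divisor k K))) :
    mono P n f hf ∈ Ideal.span (gens hK P hπ) := by
  classical
  induction n using Nat.strong_induction_on generalizing f with
  | _ n ih =>
    have ht1 : mono P 1 1 (one_mem_L_smul P 1) ∈ Ideal.span (gens hK P hπ) :=
      Ideal.subset_span (Set.mem_insert _ _)
    -- the case of vanishing leading coefficient
    have hcase0 : ∀ (f : K) (hf : f ∈ L ((n : ℤ) • (Finsupp.single P (1 : ℤ) : Divisor k K))),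
        lc hK P hπ n f = 0 → mono P n f hf ∈ Ideal.span (gens hK P hπ) := by
      intro f hf h0
      have hf' := mem_of_lc_eq_zero hK P hπ hf h0
      obtain ⟨m, rfl⟩ : ∃ m, n = 1 + m := ⟨n - 1, by omega⟩
      have e : (((1 + m : ℕ) : ℤ) - 1) = (m : ℤ) := by push_cast; ring
      rw [e] at hf'
      have h1 : mono P (1 + m) f hf = mono P 1 1 (one_mem_L_smul P 1) * mono P m f hf' := by
        rw [← mono_mul]
        apply Subtype.ext
        show monomial (1 + m) f = monomial (1 + m) (1 * f)
        rw [one_mul]
      rw [h1]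
      exact Ideal.mul_mem_right _ _ ht1
    by_cases h0 : lc hK P hπ n f = 0
    · exact hcase0 f hf h0
    -- a monic element in the ideal
    have hnH : n ∈ poleOrders P := (mem_poleOrders_iff hK P hπ n).mpr ⟨f, hf, h0⟩
    obtain ⟨g, hgL, hg1, hgJ⟩ : ∃ (g : K)
        (hgL : g ∈ L ((n : ℤ) • (Finsupp.single P (1 : ℤ) : Divisor k K))),
        lc hK P hπ n g = 1 ∧ mono P n g hgL ∈ Ideal.span (gens hK P hπ) := by
      by_cases hnG : n ∈ minGens (poleOrders P)
      · refine ⟨Classical.choose (exists_monic hK P hπ hnH),
          (Classical.choose_spec (exists_monic hK P hπ hnH)).1,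
          (Classical.choose_spec (exists_monic hK P hπ hnH)).2, ?_⟩
        apply Ideal.subset_span
        apply Set.mem_insert_of_mem
        refine ⟨n, hnG, ?_⟩
        unfold gen
        rw [dif_pos hnH]
      · have hex : ∃ a ∈ poleOrders P, ∃ b ∈ poleOrders P, a ≠ 0 ∧ b ≠ 0 ∧ a + b = n := by
          by_contra hcon
          apply hnG
          refine ⟨hnH, by omega, fun a ha b hb ha0 hb0 hab => hcon ⟨a, ha, b, hb, ha0, hb0, hab⟩⟩
        obtain ⟨a, ha, b, hb, ha0, hb0, rfl⟩ := hex
        obtain ⟨fa, hfa, hfa1⟩ := exists_monic hK P hπ ha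
        obtain ⟨fb, hfb, hfb1⟩ := exists_monic hK P hπ hb
        refine ⟨fa * fb, mul_mem_L_smul P hfa hfb, ?_, ?_⟩
        · rw [lc_mul hK P hπ hfa hfb, hfa1, hfb1, one_mul]
        · rw [mono_mul P a b fa fb hfa hfb]
          exact Ideal.mul_mem_right _ _ (ih a (by omega) (by omega) fa hfa)
    set c := lc hK P hπ n f with hc
    have hsub : f - c • g ∈ L ((n : ℤ) • (Finsupp.single P (1 : ℤ) : Divisor k K)) :=
      Submodule.sub_mem _ hf (Submodule.smul_mem _ _ hgL)
    have hlc0 : lc hK P hπ n (f - c • g) = 0 := by
      rw [map_sub, map_smul, hg1, smul_eq_mul, mul_one, sub_self]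
    have h1 := hcase0 _ hsub hlc0
    have h2 : mono P n f hf = mono P n (f - c • g) hsub + c • mono P n g hgL := by
      rw [← mono_smul, ← mono_add]
      apply Subtype.ext
      show monomial n f = monomial n (f - c • g + c • g)
      rw [sub_add_cancel]
    rw [h2]
    refine Ideal.add_mem _ h1 ?_
    rw [Algebra.smul_def]
    exact Ideal.mul_mem_left _ _ hgJ

include hK in
/-- the irrelevant ideal is generated by `gens` -/
theorem span_gens : Ideal.span (gens hK P hπ) = irr P := by
  classical
  apply le_antisymm
  · rw [Ideal.span_le]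
    intro x hx
    rw [SetLike.mem_coe, mem_irr]
    rcases hx with rfl | ⟨h, hh, rfl⟩
    · rw [coe_mono, coeff_monomial, if_neg (by omega)]
    · unfold gen
      split_ifs with hH
      · rw [coe_mono, coeff_monomial, if_neg hh.2.1]
      · rfl
  · intro p hp
    rw [mem_irr] at hp
    have hsum : p = ∑ n ∈ (p : K[X]).support, mono P n ((p : K[X]).coeff n) (p.2 n) := by
      apply Subtype.ext
      rw [AddSubmonoidClass.coe_finsetSum]
      conv_lhs => rw [← (p : K[X]).sum_monomial_eq]
      rfl
    rw [hsum]
    apply Ideal.sum_mem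
    intro n hn
    apply mono_mem_span hK P hπ
    rw [Polynomial.mem_support_iff] at hn
    by_contra hlt
    have : n = 0 := by omega
    rw [this] at hn
    exact hn hp

end gens

section lower

variable [IsAlgClosed k] (hK : IsFunctionField k K) (hg : 1 ≤ genus k K) (P : Place k K) {π : K}
  (hπ : P.1 π = exp (-1))

/-- the coefficient maps on the section ring -/
noncomputable def coeffL (n : ℕ) :
    ↥(sectRing (Finsupp.single P (1 : ℤ) : Divisor k K)) →ₗ[k] K :=
  ((Polynomial.lcoeff K n).restrictScalars k).comp
    (sectRing (Finsupp.single P (1 : ℤ) : Divisor k K)).val.toLinearMap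

omit [IsAlgClosed k] in
theorem coeffL_apply (n : ℕ) (p : ↥(sectRing (Finsupp.single P (1 : ℤ) : Divisor k K))) :
    coeffL P n p = (p : K[X]).coeff n := rfl

include hK hg in
theorem one_not_mem_poleOrders : 1 ∉ poleOrders P := by
  obtain ⟨π, hπ⟩ := FF.exists_uniformizer P
  intro h1
  obtain ⟨f, hf, hne⟩ := (mem_poleOrders_iff hK P hπ 1).mp h1
  rw [Nat.cast_one] at hf
  obtain ⟨c, rfl⟩ := mem_range_of_mem_L_single hK hg P hf
  apply hne
  apply lc_eq_zero_of_mem hK P hπ
  rw [Nat.cast_one, sub_self, zero_smul]
  exact algebraMap_mem_L_zero c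

/-- the linear form detecting minimal generators -/
noncomputable def Lam (T : Finset ℕ) :
    ↥(sectRing (Finsupp.single P (1 : ℤ) : Divisor k K)) →ₗ[k] (Option ↥T → k) :=
  LinearMap.pi fun i =>
    match i with
    | none => (lc hK P hπ 0).comp (coeffL P 1)
    | some h => (lc hK P hπ (h : ℕ)).comp (coeffL P (h : ℕ))

theorem Lam_none (T : Finset ℕ) (p : ↥(sectRing (Finsupp.single P (1 : ℤ) : Divisor k K))) :
    Lam hK P hπ T p none = lc hK P hπ 0 ((p : K[X]).coeff 1) := rfl

theorem Lam_some (T : Finset ℕ) (p : ↥(sectRing (Finsupp.single P (1 : ℤ) : Divisor k K)))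
    (h : ↥T) : Lam hK P hπ T p (some h) = lc hK P hπ (h : ℕ) ((p : K[X]).coeff (h : ℕ)) := rfl

include hg in
/-- `Λ` is semilinear along the constant term on the irrelevant ideal -/
theorem Lam_mul (T : Finset ℕ) (hT : ∀ h ∈ T, h ∈ minGens (poleOrders P))
    (r x : ↥(sectRing (Finsupp.single P (1 : ℤ) : Divisor k K))) (hx : x ∈ irr P) :
    Lam hK P hπ T (r * x) = lc hK P hπ 0 ((r : K[X]).coeff 0) • Lam hK P hπ T x := by
  classical
  rw [mem_irr] at hx
  funext i
  rw [Pi.smul_apply, smul_eq_mul]
  match i with
  | none =>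
    rw [Lam_none, Lam_none, Subalgebra.coe_mul, Polynomial.mul_coeff_one, hx, mul_zero, add_zero]
    have h1 := x.2 1
    rw [Nat.cast_one] at h1
    obtain ⟨c, hc⟩ := mem_range_of_mem_L_single hK hg P h1
    have h0 : (x : K[X]).coeff 1 ∈ L (((0 : ℕ) : ℤ) • (Finsupp.single P (1 : ℤ) : Divisor k K)) := by
      rw [← hc, Nat.cast_zero, zero_smul]
      exact algebraMap_mem_L_zero c
    exact lc_mul hK P hπ (n := 0) (m := 0) (r.2 0) h0
  | some h =>
    rw [Lam_some, Lam_some, Subalgebra.coe_mul, coeff_mul, map_sum]
    have hmem : ((0 : ℕ), (h : ℕ)) ∈ Finset.HasAntidiagonal.antidiagonal (h : ℕ) := by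
      rw [Finset.HasAntidiagonal.mem_antidiagonal]; simp
    rw [Finset.sum_eq_single_of_mem _ hmem]
    · have := lc_mul hK P hπ (r.2 0) (x.2 (h : ℕ))
      rw [zero_add] at this
      exact this
    · rintro ⟨i, j⟩ hij hne
      rw [Finset.HasAntidiagonal.mem_antidiagonal] at hij
      simp only at hij
      have hlc : lc hK P hπ (h : ℕ) ((r : K[X]).coeff i * (x : K[X]).coeff j) =
          lc hK P hπ i ((r : K[X]).coeff i) * lc hK P hπ j ((x : K[X]).coeff j) := by
        have := lc_mul hK P hπ (r.2 i) (x.2 j)
        rwa [hij] at this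
      rw [hlc]
      by_contra hne0
      have hi : lc hK P hπ i ((r : K[X]).coeff i) ≠ 0 := left_ne_zero_of_mul hne0
      have hj : lc hK P hπ j ((x : K[X]).coeff j) ≠ 0 := right_ne_zero_of_mul hne0
      have hiH : i ∈ poleOrders P := (mem_poleOrders_iff hK P hπ i).mpr ⟨_, r.2 i, hi⟩
      have hjH : j ∈ poleOrders P := (mem_poleOrders_iff hK P hπ j).mpr ⟨_, x.2 j, hj⟩
      have hj0 : j ≠ 0 := by
        rintro rfl
        rw [hx, map_zero] at hj
        exact hj rfl
      have hi0 : i ≠ 0 := by
        rintro rfl
        apply hne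
        have : j = (h : ℕ) := by omega
        rw [this]
      exact (hT h h.2).2.2 i hiH j hjH hi0 hj0 hij

include hK hg in
/-- the lower bound for the number of generators of the irrelevant ideal -/
theorem le_spanFinrank_irr :
    (minGens (poleOrders P)).ncard + 1 ≤ (irr P).spanFinrank := by
  classical
  obtain ⟨π, hπ⟩ := FF.exists_uniformizer P
  have hGfin := minGens_finite hK hg P
  set T := hGfin.toFinset with hT
  have hTmem : ∀ h ∈ T, h ∈ minGens (poleOrders P) := fun h hh => hGfin.mem_toFinset.mp hh
  have hcardT : (minGens (poleOrders P)).ncard = T.card := Set.ncard_eq_toFinset_card _ hGfin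
  have hspan := span_gens hK P hπ
  have hfg : (irr P).FG := by
    rw [← hspan]
    exact ⟨(gens_finite hK hg P hπ).toFinset, by rw [Set.Finite.coe_toFinset]⟩
  obtain ⟨s, hscard, hsspan⟩ := Submodule.FG.exists_span_finset_card_eq_spanFinrank hfg
  rw [← hscard, hcardT]
  set W : Submodule k (Option ↥T → k) :=
    Submodule.span k ((Finset.image (Lam hK P hπ T) s : Finset (Option ↥T → k)) : Set _) with hW
  -- the image of the irrelevant ideal lies in `W`
  have himg : ∀ x ∈ irr P, Lam hK P hπ T x ∈ W := by
    intro x hx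
    rw [← hsspan] at hx
    obtain ⟨f, -, hf⟩ := Submodule.mem_span_finset.mp hx
    rw [← hf, map_sum]
    apply Submodule.sum_mem
    intro y hy
    have hyI : y ∈ irr P := by
      rw [← hsspan]
      exact Submodule.subset_span hy
    rw [smul_eq_mul, Lam_mul hK hg P hπ T hTmem _ _ hyI]
    apply Submodule.smul_mem
    apply Submodule.subset_span
    exact Finset.mem_coe.mpr (Finset.mem_image_of_mem _ hy)
  -- the basis vectors are attained
  have h1H := one_not_mem_poleOrders hK hg P
  have hbasis : ∀ i : Option ↥T, (Pi.single i (1 : k) : Option ↥T → k) ∈ W := by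
    intro i
    match i with
    | none =>
      have hmem : mono P 1 1 (one_mem_L_smul P 1) ∈ irr P := by
        rw [← hspan]
        exact Ideal.subset_span (Set.mem_insert _ _)
      have := himg _ hmem
      convert this using 1
      funext j
      match j with
      | none =>
        rw [Lam_none, coe_mono, coeff_monomial, if_pos rfl, Pi.single_eq_same]
        have := lc_zero_algebraMap hK P hπ (1 : k)
        rw [map_one] at this
        exact this.symm
      | some h =>
        rw [Lam_some, coe_mono, coeff_monomial, Pi.single_eq_of_ne (by simp)]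
        have hne : (1 : ℕ) ≠ (h : ℕ) := by
          intro h1
          apply h1H
          rw [h1]
          exact (hTmem h h.2).1
        rw [if_neg hne, map_zero]
    | some h =>
      have hhG := hTmem h h.2
      have hmem : gen hK P hπ (h : ℕ) ∈ irr P := by
        rw [← hspan]
        exact Ideal.subset_span (Set.mem_insert_of_mem _ ⟨_, hhG, rfl⟩)
      have := himg _ hmem
      convert this using 1
      have hgen : ((gen hK P hπ (h : ℕ) : ↥(sectRing (Finsupp.single P (1 : ℤ) : Divisor k K))) :
          K[X]) = monomial (h : ℕ) (Classical.choose (exists_monic hK P hπ hhG.1)) := by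
        unfold gen
        rw [dif_pos hhG.1]
        rfl
      funext j
      match j with
      | none =>
        rw [Lam_none, hgen, coeff_monomial, Pi.single_eq_of_ne (by simp)]
        have hne : (h : ℕ) ≠ 1 := by
          intro h1
          apply h1H
          rw [← h1]
          exact hhG.1
        rw [if_neg hne, map_zero]
      | some h' =>
        rw [Lam_some, hgen, coeff_monomial]
        by_cases hh' : h' = h
        · subst hh'
          rw [if_pos rfl, Pi.single_eq_same]
          exact (Classical.choose_spec (exists_monic hK P hπ hhG.1)).2.symm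
        · rw [Pi.single_eq_of_ne (by intro h2; exact hh' (Option.some_injective _ h2))]
          have hne : (h : ℕ) ≠ (h' : ℕ) := fun h2 => hh' (Subtype.ext h2.symm)
          rw [if_neg hne, map_zero]
  have htop : W = ⊤ := by
    rw [eq_top_iff]
    intro v _
    rw [← Finset.univ_sum_single v]
    apply Submodule.sum_mem
    intro i _
    have : (Pi.single i (v i) : Option ↥T → k) = v i • Pi.single i (1 : k) := by
      funext j
      by_cases hj : j = i
      · subst hj; simp
      · simp [Pi.single_eq_of_ne hj]
    rw [this]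
    exact Submodule.smul_mem _ _ (hbasis i)
  have h1 : Module.finrank k W ≤ (Finset.image (Lam hK P hπ T) s).card :=
    finrank_span_finset_le_card _
  have h2 : Module.finrank k W = T.card + 1 := by
    rw [htop, finrank_top, Module.finrank_fintype_fun_eq_card, Fintype.card_option,
      Fintype.card_coe]
  have h3 := Finset.card_image_le (s := s) (f := Lam hK P hπ T)
  omega

include hK hg in
/-- S18670 -/
theorem spanFinrank_irr :
    (irr P).spanFinrank = (minGens (poleOrders P)).ncard + 1 := by
  obtain ⟨π, hπ⟩ := FF.exists_uniformizer P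
  apply le_antisymm
  · rw [← span_gens hK P hπ]
    exact (Submodule.spanFinrank_span_le_ncard_of_finite (gens_finite hK hg P hπ)).trans
      (ncard_gens_le hK hg P hπ)
  · exact le_spanFinrank_irr hK hg P

end lower

end Groth.Agent.Lib.helper16.FSR
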