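import Groth.Agent.Lib.helper16.FHypDiff
import Groth.Agent.Lib.helper16.FDivDiff

set_option autoImplicit false

namespace Groth.Agent.Lib.helper16.FSepCoef

open FunFld WithZero Polynomial Module LocRes
open Groth.Agent.Lib.helper16 Groth.Agent.Lib.helper16.FF Groth.Agent.Lib.helper16.FHD
  Groth.Agent.Lib.helper16.FRW Groth.Agent.Lib.helper16.FRL Groth.Agent.Lib.helper16.FRLa
open scoped LaurentSeries

universe u v w

section mapC

variable {k : Type u} {F : Type w} [Field k] [Field F] [Algebra k F]

/-- coefficientwise application of a derivation of the coefficient field -/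
noncomputable def mapC (δ : Derivation k F F) (x : F⸨X⸩) : F⸨X⸩ := x.map δ

theorem mapC_coeff (δ : Derivation k F F) (x : F⸨X⸩) (n : ℤ) :
    (mapC δ x).coeff n = δ (x.coeff n) := rfl

theorem mapC_add (δ : Derivation k F F) (x y : F⸨X⸩) : mapC δ (x + y) = mapC δ x + mapC δ y := by
  ext n
  rw [HahnSeries.coeff_add, mapC_coeff, mapC_coeff, mapC_coeff, HahnSeries.coeff_add, map_add]

theorem mapC_support (δ : Derivation k F F) (x : F⸨X⸩) : (mapC δ x).support ⊆ x.support := by
  intro n hn
  rw [HahnSeries.mem_support] at hn ⊢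
  intro h0
  apply hn
  rw [mapC_coeff, h0, map_zero]

theorem mapC_mul (δ : Derivation k F F) (x y : F⸨X⸩) :
    mapC δ (x * y) = x * mapC δ y + y * mapC δ x := by
  ext n
  rw [HahnSeries.coeff_add, mapC_coeff, HahnSeries.coeff_mul,
    HahnSeries.coeff_mul_right' y.isPWO_support (mapC_support δ y), mul_comm y,
    HahnSeries.coeff_mul_left' x.isPWO_support (mapC_support δ x), map_sum,
    ← Finset.sum_add_distrib]
  apply Finset.sum_congr rfl
  intro ij _
  rw [Derivation.leibniz, mapC_coeff, mapC_coeff, smul_eq_mul, smul_eq_mul, mul_comm (y.coeff _)]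

theorem mapC_C (δ : Derivation k F F) (c : k) :
    mapC δ (HahnSeries.C (algebraMap k F c)) = 0 := by
  ext n
  rw [mapC_coeff, HahnSeries.coeff_zero]
  change δ ((HahnSeries.single 0 (algebraMap k F c)).coeff n) = 0
  by_cases hn : n = 0
  · subst hn
    rw [HahnSeries.coeff_single_same]
    exact δ.map_algebraMap c
  · rw [HahnSeries.coeff_single_of_ne hn, map_zero]

theorem mapC_ord (δ : Derivation k F F) {x : F⸨X⸩} {n : ℤ} (h : FRLa.Ord n x) :
    FRLa.Ord n (mapC δ x) := by
  intro m hm
  rw [mapC_coeff, h m hm, map_zero]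

end mapC

section deriv

variable {k : Type u} {K : Type v} {F : Type w} [Field k] [Field K] [Field F] [Algebra k K]
  [Algebra k F]

/-- the derivation `a ↦ δ̃ (φ a)` of `K` into Laurent series -/
noncomputable def dCoef (φ : K →ₐ[k] F⸨X⸩) (δ : Derivation k F F) :
    letI := φ.toRingHom.toAlgebra
    Derivation k K F⸨X⸩ :=
  letI := φ.toRingHom.toAlgebra
  { toFun := fun a => mapC δ (φ a)
    map_add' := fun a b => show mapC δ (φ (a + b)) = mapC δ (φ a) + mapC δ (φ b) by
      rw [map_add, mapC_add]
    map_smul' := fun c a => show mapC δ (φ (c • a)) = c • mapC δ (φ a) by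
      rw [Algebra.smul_def, map_mul, mapC_mul, LocRes.map_algebraMap, mapC_C, mul_zero, add_zero,
        HahnSeries.C_mul_eq_smul, algebraMap_smul]
    map_one_eq_zero' := show mapC δ (φ 1) = 0 by
      have h1 : (1 : F⸨X⸩) = HahnSeries.C (algebraMap k F 1) := by
        rw [map_one, map_one]
      rw [map_one, h1, mapC_C]
    leibniz' := fun a b => show mapC δ (φ (a * b)) = φ a * mapC δ (φ b) + φ b * mapC δ (φ a) by
      rw [map_mul, mapC_mul] }

theorem mapC_eq_of_kaehler (φ : K →ₐ[k] F⸨X⸩) (δ : Derivation k F F) {x x' h : K}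
    (hh : KaehlerDifferential.D k K x = h • KaehlerDifferential.D k K x') :
    mapC δ (φ x) = φ h * mapC δ (φ x') := by
  letI := φ.toRingHom.toAlgebra
  haveI : IsScalarTower k K F⸨X⸩ := LocRes.isScalarTower_exp φ
  have := congrArg (dCoef φ δ).liftKaehlerDifferential hh
  rw [map_smul, Derivation.liftKaehlerDifferential_comp_D,
    Derivation.liftKaehlerDifferential_comp_D] at this
  exact this

end deriv

section sep

variable {k : Type u} {K : Type v} {F : Type w} [Field k] [Field K] [Field F] [Algebra k K]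
  [Algebra k F] (hK : IsFunctionField k K) (hg : IsGeometric k K)
  {P : Place k K} {φ : K →ₐ[k] F⸨X⸩} (hφ : IsExpansionAt P.1 φ)

include hK hg hφ in
/-- derivations of the coefficient field of an expansion of a separably generated function
field vanish -/
theorem derivation_eq_zero (δ : Derivation k F F) : δ = 0 := by
  obtain ⟨t, ht⟩ := exists_uniformizer P
  have ht0 : t ≠ 0 := by
    rintro rfl
    rw [map_zero] at ht
    exact exp_ne_zero ht.symm
  have hto : P.ord t = 1 := by
    unfold Place.ord
    rw [ht, log_exp]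
    ring
  obtain ⟨hDt, hot⟩ := D_ne_zero_of_ord hφ ht0 hto (by simp)
  have hKt : KaehlerDifferential.D k K t ≠ 0 := FDE.kaehler_ne_zero_of_D_ne_zero φ hDt
  have hOt : FRLa.Ord 1 (mapC δ (φ t)) := by
    apply mapC_ord
    rw [← FRCm.val_le_exp_iff_ord hφ]
    exact le_of_eq ht
  ext a
  rw [Derivation.zero_apply]
  obtain ⟨z, hz1, hz2⟩ := hφ.2.1 a
  obtain ⟨h, hh⟩ := FDE.exists_kaehler_smul hK hg z hKt
  have h1 := mapC_eq_of_kaehler φ δ hh
  have h2 : P.1 h ≤ 1 := by
    by_cases hDz : LocRes.D F (φ z) = 0
    · have h3 := FDE.D_eq_of_kaehler φ hh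
      rw [hDz] at h3
      have h4 : φ h = 0 := by
        rcases mul_eq_zero.mp h3.symm with h5 | h5
        · exact h5
        · exact absurd h5 hDt
      have h5 : h = 0 := by
        by_contra hne
        exact (map_ne_zero φ).mpr hne h4
      rw [h5, map_zero]
      exact zero_le
    · have h3 := ordDiff_nonneg' hφ hDz hz1
      obtain ⟨hh0, -, hchain⟩ := ordDiff_chain hφ hh hDz
      rw [val_le_one_iff P hh0]
      rw [hot] at hchain
      omega
  have hOh : FRLa.Ord 0 (φ h) := by
    rw [← FRCm.val_le_exp_iff_ord hφ, neg_zero, exp_zero]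
    exact h2
  have h3 := hOh.mul hOt
  rw [← h1] at h3
  have h4 := h3 0 (by norm_num)
  rw [mapC_coeff, hz2] at h4
  exact h4

include hK hg hφ in
/-- the coefficient field of an expansion is separable over the constants -/
theorem isSeparable_coef [FiniteDimensional k F] : Algebra.IsSeparable k F := by
  have hsub : Subsingleton (Ω[F⁄k]) := by
    constructor
    intro v w
    rw [← sub_eq_zero]
    rw [← Module.forall_dual_apply_eq_zero_iff F]
    intro f
    have h1 : (KaehlerDifferential.linearMapEquivDerivation k F) f = 0 :=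
      derivation_eq_zero hK hg hφ _
    have h2 : f = 0 := by
      rw [← (KaehlerDifferential.linearMapEquivDerivation k F).map_eq_zero_iff]
      exact h1
    rw [h2, LinearMap.zero_apply]
  haveI : Algebra.FormallyUnramified k F := ⟨hsub⟩
  exact (Algebra.FormallyUnramified.iff_isSeparable k F).mp inferInstance

include hK hg hφ in
/-- S12590 -/
theorem exists_locRes_ne_zero [FiniteDimensional k F] {x : K}
    (hx : KaehlerDifferential.D k K x ≠ 0) : ∃ y : K, locRes φ y x ≠ 0 := by
  haveI := isSeparable_coef hK hg hφ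
  obtain ⟨c, hc⟩ : ∃ c : F, Algebra.trace k F c ≠ 0 := by
    by_contra hcon
    push Not at hcon
    have : Algebra.trace k F = 0 := by
      ext c
      exact hcon c
    exact Algebra.trace_ne_zero k F this
  have hser : ser φ 1 x ≠ 0 := by
    unfold ser
    rw [map_one, one_mul]
    exact FDD.D_expand_ne_zero hK hg P φ hφ hx
  obtain ⟨y, -, hy⟩ := exists_resExp_eq hφ hser c
  refine ⟨y * 1, ?_⟩
  rw [locRes_eq, hy]
  exact hc

end sep

end Groth.Agent.Lib.helper16.FSepCoef
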