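import Groth.Agent.Lib.helper16.FSepP

/-! Helper library (helper16): purely inseparable degree-`p` subfields; maps of differentials. -/

set_option autoImplicit false

namespace Groth.Agent.Lib.helper16.FS

open FunFld Polynomial Module KaehlerDifferential
open scoped IntermediateField

universe u v

variable {k : Type u} {K : Type v} [Field k] [Field K] [Algebra k K] (p : ℕ) [hp : Fact p.Prime]
  [CharP K p]

/-- S11007 -/
theorem purelyInseparable_degree_iff (hK : IsFunctionField k K) (hg : IsGeometric k K)
    (K₀ : IntermediateField k K) :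
    (IsPurelyInseparable K₀ K ∧ finrank K₀ K = p) ↔
      K₀ = IntermediateField.adjoin k (Set.range fun y : K => y ^ p) := by
  have hdeg := finrank_kKp p hK hg
  constructor
  · rintro ⟨hpi, hd⟩
    have : CharP K₀ p := RingHom.charP (algebraMap K₀ K) (algebraMap K₀ K).injective p
    have : ExpChar K₀ p := ExpChar.prime hp.out
    have hfd : FiniteDimensional K₀ K :=
      Module.finite_of_finrank_pos (by rw [hd]; exact hp.out.pos)
    have hfdM : FiniteDimensional (IntermediateField.adjoin k (Set.range fun y : K => y ^ p)) K :=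
      Module.finite_of_finrank_pos (by rw [hdeg]; exact hp.out.pos)
    symm
    apply IntermediateField.eq_of_le_of_finrank_eq' _ (by rw [hdeg, hd])
    rw [IntermediateField.adjoin_le_iff]
    rintro _ ⟨y, rfl⟩
    show y ^ p ∈ K₀
    obtain ⟨n, a, hmin⟩ := IsPurelyInseparable.minpoly_eq_X_pow_sub_C K₀ p y
    have h1 := minpoly.natDegree_le (A := K₀) y
    rw [hmin, natDegree_X_pow_sub_C, hd] at h1
    have hn : n ≤ 1 := by
      by_contra hn
      have : p ^ 2 ≤ p ^ n := Nat.pow_le_pow_right hp.out.pos (by omega)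
      have h2 := hp.out.two_le
      nlinarith
    have h3 : y ^ p ^ n = a := by
      have := minpoly.aeval K₀ y
      rw [hmin, map_sub, map_pow, aeval_X, aeval_C, sub_eq_zero] at this
      exact this
    interval_cases n
    · rw [pow_zero, pow_one] at h3
      rw [h3]
      exact pow_mem a.2 p
    · rw [pow_one] at h3
      rw [h3]
      exact a.2
  · rintro rfl
    refine ⟨?_, hdeg⟩
    have : CharP (IntermediateField.adjoin k (Set.range fun y : K => y ^ p)) p :=
      RingHom.charP (algebraMap (IntermediateField.adjoin k (Set.range fun y : K => y ^ p)) K)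
        (algebraMap (IntermediateField.adjoin k (Set.range fun y : K => y ^ p)) K).injective p
    have : ExpChar (IntermediateField.adjoin k (Set.range fun y : K => y ^ p)) p :=
      ExpChar.prime hp.out
    rw [isPurelyInseparable_iff_pow_mem _ p]
    intro y
    refine ⟨1, ⟨⟨y ^ p, IntermediateField.subset_adjoin _ _ ⟨y, rfl⟩⟩, ?_⟩⟩
    rw [pow_one]
    rfl

end Groth.Agent.Lib.helper16.FS

namespace Groth.Agent.Lib.helper16.FS

open FunFld Polynomial Module KaehlerDifferential
open scoped IntermediateField

universe u v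

/-- S12520 -/
theorem kaehler_map_zero_or_injective (k₀ k : Type u) (K₀ K : Type v) [Field k₀] [Field k]
    [Field K₀] [Field K]
    [Algebra k₀ k] [Algebra k₀ K₀] [Algebra k₀ K] [Algebra k K] [Algebra K₀ K]
    [IsScalarTower k₀ k K] [IsScalarTower k₀ K₀ K]
    (p : ℕ) [Fact p.Prime] [CharP K p]
    (hK : IsFunctionField k K) (hg : IsGeometric k K)
    (hK₀ : IsFunctionField k₀ K₀) (hg₀ : IsGeometric k₀ K₀) :
    (Set.range (algebraMap K₀ K) ⊆ ↑(IntermediateField.adjoin k (Set.range fun y : K => y ^ p)) →
      KaehlerDifferential.map k₀ k K₀ K = 0) ∧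
    (¬ Set.range (algebraMap K₀ K) ⊆ ↑(IntermediateField.adjoin k (Set.range fun y : K => y ^ p)) →
      Function.Injective (KaehlerDifferential.map k₀ k K₀ K)) := by
  constructor
  · intro h
    apply Derivation.liftKaehlerDifferential_unique
    ext a
    show KaehlerDifferential.map k₀ k K₀ K (D k₀ K₀ a) = (0 : Ω[K₀⁄k₀] →ₗ[K₀] Ω[K⁄k]) (D k₀ K₀ a)
    rw [KaehlerDifferential.map_D, LinearMap.zero_apply]
    exact D_eq_zero_of_mem p (h ⟨a, rfl⟩)
  · intro h
    rw [Set.not_subset] at h
    obtain ⟨_, ⟨a, rfl⟩, ha⟩ := h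
    have hDa : D k K (algebraMap K₀ K a) ≠ 0 := fun h0 => ha (((mem_kKp_iff p hK hg _).1).mpr h0)
    have hrank := finrank_kaehler hK₀ hg₀
    rw [injective_iff_map_eq_zero]
    intro v hv
    by_contra hv0
    obtain ⟨c, hc⟩ := (finrank_eq_one_iff_of_nonzero' v hv0).mp hrank (D k₀ K₀ a)
    apply hDa
    rw [← KaehlerDifferential.map_D k₀ k K₀ K, ← hc, map_smul, hv, smul_zero]

end Groth.Agent.Lib.helper16.FS
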