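import Groth.Agent.Lib.helper16.FXOver
import Mathlib

/-! Helper library (helper16): places under a purely inseparable extension of height one. -/

set_option autoImplicit false

namespace Groth.Agent.Lib.helper16.FX

open FunFld WithZero Polynomial Module Groth.Agent.Lib.helper16.FF
open scoped IntermediateField

variable {k K K' : Type*} [Field k] [Field K] [Field K'] [Algebra k K] [Algebra K K']
  [Algebra k K'] [IsScalarTower k K K']

/-- if `K'^p ⊆ K` there is at most one place over a given place -/
theorem eq_of_isOver_of_pow_mem [Algebra.IsAlgebraic K K'] {p : ℕ} (hp : p ≠ 0)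
    (hpow : ∀ z : K', z ^ p ∈ Set.range (algebraMap K K')) {Q Q' : Place k K'} {P : Place k K}
    (hQ : IsOver Q P) (hQ' : IsOver Q' P) : Q = Q' := by
  obtain ⟨e, he⟩ := hQ
  obtain ⟨e', he'⟩ := hQ'
  have hepos := isOverWith_pos he
  apply eq_of_valuationRing_le
  intro y hy
  obtain ⟨a, ha⟩ := hpow y
  have h1 : P.1 a ≤ 1 := by
    have h2 : Q.1 (algebraMap K K' a) ≤ 1 := by
      rw [ha, map_pow]
      exact pow_le_one₀ zero_le hy
    rw [he] at h2
    by_contra hlt
    rw [not_le] at hlt
    exact absurd h2 (not_le.mpr (one_lt_pow₀ hlt (by omega)))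
  have h3 : Q'.1 y ^ p ≤ 1 := by
    rw [← map_pow, ← ha, he']
    exact pow_le_one₀ zero_le h1
  by_contra hlt
  rw [not_le] at hlt
  exact absurd h3 (not_le.mpr (one_lt_pow₀ hlt hp))

/-- `e · deg Q = [K' : K] · deg P` when `Q` is the only place over `P` -/
theorem ramIdx_mul_deg_of_pow_mem [FiniteDimensional K K'] (hK : IsFunctionField k K) {p : ℕ}
    (hp : p ≠ 0) (hpow : ∀ z : K', z ^ p ∈ Set.range (algebraMap K K')) {Q : Place k K'}
    {P : Place k K} {e : ℕ} (he : IsOverWith Q P e) : e * Q.deg = finrank K K' * P.deg := by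
  classical
  obtain ⟨-, hsum⟩ := sum_ramIdx_mul_deg (K' := K') hK P
  have h1 := hsum {Q} (fun Q' => by
    rw [Finset.mem_singleton]
    exact ⟨fun h => h ▸ ⟨e, he⟩, fun h => eq_of_isOver_of_pow_mem hp hpow h ⟨e, he⟩⟩)
  rw [Finset.sum_singleton, ramIdx_eq he] at h1
  exact h1

/-- the inclusion `O_P → O_Q` as a ring homomorphism -/
def overOHom {Q : Place k K'} {P : Place k K} {e : ℕ} (h : IsOverWith Q P e) : P.O →+* Q.O where
  toFun := overO h
  map_one' := Subtype.ext (map_one (algebraMap K K'))
  map_mul' _ _ := Subtype.ext (map_mul (algebraMap K K') _ _)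
  map_zero' := Subtype.ext (map_zero (algebraMap K K'))
  map_add' _ _ := Subtype.ext (map_add (algebraMap K K') _ _)

/-- the residue map of `Q` on `O_P`, as a `k`-algebra homomorphism -/
noncomputable def overResidueHom {Q : Place k K'} {P : Place k K} {e : ℕ}
    (h : IsOverWith Q P e) : P.O →ₐ[k] IsLocalRing.ResidueField Q.O where
  toRingHom := (IsLocalRing.residue Q.O).comp (overOHom h)
  commutes' c := by
    show IsLocalRing.residue Q.O (overO h (algebraMap k P.O c)) = _
    have h' : overO h (algebraMap k P.O c) = algebraMap k Q.O c :=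
      Subtype.ext (by
        rw [coe_overO]
        show algebraMap K K' (algebraMap k K c) = algebraMap k K' c
        rw [← IsScalarTower.algebraMap_apply])
    rw [h']
    rfl

theorem overResidueHom_apply {Q : Place k K'} {P : Place k K} {e : ℕ}
    (h : IsOverWith Q P e) (y : P.O) : overResidueHom h y = overResidue h y := rfl

/-- with separable residue field upstairs and `K'^p ⊆ K`, the residue fields agree -/
theorem overResidue_surjective_of_pow_mem [Algebra.IsAlgebraic K K'] (hK' : IsFF1 k K') {p : ℕ}
    [hp : Fact p.Prime] [CharP k p] (hpow : ∀ z : K', z ^ p ∈ Set.range (algebraMap K K'))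
    {Q : Place k K'} {P : Place k K} {e : ℕ} (he : IsOverWith Q P e)
    [Algebra.IsSeparable k (IsLocalRing.ResidueField Q.O)] :
    Function.Surjective (overResidue he) := by
  have : ExpChar k p := ExpChar.prime hp.out
  have hfd := finiteDimensional_residueField hK' Q
  have hepos := isOverWith_pos he
  intro w
  obtain ⟨z, rfl⟩ := IsLocalRing.residue_surjective w
  -- `w^p` is in the range
  obtain ⟨a, ha⟩ := hpow (z : K')
  have h1 : P.1 a ≤ 1 := by
    have h2 : Q.1 (algebraMap K K' a) ≤ 1 := by
      rw [ha, map_pow]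
      exact pow_le_one₀ zero_le z.2
    rw [he] at h2
    by_contra hlt
    rw [not_le] at hlt
    exact absurd h2 (not_le.mpr (one_lt_pow₀ hlt (by omega)))
  have hwp : overResidueHom he ⟨a, h1⟩ = (IsLocalRing.residue Q.O z) ^ p := by
    rw [← map_pow]
    show IsLocalRing.residue Q.O (overO he ⟨a, h1⟩) = _
    congr 1
    exact Subtype.ext ha
  -- `w ∈ k(w^p) = k[w^p]`
  have hsep : IsSeparable k (IsLocalRing.residue Q.O z) := Algebra.IsSeparable.isSeparable k _
  have h3 := IntermediateField.adjoin_simple_eq_adjoin_pow_expChar_of_isSeparable k _ hsep p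
  have h4 : IsLocalRing.residue Q.O z ∈ k⟮(IsLocalRing.residue Q.O z) ^ p⟯ := by
    rw [← h3]
    exact IntermediateField.mem_adjoin_simple_self _ _
  have hint : IsIntegral k ((IsLocalRing.residue Q.O z) ^ p) := Algebra.IsIntegral.isIntegral _
  rw [← IntermediateField.mem_toSubalgebra,
    IntermediateField.adjoin_simple_toSubalgebra_of_isAlgebraic hint.isAlgebraic,
    Algebra.adjoin_singleton_eq_range_aeval] at h4
  obtain ⟨g, hg⟩ := h4
  refine ⟨aeval (⟨a, h1⟩ : P.O) g, ?_⟩
  rw [← overResidueHom_apply, ← Polynomial.aeval_algHom_apply, hwp]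
  exact hg

/-- with separable residue field upstairs and `K'^p ⊆ K`, the degrees agree -/
theorem deg_eq_of_pow_mem [Algebra.IsAlgebraic K K'] (hK' : IsFF1 k K') {p : ℕ}
    [hp : Fact p.Prime] [CharP k p] (hpow : ∀ z : K', z ^ p ∈ Set.range (algebraMap K K'))
    {Q : Place k K'} {P : Place k K} {e : ℕ} (he : IsOverWith Q P e)
    [Algebra.IsSeparable k (IsLocalRing.ResidueField Q.O)] : Q.deg = P.deg := by
  have h1 := (LinearMap.quotKerEquivOfSurjective _ (residueₗ_surjective P)).finrank_eq
  have h2 := (LinearMap.quotKerEquivOfSurjective _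
    (overResidue_surjective_of_pow_mem hK' hpow he)).finrank_eq
  rw [ker_overResidue] at h2
  unfold Place.deg
  rw [← h1, h2]

end Groth.Agent.Lib.helper16.FX
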