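import Groth.Agent.Lib.helper16.FSepQ
import Groth.Agent.Lib.helper16.FXInsep

/-! Helper library (helper16): local parameters at separable places are separating. -/

set_option autoImplicit false

namespace Groth.Agent.Lib.helper16.FS

open FunFld WithZero Polynomial Module KaehlerDifferential Groth.Agent.Lib.helper16.FF
  Groth.Agent.Lib.helper16.FX
open scoped IntermediateField

universe u v

/-- S11030 -/
theorem D_uniformizer_ne_zero {k : Type u} {K : Type v} [Field k] [Field K] [Algebra k K]
    (hK : IsFunctionField k K) (hg : IsGeometric k K) (P : Place k K)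
    [Algebra.IsSeparable k (IsLocalRing.ResidueField P.O)] (t : K) (ht : P.1 t = exp (-1)) :
    D k K t ≠ 0 := by
  have ht0 : t ≠ 0 := by
    rintro rfl
    rw [map_zero] at ht
    exact exp_ne_zero ht.symm
  have hlt : P.1 t < 1 := by
    rw [ht, ← exp_zero, exp_lt_exp]
    omega
  have httr : Transcendental k t := FX.transcendental_of_val_lt_one P ht0 hlt
  have hordt : P.ord t = 1 := by
    rw [val_eq_exp_neg_ord P ht0, exp_inj] at ht
    omega
  obtain _ | ⟨p, hp, hpK⟩ := CharP.exists' K
  · have hfd : FiniteDimensional k⟮t⟯ K := FX.finiteDimensional_of_transcendental hK.1 httr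
    have : CharZero k⟮t⟯ := RingHom.charZero (algebraMap k⟮t⟯ K)
    exact D_ne_zero_of_isSeparable hK Algebra.IsAlgebraic.isSeparable_of_perfectField
  · intro hD
    have htM := ((mem_kKp_iff p hK hg t).1).mpr hD
    have hdeg := finrank_kKp p hK hg
    obtain ⟨M, hM⟩ : ∃ M : IntermediateField k K,
        M = IntermediateField.adjoin k (Set.range fun y : K => y ^ p) := ⟨_, rfl⟩
    rw [← hM] at htM hdeg
    have hfdM : FiniteDimensional M K :=
      Module.finite_of_finrank_pos (by rw [hdeg]; exact hp.out.pos)
    have hkp : CharP k p := RingHom.charP (algebraMap k K) (algebraMap k K).injective p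
    have hpow : ∀ z : K, z ^ p ∈ Set.range (algebraMap M K) := by
      intro z
      refine ⟨⟨z ^ p, ?_⟩, rfl⟩
      rw [hM]
      exact IntermediateField.subset_adjoin _ _ ⟨z, rfl⟩
    have hMff : IsFunctionField k M :=
      FG.isFunctionField_intermediateField k K hK M ⟨t, htM, httr⟩
    obtain ⟨P₀, e, he⟩ := exists_isOverWith (K' := K) hMff.1 P
    have h1 := ramIdx_mul_deg_of_pow_mem hMff hp.out.ne_zero hpow he
    have h2 := deg_eq_of_pow_mem hK.1 hpow he
    rw [hdeg, h2] at h1
    have h3 : e = p := Nat.eq_of_mul_eq_mul_right (FX.deg_pos hMff.1 P₀) h1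
    have h4 := isOverWith_ord he (⟨t, htM⟩ : M)
    have h5 : algebraMap M K ⟨t, htM⟩ = t := rfl
    rw [h5, hordt, h3] at h4
    have h6 : (p : ℤ) ∣ 1 := ⟨_, h4⟩
    have h7 := Int.le_of_dvd one_pos h6
    have := hp.out.two_le
    omega

end Groth.Agent.Lib.helper16.FS
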