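import Groth.Agent.Lib.helper16.FDiffExp

/-! Helper library (helper16): the different exponent at a totally ramified place is the order of
`f'(s)` for the minimal polynomial `f` of a local parameter `s` (S12573). -/

set_option autoImplicit false

namespace Groth.Agent.Lib.helper16.FTR

open FunFld WithZero Module Polynomial Groth.Agent.Lib.helper16.FF Groth.Agent.Lib.helper16.FX
open scoped LaurentSeries

section val

variable {R : Type*} [Ring R] {Γ₀ : Type*} [LinearOrderedCommMonoidWithZero Γ₀]
  (v : Valuation R Γ₀)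

/-- a finite sum whose nonzero members have pairwise distinct values has the largest value -/
theorem exists_max_of_distinct {ι : Type*} [DecidableEq ι] (s : Finset ι) (hs : s.Nonempty)
    (f : ι → R)
    (hdist : ∀ i ∈ s, ∀ j ∈ s, i ≠ j → f i ≠ 0 → f j ≠ 0 → v (f i) ≠ v (f j)) :
    ∃ j ∈ s, (∀ i ∈ s, v (f i) ≤ v (f j)) ∧ v (∑ i ∈ s, f i) = v (f j) := by
  obtain ⟨j, hj, hmax⟩ := Finset.exists_max_image s (fun i => v (f i)) hs
  refine ⟨j, hj, hmax, ?_⟩
  by_cases h0 : v (f j) = 0
  · rw [h0]
    apply le_antisymm _ zero_le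
    apply Valuation.map_sum_le
    intro i hi
    rw [← h0]
    exact hmax i hi
  · apply Valuation.map_sum_eq_of_lt v hj
    intro i hi
    rw [Finset.mem_sdiff, Finset.mem_singleton] at hi
    apply lt_of_le_of_ne (hmax i hi.1)
    intro heq
    have hfj : f j ≠ 0 := fun h => h0 (by rw [h, map_zero])
    have hfi : f i ≠ 0 := fun h => h0 (by rw [← heq, h, map_zero])
    exact hdist i hi.1 j hj hi.2 hfi hfj heq

end val

section laurent

variable {F : Type*} [Field F]

theorem val_D_le {f : F⸨X⸩} {n : ℤ} (hf : Valued.v f ≤ exp (-n)) :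
    Valued.v (LocRes.D F f) ≤ exp (-(n - 1)) := by
  rw [LaurentSeries.valuation_le_iff_coeff_lt_eq_zero F] at hf ⊢
  intro m hm
  rw [LocRes.D_coeff, hf (m + 1) (by omega), smul_zero]

end laurent

section kaehler

variable {k : Type*} {K K' : Type*} [Field k] [Field K] [Field K'] [Algebra k K] [Algebra K K']
  [Algebra k K'] [IsScalarTower k K K']

omit [Algebra k K] [IsScalarTower k K K'] in
/-- the differential of a polynomial expression -/
theorem kaehler_aeval (s : K') (p : K[X]) :
    KaehlerDifferential.D k K' (aeval s p) =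
      aeval s (derivative p) • KaehlerDifferential.D k K' s +
        p.sum (fun i a => s ^ i • KaehlerDifferential.D k K' (algebraMap K K' a)) := by
  have h0 : ∀ i : ℕ, s ^ i • KaehlerDifferential.D k K' (algebraMap K K' (0 : K)) = 0 := by
    intro i
    rw [map_zero, map_zero, smul_zero]
  induction p using Polynomial.induction_on' with
  | add p q hp hq =>
    rw [map_add, map_add, hp, hq, derivative_add, map_add, add_smul, sum_add_index _ _ _ h0]
    · abel
    · intro i a b
      rw [map_add, map_add, smul_add]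
  | monomial n a =>
    rw [sum_monomial_index _ _ (h0 n), aeval_monomial, derivative_monomial, aeval_monomial,
      Derivation.leibniz, Derivation.leibniz_pow, map_mul, map_natCast]
    congr 1
    rw [← Nat.cast_smul_eq_nsmul K', smul_smul, smul_smul]

end kaehler

section eis

variable {k : Type*} {K K' : Type*} [Field k] [Field K] [Field K'] [Algebra k K] [Algebra K K']
  [Algebra k K'] [IsScalarTower k K K']

omit [IsScalarTower k K K'] in
theorem val_term {P : Place k K} {Q : Place k K'} {e : ℕ} (he : IsOverWith Q P e) {s : K'}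
    (hs : Q.1 s = exp (-1)) {c : K} (hc : c ≠ 0) (i : ℕ) :
    Q.1 (algebraMap K K' c * s ^ i) = exp (-((e : ℤ) * P.ord c + i)) := by
  rw [map_mul, map_pow, hs, he c, val_eq_exp_neg_ord P hc, ← exp_nsmul, ← exp_nsmul, ← exp_add]
  congr 1
  simp only [nsmul_eq_mul]
  ring

omit [IsScalarTower k K K'] in
theorem val_term_ne {P : Place k K} {Q : Place k K'} {e : ℕ} (he : IsOverWith Q P e) {s : K'}
    (hs : Q.1 s = exp (-1)) {c c' : K} (hc : c ≠ 0) (hc' : c' ≠ 0) {i j : ℕ} (hi : i < e)
    (hj : j < e) (hij : i ≠ j) :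
    Q.1 (algebraMap K K' c * s ^ i) ≠ Q.1 (algebraMap K K' c' * s ^ j) := by
  rw [val_term he hs hc, val_term he hs hc']
  intro h
  rw [exp_inj] at h
  have h1 : (e : ℤ) ∣ (i : ℤ) - j := ⟨P.ord c' - P.ord c, by linarith⟩
  have h2 : (i : ℤ) - j = 0 := by
    apply Int.eq_zero_of_abs_lt_dvd h1
    rw [abs_lt]
    constructor <;> omega
  apply hij
  omega

variable [FiniteDimensional K K']

omit [IsScalarTower k K K'] in
/-- the minimal polynomial of a local parameter at a totally ramified place is Eisenstein -/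
theorem eisenstein {P : Place k K} {Q : Place k K'} {e : ℕ} (he : IsOverWith Q P e)
    (hn : e = Module.finrank K K') {s : K'} (hs : Q.1 s = exp (-1)) :
    (minpoly K s).natDegree = e ∧ P.1 ((minpoly K s).coeff 0) = exp (-1) ∧
      ∀ i < e, P.1 ((minpoly K s).coeff i) ≤ exp (-1) := by
  classical
  have hint : IsIntegral K s := Algebra.IsIntegral.isIntegral s
  have hmonic := minpoly.monic hint
  set f := minpoly K s with hf
  have hNe : f.natDegree ≤ e := by
    rw [hn]
    exact minpoly.natDegree_le s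
  have hepos : 0 < e := by
    rw [hn]
    exact Module.finrank_pos
  have hs0 : s ≠ 0 := by
    intro h0
    rw [h0, map_zero] at hs
    exact exp_ne_zero.symm hs
  let T : ℕ → K' := fun i => algebraMap K K' (f.coeff i) * s ^ i
  have hT0 : ∀ i, T i ≠ 0 → f.coeff i ≠ 0 := by
    intro i h h0
    apply h
    show algebraMap K K' (f.coeff i) * s ^ i = 0
    rw [h0, map_zero, zero_mul]
  have hrel : ∑ i ∈ Finset.range (f.natDegree + 1), T i = 0 := by
    have h1 := minpoly.aeval K s
    rw [← hf, aeval_eq_sum_range] at h1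
    rw [← h1]
    apply Finset.sum_congr rfl
    intro i _
    rw [Algebra.smul_def]
  have hTN : T f.natDegree = s ^ f.natDegree := by
    show algebraMap K K' (f.coeff f.natDegree) * s ^ f.natDegree = _
    rw [coeff_natDegree, hmonic.leadingCoeff, map_one, one_mul]
  have hN : f.natDegree = e := by
    by_contra hne
    have hlt : f.natDegree < e := lt_of_le_of_ne hNe hne
    obtain ⟨j, hj, hmax, hval⟩ := exists_max_of_distinct Q.1 (Finset.range (f.natDegree + 1))
      ⟨0, Finset.mem_range.mpr (Nat.succ_pos _)⟩ T (by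
        intro i hi j hj hij hTi hTj
        rw [Finset.mem_range] at hi hj
        exact val_term_ne he hs (hT0 i hTi) (hT0 j hTj) (by omega) (by omega) hij)
    rw [hrel, map_zero] at hval
    have h1 := hmax f.natDegree (Finset.mem_range.mpr (Nat.lt_succ_self _))
    rw [← hval, hTN, map_pow, hs] at h1
    have h2 : (exp (-1 : ℤ) : ℤᵐ⁰) ^ f.natDegree ≠ 0 := pow_ne_zero _ exp_ne_zero
    exact h2 (le_antisymm h1 zero_le)
  refine ⟨hN, ?_⟩
  rw [hN, Finset.sum_range_succ, ← hN, hTN, hN] at hrel
  have hsum : ∑ i ∈ Finset.range e, T i = -s ^ e := eq_neg_of_add_eq_zero_left hrel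
  obtain ⟨j, hj, hmax, hval⟩ := exists_max_of_distinct Q.1 (Finset.range e)
      ⟨0, Finset.mem_range.mpr hepos⟩ T (by
        intro i hi j hj hij hTi hTj
        rw [Finset.mem_range] at hi hj
        exact val_term_ne he hs (hT0 i hTi) (hT0 j hTj) hi hj hij)
  rw [hsum, Valuation.map_neg, map_pow, hs, ← exp_nsmul] at hval
  rw [Finset.mem_range] at hj
  have hTj : T j ≠ 0 := by
    intro h0
    rw [h0, map_zero] at hval
    exact exp_ne_zero hval
  have hcj := hT0 j hTj
  have hvj : Q.1 (T j) = exp (-((e : ℤ) * P.ord (f.coeff j) + j)) := val_term he hs hcj j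
  rw [hvj, exp_inj] at hval
  simp only [nsmul_eq_mul] at hval
  have hdvd : (e : ℤ) ∣ (j : ℤ) := ⟨1 - P.ord (f.coeff j), by linarith⟩
  have hj0 : j = 0 := by
    have h1 : (j : ℤ) = 0 := by
      apply Int.eq_zero_of_abs_lt_dvd hdvd
      rw [abs_lt]
      constructor <;> omega
    exact_mod_cast h1
  subst hj0
  have hord0 : P.ord (f.coeff 0) = 1 := by
    have h1 : (e : ℤ) * (P.ord (f.coeff 0) - 1) = 0 := by
      push_cast at hval
      linarith
    have he0 : (e : ℤ) ≠ 0 := by exact_mod_cast hepos.ne'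
    have := (mul_eq_zero.mp h1).resolve_left he0
    omega
  refine ⟨?_, ?_⟩
  · rw [val_eq_exp_neg_ord P hcj, hord0]
  · intro i hi
    by_cases hci : f.coeff i = 0
    · rw [hci, map_zero]
      exact zero_le
    · have h1 := hmax i (Finset.mem_range.mpr hi)
      rw [hvj, show T i = algebraMap K K' (f.coeff i) * s ^ i from rfl, val_term he hs hci,
        exp_le_exp, hord0] at h1
      rw [val_le_exp_iff P hci]
      have he1 : (0 : ℤ) < e := by exact_mod_cast hepos
      have hi' : (i : ℤ) < e := by exact_mod_cast hi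
      have h2 : 0 < (e : ℤ) * P.ord (f.coeff i) := by
        push_cast at h1
        linarith
      have h3 : 0 < P.ord (f.coeff i) := (mul_pos_iff_of_pos_left he1).mp h2
      omega

end eis

section main

universe u v w

variable {k : Type u} {K K' : Type v} [Field k] [Field K] [Field K'] [Algebra k K] [Algebra K K']
  [Algebra k K'] [IsScalarTower k K K'] {F F' : Type w} [Field F] [Algebra k F] [Field F']
  [Algebra k F'] [FiniteDimensional K K'] [Algebra.IsSeparable K K']

/-- the differential of a uniformizer has order zero -/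
theorem ordDiff_uniformizer {K₀ : Type*} [Field K₀] [Algebra k K₀] (P : Place k K₀)
    (φ : K₀ →ₐ[k] F⸨X⸩) (hφ : LocRes.IsExpansionAt P.1 φ) {t : K₀} (ht : P.1 t = exp (-1)) :
    Valued.v (LocRes.D F (φ t)) = 1 ∧ LocRes.vDiff φ 1 t ≠ 0 ∧ LocRes.ordDiff φ 1 t = 0 := by
  have h1 : Valued.v (φ t) = exp (-(1 : ℤ)) := by rw [hφ.1 t, ht]
  have h2 : Valued.v (LocRes.D F (φ t)) = 1 := by
    have := (FDE.val_D_of_val_eq h1).1 (by rw [Int.cast_one]; exact one_ne_zero)
    rw [this, sub_self, neg_zero, exp_zero]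
  refine ⟨h2, ?_, ?_⟩
  · rw [FDE.vDiff_one, h2]
    exact one_ne_zero
  · unfold LocRes.ordDiff
    rw [FDE.vDiff_one, h2, log_one, neg_zero]

/-- S12573 -/
theorem main (hK : IsFunctionField k K) (hg : IsGeometric k K)
    {P : Place k K} {Q : Place k K'} {e : ℕ} (he : IsOverWith Q P e)
    (φ : K →ₐ[k] F⸨X⸩) (hφ : LocRes.IsExpansionAt P.1 φ)
    (ψ : K' →ₐ[k] F'⸨X⸩) (hψ : LocRes.IsExpansionAt Q.1 ψ)
    {x : K} (hx : LocRes.vDiff φ 1 x ≠ 0) (hx' : LocRes.vDiff ψ 1 (algebraMap K K' x) ≠ 0)
    (hn : e = Module.finrank K K') {s : K'} (hs : Q.1 s = exp (-1)) :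
    Q.ord (aeval s (derivative (minpoly K s))) = LocRes.diffExp φ ψ e x := by
  classical
  obtain ⟨t, ht⟩ := exists_uniformizer P
  obtain ⟨h2, h3, h4⟩ := ordDiff_uniformizer P φ hφ ht
  obtain ⟨hs2, hs3, hs4⟩ := ordDiff_uniformizer Q ψ hψ hs
  have hdt : KaehlerDifferential.D k K t ≠ 0 := by
    apply FDE.kaehler_ne_zero_of_D_ne_zero φ
    intro h0
    rw [h0, map_zero] at h2
    exact zero_ne_one h2
  rw [FDE.diffExp_eq_diffExp hK hg he φ hφ ψ hψ hx hx' h3]
  unfold LocRes.diffExp
  rw [h4, mul_zero, sub_zero]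
  obtain ⟨hN, ha0, hai⟩ := eisenstein he hn hs
  set f := minpoly K s with hf
  have hint : IsIntegral K s := Algebra.IsIntegral.isIntegral s
  have hmonic : f.Monic := minpoly.monic hint
  choose h hh using fun i => FDE.exists_kaehler_smul hK hg (f.coeff i) hdt
  -- values of the derivatives of the coefficients
  have hval : ∀ i, Valued.v (LocRes.D F (φ (f.coeff i))) = P.1 (h i) := by
    intro i
    rw [FDE.D_eq_of_kaehler φ (hh i), map_mul, h2, mul_one, hφ.1]
  have hh0 : P.1 (h 0) = 1 := by
    rw [← hval 0]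
    have h1 : Valued.v (φ (f.coeff 0)) = exp (-(1 : ℤ)) := by rw [hφ.1, ha0]
    have := (FDE.val_D_of_val_eq h1).1 (by rw [Int.cast_one]; exact one_ne_zero)
    rw [this, sub_self, neg_zero, exp_zero]
  have hhi : ∀ i < e, P.1 (h i) ≤ 1 := by
    intro i hi
    rw [← hval i]
    have h1 : Valued.v (φ (f.coeff i)) ≤ exp (-(1 : ℤ)) := by rw [hφ.1]; exact hai i hi
    have := val_D_le h1
    rwa [sub_self, neg_zero, exp_zero] at this
  -- the differential relation
  set t' := algebraMap K K' t with ht'
  set g : K' := ∑ i ∈ Finset.range e, algebraMap K K' (h i) * s ^ i with hgdef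
  have hrel : aeval s (derivative f) • KaehlerDifferential.D k K' s +
      g • KaehlerDifferential.D k K' t' = 0 := by
    have h1 := kaehler_aeval (k := k) s f
    rw [hf, minpoly.aeval, map_zero, ← hf, sum_over_range' f (by
      intro i
      rw [map_zero, map_zero, smul_zero]) (e + 1) (by omega), Finset.sum_range_succ] at h1
    have h5 : f.coeff e = 1 := by rw [← hN, coeff_natDegree, hmonic.leadingCoeff]
    rw [h5, map_one, Derivation.map_one_eq_zero, smul_zero, add_zero] at h1
    rw [h1, hgdef, Finset.sum_smul]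
    congr 1
    apply Finset.sum_congr rfl
    intro i _
    rw [FDE.kaehler_map (hh i), smul_smul, mul_comm]
  have hgval : Q.1 g = 1 := by
    have hepos : 0 < e := by
      rw [hn]
      exact Module.finrank_pos
    have h1 : Q.1 (algebraMap K K' (h 0) * s ^ 0) = 1 := by
      rw [pow_zero, mul_one, he (h 0), hh0, one_pow]
    rw [hgdef, Valuation.map_sum_eq_of_lt Q.1 (Finset.mem_range.mpr hepos) (j := 0), h1]
    intro i hi
    rw [Finset.mem_sdiff, Finset.mem_range, Finset.mem_singleton] at hi
    rw [h1, map_mul, he (h i), map_pow, hs]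
    calc P.1 (h i) ^ e * exp (-1 : ℤ) ^ i ≤ 1 * exp (-1 : ℤ) ^ i := by
          gcongr
          exact pow_le_one₀ zero_le (hhi i hi.1)
      _ = exp (-1 : ℤ) ^ i := one_mul _
      _ < 1 := by
          apply pow_lt_one₀ zero_le _ hi.2
          rw [← exp_zero, exp_lt_exp]
          omega
  have hg0 : g ≠ 0 := by
    intro h0
    rw [h0, map_zero] at hgval
    exact zero_ne_one hgval
  have hsep : aeval s (derivative f) ≠ 0 := by
    have h1 : IsSeparable K s := Algebra.IsSeparable.isSeparable K s
    exact Polynomial.Separable.aeval_derivative_ne_zero h1 (minpoly.aeval K s)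
  have hds : KaehlerDifferential.D k K' s =
      (-g / aeval s (derivative f)) • KaehlerDifferential.D k K' t' := by
    have h1 := eq_neg_of_add_eq_zero_left hrel
    rw [div_eq_inv_mul, mul_smul, neg_smul, ← h1, smul_smul, inv_mul_cancel₀ hsep, one_smul]
  obtain ⟨-, -, h5⟩ := FDE.ordDiff_eq_add Q ψ hψ hds hs3
  rw [hs4] at h5
  have h6 : Q.ord (-g / aeval s (derivative f)) = - Q.ord (aeval s (derivative f)) := by
    rw [div_eq_mul_inv, ord_mul Q (neg_ne_zero.mpr hg0) (inv_ne_zero hsep), ord_inv]
    have : Q.ord (-g) = 0 := by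
      unfold Place.ord
      rw [Valuation.map_neg, hgval, log_one, neg_zero]
    rw [this, zero_add]
  rw [h6] at h5
  omega

end main

end Groth.Agent.Lib.helper16.FTR
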