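import Groth.Agent.Lib.helper16.FAbsRes2

/-! Helper library (helper16): abstract residues, restriction to a subspace and finite products
(towards the trace formula for residues). -/

set_option autoImplicit false

namespace Groth.Agent.Lib.helper16.FPT

open Module

section restrict

variable {k : Type*} [Field k] {U V : Type*} [AddCommGroup U] [Module k U] [AddCommGroup V]
  [Module k V]

theorem NearStab.comap (Δ : U →ₗ[k] V) {A : Submodule k V} {f : V →ₗ[k] V} {fU : U →ₗ[k] U}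
    (hf : NearStab A f) (hfΔ : f ∘ₗ Δ = Δ ∘ₗ fU) : NearStab (A.comap Δ) fU := by
  obtain ⟨W, hW, hfW⟩ := hf
  obtain ⟨Z, hZX, hAZ, hsup, -⟩ := exists_rel_compl (A.comap Δ) ((A ⊔ W).comap Δ)
  have hZfd : FiniteDimensional k Z := by
    let j : Z →ₗ[k] (W.map A.mkQ) := LinearMap.codRestrict _ (A.mkQ ∘ₗ Δ ∘ₗ Z.subtype) (by
      intro z
      have hz : Δ z ∈ A ⊔ W := hZX z.2
      obtain ⟨a, ha, w, hw, haw⟩ := Submodule.mem_sup.mp hz
      refine ⟨w, hw, ?_⟩
      show A.mkQ w = A.mkQ (Δ z)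
      rw [← haw, map_add]
      have : A.mkQ a = 0 := (Submodule.Quotient.mk_eq_zero A).mpr ha
      rw [this, zero_add])
    have hj : Function.Injective j := by
      rw [← LinearMap.ker_eq_bot, LinearMap.ker_eq_bot']
      intro z hz
      have h1 : A.mkQ (Δ z) = 0 := congrArg Subtype.val hz
      have h2 : Δ (z : U) ∈ A := (Submodule.Quotient.mk_eq_zero A).mp h1
      have h3 : (z : U) ∈ A.comap Δ ⊓ Z := ⟨h2, z.2⟩
      rw [hAZ] at h3
      exact Subtype.ext ((Submodule.mem_bot k).mp h3)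
    exact FiniteDimensional.of_injective j hj
  refine ⟨Z, hZfd, ?_⟩
  rw [hsup]
  rintro _ ⟨u, hu, rfl⟩
  apply Submodule.mem_sup_right
  show Δ (fU u) ∈ A ⊔ W
  have : Δ (fU u) = f (Δ u) := by rw [← LinearMap.comp_apply, ← hfΔ]; rfl
  rw [this]
  exact hfW ⟨Δ u, hu, rfl⟩

/-- **restriction**: the residue on `V` relative to `A` can be computed on a stable subspace `U`
with `A + U = V`, relative to `A ∩ U` -/
theorem absRes_restrict (Δ : U →ₗ[k] V) (hΔ : Function.Injective Δ) {A : Submodule k V}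
    (hsup : A ⊔ LinearMap.range Δ = ⊤)
    {π f g : V →ₗ[k] V} {πU fU gU : U →ₗ[k] U}
    (hπ : AlmostProj A π) (hπU : AlmostProj (A.comap Δ) πU)
    (hf : NearStab A f) (hg : NearStab A g) (hfg : f ∘ₗ g = g ∘ₗ f)
    (hfΔ : f ∘ₗ Δ = Δ ∘ₗ fU) (hgΔ : g ∘ₗ Δ = Δ ∘ₗ gU) :
    absRes π f g = absRes πU fU gU := by
  have hfU : NearStab (A.comap Δ) fU := hf.comap Δ hfΔ
  have hgU : NearStab (A.comap Δ) gU := hg.comap Δ hgΔ
  have hfΔ' : ∀ u, f (Δ u) = Δ (fU u) := fun u => LinearMap.congr_fun hfΔ u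
  have hgΔ' : ∀ u, g (Δ u) = Δ (gU u) := fun u => LinearMap.congr_fun hgΔ u
  have hfgU : fU ∘ₗ gU = gU ∘ₗ fU := by
    apply LinearMap.ext
    intro u
    apply hΔ
    rw [LinearMap.comp_apply, LinearMap.comp_apply, ← hfΔ', ← hgΔ', ← hgΔ', ← hfΔ']
    exact LinearMap.congr_fun hfg (Δ u)
  obtain ⟨CU, hCU⟩ := Submodule.exists_isCompl (A.comap Δ)
  have hcompl : IsCompl A (CU.map Δ) := by
    constructor
    · rw [disjoint_iff, eq_bot_iff]
      rintro _ ⟨hv, c, hc, rfl⟩
      have h1 : c ∈ A.comap Δ ⊓ CU := ⟨hv, hc⟩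
      rw [hCU.inf_eq_bot] at h1
      rw [(Submodule.mem_bot k).mp h1, map_zero]
      exact Submodule.zero_mem _
    · rw [codisjoint_iff, eq_top_iff, ← hsup]
      apply sup_le le_sup_left
      rintro _ ⟨u, rfl⟩
      have hu : u ∈ A.comap Δ ⊔ CU := by rw [hCU.sup_eq_top]; trivial
      obtain ⟨a, ha, c, hc, rfl⟩ := Submodule.mem_sup.mp hu
      rw [map_add]
      exact Submodule.add_mem _ (Submodule.mem_sup_left ha) (Submodule.mem_sup_right ⟨c, hc, rfl⟩)
  set π₀ : V →ₗ[k] V := A.projection (CU.map Δ) hcompl with hπ₀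
  set πU₀ : U →ₗ[k] U := (A.comap Δ).projection CU hCU with hπU₀
  have hπ₀1 : ∀ x, π₀ x ∈ A := fun x => Submodule.projection_apply_mem hcompl x
  have hπ₀2 : ∀ a ∈ A, π₀ a = a := fun a ha => Submodule.projection_apply_of_mem_left hcompl ha
  have hπ₀3 : ∀ y ∈ CU.map Δ, π₀ y = 0 := fun y hy =>
    Submodule.projection_apply_of_mem_right hcompl hy
  have hπU₀1 : ∀ x, πU₀ x ∈ A.comap Δ := fun x => Submodule.projection_apply_mem hCU x
  have hπU₀2 : ∀ a ∈ A.comap Δ, πU₀ a = a := fun a ha =>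
    Submodule.projection_apply_of_mem_left hCU ha
  have hπΔ : ∀ u, π₀ (Δ u) = Δ (πU₀ u) := by
    intro u
    have h1 : u - πU₀ u ∈ CU := Submodule.sub_projection_mem hCU u
    have h2 : Δ u = Δ (πU₀ u) + Δ (u - πU₀ u) := by rw [← map_add]; congr 1; abel
    rw [h2, map_add, hπ₀2 _ (hπU₀1 u), hπ₀3 _ ⟨_, h1, rfl⟩, add_zero]
  have hπ₀A : AlmostProj A π₀ := AlmostProj.of_proj hπ₀1 hπ₀2
  have hπU₀A : AlmostProj (A.comap Δ) πU₀ := AlmostProj.of_proj hπU₀1 hπU₀2
  rw [absRes_eq_of_almostProj hπ hπ₀A hf hg hfg,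
    absRes_eq_of_almostProj hπU hπU₀A hfU hgU hfgU]
  unfold absRes
  -- the operator on `V` takes values in the range of `Δ`
  have hrange : ∀ v, (comm π₀ g ∘ₗ f) v ∈ LinearMap.range Δ := by
    intro v
    rw [LinearMap.comp_apply, comm_apply]
    set w := f v with hw
    have h1 : w - π₀ w ∈ CU.map Δ := Submodule.sub_projection_mem hcompl w
    obtain ⟨s, hs, hsw⟩ := h1
    have h2 : w = π₀ w + Δ s := by rw [hsw]; abel
    have h3 : g w = g (π₀ w) + Δ (gU s) := by
      conv_lhs => rw [h2]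
      rw [map_add, hgΔ']
    have h4 : g (π₀ w) - π₀ (g (π₀ w)) ∈ CU.map Δ := Submodule.sub_projection_mem hcompl _
    obtain ⟨s', -, hs'⟩ := h4
    refine ⟨πU₀ (gU s) - s', ?_⟩
    rw [map_sub, hs', ← hπΔ, h3, map_add]
    abel
  set θ : V →ₗ[k] V := comm π₀ g ∘ₗ f with hθ
  set θU : U →ₗ[k] U := comm πU₀ gU ∘ₗ fU with hθU
  have hθΔ : ∀ u, θ (Δ u) = Δ (θU u) := by
    intro u
    rw [hθ, hθU, LinearMap.comp_apply, LinearMap.comp_apply, comm_apply, comm_apply, hfΔ', hgΔ',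
      hπΔ, hπΔ, hgΔ', map_sub]
  let θ₀ : V →ₗ[k] U := (LinearEquiv.ofInjective Δ hΔ).symm.toLinearMap ∘ₗ
    LinearMap.codRestrict (LinearMap.range Δ) θ hrange
  have hθ₀ : ∀ v, Δ (θ₀ v) = θ v := by
    intro v
    have := (LinearEquiv.ofInjective Δ hΔ).apply_symm_apply
      (LinearMap.codRestrict (LinearMap.range Δ) θ hrange v)
    exact congrArg Subtype.val this
  have h1 : Δ ∘ₗ θ₀ = θ := LinearMap.ext hθ₀
  have h2 : θ₀ ∘ₗ Δ = θU := by
    apply LinearMap.ext
    intro u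
    apply hΔ
    rw [LinearMap.comp_apply, hθ₀, hθΔ]
  have hcore : IsCore (θ₀ ∘ₗ Δ) (core₂ θU θU) := by
    rw [h2]
    exact (hπU₀A.theta_inF hfU hgU).isCore
  rw [← h1, fpTr_comm Δ θ₀ hcore, h2]

end restrict


section pi

variable {k : Type*} [Field k] {ι : Type*} [Fintype ι] [DecidableEq ι] {U : Type*}
  [AddCommGroup U] [Module k U]

/-- one block of a matrix operator -/
noncomputable def piece (i j : ι) (T : U →ₗ[k] U) : (ι → U) →ₗ[k] (ι → U) :=
  LinearMap.single k (fun _ : ι => U) i ∘ₗ T ∘ₗ LinearMap.proj j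

omit [Fintype ι] in
theorem piece_apply (i j : ι) (T : U →ₗ[k] U) (v : ι → U) (i' : ι) :
    piece i j T v i' = if i' = i then T (v j) else 0 := by
  unfold piece
  rw [LinearMap.comp_apply, LinearMap.comp_apply, LinearMap.proj_apply, LinearMap.single_apply,
    Pi.single_apply]

/-- the operator on `ι → U` with matrix `T` -/
noncomputable def matOp (T : ι → ι → (U →ₗ[k] U)) : (ι → U) →ₗ[k] (ι → U) :=
  ∑ i, ∑ j, piece i j (T i j)

theorem matOp_apply (T : ι → ι → (U →ₗ[k] U)) (v : ι → U) (i : ι) :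
    matOp T v i = ∑ j, T i j (v j) := by
  unfold matOp
  rw [LinearMap.sum_apply, Finset.sum_apply]
  have : ∀ i' ∈ Finset.univ, ((∑ j, piece i' j (T i' j)) v) i =
      if i = i' then ∑ j, T i' j (v j) else 0 := by
    intro i' _
    rw [LinearMap.sum_apply, Finset.sum_apply]
    simp only [piece_apply]
    split_ifs with h
    · rfl
    · exact Finset.sum_const_zero
  rw [Finset.sum_congr rfl this, Finset.sum_ite_eq, if_pos (Finset.mem_univ _)]

/-- the product subspace -/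
def piSub (A : ι → Submodule k U) : Submodule k (ι → U) := Submodule.pi Set.univ A

omit [Fintype ι] [DecidableEq ι] in
theorem mem_piSub {A : ι → Submodule k U} {v : ι → U} : v ∈ piSub A ↔ ∀ i, v i ∈ A i := by
  unfold piSub
  rw [Submodule.mem_pi]
  exact ⟨fun h i => h i trivial, fun h i _ => h i⟩

/-- the diagonal operator -/
def diagOp (D : ι → (U →ₗ[k] U)) : (ι → U) →ₗ[k] (ι → U) :=
  LinearMap.pi (fun i => D i ∘ₗ LinearMap.proj i)

omit [Fintype ι] [DecidableEq ι] in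
theorem diagOp_apply (D : ι → (U →ₗ[k] U)) (v : ι → U) (i : ι) : diagOp D v i = D i (v i) := rfl

theorem single_mem_piSub {A : ι → Submodule k U} (i : ι) {o : U} (ho : o ∈ A i) :
    LinearMap.single k (fun _ : ι => U) i o ∈ piSub A := by
  rw [mem_piSub]
  intro i'
  rw [LinearMap.single_apply, Pi.single_apply]
  split_ifs with h
  · rw [h]; exact ho
  · exact Submodule.zero_mem _

theorem inF_piece {A : ι → Submodule k U} (i j : ι) {T : U →ₗ[k] U}
    (hT : ∃ W₁ W₂ : Submodule k U, FiniteDimensional k W₁ ∧ FiniteDimensional k W₂ ∧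
      LinearMap.range T ≤ A i ⊔ W₁ ∧ (A j).map T ≤ W₂) :
    InF (piSub A) (piece i j T) := by
  obtain ⟨W₁, W₂, hW₁, hW₂, h1, h2⟩ := hT
  refine ⟨W₁.map (LinearMap.single k (fun _ : ι => U) i),
    W₂.map (LinearMap.single k (fun _ : ι => U) i), inferInstance, inferInstance, ?_, ?_⟩
  · rintro _ ⟨v, rfl⟩
    unfold piece
    rw [LinearMap.comp_apply, LinearMap.comp_apply, LinearMap.proj_apply]
    obtain ⟨o, ho, w, hw, how⟩ := Submodule.mem_sup.mp (h1 ⟨v j, rfl⟩)
    rw [← how, map_add]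
    exact Submodule.add_mem _ (Submodule.mem_sup_left (single_mem_piSub i ho))
      (Submodule.mem_sup_right ⟨w, hw, rfl⟩)
  · rintro _ ⟨v, hv, rfl⟩
    rw [SetLike.mem_coe, mem_piSub] at hv
    unfold piece
    rw [LinearMap.comp_apply, LinearMap.comp_apply]
    exact ⟨_, h2 ⟨v j, hv j, rfl⟩, rfl⟩

omit [Fintype ι] in
theorem fpTr_piece_diag {A : ι → Submodule k U} (i : ι) {T : U →ₗ[k] U} (hT : InF (A i) T) :
    fpTr (piece i i T) = fpTr T := by
  have h1 : (T ∘ₗ LinearMap.proj i) ∘ₗ LinearMap.single k (fun _ : ι => U) i = T := by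
    apply LinearMap.ext
    intro x
    rw [LinearMap.comp_apply, LinearMap.comp_apply, LinearMap.proj_apply, LinearMap.single_apply,
      Pi.single_eq_same]
  have hcore : IsCore ((T ∘ₗ LinearMap.proj i) ∘ₗ LinearMap.single k (fun _ : ι => U) i)
      (core₂ T T) := by
    rw [h1]
    exact hT.isCore
  unfold piece
  rw [fpTr_comm (LinearMap.single k (fun _ : ι => U) i) (T ∘ₗ LinearMap.proj i) hcore, h1]

theorem fpTr_piece_offdiag {i j : ι} (hij : i ≠ j) (T : U →ₗ[k] U) :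
    fpTr (piece i j T) = 0 := by
  apply fpTr_eq_zero_of_pow (n := 2)
  apply LinearMap.ext
  intro v
  funext i'
  rw [pow_two, Module.End.mul_apply, piece_apply, piece_apply, if_neg (Ne.symm hij), map_zero,
    ite_self]
  rfl

/-- the trace of a matrix operator is the sum of the traces of the diagonal blocks -/
theorem fpTr_matOp (A : ι → Submodule k U) (T : ι → ι → (U →ₗ[k] U))
    (hT : ∀ i j, ∃ W₁ W₂ : Submodule k U, FiniteDimensional k W₁ ∧ FiniteDimensional k W₂ ∧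
      LinearMap.range (T i j) ≤ A i ⊔ W₁ ∧ (A j).map (T i j) ≤ W₂) :
    InF (piSub A) (matOp T) ∧ fpTr (matOp T) = ∑ i, fpTr (T i i) := by
  have hin : ∀ i, InF (piSub A) (∑ j, piece i j (T i j)) ∧
      fpTr (∑ j, piece i j (T i j)) = ∑ j, fpTr (piece i j (T i j)) := fun i =>
    fpTr_sum (A := piSub A) Finset.univ (θ := fun j => piece i j (T i j))
      (fun j _ => inF_piece i j (hT i j))
  obtain ⟨h1, h2⟩ := fpTr_sum (A := piSub A) Finset.univ
    (θ := fun i => ∑ j, piece i j (T i j)) (fun i _ => (hin i).1)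
  refine ⟨h1, ?_⟩
  unfold matOp
  rw [h2]
  apply Finset.sum_congr rfl
  intro i _
  rw [(hin i).2, Finset.sum_eq_single i]
  · exact fpTr_piece_diag (A := A) i (hT i i)
  · intro j _ hji
    exact fpTr_piece_offdiag (Ne.symm hji) _
  · intro h
    exact absurd (Finset.mem_univ i) h

theorem nearStab_matOp (A : ι → Submodule k U) (T : ι → ι → (U →ₗ[k] U))
    (hT : ∀ i j, ∃ W : Submodule k U, FiniteDimensional k W ∧ (A j).map (T i j) ≤ A i ⊔ W) :
    NearStab (piSub A) (matOp T) := by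
  choose W hW hTW using hT
  refine ⟨⨆ i, ⨆ j, (W i j).map (LinearMap.single k (fun _ : ι => U) i), inferInstance, ?_⟩
  rintro _ ⟨v, hv, rfl⟩
  rw [SetLike.mem_coe, mem_piSub] at hv
  unfold matOp
  rw [LinearMap.sum_apply]
  apply Submodule.sum_mem
  intro i _
  rw [LinearMap.sum_apply]
  apply Submodule.sum_mem
  intro j _
  unfold piece
  rw [LinearMap.comp_apply, LinearMap.comp_apply]
  obtain ⟨o, ho, w, hw, how⟩ := Submodule.mem_sup.mp (hTW i j ⟨v j, hv j, rfl⟩)
  rw [LinearMap.proj_apply, ← how, map_add]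
  refine Submodule.add_mem _ (Submodule.mem_sup_left (single_mem_piSub i ho))
    (Submodule.mem_sup_right ?_)
  exact Submodule.mem_iSup_of_mem i (Submodule.mem_iSup_of_mem j ⟨w, hw, rfl⟩)

theorem almostProj_diagOp {A : ι → Submodule k U} {π : ι → (U →ₗ[k] U)}
    (h1 : ∀ i x, π i x ∈ A i) (h2 : ∀ i, ∀ a ∈ A i, π i a = a) :
    AlmostProj (piSub A) (diagOp π) := by
  apply AlmostProj.of_proj
  · intro v
    rw [mem_piSub]
    intro i
    exact h1 i _
  · intro v hv
    rw [mem_piSub] at hv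
    funext i
    rw [diagOp_apply]
    exact h2 i _ (hv i)

theorem comm_diagOp_comp_matOp (π g : ι → (U →ₗ[k] U)) (F : ι → ι → (U →ₗ[k] U)) :
    comm (diagOp π) (diagOp g) ∘ₗ matOp F = matOp (fun i j => comm (π i) (g i) ∘ₗ F i j) := by
  apply LinearMap.ext
  intro v
  funext i
  rw [LinearMap.comp_apply, comm_apply, Pi.sub_apply, diagOp_apply, diagOp_apply, diagOp_apply,
    diagOp_apply, matOp_apply, matOp_apply, ← comm_apply, map_sum]
  rfl

end pi

end Groth.Agent.Lib.helper16.FPT
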