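import Groth.Agent.Lib.helper16.FTraceAbs
import Groth.Agent.Lib.helper16.FResCompare
import Groth.Agent.Lib.helper16.FNonsing3

/-! Helper library (helper16): the trace formula for residues (S12578). -/

set_option autoImplicit false

namespace Groth.Agent.Lib.helper16.FTrR

open FunFld WithZero LocRes Module
open Groth.Agent.Lib.helper16
open Groth.Agent.Lib.helper16.FPT
open Groth.Agent.Lib.helper16.FRL
open Groth.Agent.Lib.helper16.FRN
open Groth.Agent.Lib.helper16.FX
open Groth.Agent.Lib.helper16.FF

universe u v

section diag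

variable {k : Type*} [Field k] {ι : Type*} [Fintype ι] [DecidableEq ι] {U : Type*}
  [AddCommGroup U] [Module k U]

theorem diagOp_eq_matOp (D : ι → (U →ₗ[k] U)) :
    diagOp D = matOp (fun i j => if i = j then D i else 0) := by
  apply LinearMap.ext
  intro v
  funext i
  rw [diagOp_apply, matOp_apply, Finset.sum_eq_single i]
  · rw [if_pos rfl]
  · intro j _ hji
    rw [if_neg (Ne.symm hji), LinearMap.zero_apply]
  · intro h
    exact absurd (Finset.mem_univ i) h

theorem nearStab_diagOp (A : ι → Submodule k U) (D : ι → (U →ₗ[k] U))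
    (hD : ∀ i, NearStab (A i) (D i)) : NearStab (piSub A) (diagOp D) := by
  rw [diagOp_eq_matOp]
  apply nearStab_matOp
  intro i j
  by_cases hij : i = j
  · subst hij
    rw [if_pos rfl]
    exact hD i
  · rw [if_neg hij]
    refine ⟨⊥, inferInstance, ?_⟩
    rintro _ ⟨a, -, rfl⟩
    rw [LinearMap.zero_apply]
    exact Submodule.zero_mem _

end diag

section prod

variable {k : Type u} {K' : Type v} [Field k] [Field K'] [Algebra k K']
  (hK' : IsFunctionField k K')

/-- the sum of the local residues at finitely many places as a residue on a product -/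
theorem sum_res_eq_absRes (Qs : Finset (Place k K')) (y x : K') :
    ∑ Q : ↥Qs, (dloc hK' (Q : Place k K')).res y x =
      absRes (diagOp (fun Q : ↥Qs => prP (Q : Place k K')))
        (diagOp (fun _ : ↥Qs => Algebra.lmul k K' y))
        (diagOp (fun _ : ↥Qs => Algebra.lmul k K' x)) := by
  classical
  unfold absRes
  rw [diagOp_eq_matOp (fun _ : ↥Qs => Algebra.lmul k K' y), comm_diagOp_comp_matOp]
  obtain ⟨-, h2⟩ := fpTr_matOp (fun Q : ↥Qs => OP (Q : Place k K'))
    (fun i j : ↥Qs => comm (prP (i : Place k K')) (Algebra.lmul k K' x) ∘ₗ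
      (if i = j then Algebra.lmul k K' y else 0)) (by
    intro i j
    by_cases hij : i = j
    · subst hij
      rw [if_pos rfl]
      exact inF_thetaL hK' y x i
    · rw [if_neg hij, LinearMap.comp_zero]
      refine ⟨⊥, ⊥, inferInstance, inferInstance, ?_, ?_⟩
      · rw [LinearMap.range_zero]; exact bot_le
      · rintro _ ⟨a, -, rfl⟩
        rw [LinearMap.zero_apply]
        exact Submodule.zero_mem _)
  rw [h2]
  apply Finset.sum_congr rfl
  intro Q _
  rw [if_pos rfl]
  rfl

end prod


section diagRestrict

variable {k : Type u} {K' : Type v} [Field k] [Field K'] [Algebra k K']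
  (hK' : IsFunctionField k K')

/-- the diagonal embedding -/
def diagMap (Qs : Finset (Place k K')) : K' →ₗ[k] (↥Qs → K') :=
  LinearMap.pi (fun _ => LinearMap.id)

theorem diagMap_apply (Qs : Finset (Place k K')) (z : K') (Q : ↥Qs) : diagMap Qs z Q = z := rfl

/-- the intersection of the valuation rings of the places in `Qs` -/
def OQs (Qs : Finset (Place k K')) : Submodule k K' :=
  (piSub (fun Q : ↥Qs => OP (Q : Place k K'))).comap (diagMap Qs)

theorem mem_OQs {Qs : Finset (Place k K')} {z : K'} : z ∈ OQs Qs ↔ ∀ Q ∈ Qs, Q.1 z ≤ 1 := by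
  unfold OQs
  rw [Submodule.mem_comap, mem_piSub]
  constructor
  · intro h Q hQ
    exact h ⟨Q, hQ⟩
  · intro h Q
    exact h Q.1 Q.2

include hK' in
theorem absRes_prod_eq (Qs : Finset (Place k K')) (hne : Qs.Nonempty) (y x : K')
    {πU : K' →ₗ[k] K'} (hπU : AlmostProj (OQs Qs) πU) :
    absRes (diagOp (fun Q : ↥Qs => prP (Q : Place k K')))
        (diagOp (fun _ : ↥Qs => Algebra.lmul k K' y))
        (diagOp (fun _ : ↥Qs => Algebra.lmul k K' x)) =
      absRes πU (Algebra.lmul k K' y) (Algebra.lmul k K' x) := by
  classical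
  obtain ⟨Q₀, hQ₀⟩ := hne
  refine absRes_restrict (diagMap Qs) ?_ ?_ ?_ hπU ?_ ?_ ?_ ?_ ?_
  · intro z z' h
    have := congrFun h ⟨Q₀, hQ₀⟩
    exact this
  · rw [eq_top_iff]
    intro v _
    obtain ⟨z, hz⟩ := weak_approximation (fun i : ↥Qs => (i : Place k K')) Subtype.val_injective
      v 0
    have h1 : v = (v - diagMap Qs z) + diagMap Qs z := by abel
    rw [h1]
    refine Submodule.add_mem _ (Submodule.mem_sup_left ?_) (Submodule.mem_sup_right ⟨z, rfl⟩)
    rw [mem_piSub]
    intro Q
    rw [mem_OP, Pi.sub_apply, diagMap_apply, Valuation.map_sub_swap]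
    have := hz Q
    rwa [neg_zero, exp_zero] at this
  · exact almostProj_diagOp (fun Q x => val_prP (Q : Place k K') x)
      (fun Q a ha => prP_of_le (Q : Place k K') ha)
  · exact nearStab_diagOp _ _ (fun Q => nearStab_lmul hK' (Q : Place k K') y)
  · exact nearStab_diagOp _ _ (fun Q => nearStab_lmul hK' (Q : Place k K') x)
  · apply LinearMap.ext
    intro v
    funext Q
    rw [LinearMap.comp_apply, LinearMap.comp_apply, diagOp_apply, diagOp_apply, diagOp_apply,
      diagOp_apply, lmul_apply, lmul_apply, lmul_apply, lmul_apply]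
    ring
  · apply LinearMap.ext
    intro z
    funext Q
    rfl
  · apply LinearMap.ext
    intro z
    funext Q
    rfl

end diagRestrict

section basis

variable {k : Type u} {K K' : Type v} [Field k] [Field K] [Field K'] [Algebra k K]
  [Algebra K K'] [Algebra k K'] [IsScalarTower k K K'] [FiniteDimensional K K']
  (hK : IsFunctionField k K) {P : Place k K} {b : Fin (finrank K K') → K'}
  (hbB : ∀ i, b i ∈ semiLocal K' P) (hb : IndepModT P b)

/-- coordinates with respect to the integral basis -/
noncomputable def coord : K' →ₗ[k] (Fin (finrank K K') → K) :=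
  ((basisOfIndep hb).equivFun.restrictScalars k).toLinearMap

theorem coord_apply (z : K') (i : Fin (finrank K K')) :
    coord hb z i = (basisOfIndep hb).repr z i := rfl

include hbB in
theorem mem_comap_coord (z : K') :
    z ∈ (piSub (fun _ : Fin (finrank K K') => OP P)).comap (coord hb) ↔
      z ∈ semiLocal K' P := by
  rw [Submodule.mem_comap, mem_piSub]
  constructor
  · intro h
    rw [← sum_repr_basisOfIndep hb z]
    apply Subring.sum_mem
    intro i _
    rw [Algebra.smul_def]
    exact (semiLocal K' P).mul_mem (algebraMap_mem_semiLocal (h i)) (hbB i)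
  · intro h i
    exact val_repr_le_one hb h i

include hK in
theorem absRes_basis_eq (y : K') (x : K) {πU : K' →ₗ[k] K'}
    (hπU : AlmostProj ((piSub (fun _ : Fin (finrank K K') => OP P)).comap (coord hb)) πU) :
    absRes (diagOp (fun _ : Fin (finrank K K') => prP P))
        (matOp (fun i j => Algebra.lmul k K (Algebra.leftMulMatrix (basisOfIndep hb) y i j)))
        (diagOp (fun _ : Fin (finrank K K') => Algebra.lmul k K x)) =
      absRes πU (Algebra.lmul k K' y) (Algebra.lmul k K' (algebraMap K K' x)) := by
  refine absRes_restrict (coord hb) ?_ ?_ ?_ hπU ?_ ?_ ?_ ?_ ?_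
  · exact ((basisOfIndep hb).equivFun.restrictScalars k).injective
  · rw [eq_top_iff]
    intro v _
    apply Submodule.mem_sup_right
    exact ⟨((basisOfIndep hb).equivFun.restrictScalars k).symm v,
      ((basisOfIndep hb).equivFun.restrictScalars k).apply_symm_apply v⟩
  · exact almostProj_diagOp (fun _ x => val_prP P x) (fun _ a ha => prP_of_le P ha)
  · apply nearStab_matOp
    intro i j
    exact nearStab_lmul hK P _
  · exact nearStab_diagOp _ _ (fun _ => nearStab_lmul hK P x)
  · apply LinearMap.ext
    intro v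
    funext i
    rw [LinearMap.comp_apply, LinearMap.comp_apply, matOp_apply, diagOp_apply, matOp_apply,
      lmul_apply, Finset.mul_sum]
    apply Finset.sum_congr rfl
    intro j _
    rw [lmul_apply, diagOp_apply, lmul_apply, lmul_apply]
    ring
  · apply LinearMap.ext
    intro z
    funext i
    rw [LinearMap.comp_apply, LinearMap.comp_apply, matOp_apply, coord_apply, lmul_apply,
      ← Algebra.leftMulMatrix_mulVec_repr]
    rfl
  · apply LinearMap.ext
    intro z
    funext i
    rw [LinearMap.comp_apply, LinearMap.comp_apply, diagOp_apply, coord_apply, coord_apply,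
      lmul_apply, lmul_apply, ← Algebra.smul_def, map_smul]
    rfl

include hK in
theorem absRes_basis_eq_res (y : K') (x : K) :
    absRes (diagOp (fun _ : Fin (finrank K K') => prP P))
        (matOp (fun i j => Algebra.lmul k K (Algebra.leftMulMatrix (basisOfIndep hb) y i j)))
        (diagOp (fun _ : Fin (finrank K K') => Algebra.lmul k K x)) =
      (dloc hK P).res (Algebra.trace K K' y) x := by
  unfold absRes
  rw [comm_diagOp_comp_matOp]
  obtain ⟨-, h2⟩ := fpTr_matOp (fun _ : Fin (finrank K K') => OP P)
    (fun i j => comm (prP P) (Algebra.lmul k K x) ∘ₗ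
      Algebra.lmul k K (Algebra.leftMulMatrix (basisOfIndep hb) y i j))
    (fun i j => inF_thetaL hK _ x P)
  rw [h2, Algebra.trace_eq_matrix_trace (basisOfIndep hb) y, Matrix.trace]
  have h3 : (dloc hK P).res (∑ i, Matrix.diag (Algebra.leftMulMatrix (basisOfIndep hb) y) i) x =
      ∑ i, (dloc hK P).res (Matrix.diag (Algebra.leftMulMatrix (basisOfIndep hb) y) i) x :=
    map_sum ((dloc hK P).resL x) _ _
  rw [h3]
  rfl

end basis

section main

variable {k : Type u} {K K' : Type v} [Field k] [Field K] [Field K'] [Algebra k K]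
  [Algebra K K'] [Algebra k K'] [IsScalarTower k K K'] [FiniteDimensional K K']
  (hK : IsFunctionField k K) (hK' : IsFunctionField k K')

/-- **the trace formula for the abstract residues** -/
theorem res_trace_eq_sum (P : Place k K) (Qs : Finset (Place k K'))
    (hQs : ∀ Q, Q ∈ Qs ↔ IsOver Q P) (y : K') (x : K) :
    (dloc hK P).res (Algebra.trace K K' y) x =
      ∑ Q ∈ Qs, (dloc hK' Q).res y (algebraMap K K' x) := by
  classical
  obtain ⟨b, hbB, hb⟩ := exists_integral_basis (K' := K') hK P
  obtain ⟨Q₀, hQ₀⟩ := FCE.exists_isOver_above (K' := K') hK P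
  have hne : Qs.Nonempty := ⟨Q₀, (hQs Q₀).mpr hQ₀⟩
  have heq : OQs Qs = (piSub (fun _ : Fin (finrank K K') => OP P)).comap (coord hb) := by
    ext z
    rw [mem_comap_coord hbB hb, mem_OQs, mem_semiLocal]
    constructor
    · intro h Q hQ
      exact h Q ((hQs Q).mpr hQ)
    · intro h Q hQ
      exact h Q ((hQs Q).mp hQ)
  obtain ⟨C, hC⟩ := Submodule.exists_isCompl (OQs Qs)
  have hπU : AlmostProj (OQs Qs) ((OQs Qs).projection C hC) :=
    AlmostProj.of_proj (fun x => Submodule.projection_apply_mem hC x)
      (fun a ha => Submodule.projection_apply_of_mem_left hC ha)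
  have hπU' : AlmostProj ((piSub (fun _ : Fin (finrank K K') => OP P)).comap (coord hb))
      ((OQs Qs).projection C hC) := by rw [← heq]; exact hπU
  rw [← absRes_basis_eq_res hK hb, absRes_basis_eq hK hb y x hπU',
    ← absRes_prod_eq hK' Qs hne y (algebraMap K K' x) hπU, ← sum_res_eq_absRes hK']
  exact Finset.sum_coe_sort Qs (fun Q => (dloc hK' Q).res y (algebraMap K K' x))

end main

end Groth.Agent.Lib.helper16.FTrR
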