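import Groth.Agent.Lib.helper16.FConductor
import Groth.Agent.Lib.helper16.FXInsep

set_option autoImplicit false
set_option linter.style.haveILetI false

/-! Helper library (helper16): uniqueness of the place above `P` in a constant field extension
when `k'/k` or `F_P/k` is purely inseparable. -/

namespace Groth.Agent.Lib.helper16.FCE

open FunFld TensorProduct Module Polynomial WithZero Groth.Agent.Lib.helper16.FX
  Groth.Agent.Lib.helper16.FF

section tensorField

variable {k : Type*} [Field k]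

/-- `F ⊗ E` is a field for `F/k` finite purely inseparable and `E/k` finite separable -/
theorem isField_tensor_of_isPurelyInseparable (F E : Type*) [Field F] [Field E] [Algebra k F]
    [Algebra k E] [FiniteDimensional k F] [IsPurelyInseparable k F] [FiniteDimensional k E]
    [Algebra.IsSeparable k E] : IsField (F ⊗[k] E) := by
  haveI : Algebra.FormallyUnramified k E := Algebra.FormallyUnramified.of_isSeparable k E
  haveI hred : IsReduced (F ⊗[k] E) :=
    Algebra.FormallyUnramified.isReduced_of_field F (F ⊗[k] E)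
  obtain ⟨q, hq⟩ := ExpChar.exists k
  haveI : ExpChar (F ⊗[k] E) q :=
    expChar_of_injective_ringHom (FaithfulSMul.algebraMap_injective k (F ⊗[k] E)) q
  obtain ⟨N, hN⟩ : ∃ N, N = q ^ IsPurelyInseparable.exponent k F := ⟨_, rfl⟩
  have hN0 : N ≠ 0 := by
    rw [hN]
    exact pow_ne_zero _ (expChar_pos k q).ne'
  have hFN : ∀ f : F, ∃ φ : k, f ^ N = algebraMap k F φ := by
    intro f
    obtain ⟨φ, hφ⟩ := IsPurelyInseparable.exponent_def' k q f
    exact ⟨φ, by rw [hN, ← hφ]⟩
  have hpow : ∀ ξ : F ⊗[k] E, ∃ γ : E, ξ ^ N = 1 ⊗ₜ γ := by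
    intro ξ
    induction ξ using TensorProduct.induction_on with
    | zero => exact ⟨0, by rw [zero_pow hN0, TensorProduct.tmul_zero]⟩
    | tmul f c =>
      obtain ⟨φ, hφ⟩ := hFN f
      refine ⟨φ • c ^ N, ?_⟩
      rw [Algebra.TensorProduct.tmul_pow, hφ, Algebra.algebraMap_eq_smul_one,
        TensorProduct.smul_tmul]
    | add x y hx hy =>
      obtain ⟨γ, hγ⟩ := hx
      obtain ⟨γ', hγ'⟩ := hy
      refine ⟨γ + γ', ?_⟩
      rw [hN, add_pow_expChar_pow, ← hN, hγ, hγ', TensorProduct.tmul_add]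
  refine ⟨⟨0, 1, zero_ne_one⟩, mul_comm, ?_⟩
  intro ξ hξ
  obtain ⟨γ, hγ⟩ := hpow ξ
  have hξN : ξ ^ N ≠ 0 := by
    intro h0
    exact hξ (IsNilpotent.eq_zero ⟨N, h0⟩)
  have hγ0 : γ ≠ 0 := by
    rintro rfl
    rw [TensorProduct.tmul_zero] at hγ
    exact hξN hγ
  obtain ⟨M, hM⟩ : ∃ M, N = M + 1 := ⟨N - 1, by omega⟩
  refine ⟨ξ ^ M * (1 ⊗ₜ γ⁻¹), ?_⟩
  rw [← mul_assoc, ← pow_succ', ← hM, hγ, Algebra.TensorProduct.tmul_mul_tmul, one_mul,
    mul_inv_cancel₀ hγ0]
  rfl

end tensorField

section local_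

universe u v

variable {k k' : Type u} {K K' : Type v} [Field k] [Field k'] [Field K] [Field K']
    [Algebra k k'] [Algebra k K] [Algebra K K'] [Algebra k' K'] [Algebra k K']
    [IsScalarTower k k' K'] [IsScalarTower k K K']

/-- if `F_P ⊗ k'` is a field, then at any place `Q` above `P` the coefficients of a `Q`-integral
combination of constants are `P`-integral -/
theorem coeff_integral_of_isField [Algebra.IsAlgebraic K K'] [Algebra.IsAlgebraic k k']
    (P : Place k K) [Algebra P.O K'] [IsScalarTower P.O K K']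
    {Q : Place k K'} (hQ : IsOver Q P)
    {F : Type*} [Field F] [Algebra k F]
    (res : P.O →ₐ[k] F) (hres : Function.Surjective res)
    (hker : ∀ r : P.O, res r = 0 → P.1 (r : K) < 1) (hR : IsField (F ⊗[k] k'))
    {m : ℕ} (b : Basis (Fin m) k k') (a : Fin m → K)
    (hz : Q.1 (∑ i, a i • algebraMap k' K' (b i)) ≤ 1) : ∀ i, P.1 (a i) ≤ 1 := by
  classical
  haveI := isScalarTower_O (K' := K') P
  obtain ⟨ι, hι⟩ : ∃ ι : P.O ⊗[k] k' →ₐ[P.O] K', ι = iotaO k' P := ⟨_, rfl⟩
  obtain ⟨π, hπ⟩ : ∃ π : P.O ⊗[k] k' →ₐ[k] F ⊗[k] k',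
    π = Algebra.TensorProduct.map res (AlgHom.id k k') := ⟨_, rfl⟩
  obtain ⟨bO, hbO⟩ : ∃ bO : Basis (Fin m) P.O (P.O ⊗[k] k'),
    bO = Algebra.TensorProduct.basis P.O b := ⟨_, rfl⟩
  obtain ⟨bF, hbF⟩ : ∃ bF : Basis (Fin m) F (F ⊗[k] k'),
    bF = Algebra.TensorProduct.basis F b := ⟨_, rfl⟩
  have hQe := isOverWith_ramIdx hQ
  have hepos := isOverWith_pos hQe
  have hconst : ∀ y : k', Q.1 (algebraMap k' K' y) ≤ 1 := by
    intro y
    exact val_le_one_of_isAlgebraic Q (Algebra.IsAlgebraic.isAlgebraic y).algebraMap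
  have hQle : ∀ r : K, P.1 r ≤ 1 → Q.1 (algebraMap K K' r) ≤ 1 := by
    intro r hr
    rw [hQe r]
    exact pow_le_one₀ zero_le hr
  have hQlt : ∀ r : K, P.1 r < 1 → Q.1 (algebraMap K K' r) < 1 := by
    intro r hr
    rw [hQe r]
    exact pow_lt_one₀ zero_le hr (by omega)
  have hιb : ∀ (r : P.O) (i : Fin m), ι (r • bO i) = (r : K) • algebraMap k' K' (b i) := by
    intro r i
    rw [hbO, Algebra.TensorProduct.basis_apply, TensorProduct.smul_tmul', smul_eq_mul, mul_one,
      hι, iotaO_tmul, Algebra.smul_def]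
  have hπb : ∀ (r : P.O) (i : Fin m), π (r • bO i) = res r • bF i := by
    intro r i
    rw [hbO, hbF, Algebra.TensorProduct.basis_apply, Algebra.TensorProduct.basis_apply,
      TensorProduct.smul_tmul', TensorProduct.smul_tmul', smul_eq_mul, mul_one, smul_eq_mul,
      mul_one, hπ]
    rfl
  have hι_sum : ∀ a : Fin m → P.O,
      ι (∑ i, a i • bO i) = ∑ i, ((a i : P.O) : K) • algebraMap k' K' (b i) := by
    intro a
    rw [map_sum]
    exact Finset.sum_congr rfl fun i _ => hιb _ i
  have hπ_sum : ∀ a : Fin m → P.O, π (∑ i, a i • bO i) = ∑ i, res (a i) • bF i := by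
    intro a
    rw [map_sum]
    exact Finset.sum_congr rfl fun i _ => hπb _ i
  have hι_le : ∀ β, Q.1 (ι β) ≤ 1 := by
    intro β
    rw [← bO.sum_repr β, hι_sum]
    apply Valuation.map_sum_le
    intro i _
    rw [Algebra.smul_def, map_mul]
    exact mul_le_one' (hQle _ (bO.repr β i).2) (hconst _)
  have hπ_surj : Function.Surjective π := by
    intro η
    obtain ⟨a, ha⟩ : ∃ a : Fin m → P.O, ∀ i, res (a i) = bF.repr η i :=
      ⟨fun i => (hres (bF.repr η i)).choose, fun i => (hres (bF.repr η i)).choose_spec⟩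
    refine ⟨∑ i, a i • bO i, ?_⟩
    rw [hπ_sum]
    conv_rhs => rw [← bF.sum_repr η]
    exact Finset.sum_congr rfl fun i _ => by rw [ha]
  have hker_lt : ∀ μ, π μ = 0 → Q.1 (ι μ) < 1 := by
    intro μ hμ
    rw [← bO.sum_repr μ, hπ_sum] at hμ
    have h3 := Fintype.linearIndependent_iff.mp bF.linearIndependent _ hμ
    rw [← bO.sum_repr μ, hι_sum]
    apply Valuation.map_sum_lt _ one_ne_zero
    intro i _
    rw [Algebra.smul_def, map_mul]
    exact mul_lt_one_of_nonneg_of_lt_one_left zero_le (hQlt _ (hker _ (h3 i))) (hconst _)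
  by_contra hcon
  push Not at hcon
  obtain ⟨i₁, hi₁⟩ := hcon
  haveI : Nonempty (Fin m) := ⟨i₁⟩
  obtain ⟨i₀, hi₀⟩ := Finite.exists_max (fun i => P.1 (a i))
  have hu : 1 < P.1 (a i₀) := lt_of_lt_of_le hi₁ (hi₀ i₁)
  have hu0 : a i₀ ≠ 0 := by
    rintro h
    rw [h, map_zero] at hu
    exact absurd hu (not_lt.mpr zero_le)
  have hb1 : ∀ i, P.1 ((a i₀)⁻¹ * a i) ≤ 1 := by
    intro i
    rw [map_mul, map_inv₀]
    calc (P.1 (a i₀))⁻¹ * P.1 (a i) ≤ (P.1 (a i₀))⁻¹ * P.1 (a i₀) := by
          gcongr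
          exact hi₀ i
      _ = 1 := inv_mul_cancel₀ (val_ne_zero P hu0)
  obtain ⟨ζ, hζ⟩ : ∃ ζ : P.O ⊗[k] k', ζ = ∑ i, (⟨(a i₀)⁻¹ * a i, hb1 i⟩ : P.O) • bO i :=
    ⟨_, rfl⟩
  have hιζ : ι ζ = (a i₀)⁻¹ • ∑ i, a i • algebraMap k' K' (b i) := by
    rw [hζ, hι_sum, Finset.smul_sum]
    exact Finset.sum_congr rfl fun i _ => by rw [mul_smul]
  have hζlt : Q.1 (ι ζ) < 1 := by
    rw [hιζ, Algebra.smul_def, map_mul]
    refine mul_lt_one_of_nonneg_of_lt_one_left zero_le (hQlt _ ?_) hz
    rw [map_inv₀]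
    exact inv_lt_one_of_one_lt₀ hu
  have hπζ : π ζ ≠ 0 := by
    intro h0
    rw [hζ, hπ_sum] at h0
    have h3 := Fintype.linearIndependent_iff.mp bF.linearIndependent _ h0 i₀
    have h4 := hker _ h3
    simp only [inv_mul_cancel₀ hu0, map_one] at h4
    exact lt_irrefl _ h4
  obtain ⟨η, hη⟩ := hR.mul_inv_cancel hπζ
  obtain ⟨ζ', rfl⟩ := hπ_surj η
  have h1 : π (ζ * ζ' - 1) = 0 := by rw [map_sub, map_mul, hη, map_one, sub_self]
  have h2 := hker_lt _ h1
  rw [map_sub, map_mul, map_one] at h2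
  have h3 : Q.1 (ι ζ * ι ζ') < 1 := by
    rw [map_mul]
    exact mul_lt_one_of_nonneg_of_lt_one_left zero_le hζlt (hι_le ζ')
  have h4 : Q.1 (1 : K') ≤ max (Q.1 (ι ζ * ι ζ')) (Q.1 (ι ζ * ι ζ' - 1)) := by
    have : (1 : K') = ι ζ * ι ζ' - (ι ζ * ι ζ' - 1) := by ring
    conv_lhs => rw [this]
    exact Q.1.map_sub _ _
  rw [map_one] at h4
  exact absurd h4 (not_le.mpr (max_lt h3 h2))

end local_

section unique

universe u v

variable {k k' : Type u} {K K' : Type v} [Field k] [Field k'] [Field K] [Field K']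
    [Algebra k k'] [Algebra k K] [Algebra K K'] [Algebra k' K'] [Algebra k K']
    [IsScalarTower k k' K'] [IsScalarTower k K K']

/-- for `k'/k` finite purely inseparable, a power of every element of `K' = k' ⊗ K` lies in `K` -/
theorem exists_pow_mem_range
    (h : Function.Surjective (Algebra.TensorProduct.productMap
      (IsScalarTower.toAlgHom k k' K') (IsScalarTower.toAlgHom k K K')))
    [FiniteDimensional k k'] [IsPurelyInseparable k k'] :
    ∃ N : ℕ, N ≠ 0 ∧ ∀ z : K', z ^ N ∈ Set.range (algebraMap K K') := by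
  obtain ⟨q, hq⟩ := ExpChar.exists k
  haveI : ExpChar K' q :=
    expChar_of_injective_ringHom (algebraMap k K').injective q
  refine ⟨q ^ IsPurelyInseparable.exponent k k', pow_ne_zero _ (expChar_pos k q).ne', ?_⟩
  intro z
  obtain ⟨t, rfl⟩ := h z
  induction t using TensorProduct.induction_on with
  | zero =>
    rw [map_zero, zero_pow (pow_ne_zero _ (expChar_pos k q).ne')]
    exact ⟨0, map_zero _⟩
  | tmul a b =>
    obtain ⟨φ, hφ⟩ := IsPurelyInseparable.exponent_def' k q a
    refine ⟨algebraMap k K φ * b ^ q ^ IsPurelyInseparable.exponent k k', ?_⟩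
    rw [Algebra.TensorProduct.productMap_apply_tmul, mul_pow]
    show _ = algebraMap k' K' a ^ _ * algebraMap K K' b ^ _
    rw [← map_pow, ← hφ, ← IsScalarTower.algebraMap_apply k k' K', map_mul, map_pow,
      ← IsScalarTower.algebraMap_apply k K K']
  | add x y hx hy =>
    obtain ⟨u, hu⟩ := hx
    obtain ⟨v, hv⟩ := hy
    refine ⟨u + v, ?_⟩
    rw [map_add, map_add, add_pow_expChar_pow, hu, hv]

/-- uniqueness of the place above `P` when the residue field of `P` is purely inseparable -/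
theorem eq_of_isOver_of_residue_purelyInseparable
    (h : Function.Bijective (Algebra.TensorProduct.productMap
      (IsScalarTower.toAlgHom k k' K') (IsScalarTower.toAlgHom k K K')))
    [FiniteDimensional k k']
    (P : Place k K) [Algebra P.O K'] [IsScalarTower P.O K K']
    {F : Type*} [Field F] [Algebra k F] [FiniteDimensional k F] [IsPurelyInseparable k F]
    (res : P.O →ₐ[k] F) (hres : Function.Surjective res)
    (hker : ∀ r : P.O, res r = 0 → P.1 (r : K) < 1)
    {Q Q' : Place k K'} (hQ : IsOver Q P) (hQ' : IsOver Q' P) : Q = Q' := by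
  classical
  haveI hfin : Module.Finite K K' := finite_of_surjective k k' K K' h.2
  obtain ⟨E, hE⟩ : ∃ E : IntermediateField k k', E = separableClosure k k' := ⟨_, rfl⟩
  haveI : Algebra.IsSeparable k E := by rw [hE]; infer_instance
  haveI : IsPurelyInseparable E k' := by rw [hE]; infer_instance
  have hR : IsField (F ⊗[k] E) := isField_tensor_of_isPurelyInseparable F E
  obtain ⟨q, hq⟩ := ExpChar.exists E
  haveI : ExpChar K' q :=
    expChar_of_injective_ringHom (algebraMap E K').injective q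
  obtain ⟨N, hN⟩ : ∃ N, N = q ^ IsPurelyInseparable.exponent E k' := ⟨_, rfl⟩
  have hN0 : N ≠ 0 := by
    rw [hN]; exact pow_ne_zero _ (expChar_pos E q).ne'
  let c : Basis (Fin (finrank k E)) k E := Module.finBasis k E
  let d : Basis (Fin (finrank k k')) k k' := Module.finBasis k k'
  -- every `N`-th power is a `K`-combination of the constants `c`
  have hspan : ∀ z : K', z ^ N ∈ Submodule.span K (Set.range fun i => algebraMap E K' (c i)) := by
    intro z
    have hEmem : ∀ γ : E, algebraMap E K' γ ∈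
        Submodule.span K (Set.range fun i => algebraMap E K' (c i)) := by
      intro γ
      rw [← c.sum_repr γ, map_sum]
      refine Submodule.sum_mem _ fun i _ => ?_
      have : algebraMap E K' (c.repr γ i • c i) =
          algebraMap k K (c.repr γ i) • algebraMap E K' (c i) := by
        rw [Algebra.smul_def, map_mul, Algebra.smul_def,
          ← IsScalarTower.algebraMap_apply k E K', ← IsScalarTower.algebraMap_apply k K K']
      rw [this]
      exact Submodule.smul_mem _ _ (Submodule.subset_span ⟨i, rfl⟩)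
    rw [← (constBasis h d).sum_repr z, hN, sum_pow_char_pow]
    refine Submodule.sum_mem _ fun j _ => ?_
    obtain ⟨γ, hγ⟩ := IsPurelyInseparable.exponent_def' E q (d j)
    have e1 : ((constBasis h d).repr z j • (constBasis h d) j) ^
        q ^ IsPurelyInseparable.exponent E k' =
        ((constBasis h d).repr z j) ^ q ^ IsPurelyInseparable.exponent E k' •
          algebraMap E K' γ := by
      rw [Algebra.smul_def, mul_pow, ← map_pow (algebraMap K K'), ← Algebra.smul_def,
        constBasis_apply, ← map_pow (algebraMap k' K'), ← hγ,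
        ← IsScalarTower.algebraMap_apply E k' K']
    rw [e1]
    exact Submodule.smul_mem _ _ (hEmem γ)
  have key : ∀ {Q₁ Q₂ : Place k K'}, IsOver Q₁ P → IsOver Q₂ P →
      ∀ z : K', Q₁.1 z ≤ 1 → Q₂.1 z ≤ 1 := by
    intro Q₁ Q₂ h₁ h₂ z hz
    have hzN : Q₁.1 (z ^ N) ≤ 1 := by
      rw [map_pow]; exact pow_le_one₀ zero_le hz
    obtain ⟨a, ha⟩ := (Submodule.mem_span_range_iff_exists_fun K).mp (hspan z)
    rw [← ha] at hzN
    have hint := coeff_integral_of_isField (k' := E) P h₁ res hres hker hR c a hzN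
    have h2 : Q₂.1 (z ^ N) ≤ 1 := by
      rw [← ha]
      apply Valuation.map_sum_le
      intro i _
      rw [Algebra.smul_def, map_mul]
      refine mul_le_one' ?_ ?_
      · rw [isOverWith_ramIdx h₂]
        exact pow_le_one₀ zero_le (hint i)
      · exact val_le_one_of_isAlgebraic Q₂ (Algebra.IsAlgebraic.isAlgebraic (c i)).algebraMap
    rw [map_pow] at h2
    exact (pow_le_one_iff_of_nonneg zero_le hN0).mp h2
  exact eq_of_valuationRing_le Q Q' (key hQ hQ')

/-- **S11011** -/
theorem existsUnique_place_over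
    (h : Function.Bijective (Algebra.TensorProduct.productMap
      (IsScalarTower.toAlgHom k k' K') (IsScalarTower.toAlgHom k K K')))
    [FiniteDimensional k k'] (hK : IsFunctionField k K) (P : Place k K)
    (hpi : IsPurelyInseparable k k' ∨ IsPurelyInseparable k (IsLocalRing.ResidueField P.O)) :
    ∃! Q : Place k K', IsOver Q P := by
  haveI hfin : Module.Finite K K' := finite_of_surjective k k' K K' h.2
  obtain ⟨Q, hQ⟩ := exists_isOver_above (K' := K') hK P
  refine ⟨Q, hQ, fun Q' hQ' => ?_⟩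
  rcases hpi with hpi | hpi
  · obtain ⟨N, hN0, hpow⟩ := exists_pow_mem_range (K := K) (K' := K') h.2
    exact eq_of_isOver_of_pow_mem hN0 hpow hQ' hQ
  · letI : Algebra P.O K' := ((algebraMap K K').comp (algebraMap P.O K)).toAlgebra
    haveI : IsScalarTower P.O K K' := IsScalarTower.of_algebraMap_eq fun _ => rfl
    haveI hfd : @FiniteDimensional k (IsLocalRing.ResidueField P.O) _ _
        (@Algebra.toModule _ _ _ _ P.algRes) := finiteDimensional_residueField hK.1 P
    exact eq_of_isOver_of_residue_purelyInseparable h P (F := IsLocalRing.ResidueField P.O)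
      (resAlg P) IsLocalRing.residue_surjective (fun r hr => by
        have : IsLocalRing.residue P.O r = 0 := hr
        rw [IsLocalRing.residue_eq_zero_iff] at this
        exact (Valuation.mem_maximalIdeal_iff _ _).mp this) hQ' hQ

end unique

end Groth.Agent.Lib.helper16.FCE
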