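import Groth.Agent.Lib.helper16.FXConorm

/-! Helper library (helper16): a function field as a finite extension of itself along a
`k`-embedding `τ : K → K`. -/

set_option autoImplicit false

namespace Groth.Agent.Lib.helper16.FX

open FunFld WithZero Polynomial Module Groth.Agent.Lib.helper16.FF
open scoped IntermediateField

variable {k K : Type*} [Field k] [Field K] [Algebra k K]

/-- a copy of `K`, regarded as the source of the embedding `τ` -/
def Src (_τ : K →ₐ[k] K) : Type _ := K

namespace Src

variable (τ : K →ₐ[k] K)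

instance : Field (Src τ) := inferInstanceAs (Field K)
instance : Algebra k (Src τ) := inferInstanceAs (Algebra k K)
instance : Algebra (Src τ) K := τ.toRingHom.toAlgebra
instance : IsScalarTower k (Src τ) K :=
  IsScalarTower.of_algebraMap_eq fun x => (τ.commutes x).symm

theorem algebraMap_apply (x : Src τ) : algebraMap (Src τ) K x = τ x := rfl

/-- the source copy is isomorphic to the image field -/
noncomputable def equivRange : Src τ ≃+* τ.fieldRange :=
  RingEquiv.ofBijective (RingHom.codRestrict τ.toRingHom τ.fieldRange (fun x => ⟨x, rfl⟩))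
    ⟨fun x y h => τ.toRingHom.injective (congrArg Subtype.val h),
     fun ⟨_, ⟨x, hx⟩⟩ => ⟨x, Subtype.ext hx⟩⟩

theorem coe_equivRange (x : Src τ) : ((equivRange τ x : τ.fieldRange) : K) = τ x := rfl

theorem equivRange_comp :
    (algebraMap τ.fieldRange K).comp (equivRange τ).toRingHom =
      (RingEquiv.refl K).toRingHom.comp (algebraMap (Src τ) K) := by
  ext x
  rfl

theorem finrank_eq : finrank (Src τ) K = finrank τ.fieldRange K :=
  Algebra.finrank_eq_of_equiv_equiv (equivRange τ) (RingEquiv.refl K) (equivRange_comp τ)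

theorem finiteDimensional (hK : IsFF1 k K) : FiniteDimensional (Src τ) K := by
  obtain ⟨x, hx, hfin⟩ := hK
  have hτx : Transcendental k (τ x) := fun h =>
    hx ((isAlgebraic_algHom_iff τ τ.toRingHom.injective).mp h)
  have h1 : FiniteDimensional k⟮τ x⟯ K := finiteDimensional_of_transcendental ⟨x, hx, hfin⟩ hτx
  have hle : k⟮τ x⟯ ≤ τ.fieldRange := by
    rw [IntermediateField.adjoin_simple_le_iff]
    exact ⟨x, rfl⟩
  have h2 : FiniteDimensional τ.fieldRange K := by
    let _ : Algebra k⟮τ x⟯ τ.fieldRange := (IntermediateField.inclusion hle).toRingHom.toAlgebra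
    have : IsScalarTower k⟮τ x⟯ τ.fieldRange K := IsScalarTower.of_algebraMap_eq fun _ => rfl
    exact Module.Finite.of_restrictScalars_finite k⟮τ x⟯ τ.fieldRange K
  have he : (algebraMap (Src τ) K).comp (equivRange τ).symm.toRingHom =
      (RingEquiv.refl K).toRingHom.comp (algebraMap τ.fieldRange K) := by
    ext y
    obtain ⟨x, rfl⟩ := (equivRange τ).surjective y
    simp only [RingEquiv.toRingHom_eq_coe, RingHom.coe_comp, RingHom.coe_coe, Function.comp_apply,
      RingEquiv.symm_apply_apply]
    rfl
  exact Module.Finite.of_equiv_equiv (equivRange τ).symm (RingEquiv.refl K) he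

end Src

/-- the degree of `τ(φ)` is `[K : τ K]` times the degree of `φ` -/
theorem deg_mapDiv_comp (hK : IsFunctionField k K) (τ : K →ₐ[k] K) {ι : Type*} [Fintype ι]
    [Nonempty ι] (φ : ι → K) :
    (mapDiv k (τ ∘ φ)).deg = finrank τ.fieldRange K * (mapDiv k φ).deg := by
  have := Src.finiteDimensional τ hK.1
  have hKf : IsFunctionField k (Src τ) := hK
  have hK1 : IsFF1 k (Src τ) := hK.1
  have h1 := mapDiv_algebraMap (k := k) (K := Src τ) (K' := K) hK1 φ
  have h2 := deg_conorm (k := k) (K := Src τ) (K' := K) hKf (mapDiv k (K := Src τ) φ)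
  rw [← Src.finrank_eq]
  rw [← h1] at h2
  exact h2

end Groth.Agent.Lib.helper16.FX
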