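import Groth.Agent.Lib.helper16.FWDivPos
import Groth.Agent.Lib.helper16.FResCanon
import Groth.Agent.Lib.helper16.FXEndo

/-! Helper library (helper16): nonnegativity and degree of the Weierstrass divisor (S12603). -/

set_option autoImplicit false

namespace Groth.Agent.Lib.helper16.FWN

open FunFld WithZero LocRes Module
open Groth.Agent.Lib.helper16

universe u v

variable {k : Type u} {K : Type v} [Field k] [Field K] [Algebra k K] [IsAlgClosed k]

omit [IsAlgClosed k] in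
theorem deg_zsmul (c : ℤ) (D : Divisor k K) : (c • D).deg = c * D.deg := by
  simp only [← FF.degHom_apply, map_zsmul, smul_eq_mul]

/-- normalization of the data of a Weierstrass divisor at a place -/
theorem exists_normalization (hK : IsFunctionField k K) {n : ℕ} (φ : Fin (n + 1) → K)
    (hφ : LinearIndependent k φ) (τ : K →ₐ[k] K) (P : Place k K)
    {s : K} {H : K →ₐ[k] PowerSeries K} (hH : IsHasseFamily s H)
    (J : Fin n → ℕ) (hJ : IsOrders K (hcol τ H φ) J)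
    (Φ : Place k K → (K →ₐ[k] LaurentSeries k))
    (hΦ : ∀ P : Place k K, IsExpansionAt P.1 (Φ P)) :
    ∃ (t : K) (Ht : K →ₐ[k] PowerSeries K) (φ'' : Fin (n + 1) → K),
      P.1 t = exp (-1) ∧ IsHasseFamily t Ht ∧ LinearIndependent k φ'' ∧
      (1 : K) ∈ Submodule.span k (Set.range φ'') ∧ (∀ i, P.1 (φ'' i) ≤ 1) ∧
      IsOrders K (hcol τ Ht φ'') J ∧ wDiv τ Ht Φ t φ'' J = wDiv τ H Φ s φ J ∧
      ∃ y : K, y ≠ 0 ∧ ∀ i, φ'' i = y * φ i := by
  classical
  have hg := FG.isGeometric_of_perfectField k K hK.2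
  obtain ⟨t, ht⟩ := FF.exists_uniformizer P
  obtain ⟨Ht, hHt⟩ := FWP.exists_isHasseFamily_of_D_ne_zero hK hg hH
    (FWP.D_ne_zero_of_uniformizer hK P ht)
  have hφ0 : ∀ i, φ i ≠ 0 := fun i => hφ.ne_zero i
  obtain ⟨j₀, -, hj₀⟩ := Finset.exists_max_image Finset.univ (fun i => P.1 (φ i))
    ⟨0, Finset.mem_univ _⟩
  set y := (φ j₀)⁻¹ with hy
  have hy0 : y ≠ 0 := inv_ne_zero (hφ0 j₀)
  set φ'' : Fin (n + 1) → K := y • φ with hφ''
  have hφ''i : ∀ i, φ'' i = y * φ i := fun i => rfl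
  have hφ''eq : ∀ i, φ'' i = y * ∑ j, (1 : Matrix (Fin (n + 1)) (Fin (n + 1)) k) i j • φ j := by
    intro i
    rw [hφ''i]
    congr 1
    simp only [Matrix.one_apply, ite_smul, one_smul, zero_smul, Finset.sum_ite_eq,
      Finset.mem_univ, if_true]
  have hwd : wDiv τ Ht Φ t φ'' J = wDiv τ H Φ s φ J :=
    FWI.wDiv_eq_of_equiv hK φ hφ τ hH hHt J hJ 1 (by rw [Matrix.det_one]; exact one_ne_zero)
      y hy0 φ'' hφ''eq Φ hΦ
  have hφ''li : LinearIndependent k φ'' := by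
    rw [Fintype.linearIndependent_iff]
    intro g hg0
    apply Fintype.linearIndependent_iff.mp hφ g
    have h1 : ∑ i, g i • φ'' i = y * ∑ i, g i • φ i := by
      rw [Finset.mul_sum]
      apply Finset.sum_congr rfl
      intro i _
      rw [hφ''i, mul_smul_comm]
    rw [h1] at hg0
    exact (mul_eq_zero.mp hg0).resolve_left hy0
  have heff : (1 : K) ∈ Submodule.span k (Set.range φ'') := by
    apply Submodule.subset_span
    refine ⟨j₀, ?_⟩
    rw [hφ''i, hy, inv_mul_cancel₀ (hφ0 j₀)]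
  have hnorm : ∀ i, P.1 (φ'' i) ≤ 1 := by
    intro i
    rw [hφ''i, hy, map_mul, map_inv₀, inv_mul_le_iff₀ (zero_lt_iff.mpr
      ((Valuation.ne_zero_iff _).mpr (hφ0 j₀))), mul_one]
    exact hj₀ i (Finset.mem_univ _)
  have hJ'' : IsOrders K (hcol τ Ht φ'') J :=
    (FW.isOrders_hcol_smul τ Ht hHt hy0 φ J).mpr
      (((FHs.isOrders_change_variable hK hg φ τ hH hHt).1 J).mpr hJ)
  exact ⟨t, Ht, φ'', ht, hHt, hφ''li, heff, hnorm, hJ'', hwd, y, hy0, hφ''i⟩

omit [IsAlgClosed k] in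
/-- the coefficient of the Weierstrass divisor at a place, for normalized data -/
theorem wDiv_apply_normalized (hK : IsFunctionField k K) (P : Place k K) {t : K}
    (ht : P.1 t = exp (-1)) {Ht : K →ₐ[k] PowerSeries K} {n : ℕ} (τ : K →ₐ[k] K)
    (φ : Fin (n + 1) → K) (hφ : LinearIndependent k φ)
    (heff : (1 : K) ∈ Submodule.span k (Set.range φ)) (hnorm : ∀ i, P.1 (φ i) ≤ 1)
    (J : Fin n → ℕ)
    (Φ' : Place k K → (K →ₐ[k] LaurentSeries k))
    (hΦ' : ∀ P : Place k K, IsExpansionAt P.1 (Φ' P)) :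
    wDiv τ Ht Φ' t φ J P = P.ord (wrMat τ Ht φ J).det + mapDiv k (τ ∘ φ) P := by
  have hφ0 : ∀ i, φ i ≠ 0 := fun i => hφ.ne_zero i
  unfold wDiv
  rw [Finsupp.add_apply, Finsupp.add_apply, Finsupp.add_apply, Finsupp.smul_apply,
    Finsupp.smul_apply, FHL.mapDiv_eq_zero_of_norm_eff hK P φ hφ0 heff hnorm,
    FHL.divDiff_uniformizer Φ' hΦ' P ht, FF.div_apply hK]
  simp

/-- the Weierstrass divisor is nonnegative at a place, for normalized data -/
theorem wDiv_nonneg_normalized (hK : IsFunctionField k K) (P : Place k K) {t : K}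
    (ht : P.1 t = exp (-1)) {Ht : K →ₐ[k] PowerSeries K} (hHt : IsHasseFamily t Ht)
    {n : ℕ} (τ : K →ₐ[k] K)
    (φ : Fin (n + 1) → K) (hφ : LinearIndependent k φ)
    (heff : (1 : K) ∈ Submodule.span k (Set.range φ)) (hnorm : ∀ i, P.1 (φ i) ≤ 1)
    (J : Fin n → ℕ) (hJ : IsOrders K (hcol τ Ht φ) J)
    (Φ' : Place k K → (K →ₐ[k] LaurentSeries k))
    (hΦ' : ∀ P : Place k K, IsExpansionAt P.1 (Φ' P)) :
    0 ≤ wDiv τ Ht Φ' t φ J P := by
  classical
  have hg := FG.isGeometric_of_perfectField k K hK.2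
  rw [wDiv_apply_normalized hK P ht τ φ hφ heff hnorm J Φ' hΦ']
  set M := wrMat τ Ht φ J with hM
  have hdet : M.det ≠ 0 := by
    obtain ⟨J₀, hJ₀, hdet₀⟩ := FHs.exists_isOrders_det_ne_zero hK hg φ hφ τ hHt
    rw [hM, ← FHL.isOrders_unique hJ₀ hJ]
    exact hdet₀
  set m := mapDiv k (τ ∘ φ) P with hm
  obtain ⟨z, hz⟩ := FF.exists_val_eq_exp P (-m)
  set v : Fin (n + 1) → K := fun j => if j = 0 then z else 1 with hv
  have hprod : ∏ j, v j = z := by
    rw [Fin.prod_univ_succ]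
    simp [hv, Fin.succ_ne_zero]
  have h1 := Matrix.det_mul_row v M
  rw [hprod] at h1
  have h2 : P.1 (Matrix.det (Matrix.of fun i j => v j * M i j)) ≤ 1 := by
    apply FX.val_det_le_one
    intro i j
    rw [Matrix.of_apply]
    refine Fin.cases ?_ (fun l => ?_) j
    · have h3 : M i 0 = (τ ∘ φ) i := rfl
      have hv0 : v 0 = z := by simp [hv]
      rw [hv0, h3, map_mul, hz]
      calc exp (-m) * P.1 ((τ ∘ φ) i) ≤ exp (-m) * exp m :=
            mul_le_mul' le_rfl (FF.mem_L_mapDiv hK (τ ∘ φ) i P)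
        _ = 1 := by rw [← exp_add, neg_add_cancel, exp_zero]
    · have h3 : M i l.succ = hasseD Ht (J l) (φ i) := rfl
      have hvs : v l.succ = 1 := by simp [hv, Fin.succ_ne_zero]
      rw [hvs, one_mul, h3]
      exact FHL.hasseD_le hK P ht hHt (hnorm i) (J l)
  rw [h1, map_mul, hz, FF.val_eq_exp_neg_ord P hdet, ← exp_add, ← exp_zero, exp_le_exp] at h2
  omega

/-- S12603 -/
theorem wDiv_nonneg_and_deg (hK : IsFunctionField k K) {n : ℕ} (φ : Fin (n + 1) → K)
    (hφ : LinearIndependent k φ) (τ : K →ₐ[k] K)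
    {s : K} {H : K →ₐ[k] PowerSeries K} (hH : IsHasseFamily s H)
    (J : Fin n → ℕ) (hJ : IsOrders K (hcol τ H φ) J)
    (Φ : Place k K → (K →ₐ[k] LaurentSeries k))
    (hΦ : ∀ P : Place k K, IsExpansionAt P.1 (Φ P)) :
    0 ≤ wDiv τ H Φ s φ J ∧
    (wDiv τ H Φ s φ J).deg =
      ((Module.finrank τ.fieldRange K : ℤ) + n) * (mapDiv k φ).deg +
        (2 * (genus k K : ℤ) - 2) * ∑ l, (J l : ℤ) := by
  have hg := FG.isGeometric_of_perfectField k K hK.2
  constructor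
  · intro P
    obtain ⟨t, Ht, φ'', ht, hHt, hli, heff, hnorm, hJ'', hwd, -⟩ :=
      exists_normalization hK φ hφ τ P hH J hJ Φ hΦ
    rw [← hwd]
    exact wDiv_nonneg_normalized hK P ht hHt τ φ'' hli heff hnorm J hJ'' Φ hΦ
  · have hs : KaehlerDifferential.D k K s ≠ 0 := FHs.D_ne_zero_of_isHasseFamily hH
    unfold wDiv
    rw [FF.deg_add, FF.deg_add, FF.deg_add, deg_zsmul, deg_zsmul, FF.deg_div_eq_zero hK,
      FX.deg_mapDiv_comp hK τ φ, FRC.deg_divDiff hK hs Φ hΦ]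
    ring

end Groth.Agent.Lib.helper16.FWN
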