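import Groth.Agent.Lib.helper16.FWDivNN
import Groth.Agent.Lib.helper16.FHasseSF
import Groth.Agent.Lib.helper16.FFMore

/-! Helper library (helper16): the number of strong fixed points is bounded by the degree of the
Weierstrass divisor (S12604). -/

set_option autoImplicit false

namespace Groth.Agent.Lib.helper16.FWN

open FunFld WithZero LocRes Module
open Groth.Agent.Lib.helper16

universe u v

variable {k : Type u} {K : Type v} [Field k] [Field K] [Algebra k K] [IsAlgClosed k]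

/-- the Weierstrass divisor is at least `n` at a strong fixed point -/
theorem le_wDiv_of_isStrongFixedPt (hK : IsFunctionField k K) {n : ℕ} (hn : 0 < n)
    (φ : Fin (n + 1) → K) (hφ : LinearIndependent k φ) (τ : K →ₐ[k] K) (P : Place k K)
    (hP : IsStrongFixedPt τ P)
    {s : K} {H : K →ₐ[k] PowerSeries K} (hH : IsHasseFamily s H)
    (J : Fin n → ℕ) (hJ : IsOrders K (hcol τ H φ) J)
    (Φ : Place k K → (K →ₐ[k] LaurentSeries k))
    (hΦ : ∀ P : Place k K, IsExpansionAt P.1 (Φ P)) :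
    (n : ℤ) ≤ wDiv τ H Φ s φ J P := by
  obtain ⟨t, Ht, φ'', ht, hHt, hli, heff, hnorm, hJ'', hwd, -⟩ :=
    exists_normalization hK φ hφ τ P hH J hJ Φ hΦ
  rw [← hwd]
  have hfix : IsFixedPt τ P := by
    intro z hz
    refine lt_of_le_of_lt (hP z hz) ?_
    rw [← exp_zero, exp_lt_exp]
    norm_num
  obtain ⟨J', hJ'⟩ := FWP.exists_isOrdersAt hK P ht hHt φ'' hli heff hnorm
  have hkey := (FHL.sum_sub_le_wDiv_of_isFixedPt_and_eq_iff hK P ht hHt τ hfix φ'' hli heff hnorm
    J hJ'' J' hJ' Φ hΦ).1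
  refine le_trans ?_ hkey
  have h1 : ∀ l, (1 : ℤ) ≤ (J' l : ℤ) - J l := by
    intro l
    have h2 := FHL.isOrders_add_le_of_isStrongFixedPt hK P ht hHt hn τ hP φ'' hli heff hnorm
      J hJ'' J' hJ' l
    have h3 := FHL.one_le_of_isOrders P hHt φ'' hJ' ⟨0, hn⟩
    omega
  calc (n : ℤ) = ∑ _l : Fin n, (1 : ℤ) := by simp
    _ ≤ ∑ l, ((J' l : ℤ) - J l) := Finset.sum_le_sum fun l _ => h1 l

/-- S12604 -/
theorem strongFixedPt_finite_card_le (hK : IsFunctionField k K) (τ : K →ₐ[k] K) {n : ℕ}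
    (φ : Fin (n + 1) → K) (hφ : LinearIndependent k φ)
    (hτφ : ¬ ∃ y : K, ∀ i, τ (φ i) = y * φ i) {s : K} {H : K →ₐ[k] PowerSeries K}
    (hH : IsHasseFamily s H)
    (J : Fin n → ℕ) (hJ : IsOrders K (hcol τ H φ) J) :
    {P : Place k K | IsStrongFixedPt τ P}.Finite ∧
    (n : ℤ) * (Set.ncard {P : Place k K | IsStrongFixedPt τ P} : ℤ) ≤
      ((n : ℤ) + Module.finrank τ.fieldRange K) * (mapDiv k φ).deg +
        (2 * (genus k K : ℤ) - 2) * ∑ l, (J l : ℤ) := by
  classical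
  have hn : 0 < n := by
    by_contra h0
    have hn0 : n = 0 := by omega
    subst hn0
    apply hτφ
    refine ⟨τ (φ 0) / φ 0, fun i => ?_⟩
    have hi : i = 0 := Fin.ext (by have := i.2; omega)
    rw [hi, div_mul_cancel₀ _ (hφ.ne_zero 0)]
  set Φ : Place k K → (K →ₐ[k] LaurentSeries k) := fun P => FHL.Φ hK P (FRG.htP P) with hΦdef
  have hΦ : ∀ P : Place k K, IsExpansionAt P.1 (Φ P) := fun P => FHL.isExp hK P (FRG.htP P)
  obtain ⟨hW0, hWdeg⟩ := wDiv_nonneg_and_deg hK φ hφ τ hH J hJ Φ hΦ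
  set W := wDiv τ H Φ s φ J with hW
  have hsub : {P : Place k K | IsStrongFixedPt τ P} ⊆ (W.support : Set (Place k K)) := by
    intro P hP
    have h1 := le_wDiv_of_isStrongFixedPt hK hn φ hφ τ P hP hH J hJ Φ hΦ
    rw [Finset.mem_coe, Finsupp.mem_support_iff]
    intro h0
    rw [← hW, h0] at h1
    have : (0 : ℤ) < n := by exact_mod_cast hn
    omega
  have hfin : {P : Place k K | IsStrongFixedPt τ P}.Finite := W.support.finite_toSet.subset hsub
  refine ⟨hfin, ?_⟩
  have hdeg : W.deg = ∑ P ∈ W.support, W P := by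
    unfold Divisor.deg Finsupp.sum
    apply Finset.sum_congr rfl
    intro P _
    show W P * (P.deg : ℤ) = W P
    rw [FF.deg_eq_one_of_isAlgClosed hK P, Nat.cast_one, mul_one]
  have hsub' : hfin.toFinset ⊆ W.support := by
    intro P hP
    rw [Set.Finite.mem_toFinset] at hP
    exact hsub hP
  have h1 : ∑ P ∈ hfin.toFinset, W P ≤ ∑ P ∈ W.support, W P :=
    Finset.sum_le_sum_of_subset_of_nonneg hsub' (fun P _ _ => hW0 P)
  have h2 : (n : ℤ) * (hfin.toFinset.card : ℤ) ≤ ∑ P ∈ hfin.toFinset, W P := by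
    rw [mul_comm, ← nsmul_eq_mul, ← Finset.sum_const]
    apply Finset.sum_le_sum
    intro P hP
    rw [Set.Finite.mem_toFinset] at hP
    exact le_wDiv_of_isStrongFixedPt hK hn φ hφ τ P hP hH J hJ Φ hΦ
  rw [Set.ncard_eq_toFinset_card _ hfin]
  calc (n : ℤ) * (hfin.toFinset.card : ℤ) ≤ W.deg := by rw [hdeg]; exact h2.trans h1
    _ = _ := by rw [hWdeg]; ring

end Groth.Agent.Lib.helper16.FWN
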