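import Groth.Agent.Lib.helper16.FWDivSF
import Groth.Agent.Lib.helper16.FHasseCanon
import Groth.Agent.Lib.helper16.FClassical
import Groth.Agent.Lib.helper16.FFGaps
import Groth.Agent.Lib.helper16.FFAut
import Groth.Agent.Lib.helper16.FHypUniq

/-! Helper library (helper16): Weierstrass points of the canonical map (S12618). -/

set_option autoImplicit false

namespace Groth.Agent.Lib.helper16.FWPts

open FunFld WithZero LocRes Module
open Groth.Agent.Lib.helper16

universe u v

variable {k : Type u} {K : Type v} [Field k] [Field K] [Algebra k K] [IsAlgClosed k]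

section canon

variable (hK : IsFunctionField k K) (hg : 1 < genus k K)
  (hchar : ringChar k = 0 ∨ 2 * genus k K - 2 < ringChar k)
  {C : Divisor k K} (hC : IsCanonical k K C)
  {n : ℕ} (φ : Fin (n + 1) → K) (hφ : LinearIndependent k φ)
  (hspan : Submodule.span k (Set.range φ) = L C)

include hK hC hφ hspan

theorem n_eq : n + 1 = genus k K := by
  have h1 := (FF.isCanonical_ell_deg hK hC).1
  unfold ell at h1
  rw [← hspan, finrank_span_eq_card hφ, Fintype.card_fin] at h1
  exact h1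

theorem mapDiv_le : mapDiv k φ ≤ C := by
  intro P
  obtain ⟨j, hj⟩ := FF.exists_ord_eq_neg_mapDiv hK φ P
  have h1 : φ j ∈ L C := by rw [← hspan]; exact Submodule.subset_span ⟨j, rfl⟩
  have h2 := h1 P
  rw [FF.val_le_exp_iff P (hφ.ne_zero j)] at h2
  omega

include hg in
/-- the canonical system has no base points -/
theorem mapDiv_eq : mapDiv k φ = C := by
  classical
  apply le_antisymm (mapDiv_le hK hC φ hφ hspan)
  intro P
  by_contra hlt
  rw [not_le] at hlt
  have hdegP : P.deg = 1 := FF.deg_eq_one_of_isAlgClosed hK P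
  have hle : L C ≤ L (C - Finsupp.single P 1) := by
    intro f hf
    rw [FF.mem_L_sub_single_iff]
    refine ⟨hf, ?_⟩
    rw [← hspan] at hf
    have h1 := FF.span_le_L_mapDiv hK φ hf P
    refine h1.trans ?_
    rw [exp_le_exp]
    omega
  have := FF.finiteDimensional_L hK (C - Finsupp.single P 1)
  have h5 : ell C ≤ ell (C - Finsupp.single P 1) := Submodule.finrank_mono hle
  have h6 := FF.riemann_roch hK hC (Finsupp.single P (1 : ℤ))
  rw [FF.deg_single, hdegP, FF.ell_single_eq_one hK (by omega) hdegP,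
    ← (FF.isCanonical_ell_deg hK hC).1] at h6
  push_cast at h6
  omega

include hg hchar in
/-- the canonical map is classical -/
theorem orders_eq {s : K} {H : K →ₐ[k] PowerSeries K} (hH : IsHasseFamily s H)
    (J : Fin n → ℕ) (hJ : IsOrders K (hcol (AlgHom.id k K) H φ) J) :
    J = fun l : Fin n => (l : ℕ) + 1 := by
  have hdeg : (mapDiv k φ).deg = 2 * (genus k K : ℤ) - 2 := by
    rw [mapDiv_eq hK hg hC φ hφ hspan]
    exact (FF.isCanonical_ell_deg hK hC).2
  have hchar' : ringChar k = 0 ∨ (mapDiv k φ).deg < ringChar k := by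
    rcases hchar with h | h
    · exact Or.inl h
    · right
      rw [hdeg]
      have : ((2 * genus k K - 2 : ℕ) : ℤ) < (ringChar k : ℤ) := by exact_mod_cast h
      rw [Nat.cast_sub (by omega)] at this
      push_cast at this
      exact this
  have h1 := (FCl.isOrders_classical_of_char hK φ hφ hchar' (AlgHom.id k K) hH).1 rfl
  exact FHL.isOrders_unique hJ h1

include hg hchar in
/-- the coefficient of the Weierstrass divisor at `P` through the gap sequence at `P` -/
theorem weight_at (P : Place k K) {s : K} {H : K →ₐ[k] PowerSeries K} (hH : IsHasseFamily s H)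
    (J : Fin n → ℕ) (hJ : IsOrders K (hcol (AlgHom.id k K) H φ) J)
    (Φ : Place k K → (K →ₐ[k] LaurentSeries k))
    (hΦ : ∀ P : Place k K, IsExpansionAt P.1 (Φ P)) :
    ∃ J' : Fin n → ℕ, StrictMono J' ∧ (∀ l, 1 ≤ J' l) ∧
      (∀ j : ℕ, 1 ≤ j → (j ∈ Set.range J' ↔
        L (Finsupp.single P ((j : ℤ) + 1) : Divisor k K) = L (Finsupp.single P (j : ℤ)))) ∧
      wDiv (AlgHom.id k K) H Φ s φ J P = ∑ l, ((J' l : ℤ) - (((l : ℕ) : ℤ) + 1)) := by
  classical
  have hJeq := orders_eq hK hg hchar hC φ hφ hspan hH J hJ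
  obtain ⟨t, Ht, φ'', ht, hHt, hli, heff, hnorm, hJ'', hwd, y, hy0, hφ''i⟩ :=
    FWN.exists_normalization hK φ hφ (AlgHom.id k K) P hH J hJ Φ hΦ
  have hφ''eq : φ'' = y • φ := funext fun i => hφ''i i
  obtain ⟨J', hJ'⟩ := FWP.exists_isOrdersAt hK P ht hHt φ'' hli heff hnorm
  have hpos : ∀ l, 1 ≤ J' l := fun l => FHL.one_le_of_isOrders P hHt φ'' hJ' l
  refine ⟨J', hJ'.1, hpos, ?_, ?_⟩
  · intro j hj
    rw [hJ'.2 j, hφ''eq]
    exact FHL.isJump_canonical_iff_gap hK C hC φ hφ hspan P y hy0 (by rw [← hφ''eq]; exact heff)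
      (fun i => by rw [← hφ''i]; exact hnorm i) ht hHt j hj
  · rw [← hwd]
    have hfix : IsFixedPt (AlgHom.id k K) P := fun z hz => hz
    have hkey := (FHL.sum_sub_le_wDiv_of_isFixedPt_and_eq_iff hK P ht hHt (AlgHom.id k K) hfix φ''
      hli heff hnorm J hJ'' J' hJ' Φ hΦ).2 (Or.inl rfl)
    have hdegle : ∀ l, (J' l : ℤ) ≤ 2 * (genus k K : ℤ) - 2 := by
      intro l
      have h1 := FCl.isOrdersAt_le_deg hK P ht hHt φ'' hli heff hnorm J' hJ' l
      have h2 : (mapDiv k φ'').deg = (mapDiv k φ).deg := by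
        rw [hφ''eq, FWI.mapDiv_smul hK φ hy0 (fun i => hφ.ne_zero i), FF.deg_sub,
          FF.deg_div_eq_zero hK, sub_zero]
      rw [h2, mapDiv_eq hK hg hC φ hφ hspan, (FF.isCanonical_ell_deg hK hC).2] at h1
      exact h1
    have hdet : (binomMat k J' J).det ≠ 0 := by
      rw [hJeq]
      have hd : ∀ l, J' l ≤ 2 * genus k K - 2 := by
        intro l
        have := hdegle l
        omega
      exact FCl.det_choose_succ_ne_zero J' hJ'.1.injective hpos hchar hd
    rw [hkey.mpr hdet]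
    apply Finset.sum_congr rfl
    intro l _
    rw [hJeq]
    push_cast
    ring

end canon

section gaps

variable (hK : IsFunctionField k K) (P : Place k K) {n : ℕ}

include hK in
/-- the bound `j'ₗ ≤ 2l + 2` for the canonical orders at a place -/
theorem orders_le (hn : n + 1 = genus k K) (J' : Fin n → ℕ) (hmono : StrictMono J')
    (hgap : ∀ j : ℕ, 1 ≤ j → (j ∈ Set.range J' ↔
      L (Finsupp.single P ((j : ℤ) + 1) : Divisor k K) = L (Finsupp.single P (j : ℤ))))
    (l : Fin n) : J' l ≤ 2 * (l : ℕ) + 2 := by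
  classical
  by_contra hcon
  push Not at hcon
  have hdegP : P.deg = 1 := FF.deg_eq_one_of_isAlgClosed hK P
  have hl := l.2
  have h1 := FF.le_gapCount hK hdegP ((l : ℕ) + 2) (by omega) (by omega)
  have h2 : 2 * ((l : ℕ) + 2) - 1 = 2 * (l : ℕ) + 3 := by omega
  rw [h2] at h1
  unfold FF.gapCount at h1
  set G := (Finset.Icc 1 (2 * (l : ℕ) + 3)).filter (fun j : ℕ =>
    L (Finsupp.single P (j : ℤ) : Divisor k K) = L (Finsupp.single P ((j : ℤ) - 1))) with hG
  set A := Finset.univ.filter (fun l' : Fin n => J' l' ≤ 2 * (l : ℕ) + 2) with hA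
  have hAcard : A.card ≤ (l : ℕ) := by
    have hsub : A.image (fun l' : Fin n => (l' : ℕ)) ⊆ Finset.range (l : ℕ) := by
      intro x hx
      rw [Finset.mem_image] at hx
      obtain ⟨l', hl', rfl⟩ := hx
      rw [hA, Finset.mem_filter] at hl'
      rw [Finset.mem_range]
      by_contra hge
      have : l ≤ l' := by rw [Fin.le_def]; omega
      have := hmono.monotone this
      omega
    have h3 := Finset.card_le_card hsub
    rw [Finset.card_image_of_injective _ Fin.val_injective, Finset.card_range] at h3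
    exact h3
  have hsub2 : G.erase 1 ⊆ A.image (fun l' : Fin n => J' l' + 1) := by
    intro γ hγ
    rw [Finset.mem_erase, hG, Finset.mem_filter, Finset.mem_Icc] at hγ
    obtain ⟨hγ1, ⟨hγ2, hγ3⟩, hγ4⟩ := hγ
    have hj : 1 ≤ γ - 1 := by omega
    have hcast : ((γ - 1 : ℕ) : ℤ) + 1 = (γ : ℤ) := by
      rw [Nat.cast_sub hγ2]; push_cast; ring
    have hcast' : ((γ - 1 : ℕ) : ℤ) = (γ : ℤ) - 1 := by
      rw [Nat.cast_sub hγ2]; push_cast; ring
    have hmem := (hgap (γ - 1) hj).mpr (by rw [hcast, hcast']; exact hγ4)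
    obtain ⟨l', hl'⟩ := hmem
    rw [Finset.mem_image]
    refine ⟨l', ?_, by omega⟩
    rw [hA, Finset.mem_filter]
    exact ⟨Finset.mem_univ _, by omega⟩
  have h4 := Finset.card_le_card hsub2
  have h5 : (A.image (fun l' : Fin n => J' l' + 1)).card ≤ A.card := Finset.card_image_le
  have h6 : G.card ≤ (G.erase 1).card + 1 := by
    have := Finset.card_erase_add_one (s := G) (a := 1)
    by_cases h1G : 1 ∈ G
    · rw [Finset.card_erase_add_one h1G]
    · rw [Finset.erase_eq_of_notMem h1G]; omega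
  omega

end gaps

section count

omit [IsAlgClosed k] in
theorem two_mul_sum_succ (n : ℕ) :
    2 * ∑ l : Fin n, (((l : ℕ) : ℤ) + 1) = (n : ℤ) * ((n : ℤ) + 1) := by
  have h1 : ∑ l : Fin n, (((l : ℕ) : ℤ) + 1) = ∑ l ∈ Finset.range n, ((l : ℤ) + 1) :=
    (Finset.sum_range (fun l : ℕ => (l : ℤ) + 1)).symm
  rw [h1]
  clear h1
  induction n with
  | zero => simp
  | succ m ih =>
    rw [Finset.sum_range_succ, mul_add, ih]
    push_cast
    ring

variable (hK : IsFunctionField k K) (hg : 1 < genus k K)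
  (hchar : ringChar k = 0 ∨ 2 * genus k K - 2 < ringChar k)
  {C : Divisor k K} (hC : IsCanonical k K C)
  {n : ℕ} (φ : Fin (n + 1) → K) (hφ : LinearIndependent k φ)
  (hspan : Submodule.span k (Set.range φ) = L C)
  {s : K} {H : K →ₐ[k] PowerSeries K} (hH : IsHasseFamily s H)
  (J : Fin n → ℕ) (hJ : IsOrders K (hcol (AlgHom.id k K) H φ) J)
  (Φ : Place k K → (K →ₐ[k] LaurentSeries k))
  (hΦ : ∀ P : Place k K, IsExpansionAt P.1 (Φ P))

include hK hg hchar hC hφ hspan hH hJ hΦ

/-- the weight of a point is at most `g(g-1)/2`, with equality only if `2` is not a gap -/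
theorem weight_le (P : Place k K) :
    2 * wDiv (AlgHom.id k K) H Φ s φ J P ≤ (n : ℤ) * ((n : ℤ) + 1) ∧
    (2 * wDiv (AlgHom.id k K) H Φ s φ J P = (n : ℤ) * ((n : ℤ) + 1) →
      L (Finsupp.single P (2 : ℤ) : Divisor k K) ≠ L (Finsupp.single P (1 : ℤ))) := by
  obtain ⟨J', hmono, hpos, hgap, hW⟩ := weight_at hK hg hchar hC φ hφ hspan P hH J hJ Φ hΦ
  have hn := n_eq hK hC φ hφ hspan
  have hle : ∀ l : Fin n, (J' l : ℤ) - (((l : ℕ) : ℤ) + 1) ≤ ((l : ℕ) : ℤ) + 1 := by
    intro l
    have := orders_le hK P hn J' hmono hgap l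
    have h2 : (J' l : ℤ) ≤ 2 * ((l : ℕ) : ℤ) + 2 := by exact_mod_cast this
    omega
  have hsum : ∑ l, ((J' l : ℤ) - (((l : ℕ) : ℤ) + 1)) ≤ ∑ l : Fin n, (((l : ℕ) : ℤ) + 1) :=
    Finset.sum_le_sum fun l _ => hle l
  constructor
  · rw [hW, ← two_mul_sum_succ]
    omega
  · intro heq
    rw [hW, ← two_mul_sum_succ] at heq
    have heq' : ∑ l, ((J' l : ℤ) - (((l : ℕ) : ℤ) + 1)) = ∑ l : Fin n, (((l : ℕ) : ℤ) + 1) := by
      omega
    have hall : ∀ l : Fin n, (J' l : ℤ) - (((l : ℕ) : ℤ) + 1) = ((l : ℕ) : ℤ) + 1 := by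
      intro l
      exact (Finset.sum_eq_sum_iff_of_le (fun l _ => hle l)).mp heq' l (Finset.mem_univ l)
    intro hL
    have h1 : (1 : ℕ) ∈ Set.range J' := (hgap 1 le_rfl).mpr (by
      have : ((1 : ℕ) : ℤ) + 1 = 2 := by norm_num
      rw [this]
      exact hL)
    obtain ⟨l, hl⟩ := h1
    have := hall l
    rw [hl] at this
    push_cast at this
    omega

/-- the Weierstrass divisor of the canonical map has degree `(g-1)g(g+1)` -/
theorem deg_wDiv :
    (wDiv (AlgHom.id k K) H Φ s φ J).deg =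
      ((genus k K : ℤ) - 1) * genus k K * ((genus k K : ℤ) + 1) := by
  have hn := n_eq hK hC φ hφ hspan
  have hJeq := orders_eq hK hg hchar hC φ hφ hspan hH J hJ
  obtain ⟨-, hdeg⟩ := FWN.wDiv_nonneg_and_deg hK φ hφ (AlgHom.id k K) hH J hJ Φ hΦ
  have hfr : Module.finrank (AlgHom.id k K).fieldRange K = 1 := by
    have : (AlgHom.id k K).fieldRange = ⊤ := by
      rw [AlgHom.fieldRange_eq_top]
      exact Function.surjective_id
    rw [this]
    exact IntermediateField.finrank_top
  have hsumJ : 2 * ∑ l, (J l : ℤ) = (n : ℤ) * ((n : ℤ) + 1) := by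
    rw [← two_mul_sum_succ, hJeq]
    congr 1
  rw [hdeg, hfr, mapDiv_eq hK hg hC φ hφ hspan, (FF.isCanonical_ell_deg hK hC).2]
  have hn' : (n : ℤ) = (genus k K : ℤ) - 1 := by
    have : ((n + 1 : ℕ) : ℤ) = genus k K := by exact_mod_cast hn
    push_cast at this
    omega
  have h2 : (2 * (genus k K : ℤ) - 2) * ∑ l, (J l : ℤ) =
      ((genus k K : ℤ) - 1) * ((n : ℤ) * ((n : ℤ) + 1)) := by
    rw [← hsumJ]; ring
  rw [h2, hn']
  push_cast
  ring

/-- there are at least `2g + 2` Weierstrass points, and in case of equality all have maximal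
weight -/
theorem card_support_ge :
    2 * genus k K + 2 ≤ (wDiv (AlgHom.id k K) H Φ s φ J).support.card ∧
    ((wDiv (AlgHom.id k K) H Φ s φ J).support.card = 2 * genus k K + 2 →
      ∀ P ∈ (wDiv (AlgHom.id k K) H Φ s φ J).support,
        2 * wDiv (AlgHom.id k K) H Φ s φ J P = (n : ℤ) * ((n : ℤ) + 1)) := by
  classical
  set W := wDiv (AlgHom.id k K) H Φ s φ J with hW
  have hn := n_eq hK hC φ hφ hspan
  have hn' : (n : ℤ) = (genus k K : ℤ) - 1 := by
    have : ((n + 1 : ℕ) : ℤ) = genus k K := by exact_mod_cast hn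
    push_cast at this
    omega
  have hg' : (2 : ℤ) ≤ genus k K := by exact_mod_cast hg
  have hdeg := deg_wDiv hK hg hchar hC φ hφ hspan hH J hJ Φ hΦ
  have hdegsum : W.deg = ∑ P ∈ W.support, W P := by
    unfold Divisor.deg Finsupp.sum
    apply Finset.sum_congr rfl
    intro P _
    show W P * (P.deg : ℤ) = W P
    rw [FF.deg_eq_one_of_isAlgClosed hK P, Nat.cast_one, mul_one]
  have hwle : ∀ P, 2 * W P ≤ (n : ℤ) * ((n : ℤ) + 1) := fun P =>
    (weight_le hK hg hchar hC φ hφ hspan hH J hJ Φ hΦ P).1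
  have hsum2 : 2 * W.deg ≤ (W.support.card : ℤ) * ((n : ℤ) * ((n : ℤ) + 1)) := by
    rw [hdegsum, Finset.mul_sum, ← nsmul_eq_mul, ← Finset.sum_const]
    exact Finset.sum_le_sum fun P _ => hwle P
  rw [← hW] at hdeg
  rw [hdeg, hn'] at hsum2
  have hpos : (0 : ℤ) < ((genus k K : ℤ) - 1) * genus k K := by nlinarith
  constructor
  · have : (2 * (genus k K : ℤ) + 2) * (((genus k K : ℤ) - 1) * genus k K) ≤
        (W.support.card : ℤ) * (((genus k K : ℤ) - 1) * genus k K) := by
      have e1 : (genus k K : ℤ) - 1 + 1 = genus k K := by ring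
      rw [e1] at hsum2
      nlinarith
    have h3 := le_of_mul_le_mul_right this hpos
    exact_mod_cast h3
  · intro hcard P hP
    by_contra hne
    have hlt : 2 * W P < (n : ℤ) * ((n : ℤ) + 1) := lt_of_le_of_ne (hwle P) hne
    have hstrict : ∑ Q ∈ W.support, 2 * W Q < ∑ _Q ∈ W.support, (n : ℤ) * ((n : ℤ) + 1) :=
      Finset.sum_lt_sum (fun Q _ => hwle Q) ⟨P, hP, hlt⟩
    rw [Finset.sum_const, nsmul_eq_mul, ← Finset.mul_sum, ← hdegsum, hdeg, hcard, hn'] at hstrict
    have e1 : (genus k K : ℤ) - 1 + 1 = genus k K := by ring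
    rw [e1] at hstrict
    push_cast at hstrict
    nlinarith

end count

end Groth.Agent.Lib.helper16.FWPts
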