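import Groth.Agent.Lib.helper16.FWeierPts
import Groth.Agent.Lib.helper16.FGapOrd

/-! Helper library (helper16): the hyperelliptic alternative for Weierstrass points (S12618). -/

set_option autoImplicit false

namespace Groth.Agent.Lib.helper16.FWPts

open FunFld WithZero LocRes Module
open scoped IntermediateField
open Groth.Agent.Lib.helper16

universe u v

variable {k : Type u} {K : Type v} [Field k] [Field K] [Algebra k K] [IsAlgClosed k]

section hyper

variable (hK : IsFunctionField k K)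

include hK

omit [IsAlgClosed k] in
/-- the pole divisor of an element of `L(D)`, `D ≥ 0`, is at most `D` -/
theorem poleDiv_le_of_mem {D : Divisor k K} (hD : 0 ≤ D) {y : K} (hy : y ∈ L D) :
    FF.poleDiv k y ≤ D := by
  intro Q
  rw [FF.poleDiv_apply hK]
  by_cases hy0 : y = 0
  · rw [hy0, FF.ord_zero]
    simpa using hD Q
  · have := hy Q
    rw [FF.val_le_exp_iff Q hy0] at this
    exact max_le (by omega) (hD Q)

/-- a place where `2` is not a gap carries a function with a double pole there and no other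
poles, of degree two -/
theorem exists_double_pole (P : Place k K)
    (h : L (Finsupp.single P (2 : ℤ) : Divisor k K) ≠ L (Finsupp.single P (1 : ℤ))) :
    ∃ x ∈ L (Finsupp.single P (2 : ℤ) : Divisor k K), P.1 x = exp 2 ∧
      x ∉ Set.range (algebraMap k K) ∧ Module.finrank k⟮x⟯ K = 2 := by
  classical
  have hdegP : P.deg = 1 := FF.deg_eq_one_of_isAlgClosed hK P
  have hle : L (Finsupp.single P (1 : ℤ) : Divisor k K) ≤ L (Finsupp.single P (2 : ℤ)) :=
    FF.L_mono (Finsupp.single_mono (by norm_num))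
  have hex : ∃ x ∈ L (Finsupp.single P (2 : ℤ) : Divisor k K),
      x ∉ L (Finsupp.single P (1 : ℤ) : Divisor k K) := by
    by_contra hcon
    push Not at hcon
    exact h (le_antisymm hcon hle)
  obtain ⟨x, hx2, hx1⟩ := hex
  have hx0 : x ≠ 0 := by
    rintro rfl
    exact hx1 (Submodule.zero_mem _)
  have hv : P.1 x = exp 2 := by
    have h1 := hx2 P
    rw [Finsupp.single_eq_same] at h1
    have h2 : ¬ P.1 x ≤ exp 1 := fun hle1 => hx1 (FGO.mem_L_single_of_le P hx2 hle1)
    rw [FF.val_eq_exp_neg_ord P hx0] at h1 h2 ⊢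
    rw [exp_le_exp] at h1 h2
    rw [exp_inj]
    omega
  have hxk : x ∉ Set.range (algebraMap k K) := by
    rintro ⟨c, rfl⟩
    have := FF.val_algebraMap_le P c
    rw [hv, ← exp_zero, exp_le_exp] at this
    omega
  refine ⟨x, hx2, hv, hxk, ?_⟩
  have h1 := FF.deg_poleDiv_eq hK hxk
  have h2 : FF.poleDiv k x ≤ Finsupp.single P 2 :=
    poleDiv_le_of_mem hK (Finsupp.single_nonneg.mpr (by norm_num)) hx2
  have h3 := FF.deg_mono h2
  rw [FF.deg_single, hdegP, h1] at h3
  have h4 : (2 : ℤ) ≤ FF.poleDiv k x P := by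
    rw [FF.poleDiv_apply hK]
    have : P.ord x = -2 := by
      have := hv
      rw [FF.val_eq_exp_neg_ord P hx0, exp_inj] at this
      omega
    rw [this]
    norm_num
  have h5 : Finsupp.single P (2 : ℤ) ≤ FF.poleDiv k x := by
    intro Q
    by_cases hQ : Q = P
    · rw [hQ, Finsupp.single_eq_same]; exact h4
    · rw [Finsupp.single_eq_of_ne hQ]; exact FF.poleDiv_nonneg x Q
  have h6 := FF.deg_mono h5
  rw [FF.deg_single, hdegP, h1] at h6
  have : ((Module.finrank k⟮x⟯ K : ℕ) : ℤ) = 2 := by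
    push_cast at h3 h6 ⊢
    omega
  exact_mod_cast this

omit hK [IsAlgClosed k] in
/-- an automorphism fixing `x` fixes `k(x)` -/
theorem fixes_adjoin (σ : K ≃ₐ[k] K) {x : K} (hx : σ x = x) {z : K} (hz : z ∈ k⟮x⟯) : σ z = z := by
  let E : IntermediateField k K :=
    (AlgHom.equalizer (σ : K →ₐ[k] K) (AlgHom.id k K)).toIntermediateField (fun y hy => by
      rw [AlgHom.mem_equalizer] at hy ⊢
      show σ y⁻¹ = y⁻¹
      rw [map_inv₀]
      congr 1)
  have hxE : x ∈ E := by
    show (σ : K →ₐ[k] K) x = AlgHom.id k K x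
    exact hx
  have hle : k⟮x⟯ ≤ E := IntermediateField.adjoin_simple_le_iff.mpr hxE
  exact hle hz

omit hK [IsAlgClosed k] in
/-- an automorphism fixing `x` fixes every place with a function in `k(x)` having its only pole
there -/
theorem isFixedPt_of_fixes (σ : K ≃ₐ[k] K) {x : K} (hx : σ x = x) (P : Place k K) {x' : K}
    (hx' : x' ∈ L (Finsupp.single P (2 : ℤ) : Divisor k K)) (hv : P.1 x' = exp 2)
    (hmem : x' ∈ k⟮x⟯) : IsFixedPt (σ : K →ₐ[k] K) P := by
  classical
  have hσx' : σ x' = x' := fixes_adjoin σ hx hmem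
  have hQ : FF.comapPlace σ P = P := by
    by_contra hne
    have h1 := hx' (FF.comapPlace σ P)
    rw [Finsupp.single_eq_of_ne hne, FF.comapPlace_val, hσx', hv, exp_le_exp] at h1
    omega
  intro z hz
  have h2 : P.1 (σ z) = (FF.comapPlace σ P).1 z := rfl
  show P.1 (σ z) < 1
  rw [h2, hQ]
  exact hz

omit hK [IsAlgClosed k] in
theorem comapPlace_injective (σ : K ≃ₐ[k] K) {P Q : Place k K}
    (h : FF.comapPlace σ P = FF.comapPlace σ Q) : P = Q := by
  have := congrArg (FF.comapPlace σ.symm) h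
  rwa [FF.comapPlace_symm_comapPlace, FF.comapPlace_symm_comapPlace] at this

/-- the value of an integral function is preserved at a fixed place -/
theorem exists_value (P : Place k K) {x : K} (hx : P.1 x ≤ 1) :
    ∃ c : k, P.1 (x - algebraMap k K c) < 1 := FF.exists_sub_val_lt_one hK P hx

/-- an automorphism fixing a place `P₀` where `x` has its only (double) pole, and fixing two
further places where `x` takes different values, fixes `x` -/
theorem fixes_of_isFixedPt (hg : 0 < genus k K) (σ : K ≃ₐ[k] K) (P₀ : Place k K) {x : K}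
    (hx2 : x ∈ L (Finsupp.single P₀ (2 : ℤ) : Divisor k K))
    (hxk : x ∉ Set.range (algebraMap k K))
    (hP₀ : IsFixedPt (σ : K →ₐ[k] K) P₀)
    (P₁ P₂ : Place k K)
    (hf₁ : IsFixedPt (σ : K →ₐ[k] K) P₁) (hf₂ : IsFixedPt (σ : K →ₐ[k] K) P₂)
    (c₁ c₂ : k) (hc₁ : P₁.1 (x - algebraMap k K c₁) < 1) (hc₂ : P₂.1 (x - algebraMap k K c₂) < 1)
    (hne : c₁ ≠ c₂) : σ x = x := by
  classical
  have hdegP : P₀.deg = 1 := FF.deg_eq_one_of_isAlgClosed hK P₀
  set D : Divisor k K := Finsupp.single P₀ (2 : ℤ) with hD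
  -- `σ x ∈ L(2 P₀)`
  have hσP₀ : FF.comapPlace σ P₀ = P₀ := FF.comapPlace_eq_of_fixed σ P₀ hP₀
  have hσx : σ x ∈ L D := by
    intro Q
    have h1 := hx2 (FF.comapPlace σ Q)
    rw [FF.comapPlace_val] at h1
    by_cases hQ : Q = P₀
    · rw [hQ, hσP₀] at h1
      rw [hQ]
      exact h1
    · have hQ' : FF.comapPlace σ Q ≠ P₀ := by
        intro h
        rw [← hσP₀] at h
        exact hQ (comapPlace_injective σ h)
      rw [Finsupp.single_eq_of_ne hQ'] at h1
      rw [hD, Finsupp.single_eq_of_ne hQ]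
      exact h1
  have h1D : (1 : K) ∈ L D := by
    intro Q
    rw [map_one, ← exp_zero, exp_le_exp, hD, Finsupp.single_apply]
    split_ifs
    · norm_num
    · exact le_rfl
  -- `ℓ(2 P₀) ≤ 2`
  have hfd := FF.finiteDimensional_L hK D
  have hell : Module.finrank k (L D) ≤ 2 := by
    have h1 := FF.ell_single_succ hK hdegP 2
    have h2 := FF.ell_single_eq_one hK hg hdegP
    have h3 : (2 : ℤ) - 1 = 1 := by norm_num
    rw [h3, h2] at h1
    have h4 : ell D ≤ 2 := by
      rw [hD, h1]
      split_ifs <;> omega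
    exact h4
  -- a linear relation between `1`, `x`, `σ x`
  let v : Fin 3 → L D := ![⟨1, h1D⟩, ⟨x, hx2⟩, ⟨σ x, hσx⟩]
  have hdep : ¬ LinearIndependent k v := by
    intro hli
    have := hli.fintype_card_le_finrank
    rw [Fintype.card_fin] at this
    omega
  rw [Fintype.not_linearIndependent_iff] at hdep
  obtain ⟨g, hg0, hgne⟩ := hdep
  have hrel : g 0 • (1 : K) + g 1 • x + g 2 • σ x = 0 := by
    have := congrArg Subtype.val hg0
    rw [Fin.sum_univ_three] at this
    simpa [v] using this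
  have hg2 : g 2 ≠ 0 := by
    intro h2
    rw [h2, zero_smul, add_zero] at hrel
    by_cases h1 : g 1 = 0
    · rw [h1, zero_smul, add_zero, Algebra.smul_def, mul_one] at hrel
      have h0 : g 0 = 0 := by
        have := (algebraMap k K).injective (hrel.trans (map_zero _).symm)
        exact this
      obtain ⟨i, hi⟩ := hgne
      fin_cases i <;> simp_all
    · apply hxk
      refine ⟨-(g 0 / g 1), ?_⟩
      have : g 1 • x = -(g 0 • (1 : K)) := by
        rw [eq_neg_iff_add_eq_zero, add_comm]; exact hrel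
      rw [Algebra.smul_def, Algebra.smul_def, mul_one] at this
      have h1' : algebraMap k K (g 1) ≠ 0 := by
        rw [Ne, map_eq_zero_iff _ (algebraMap k K).injective]; exact h1
      rw [map_neg, map_div₀, neg_eq_iff_eq_neg, div_eq_iff h1']
      linear_combination this
  -- `σ x = a x + b`
  set a : k := -(g 1 / g 2) with ha
  set b : k := -(g 0 / g 2) with hb
  have hσxab : σ x = algebraMap k K a * x + algebraMap k K b := by
    have h2' : algebraMap k K (g 2) ≠ 0 := by
      rw [Ne, map_eq_zero_iff _ (algebraMap k K).injective]; exact hg2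
    have : g 2 • σ x = -(g 0 • (1 : K) + g 1 • x) := by
      rw [eq_neg_iff_add_eq_zero, add_comm]; exact hrel
    rw [Algebra.smul_def, Algebra.smul_def, Algebra.smul_def, mul_one] at this
    rw [ha, hb, map_neg, map_neg, map_div₀, map_div₀]
    field_simp
    linear_combination this
  -- the values at `P₁`, `P₂`
  have hval : ∀ (P : Place k K) (c : k), IsFixedPt (σ : K →ₐ[k] K) P →
      P.1 (x - algebraMap k K c) < 1 → (a - 1) * c + b = 0 := by
    intro P c hfix hc
    have h1 : P.1 (σ (x - algebraMap k K c)) < 1 := hfix _ hc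
    rw [map_sub, σ.commutes, hσxab] at h1
    have h2 : P.1 (algebraMap k K a * (x - algebraMap k K c)) < 1 := by
      rw [map_mul]
      calc P.1 (algebraMap k K a) * P.1 (x - algebraMap k K c)
          ≤ 1 * P.1 (x - algebraMap k K c) := mul_le_mul' (FF.val_algebraMap_le P a) le_rfl
        _ < 1 := by rw [one_mul]; exact hc
    have h3 : algebraMap k K ((a - 1) * c + b) =
        (algebraMap k K a * x + algebraMap k K b - algebraMap k K c) -
          algebraMap k K a * (x - algebraMap k K c) := by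
      rw [map_add, map_mul, map_sub, map_one]; ring
    have h4 : P.1 (algebraMap k K ((a - 1) * c + b)) < 1 := by
      rw [h3]
      exact lt_of_le_of_lt (Valuation.map_sub P.1 _ _) (max_lt h1 h2)
    by_contra hne0
    rw [FF.val_algebraMap P hne0] at h4
    exact lt_irrefl _ h4
  have e1 := hval P₁ c₁ hf₁ hc₁
  have e2 := hval P₂ c₂ hf₂ hc₂
  have ha1 : a = 1 := by
    have : (a - 1) * (c₁ - c₂) = 0 := by linear_combination e1 - e2
    rcases mul_eq_zero.mp this with h | h
    · exact sub_eq_zero.mp h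
    · exact absurd (sub_eq_zero.mp h) hne
  have hb0 : b = 0 := by
    rw [ha1, sub_self, zero_mul, zero_add] at e1
    exact e1
  rw [hσxab, ha1, hb0, map_one, map_zero, one_mul, add_zero]

/-- a function with pole divisor `2 P₀` cannot take the same value at three other places -/
theorem not_three_same_value (P₀ : Place k K) {x : K}
    (hx2 : x ∈ L (Finsupp.single P₀ (2 : ℤ) : Divisor k K))
    (hxk : x ∉ Set.range (algebraMap k K)) {P₁ P₂ P₃ : Place k K}
    (h12 : P₁ ≠ P₂) (h13 : P₁ ≠ P₃) (h23 : P₂ ≠ P₃) (c : k)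
    (hc₁ : P₁.1 (x - algebraMap k K c) < 1) (hc₂ : P₂.1 (x - algebraMap k K c) < 1)
    (hc₃ : P₃.1 (x - algebraMap k K c) < 1) : False := by
  classical
  set y := x - algebraMap k K c with hy
  have hy0 : y ≠ 0 := by
    intro h0
    exact hxk ⟨c, (sub_eq_zero.mp h0).symm⟩
  have hyL : y ∈ L (Finsupp.single P₀ (2 : ℤ) : Divisor k K) := by
    apply Submodule.sub_mem _ hx2
    intro Q
    refine (FF.val_algebraMap_le Q c).trans ?_
    rw [← exp_zero, exp_le_exp, Finsupp.single_apply]
    split_ifs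
    · norm_num
    · exact le_rfl
  have hpole : FF.poleDiv k y ≤ Finsupp.single P₀ 2 :=
    poleDiv_le_of_mem hK (Finsupp.single_nonneg.mpr (by norm_num)) hyL
  have hdeg0 := FF.deg_div_eq_zero hK y
  rw [FF.div_eq_zeroDiv_sub_poleDiv hK, FF.deg_sub] at hdeg0
  have hdegpole := FF.deg_mono hpole
  rw [FF.deg_single, FF.deg_eq_one_of_isAlgClosed hK P₀] at hdegpole
  set E : Divisor k K := Finsupp.single P₁ 1 + Finsupp.single P₂ 1 + Finsupp.single P₃ 1 with hE
  have hzero : ∀ P : Place k K, P.1 y < 1 → (1 : ℤ) ≤ FF.zeroDiv k y P := by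
    intro P hP
    rw [FF.zeroDiv_apply hK]
    have := (FF.val_lt_one_iff P hy0).mp hP
    exact le_max_of_le_left (by omega)
  have hEle : E ≤ FF.zeroDiv k y := by
    intro Q
    rw [hE, Finsupp.add_apply, Finsupp.add_apply, Finsupp.single_apply, Finsupp.single_apply,
      Finsupp.single_apply]
    have hnn := FF.zeroDiv_nonneg (k := k) y Q
    by_cases q1 : P₁ = Q
    · subst q1
      rw [if_pos rfl, if_neg (Ne.symm h12), if_neg (Ne.symm h13)]
      simpa using hzero _ hc₁
    · by_cases q2 : P₂ = Q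
      · subst q2
        rw [if_neg q1, if_pos rfl, if_neg (Ne.symm h23)]
        simpa using hzero _ hc₂
      · by_cases q3 : P₃ = Q
        · subst q3
          rw [if_neg q1, if_neg q2, if_pos rfl]
          simpa using hzero _ hc₃
        · rw [if_neg q1, if_neg q2, if_neg q3]
          simpa using hnn
  have hdegE := FF.deg_mono hEle
  rw [hE, FF.deg_add, FF.deg_add, FF.deg_single, FF.deg_single, FF.deg_single,
    FF.deg_eq_one_of_isAlgClosed hK, FF.deg_eq_one_of_isAlgClosed hK,
    FF.deg_eq_one_of_isAlgClosed hK] at hdegE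
  push_cast at hdegE hdegpole
  omega

end hyper

section main

variable (hK : IsFunctionField k K) (hg : 1 < genus k K)
  (hchar : ringChar k = 0 ∨ 2 * genus k K - 2 < ringChar k)
  {C : Divisor k K} (hC : IsCanonical k K C)
  {n : ℕ} (φ : Fin (n + 1) → K) (hφ : LinearIndependent k φ)
  (hspan : Submodule.span k (Set.range φ) = L C)
  {s : K} {H : K →ₐ[k] PowerSeries K} (hH : IsHasseFamily s H)
  (J : Fin n → ℕ) (hJ : IsOrders K (hcol (AlgHom.id k K) H φ) J)
  (Φ : Place k K → (K →ₐ[k] LaurentSeries k))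
  (hΦ : ∀ P : Place k K, IsExpansionAt P.1 (Φ P))

include hK hg hchar hC hφ hspan hH hJ hΦ

/-- S12618 -/
theorem dichotomy :
    (2 * genus k K + 2 < Set.ncard {P : Place k K | wDiv (AlgHom.id k K) H Φ s φ J P ≠ 0} ∧
      ∀ σ : K ≃ₐ[k] K, (∀ P : Place k K, wDiv (AlgHom.id k K) H Φ s φ J P ≠ 0 →
        IsFixedPt (σ : K →ₐ[k] K) P) → σ = AlgEquiv.refl) ∨
    (Set.ncard {P : Place k K | wDiv (AlgHom.id k K) H Φ s φ J P ≠ 0} = 2 * genus k K + 2 ∧
      ∃ x : K, Module.finrank (IntermediateField.adjoin k ({x} : Set K)) K = 2 ∧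
        ∀ σ : K ≃ₐ[k] K, (∀ P : Place k K, wDiv (AlgHom.id k K) H Φ s φ J P ≠ 0 →
          IsFixedPt (σ : K →ₐ[k] K) P) ↔ σ x = x) := by
  classical
  set W := wDiv (AlgHom.id k K) H Φ s φ J with hW
  have hset : {P : Place k K | W P ≠ 0} = ↑W.support := by
    ext P
    simp [Finsupp.mem_support_iff]
  have hncard : Set.ncard {P : Place k K | W P ≠ 0} = W.support.card := by
    rw [hset, Set.ncard_coe_finset]
  obtain ⟨hge, heq⟩ := card_support_ge hK hg hchar hC φ hφ hspan hH J hJ Φ hΦ
  rw [← hW] at hge heq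
  rw [hncard]
  by_cases hlt : 2 * genus k K + 2 < W.support.card
  · left
    refine ⟨hlt, fun σ hσ => ?_⟩
    have h1 : σ = 1 := by
      apply FF.eq_one_of_many_fixed hK σ
      have hsub : (↑W.support : Set (Place k K)) ⊆
          {P : Place k K | ∀ x : K, P.1 x < 1 → P.1 (σ x) < 1} := by
        intro P hP
        rw [Finset.mem_coe, Finsupp.mem_support_iff] at hP
        exact hσ P hP
      refine lt_of_lt_of_le ?_ (Set.encard_le_encard hsub)
      rw [Set.encard_coe_eq_coe_finsetCard]
      exact_mod_cast hlt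
    exact h1
  · right
    have hcard : W.support.card = 2 * genus k K + 2 := by omega
    refine ⟨hcard, ?_⟩
    have hn := n_eq hK hC φ hφ hspan
    have hmax := heq hcard
    have hnogap : ∀ P ∈ W.support,
        L (Finsupp.single P (2 : ℤ) : Divisor k K) ≠ L (Finsupp.single P (1 : ℤ)) := fun P hP =>
      (weight_le hK hg hchar hC φ hφ hspan hH J hJ Φ hΦ P).2 (hmax P hP)
    -- a base Weierstrass point
    have hne : W.support.Nonempty := by
      rw [← Finset.card_pos]; omega
    obtain ⟨P₀, hP₀⟩ := hne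
    obtain ⟨x, hx2, hxv, hxk, hxdeg⟩ := exists_double_pole hK P₀ (hnogap P₀ hP₀)
    refine ⟨x, hxdeg, fun σ => ⟨fun hσ => ?_, fun hσ P hP => ?_⟩⟩
    · -- `σ` fixes all Weierstrass points
      have hfix : ∀ P ∈ W.support, IsFixedPt (σ : K →ₐ[k] K) P := fun P hP =>
        hσ P (Finsupp.mem_support_iff.mp hP)
      have hcard3 : 2 < (W.support.erase P₀).card := by
        rw [Finset.card_erase_of_mem hP₀]; omega
      obtain ⟨P₁, hP₁, P₂, hP₂, P₃, hP₃, h12, h13, h23⟩ := Finset.two_lt_card.mp hcard3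
      rw [Finset.mem_erase] at hP₁ hP₂ hP₃
      have hint : ∀ P : Place k K, P ≠ P₀ → P.1 x ≤ 1 := by
        intro P hP
        have := hx2 P
        rwa [Finsupp.single_eq_of_ne hP, exp_zero] at this
      obtain ⟨c₁, hc₁⟩ := exists_value hK P₁ (hint P₁ hP₁.1)
      obtain ⟨c₂, hc₂⟩ := exists_value hK P₂ (hint P₂ hP₂.1)
      obtain ⟨c₃, hc₃⟩ := exists_value hK P₃ (hint P₃ hP₃.1)
      by_cases e12 : c₁ = c₂
      · by_cases e13 : c₁ = c₃
        · exfalso
          subst e12
          subst e13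
          exact not_three_same_value hK P₀ hx2 hxk h12 h13 h23 c₁ hc₁ hc₂ hc₃
        · exact fixes_of_isFixedPt hK (by omega) σ P₀ hx2 hxk (hfix P₀ hP₀) P₁ P₃
            (hfix P₁ hP₁.2) (hfix P₃ hP₃.2) c₁ c₃ hc₁ hc₃ e13
      · exact fixes_of_isFixedPt hK (by omega) σ P₀ hx2 hxk (hfix P₀ hP₀) P₁ P₂
          (hfix P₁ hP₁.2) (hfix P₂ hP₂.2) c₁ c₂ hc₁ hc₂ e12
    · -- `σ x = x`
      have hPs : P ∈ W.support := Finsupp.mem_support_iff.mpr hP
      obtain ⟨x', hx'2, hx'v, hx'k, hx'deg⟩ := exists_double_pole hK P (hnogap P hPs)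
      have hfield := FHU.adjoin_eq_of_finrank_eq_two hK (by omega) hxdeg hx'deg
      have hmem : x' ∈ k⟮x⟯ := by
        rw [hfield]
        exact IntermediateField.mem_adjoin_simple_self k x'
      exact isFixedPt_of_fixes σ hσ P hx'2 hx'v hmem

end main

end Groth.Agent.Lib.helper16.FWPts
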