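import Groth.Agent.Lib.helper16.FX1
import Groth.Agent.Lib.helper16.FFLD

/-! Helper library (helper16): places and `L(D)` for function fields whose constant field need not
be algebraically closed in them. -/

set_option autoImplicit false

namespace Groth.Agent.Lib.helper16.FX

open FunFld WithZero Polynomial Groth.Agent.Lib.helper16.FF
open scoped IntermediateField

variable {k K : Type*} [Field k] [Field K] [Algebra k K]

/-- a valuation ring containing `k` contains every element algebraic over `k` -/
theorem mem_of_isAlgebraic (O : ValuationSubring K) (hk : ∀ c : k, algebraMap k K c ∈ O) {x : K}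
    (hx : IsAlgebraic k x) : x ∈ O := by
  let _ : Algebra k O := ((algebraMap k K).codRestrict O hk).toAlgebra
  have : IsScalarTower k O K := IsScalarTower.of_algebraMap_eq (fun _ => rfl)
  have hint : IsIntegral O x := hx.isIntegral.tower_top
  obtain ⟨y, hy⟩ := IsIntegrallyClosed.isIntegral_iff.mp hint
  rw [← hy]
  exact y.2

theorem wfDvdMonoid_of_valuationSubring (hK : IsFF1 k K) (O : ValuationSubring K)
    (hk : ∀ c : k, algebraMap k K c ∈ O) : WfDvdMonoid O := by
  refine ⟨wellFounded_iff_isEmpty_descending_chain.mpr ⟨?_⟩⟩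
  rintro ⟨f, hf⟩
  let v := O.valuation
  have hv : ∀ c : k, v (algebraMap k K c) ≤ 1 := fun c => (O.valuation_le_one_iff _).mpr (hk c)
  have hstep : ∀ n, v (f n : K) < v (f (n + 1) : K) := by
    intro n
    obtain ⟨hne, u, hu, heq⟩ := hf n
    have h1 : (f n : K) = (f (n + 1) : K) * (u : K) := by rw [heq]; rfl
    rw [h1, map_mul]
    have hu1 : v (u : K) < 1 := (O.valuation_lt_one_iff u).mp (by
      rwa [IsLocalRing.mem_maximalIdeal, mem_nonunits_iff])
    have h0 : 0 < v (f (n + 1) : K) := by
      rw [zero_lt_iff, Valuation.ne_zero_iff]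
      exact fun h => hne (Subtype.ext h)
    calc _ < v (f (n + 1) : K) * 1 := mul_lt_mul_of_pos_left hu1 h0
      _ = _ := mul_one _
  have hmono : StrictMono (fun n => v (f n : K)) := strictMono_nat_of_lt_succ hstep
  have hle : ∀ n, v (f n : K) ≤ 1 := fun n => O.valuation_le_one (f n)
  have hlt : ∀ n, v (f n : K) < 1 := fun n => lt_of_lt_of_le (hstep n) (hle (n + 1))
  have hx0 : (f 1 : K) ≠ 0 := fun h => (hf 0).1 (Subtype.ext h)
  have hxtr : Transcendental k (f 1 : K) := by
    intro halg
    have h1 : (f 1 : K)⁻¹ ∈ O := mem_of_isAlgebraic O hk halg.inv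
    have h2 : v (f 1 : K)⁻¹ ≤ 1 := (O.valuation_le_one_iff _).mpr h1
    rw [map_inv₀] at h2
    have h3 : 1 < (v (f 1 : K))⁻¹ :=
      (one_lt_inv₀ (zero_lt_iff.mpr ((Valuation.ne_zero_iff _).mpr hx0))).mpr (hlt 1)
    exact absurd h2 (not_le.mpr h3)
  have := finiteDimensional_of_transcendental hK hxtr
  have hbound := chain_card_le v hv (f 1 : K) hx0 (hlt 1) (Module.finrank k⟮(f 1 : K)⟯ K + 1)
    (fun i => (f (1 + i) : K)) (fun i j hij => hmono (by
      have : (i : ℕ) < j := hij
      omega)) (fun i => hmono.monotone (by omega)) (fun i => hlt _)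
  omega

open IsDedekindDomain IsDedekindDomain.HeightOneSpectrum in
/-- every proper valuation ring of `K` containing `k` is the valuation ring of a place -/
theorem exists_place_of_valuationSubring (hK : IsFF1 k K) (O : ValuationSubring K)
    (hk : ∀ c : k, algebraMap k K c ∈ O) (hO : O ≠ ⊤) : ∃ P : Place k K, P.O = O := by
  have := wfDvdMonoid_of_valuationSubring hK O hk
  have htfae := IsBezout.TFAE (R := O)
  have h31 : WfDvdMonoid O → IsPrincipalIdealRing O := (htfae.out 3 1).mp
  have hpid : IsPrincipalIdealRing O := h31 this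
  have hnf : IsLocalRing.maximalIdeal O ≠ ⊥ := by
    obtain ⟨y, hy⟩ : ∃ y : K, y ∉ O := by
      by_contra h
      push Not at h
      exact hO (eq_top_iff.mpr fun y _ => h y)
    have hy' : y⁻¹ ∈ O := (O.mem_or_inv_mem y).resolve_left hy
    have hy0 : y ≠ 0 := by
      rintro rfl
      exact hy O.zero_mem
    intro hbot
    have hmem : (⟨y⁻¹, hy'⟩ : O) ∈ IsLocalRing.maximalIdeal O := by
      rw [IsLocalRing.mem_maximalIdeal, mem_nonunits_iff]
      intro hu
      obtain ⟨⟨z, hz⟩, hzy⟩ := isUnit_iff_exists_inv.mp hu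
      apply hy
      have h1 : y⁻¹ * z = 1 := congrArg Subtype.val hzy
      have h2 : z = y := by
        field_simp at h1
        exact h1
      rwa [← h2]
    rw [hbot, Ideal.mem_bot] at hmem
    have : y⁻¹ = 0 := congrArg Subtype.val hmem
    exact hy0 (inv_eq_zero.mp this)
  have hdvr : IsDiscreteValuationRing O := { hpid, (inferInstance : IsLocalRing O) with
    not_a_field' := hnf }
  let v' := (IsDiscreteValuationRing.maximalIdeal O).valuation K
  have hv'le : ∀ a : O, v' (a : K) ≤ 1 := fun a =>
    valuation_le_one (IsDiscreteValuationRing.maximalIdeal O) a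
  have hsurj : Function.Surjective v' := by
    intro γ
    obtain ⟨π, hπ⟩ := valuation_exists_uniformizer K (IsDiscreteValuationRing.maximalIdeal O)
    have hπ' : v' π = exp (-1 : ℤ) := hπ
    induction γ using WithZero.expRecOn with
    | zero => exact ⟨0, map_zero _⟩
    | exp n =>
      refine ⟨π ^ (-n), ?_⟩
      rw [map_zpow₀, hπ', ← exp_zsmul]
      simp
  refine ⟨⟨v', fun c => hv'le ⟨_, hk c⟩, hsurj⟩, ?_⟩
  ext a
  constructor
  · intro ha
    have ha' : v' a ≤ 1 := ha
    obtain ⟨b, hb⟩ := IsDiscreteValuationRing.exists_lift_of_le_one ha'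
    rw [← hb]
    exact b.2
  · intro ha
    exact hv'le ⟨a, ha⟩

/-- a transcendental element has a zero -/
theorem exists_place_lt_one (hK : IsFF1 k K) {x : K}
    (hx : Transcendental k x) : ∃ P : Place k K, P.1 x < 1 := by
  have hx0 : x ≠ 0 := by
    rintro rfl
    exact hx isAlgebraic_zero
  have hinv : x⁻¹ ∉ (integralClosure k K).toSubring := by
    intro h
    have h1 : IsIntegral k x⁻¹ := h
    exact transcendental_inv hx h1.isAlgebraic
  obtain ⟨V, hV1, hV2⟩ := Subring.exists_le_valuationSubring_of_isIntegrallyClosedIn hinv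
  obtain ⟨P, hP⟩ := exists_place_of_valuationSubring hK V
    (fun c => hV1 ((integralClosure k K).algebraMap_mem c)) (by
      rintro rfl
      exact hV2 trivial)
  refine ⟨P, ?_⟩
  have h1 : ¬ P.1 x⁻¹ ≤ 1 := by
    intro h
    apply hV2
    rw [← hP]
    exact h
  rw [not_le, map_inv₀] at h1
  have h2 : P.1 x ≠ 0 := val_ne_zero P hx0
  exact (one_lt_inv₀ (zero_lt_iff.mpr h2)).mp h1

/-- a transcendental element has a pole -/
theorem exists_place_one_lt (hK : IsFF1 k K) {x : K}
    (hx : Transcendental k x) : ∃ P : Place k K, 1 < P.1 x := by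
  obtain ⟨P, hP⟩ := exists_place_lt_one hK (transcendental_inv hx)
  refine ⟨P, ?_⟩
  have hx0 : x ≠ 0 := by
    rintro rfl
    exact hx isAlgebraic_zero
  rw [map_inv₀] at hP
  exact (inv_lt_one₀ (zero_lt_iff.mpr (val_ne_zero P hx0))).mp hP


theorem finiteDimensional_L_add_single (hK : IsFF1 k K) (D : Divisor k K)
    (P : Place k K) [FiniteDimensional k (L D)] :
    FiniteDimensional k (L (D + Finsupp.single P 1)) := by
  obtain ⟨φ, hφ⟩ := exists_linearMap_ker_eq D P
  have := finiteDimensional_residueField hK P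
  have hle : L D ≤ L (D + Finsupp.single P 1) := L_mono (le_add_single D P)
  have h1 : FiniteDimensional k (LinearMap.ker φ) := by
    rw [hφ]
    exact LinearEquiv.finiteDimensional (Submodule.comapSubtypeEquivOfLe hle).symm
  have h2 : FiniteDimensional k (L (D + Finsupp.single P 1) ⧸ LinearMap.ker φ) :=
    LinearEquiv.finiteDimensional φ.quotKerEquivRange.symm
  exact Module.Finite.of_submodule_quotient (LinearMap.ker φ)

theorem ell_add_single_le (hK : IsFF1 k K) (D : Divisor k K)
    (P : Place k K) [FiniteDimensional k (L D)] :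
    ell (D + Finsupp.single P 1) ≤ ell D + P.deg := by
  obtain ⟨φ, hφ⟩ := exists_linearMap_ker_eq D P
  have := finiteDimensional_residueField hK P
  have := finiteDimensional_L_add_single hK D P
  have hle : L D ≤ L (D + Finsupp.single P 1) := L_mono (le_add_single D P)
  have h1 : Module.finrank k (LinearMap.ker φ) = ell D := by
    rw [hφ]
    exact LinearEquiv.finrank_eq (Submodule.comapSubtypeEquivOfLe hle)
  have h2 := φ.finrank_range_add_finrank_ker
  have h3 : Module.finrank k (LinearMap.range φ) ≤ P.deg := Submodule.finrank_le _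
  unfold ell at *
  omega

theorem L_add_divOfMultiset (hK : IsFF1 k K) (D : Divisor k K)
    [FiniteDimensional k (L D)] (m : Multiset (Place k K)) :
    FiniteDimensional k (L (D + divOfMultiset m)) ∧
      (ell (D + divOfMultiset m) : ℤ) ≤ ell D + (divOfMultiset m).deg := by
  induction m using Multiset.induction_on with
  | empty =>
    rw [divOfMultiset_zero, add_zero, deg_zero, add_zero]
    exact ⟨inferInstance, le_rfl⟩
  | cons P m ih =>
    obtain ⟨h1, h2⟩ := ih
    have heq : D + divOfMultiset (P ::ₘ m) = (D + divOfMultiset m) + Finsupp.single P 1 := by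
      rw [divOfMultiset_cons]; abel
    rw [heq]
    refine ⟨finiteDimensional_L_add_single hK _ P, ?_⟩
    have h3 := ell_add_single_le hK (D + divOfMultiset m) P
    rw [divOfMultiset_cons, deg_add, deg_single]
    push_cast at h3 ⊢
    omega

/-- `L(D₁)` finite-dimensional and `D₁ ≤ D₂` imply `L(D₂)` finite-dimensional, with the bound. -/
theorem ell_le_of_le (hK : IsFF1 k K) {D₁ D₂ : Divisor k K} (h : D₁ ≤ D₂)
    [FiniteDimensional k (L D₁)] :
    FiniteDimensional k (L D₂) ∧ (ell D₂ : ℤ) ≤ ell D₁ + (D₂.deg - D₁.deg) := by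
  obtain ⟨m, hm⟩ := exists_divOfMultiset_eq (sub_nonneg.mpr h)
  have := L_add_divOfMultiset hK D₁ m
  rw [hm, deg_sub] at this
  have heq : D₁ + (D₂ - D₁) = D₂ := by abel
  rwa [heq] at this

/-- the elements without poles are algebraic over `k` -/
theorem isAlgebraic_of_mem_L_zero (hK : IsFF1 k K) {x : K} (hx : x ∈ L (0 : Divisor k K)) :
    IsAlgebraic k x := by
  by_contra htr
  obtain ⟨Q, hQ⟩ := exists_place_one_lt hK htr
  have h1 := hx Q
  simp only [Finsupp.coe_zero, Pi.zero_apply, exp_zero] at h1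
  exact absurd hQ (not_lt.mpr h1)

theorem L_neg_single_eq_bot (hK : IsFF1 k K) (P : Place k K) :
    L (-Finsupp.single P (1 : ℤ)) = ⊥ := by
  rw [eq_bot_iff]
  intro x hx
  rw [Submodule.mem_bot]
  by_contra hx0
  have h0 : x ∈ L (0 : Divisor k K) :=
    L_mono (neg_nonpos.mpr (Finsupp.single_nonneg.mpr zero_le_one)) hx
  have h1 := val_eq_one_of_isAlgebraic P (isAlgebraic_of_mem_L_zero hK h0) hx0
  have h2 := hx P
  rw [Finsupp.neg_apply, Finsupp.single_eq_same, h1, ← exp_zero, exp_le_exp] at h2
  omega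

theorem nonempty_place (hK : IsFF1 k K) : Nonempty (Place k K) := by
  obtain ⟨x, hx, hfd⟩ := hK
  obtain ⟨P, -⟩ := exists_place_lt_one ⟨x, hx, hfd⟩ hx
  exact ⟨P⟩

theorem finiteDimensional_L (hK : IsFF1 k K) (D : Divisor k K) :
    FiniteDimensional k (L D) := by
  obtain ⟨P⟩ := nonempty_place hK
  have h0 : FiniteDimensional k (L (-Finsupp.single P (1 : ℤ))) := by
    rw [L_neg_single_eq_bot hK P]
    infer_instance
  have h1 : FiniteDimensional k (L (D ⊓ -Finsupp.single P (1 : ℤ))) :=
    Submodule.finiteDimensional_of_le (L_mono (inf_le_right))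
  exact (ell_le_of_le hK (inf_le_left : D ⊓ -Finsupp.single P (1 : ℤ) ≤ D)).1

theorem ell_sub_ell_le (hK : IsFF1 k K) {D₁ D₂ : Divisor k K} (h : D₁ ≤ D₂) :
    (ell D₂ : ℤ) - ell D₁ ≤ D₂.deg - D₁.deg := by
  have := finiteDimensional_L hK D₁
  have := (ell_le_of_le hK h).2
  omega

theorem ell_mono (hK : IsFF1 k K) {D₁ D₂ : Divisor k K} (h : D₁ ≤ D₂) :
    ell D₁ ≤ ell D₂ := by
  have := finiteDimensional_L hK D₂
  exact Submodule.finrank_mono (L_mono h)


end Groth.Agent.Lib.helper16.FX
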