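import Groth.Agent.Lib.helper16.FXLocal

/-! Helper library (helper16): the integral closure of `O_P` in a finite extension is the
semilocal ring `B_P`, a finite free `O_P`-module. -/

set_option autoImplicit false

namespace Groth.Agent.Lib.helper16.FX

open FunFld WithZero Polynomial Module Groth.Agent.Lib.helper16.FF
open scoped IntermediateField

section general

/-- a root of a monic polynomial with integral coefficients is integral -/
theorem val_le_one_of_eval₂_eq_zero {R L Γ : Type*} [CommRing R] [Field L]
    [LinearOrderedCommGroupWithZero Γ] (v : Valuation L Γ) (f : R →+* L)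
    (hf : ∀ r, v (f r) ≤ 1) (p : R[X]) (hm : p.Monic) {x : L} (hx : eval₂ f x p = 0) :
    v x ≤ 1 := by
  by_cases hn : p.natDegree = 0
  · rw [Polynomial.natDegree_eq_zero] at hn
    obtain ⟨c, rfl⟩ := hn
    have hc : c = 1 := by
      have := hm.leadingCoeff
      rwa [leadingCoeff_C] at this
    rw [hc, eval₂_C, map_one] at hx
    exact absurd hx one_ne_zero
  rw [Polynomial.eval₂_eq_sum_range, Finset.sum_range_succ, hm.coeff_natDegree, map_one,
    one_mul, add_eq_zero_iff_eq_neg] at hx
  apply_fun v at hx
  rw [Valuation.map_neg, map_pow] at hx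
  by_contra hlt
  rw [not_le] at hlt
  have h0 : v x ^ p.natDegree ≠ 0 := pow_ne_zero _ (ne_of_gt (lt_trans zero_lt_one hlt))
  have h1 : v (∑ i ∈ Finset.range p.natDegree, f (p.coeff i) * x ^ i) < v x ^ p.natDegree := by
    apply v.map_sum_lt h0
    intro i hi
    rw [map_mul, map_pow]
    exact mul_lt_of_le_one_of_lt (hf _) (pow_lt_pow_right₀ hlt (Finset.mem_range.mp hi))
  rw [hx] at h1
  exact lt_irrefl _ h1

end general

variable {k K : Type*} [Field k] [Field K] [Algebra k K]

theorem isPrincipalIdealRing_O (hK : IsFF1 k K) (P : Place k K) : IsPrincipalIdealRing P.O := by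
  have := wfDvdMonoid_of_valuationSubring hK P.O (fun c => P.2.1 c)
  have htfae := IsBezout.TFAE (R := P.O)
  exact (htfae.out 3 1).mp this

variable {K' : Type*} [Field K'] [Algebra K K'] [Algebra k K'] [IsScalarTower k K K']

theorem mem_semiLocal_of_isIntegral [Algebra.IsAlgebraic K K'] (P : Place k K)
    [Algebra P.O K'] [IsScalarTower P.O K K'] {x : K'} (hx : IsIntegral P.O x) :
    x ∈ semiLocal K' P := by
  intro Q hQ
  obtain ⟨p, hm, hp⟩ := hx
  refine val_le_one_of_eval₂_eq_zero Q.1 (algebraMap P.O K') (fun r => ?_) p hm hp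
  rw [IsScalarTower.algebraMap_apply P.O K K', isOverWith_ramIdx hQ]
  exact pow_le_one₀ zero_le r.2

/-- the integral closure of `O_P` in `K'` is contained in the span of the integral basis -/
theorem integralClosure_le_span [FiniteDimensional K K'] (P : Place k K)
    [Algebra P.O K'] [IsScalarTower P.O K K'] {b : Fin (finrank K K') → K'}
    (hb : IndepModT P b) {x : K'} (hx : x ∈ semiLocal K' P) :
    x ∈ Submodule.span P.O (Set.range b) := by
  have hli := linearIndependent_of_indepModT hb
  have hspan : ⊤ ≤ Submodule.span K (Set.range b) := by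
    rw [hli.span_eq_top_of_card_eq_finrank' (by rw [Fintype.card_fin])]
  have hx' : x ∈ Submodule.span K (Set.range b) := hspan Submodule.mem_top
  rw [Submodule.mem_span_range_iff_exists_fun] at hx'
  obtain ⟨c, hc⟩ := hx'
  have hint := coeff_integral hb c (by rw [hc]; exact hx)
  rw [← hc]
  refine Submodule.sum_mem _ fun i _ => ?_
  have : c i • b i = (⟨c i, hint i⟩ : P.O) • b i := by
    rw [← IsScalarTower.algebraMap_smul K (⟨c i, hint i⟩ : P.O) (b i)]
    rfl
  rw [this]
  exact Submodule.smul_mem _ _ (Submodule.subset_span ⟨i, rfl⟩)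

/-- **Finiteness of the integral closure** of `O_P` in a finite extension `K'` of `K` -/
theorem finite_integralClosure [FiniteDimensional K K'] (hK : IsFunctionField k K)
    (P : Place k K) [Algebra P.O K'] [IsScalarTower P.O K K'] :
    Module.Finite P.O (integralClosure P.O K') := by
  obtain ⟨b, hbB, hb⟩ := exists_integral_basis (K' := K') hK P
  have hpid := isPrincipalIdealRing_O hK.1 P
  have hnoeth : IsNoetherian P.O (Submodule.span P.O (Set.range b)) :=
    isNoetherian_span_of_finite P.O (Set.finite_range b)
  let f : integralClosure P.O K' →ₗ[P.O] Submodule.span P.O (Set.range b) :=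
    { toFun := fun x => ⟨x.1, integralClosure_le_span P hb (mem_semiLocal_of_isIntegral P x.2)⟩
      map_add' := fun x y => rfl
      map_smul' := fun c x => rfl }
  refine Module.Finite.of_injective f (fun x y h => Subtype.ext ?_)
  have := congrArg (fun z : Submodule.span P.O (Set.range b) => (z : K')) h
  exact this

end Groth.Agent.Lib.helper16.FX
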