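import Mathlib
import Groth.Prelude.Def_LefPen

/-! Helper library (helper16): general points impose independent conditions on forms of degree `d`
(S18464). -/

set_option autoImplicit false

namespace Groth.Agent.Lib.helper16.GenPts

open MvPolynomial

universe u

variable {k : Type u} [Field k]

/-- the dimension of the space of forms of degree `d` in `r + 1` variables -/
theorem finrank_form (r d : ℕ) :
    Module.finrank k (homogeneousSubmodule (Fin (r + 1)) k d) = (r + d).choose d := by
  classical
  rw [homogeneousSubmodule_eq_finsupp_supported]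
  have e1 := AddMonoidAlgebra.supportedEquivFinsupp (R := k) (S := k)
    ({e : Fin (r + 1) →₀ ℕ | e.degree = d})
  rw [e1.finrank_eq]
  have hset : {e : Fin (r + 1) →₀ ℕ | e.degree = d} =
      ((Finset.univ : Finset (Fin (r + 1))).finsuppAntidiag d : Set (Fin (r + 1) →₀ ℕ)) := by
    ext e
    simp [Finsupp.degree_eq_sum]
  haveI : Fintype ↥{e : Fin (r + 1) →₀ ℕ | e.degree = d} := by
    rw [hset]
    exact Finset.fintypeCoeSort _
  rw [Module.finrank_finsupp_self]
  have hcard : Fintype.card ↥{e : Fin (r + 1) →₀ ℕ | e.degree = d} =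
      ((Finset.univ : Finset (Fin (r + 1))).finsuppAntidiag d).card := by
    rw [← Set.toFinset_card]
    congr 1
    ext e
    simp [Finsupp.degree_eq_sum]
  rw [hcard, Finset.card_finsuppAntidiag_nat_eq_choose]
  simp only [Finset.card_univ, Fintype.card_fin]
  have : r + 1 + d - 1 = r + d := by omega
  rw [this]

theorem finite_form (r d : ℕ) : Module.Finite k (homogeneousSubmodule (Fin (r + 1)) k d) :=
  Module.finite_of_finrank_pos (by
    rw [finrank_form]; exact Nat.choose_pos (by omega))

section polyfun

variable {V : Type u} [AddCommGroup V] [Module k V]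

theorem pf_const (c : k) : LefPen.IsPolyFun k (fun _ : V => c) :=
  Subalgebra.algebraMap_mem _ c

theorem pf_add {f g : V → k} (hf : LefPen.IsPolyFun k f) (hg : LefPen.IsPolyFun k g) :
    LefPen.IsPolyFun k (fun w => f w + g w) :=
  Subalgebra.add_mem _ hf hg

theorem pf_mul {f g : V → k} (hf : LefPen.IsPolyFun k f) (hg : LefPen.IsPolyFun k g) :
    LefPen.IsPolyFun k (fun w => f w * g w) :=
  Subalgebra.mul_mem _ hf hg

theorem pf_lin (l : Module.Dual k V) : LefPen.IsPolyFun k (fun w => l w) :=
  Algebra.subset_adjoin ⟨l, rfl⟩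

theorem pf_sum {ι : Type*} (s : Finset ι) (g : ι → V → k)
    (h : ∀ i ∈ s, LefPen.IsPolyFun k (g i)) :
    LefPen.IsPolyFun k (fun w => ∑ i ∈ s, g i w) := by
  classical
  induction s using Finset.induction_on with
  | empty => simpa using pf_const (V := V) (0 : k)
  | insert a s ha ih =>
    have h1 := pf_add (h a (Finset.mem_insert_self a s))
      (ih (fun i hi => h i (Finset.mem_insert_of_mem hi)))
    have e : (fun w => ∑ i ∈ insert a s, g i w) = fun w => g a w + ∑ i ∈ s, g i w := by
      funext w; rw [Finset.sum_insert ha]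
    rw [e]; exact h1

theorem pf_prod {ι : Type*} (s : Finset ι) (g : ι → V → k)
    (h : ∀ i ∈ s, LefPen.IsPolyFun k (g i)) :
    LefPen.IsPolyFun k (fun w => ∏ i ∈ s, g i w) := by
  classical
  induction s using Finset.induction_on with
  | empty => simpa using pf_const (V := V) (1 : k)
  | insert a s ha ih =>
    have h1 := pf_mul (h a (Finset.mem_insert_self a s))
      (ih (fun i hi => h i (Finset.mem_insert_of_mem hi)))
    have e : (fun w => ∏ i ∈ insert a s, g i w) = fun w => g a w * ∏ i ∈ s, g i w := by
      funext w; rw [Finset.prod_insert ha]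
    rw [e]; exact h1

end polyfun

variable (r d m : ℕ)

/-- evaluation of a polynomial at the `i`-th point is a polynomial function -/
theorem pf_eval (G : MvPolynomial (Fin (r + 1)) k) (i : Fin m) :
    LefPen.IsPolyFun k (fun w : Fin m → (Fin (r + 1) → k) => aeval (w i) G) := by
  induction G using MvPolynomial.induction_on with
  | C c =>
    have e : (fun w : Fin m → (Fin (r + 1) → k) => aeval (w i) (C c : MvPolynomial (Fin (r + 1)) k)) =
        fun _ => c := by
      funext w; rw [aeval_C]; rfl
    rw [e]; exact pf_const c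
  | add p q hp hq =>
    have e : (fun w : Fin m → (Fin (r + 1) → k) => aeval (w i) (p + q)) =
        fun w => aeval (w i) p + aeval (w i) q := by
      funext w; rw [map_add]
    rw [e]; exact pf_add hp hq
  | mul_X p j hp =>
    have e : (fun w : Fin m → (Fin (r + 1) → k) => aeval (w i) (p * X j)) =
        fun w => aeval (w i) p *
          ((LinearMap.proj j : (Fin (r + 1) → k) →ₗ[k] k).comp
            (LinearMap.proj i : (Fin m → (Fin (r + 1) → k)) →ₗ[k] (Fin (r + 1) → k))) w := by
      funext w; rw [map_mul, aeval_X]; rfl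
    rw [e]; exact pf_mul hp (pf_lin _)

/-- evaluation of forms at an `m`-tuple of points -/
noncomputable def ev (w : Fin m → (Fin (r + 1) → k)) :
    ↥(homogeneousSubmodule (Fin (r + 1)) k d) →ₗ[k] (Fin m → k) :=
  LinearMap.pi (fun i => (aeval (w i)).toLinearMap.comp
    (homogeneousSubmodule (Fin (r + 1)) k d).subtype)

theorem ev_apply (w : Fin m → (Fin (r + 1) → k))
    (G : ↥(homogeneousSubmodule (Fin (r + 1)) k d)) (i : Fin m) :
    ev r d m w G i = aeval (w i) G.1 := rfl

/-- the good set -/
def good : Set (Fin m → (Fin (r + 1) → k)) :=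
  {x | ∀ G : ↥(homogeneousSubmodule (Fin (r + 1)) k d),
    (∀ i : Fin m, aeval (x i) G.1 = 0) → G = 0}

theorem isZOpen_good : LefPen.IsZOpen k (good (k := k) r d m) := by
  classical
  haveI := finite_form (k := k) r d
  intro x hx
  have hker : LinearMap.ker (ev r d m x) = ⊥ := by
    rw [LinearMap.ker_eq_bot']
    intro G hG
    exact hx G (fun i => by rw [← ev_apply, hG]; rfl)
  obtain ⟨L, hL⟩ := LinearMap.exists_leftInverse_of_injective _ hker
  let b := Module.finBasis k ↥(homogeneousSubmodule (Fin (r + 1)) k d)
  refine ⟨fun w => LinearMap.det (L.comp (ev r d m w)), ?_, ?_, ?_⟩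
  · -- polynomial function
    have e : (fun w => LinearMap.det (L.comp (ev r d m w))) =
        fun w => ∑ σ : Equiv.Perm (Fin (Module.finrank k ↥(homogeneousSubmodule (Fin (r + 1)) k d))),
          ((Equiv.Perm.sign σ : ℤ) : k) * ∏ a, ∑ i : Fin m,
            aeval (w i) (b a).1 * b.repr (L (fun j => if i = j then 1 else 0)) (σ a) := by
      funext w
      rw [← LinearMap.det_toMatrix b, Matrix.det_apply']
      apply Finset.sum_congr rfl
      intro σ _
      congr 1
      apply Finset.prod_congr rfl
      intro a _
      rw [LinearMap.toMatrix_apply, LinearMap.comp_apply, LinearMap.pi_apply_eq_sum_univ L,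
        map_sum, Finsupp.coe_finsetSum, Finset.sum_apply]
      apply Finset.sum_congr rfl
      intro i _
      rw [map_smul, Finsupp.smul_apply, smul_eq_mul, ev_apply]
    rw [e]
    apply pf_sum
    intro σ _
    apply pf_mul (pf_const _)
    apply pf_prod
    intro a _
    apply pf_sum
    intro i _
    exact pf_mul (pf_eval r m _ i) (pf_const _)
  · show LinearMap.det (L.comp (ev r d m x)) ≠ 0
    rw [hL, LinearMap.det_id]
    exact one_ne_zero
  · intro w hw G hG
    have hw' : LinearMap.det (L.comp (ev r d m w)) ≠ 0 := hw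
    have hk : LinearMap.ker (L.comp (ev r d m w)) = ⊥ := by
      by_contra h
      exact hw' (LinearMap.det_eq_zero_iff_ker_ne_bot.mpr h)
    have h0 : ev r d m w G = 0 := by
      funext i; rw [ev_apply, hG]; rfl
    have h1 : G ∈ LinearMap.ker (L.comp (ev r d m w)) := by
      rw [LinearMap.mem_ker, LinearMap.comp_apply, h0, map_zero]
    rw [hk] at h1
    exact (Submodule.mem_bot k).mp h1

/-- forms vanishing on a finite set of points -/
def W (s : Finset (Fin (r + 1) → k)) : Submodule k ↥(homogeneousSubmodule (Fin (r + 1)) k d) where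
  carrier := {G | ∀ p ∈ s, aeval p G.1 = 0}
  add_mem' := by
    intro a b ha hb p hp
    show aeval p (a.1 + b.1) = 0
    rw [map_add, ha p hp, hb p hp, add_zero]
  zero_mem' := by
    intro p _
    show aeval p (0 : MvPolynomial (Fin (r + 1)) k) = 0
    rw [map_zero]
  smul_mem' := by
    intro c a ha p hp
    show aeval p (c • a.1) = 0
    rw [map_smul, ha p hp, smul_zero]

theorem exists_finset [Infinite k] (j : ℕ) :
    (∃ s : Finset (Fin (r + 1) → k), s.card ≤ j ∧
      Module.finrank k ↥(W (k := k) r d s) + j ≤ (r + d).choose d) ∨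
        (∃ s : Finset (Fin (r + 1) → k), s.card ≤ j ∧ W (k := k) r d s = ⊥) := by
  classical
  haveI := finite_form (k := k) r d
  induction j with
  | zero =>
    left
    refine ⟨∅, by simp, ?_⟩
    rw [add_zero, ← finrank_form (k := k) r d]
    exact Submodule.finrank_le _
  | succ j ih =>
    rcases ih with ⟨s, hs, hfr⟩ | ⟨s, hs, hbot⟩
    · by_cases hbot : W (k := k) r d s = ⊥
      · right; exact ⟨s, by omega, hbot⟩
      · obtain ⟨G, hG, hG0⟩ := Submodule.exists_mem_ne_zero_of_ne_bot hbot
        have hG1 : G.1 ≠ 0 := fun h => hG0 (Subtype.ext h)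
        obtain ⟨p, hp⟩ : ∃ p : Fin (r + 1) → k, aeval p G.1 ≠ 0 := by
          by_contra hcon
          push Not at hcon
          apply hG1
          apply MvPolynomial.funext
          intro p
          rw [map_zero]
          exact hcon p
        left
        refine ⟨insert p s, le_trans (Finset.card_insert_le _ _) (by omega), ?_⟩
        have hlt : W (k := k) r d (insert p s) < W (k := k) r d s := by
          refine lt_of_le_of_ne ?_ ?_
          · intro H hH q hq
            exact hH q (Finset.mem_insert_of_mem hq)
          · intro heq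
            have : G ∈ W (k := k) r d (insert p s) := by rw [heq]; exact hG
            exact hp (this p (Finset.mem_insert_self p s))
        have := Submodule.finrank_lt_finrank_of_lt hlt
        omega
    · right; exact ⟨s, by omega, hbot⟩

theorem good_nonempty [Infinite k] (hm : (r + d).choose d ≤ m) :
    (good (k := k) r d m).Nonempty := by
  classical
  haveI := finite_form (k := k) r d
  obtain ⟨s, hs, hbot⟩ : ∃ s : Finset (Fin (r + 1) → k), s.card ≤ (r + d).choose d ∧
      W (k := k) r d s = ⊥ := by
    rcases exists_finset (k := k) r d ((r + d).choose d) with ⟨s, hs, hfr⟩ | h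
    · refine ⟨s, hs, ?_⟩
      have h0 : Module.finrank k ↥(W (k := k) r d s) = 0 := by omega
      exact Submodule.finrank_eq_zero.mp h0
    · exact h
  let e := s.equivFin
  refine ⟨fun i => if h : i.1 < s.card then (e.symm ⟨i.1, h⟩).1 else 0, ?_⟩
  intro G hG
  have hGW : G ∈ W (k := k) r d s := by
    intro p hp
    have hlt : (e ⟨p, hp⟩).1 < m := lt_of_lt_of_le (e ⟨p, hp⟩).2 (le_trans hs hm)
    have := hG ⟨(e ⟨p, hp⟩).1, hlt⟩
    simp only [Fin.is_lt, dite_true, Fin.eta, Equiv.symm_apply_apply] at this
    exact this
  rw [hbot] at hGW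
  exact (Submodule.mem_bot k).mp hGW

theorem isGeneric_good [Infinite k] (hm : (r + d).choose d ≤ m) :
    LefPen.IsGeneric k (good (k := k) r d m) := by
  obtain ⟨x, hx⟩ := good_nonempty (k := k) r d m hm
  obtain ⟨f, hf, hfx, hfS⟩ := isZOpen_good (k := k) r d m x hx
  exact ⟨f, hf, ⟨x, hfx⟩, hfS⟩

end Groth.Agent.Lib.helper16.GenPts
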