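import Groth.Prelude.Def_W4bk4goldsch45p2
import Mathlib

/-! Helper library (helper16): jump indices of a sequence of vectors. -/

set_option autoImplicit false

namespace Groth.Agent.Lib.helper16.Jmp

open FunFld Module

variable {K M : Type*} [Field K] [AddCommGroup M] [Module K M]

/-- the span of the first `m` vectors -/
def W (K : Type*) {M : Type*} [Field K] [AddCommGroup M] [Module K M] (c : ℕ → M) (m : ℕ) :
    Submodule K M := Submodule.span K (c '' Set.Iio m)

theorem isJump_iff (c : ℕ → M) (j : ℕ) : IsJump K c j ↔ c j ∉ W K c j := Iff.rfl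

theorem W_zero (c : ℕ → M) : W K c 0 = ⊥ := by
  unfold W
  have : (Set.Iio 0 : Set ℕ) = ∅ := by ext m; simp
  rw [this, Set.image_empty, Submodule.span_empty]

theorem W_succ (c : ℕ → M) (m : ℕ) : W K c (m + 1) = W K c m ⊔ Submodule.span K {c m} := by
  unfold W
  have : (Set.Iio (m + 1) : Set ℕ) = insert m (Set.Iio m) := by
    ext x
    simp only [Set.mem_Iio, Set.mem_insert_iff]
    omega
  rw [this, Set.image_insert_eq, Submodule.span_insert, sup_comm]

theorem W_mono (c : ℕ → M) : Monotone (W K c) := by
  intro a b hab
  exact Submodule.span_mono (Set.image_mono (Set.Iio_subset_Iio hab))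

theorem mem_W (c : ℕ → M) {j m : ℕ} (h : j < m) : c j ∈ W K c m :=
  Submodule.subset_span ⟨j, h, rfl⟩

theorem W_succ_of_not_isJump (c : ℕ → M) {m : ℕ} (h : ¬ IsJump K c m) :
    W K c (m + 1) = W K c m := by
  rw [W_succ]
  rw [isJump_iff, not_not] at h
  apply le_antisymm
  · exact sup_le le_rfl ((Submodule.span_singleton_le_iff_mem _ _).mpr h)
  · exact le_sup_left

open scoped Classical in
theorem finrank_W [FiniteDimensional K M] (c : ℕ → M) (m : ℕ) :
    finrank K ↥(W K c m) = ((Finset.range m).filter (fun j => IsJump K c j)).card := by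
  induction m with
  | zero => rw [W_zero, finrank_bot]; simp
  | succ m ih =>
    rw [Finset.range_add_one, Finset.filter_insert]
    by_cases hj : IsJump K c m
    · rw [if_pos hj, Finset.card_insert_of_notMem (by simp), ← ih, W_succ]
      have hx : c m ∉ W K c m := hj
      have hx0 : c m ≠ 0 := fun h0 => hx (h0 ▸ zero_mem _)
      have hinf : W K c m ⊓ Submodule.span K {c m} = ⊥ := by
        rw [eq_bot_iff]
        rintro y ⟨hy1, hy2⟩
        obtain ⟨a, rfl⟩ := Submodule.mem_span_singleton.mp hy2
        by_cases ha : a = 0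
        · simp [ha]
        · exfalso
          apply hx
          have := (W K c m).smul_mem a⁻¹ hy1
          rwa [smul_smul, inv_mul_cancel₀ ha, one_smul] at this
      have h1 := Submodule.finrank_sup_add_finrank_inf_eq (W K c m) (Submodule.span K {c m})
      rw [hinf, finrank_bot, add_zero, finrank_span_singleton hx0] at h1
      exact h1
    · rw [if_neg hj, ← ih, W_succ_of_not_isJump c hj]

/-- eventually constant: beyond all jumps -/
theorem W_eq_of_no_jump (c : ℕ → M) {a b : ℕ} (hab : a ≤ b)
    (h : ∀ j, a ≤ j → j < b → ¬ IsJump K c j) : W K c b = W K c a := by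
  induction b, hab using Nat.le_induction with
  | base => rfl
  | succ b hb ih =>
    rw [W_succ_of_not_isJump c (h b hb (Nat.lt_succ_self b))]
    exact ih fun j h1 h2 => h j h1 (Nat.lt_succ_of_lt h2)

/-- the order sequence is termwise minimal among index sequences with independent columns -/
theorem orders_le [FiniteDimensional K M] (c : ℕ → M) {n : ℕ} (J : Fin n → ℕ)
    (hJ : IsOrders K c J) (J' : Fin n → ℕ) (hJ' : StrictMono J')
    (hind : LinearIndependent K
      (fun x : Fin (n + 1) => Fin.cases (motive := fun _ => M) (c 0) (fun l => c (J' l + 1)) x)) :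
    ∀ l, J l ≤ J' l := by
  classical
  intro l
  by_contra hlt
  rw [not_le] at hlt
  obtain ⟨hJm, hJr⟩ := hJ
  -- lower bound
  have hlow : (l : ℕ) + 2 ≤ finrank K ↥(W K c (J' l + 2)) := by
    let g : Fin ((l : ℕ) + 2) → Fin (n + 1) := fun x => ⟨x.val, by have := x.2; have := l.2; omega⟩
    have hg : Function.Injective g := by
      intro x y hxy
      exact Fin.ext (by simpa [g] using congrArg Fin.val hxy)
    have hind' := hind.comp g hg
    have hspan : Submodule.span K (Set.range
        ((fun x : Fin (n + 1) => Fin.cases (motive := fun _ => M) (c 0) (fun l => c (J' l + 1)) x) ∘ g)) ≤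
        W K c (J' l + 2) := by
      rw [Submodule.span_le]
      rintro _ ⟨x, rfl⟩
      rcases Nat.eq_zero_or_pos x.val with hx | hx
      · have : g x = 0 := Fin.ext (by simp [g, hx])
        simp only [Function.comp_apply, this, Fin.cases_zero]
        exact mem_W c (by omega)
      · have hxl : x.val - 1 < n := by have := x.2; have := l.2; omega
        have : g x = Fin.succ ⟨x.val - 1, hxl⟩ := Fin.ext (by simp [g]; omega)
        simp only [Function.comp_apply, this, Fin.cases_succ]
        apply mem_W
        have h1 : J' ⟨x.val - 1, hxl⟩ ≤ J' l := hJ'.monotone (by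
          rw [Fin.le_def]; simp only; have := x.2; omega)
        omega
    have h1 := Submodule.finrank_mono hspan
    rw [finrank_span_eq_card hind', Fintype.card_fin] at h1
    exact h1
  -- upper bound
  have hup : finrank K ↥(W K c (J' l + 2)) ≤ (l : ℕ) + 1 := by
    rw [finrank_W]
    have hsub : (Finset.range (J' l + 2)).filter (fun j => IsJump K c j) ⊆
        insert 0 ((Finset.univ.filter (fun i : Fin n => i < l)).image (fun i => J i + 1)) := by
      intro j hj
      rw [Finset.mem_filter, Finset.mem_range] at hj
      rw [Finset.mem_insert]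
      rcases Nat.eq_zero_or_pos j with h0 | h0
      · exact Or.inl h0
      · right
        obtain ⟨j', rfl⟩ : ∃ j', j = j' + 1 := ⟨j - 1, by omega⟩
        obtain ⟨i, hi⟩ := (hJr j').mpr hj.2
        rw [Finset.mem_image]
        refine ⟨i, ?_, by rw [hi]⟩
        rw [Finset.mem_filter]
        refine ⟨Finset.mem_univ _, ?_⟩
        by_contra hil
        rw [not_lt] at hil
        have := hJm.monotone hil
        omega
    refine le_trans (Finset.card_le_card hsub) ?_
    refine le_trans (Finset.card_insert_le _ _) ?_
    refine le_trans (Nat.add_le_add_right Finset.card_image_le 1) ?_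
    have hc : (Finset.univ.filter (fun i : Fin n => i < l)).card = (l : ℕ) := by
      have : Finset.univ.filter (fun i : Fin n => i < l) = Finset.Iio l := by
        ext i; simp
      rw [this, Fin.card_Iio]
    rw [hc]
  omega

theorem W_shift (c : ℕ → M) (j : ℕ) :
    W K c (j + 1) = Submodule.span K {c 0} ⊔ W K (fun i => c (i + 1)) j := by
  unfold W
  have : c '' Set.Iio (j + 1) = insert (c 0) ((fun i => c (i + 1)) '' Set.Iio j) := by
    ext x
    simp only [Set.mem_image, Set.mem_Iio, Set.mem_insert_iff]
    constructor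
    · rintro ⟨i, hi, rfl⟩
      rcases Nat.eq_zero_or_pos i with h0 | h0
      · left; rw [h0]
      · right
        exact ⟨i - 1, by omega, by rw [Nat.sub_add_cancel h0]⟩
    · rintro (rfl | ⟨i, hi, rfl⟩)
      · exact ⟨0, by omega, rfl⟩
      · exact ⟨i + 1, by omega, rfl⟩
  rw [this, Submodule.span_insert]

/-- the `τ`-orders are `0` together with the orders for the identity minus one of them -/
theorem tau_orders [FiniteDimensional K M] {n : ℕ} (hM : finrank K M = n + 1) (c c' : ℕ → M)
    (hcc : ∀ j, c (j + 1) = c' (j + 1)) (h01 : c' 1 = c' 0) (he : c 0 ≠ 0) (hd0 : c' 0 ≠ 0)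
    (hj1 : IsJump K c 1) (J : Fin n → ℕ) (hJ : IsOrders K c' J) :
    ∃ m : Fin n, ∀ j : ℕ, IsJump K c (j + 1) ↔ (j = 0 ∨ ∃ l, l ≠ m ∧ J l = j) := by
  classical
  obtain ⟨hJm, hJr⟩ := hJ
  set d : ℕ → M := fun i => c (i + 1) with hd
  have hd' : ∀ i, c' (i + 1) = d i := fun i => (hcc i).symm
  have hd00 : d 0 = c' 0 := by rw [← hd' 0, h01]
  -- spans for `c'`
  have hWc' : ∀ j, 1 ≤ j → W K c' (j + 1) = W K d j := by
    intro j hj
    rw [W_shift]
    have : (fun i => c' (i + 1)) = d := funext hd'
    rw [this]
    apply le_antisymm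
    · refine sup_le ?_ le_rfl
      rw [Submodule.span_singleton_le_iff_mem, ← hd00]
      exact mem_W d (by omega)
    · exact le_sup_right
  have hWc : ∀ j, W K c (j + 1) = Submodule.span K {c 0} ⊔ W K d j := fun j => W_shift c j
  -- jumps of `c'` versus jumps of `d`
  have hjump' : ∀ j, 1 ≤ j → (IsJump K c' (j + 1) ↔ IsJump K d j) := by
    intro j hj
    rw [isJump_iff, isJump_iff, hWc' j hj, hd' j]
  have hnot0 : ¬ IsJump K c' 1 := by
    rw [isJump_iff, not_not, h01]
    exact mem_W c' (by omega)
  have hrange : ∀ j, j ∈ Set.range J ↔ (1 ≤ j ∧ IsJump K d j) := by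
    intro j
    rw [hJr j]
    rcases Nat.eq_zero_or_pos j with h0 | h0
    · subst h0
      constructor
      · intro h; exact absurd h hnot0
      · rintro ⟨h, -⟩; omega
    · rw [hjump' j h0]
      exact ⟨fun h => ⟨h0, h⟩, fun h => h.2⟩
  have hd0jump : IsJump K d 0 := by
    rw [isJump_iff, W_zero, Submodule.mem_bot, hd00]
    exact hd0
  -- `d` eventually spans everything
  obtain ⟨N, hN⟩ : ∃ N, ∀ i, J i < N := by
    refine ⟨(Finset.univ.sup J) + 1, fun i => ?_⟩
    have := Finset.le_sup (f := J) (Finset.mem_univ i)
    omega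
  have htop : W K d (N + 1) = ⊤ := by
    apply Submodule.eq_top_of_finrank_eq
    rw [hM, finrank_W]
    have hsub : insert 0 ((Finset.univ : Finset (Fin n)).image J) ⊆
        (Finset.range (N + 1)).filter (fun j => IsJump K d j) := by
      intro j hj
      rw [Finset.mem_insert, Finset.mem_image] at hj
      rw [Finset.mem_filter, Finset.mem_range]
      rcases hj with rfl | ⟨i, -, rfl⟩
      · exact ⟨by omega, hd0jump⟩
      · exact ⟨by have := hN i; omega, ((hrange (J i)).mp ⟨i, rfl⟩).2⟩
    have hcard : (insert 0 ((Finset.univ : Finset (Fin n)).image J)).card = n + 1 := by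
      rw [Finset.card_insert_of_notMem, Finset.card_image_of_injective _ hJm.injective,
        Finset.card_univ, Fintype.card_fin]
      rw [Finset.mem_image]
      rintro ⟨i, -, hi⟩
      have := ((hrange 0).mp ⟨i, hi⟩).1
      omega
    apply le_antisymm
    · have h1 := Submodule.finrank_le (W K d (N + 1))
      rw [hM, finrank_W] at h1
      exact h1
    · rw [← hcard]
      exact Finset.card_le_card hsub
  -- the first stage containing the leading vector
  have hex : ∃ r, c 0 ∈ W K d (r + 1) := ⟨N, by rw [htop]; exact Submodule.mem_top⟩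
  set r := Nat.find hex with hr
  have hr1 : c 0 ∈ W K d (r + 1) := Nat.find_spec hex
  have hr2 : c 0 ∉ W K d r := by
    rcases Nat.eq_zero_or_pos r with h0 | h0
    · rw [h0, W_zero, Submodule.mem_bot]
      exact he
    · have := Nat.find_min hex (m := r - 1) (by omega)
      rwa [Nat.sub_add_cancel h0] at this
  -- decompose
  rw [W_succ, Submodule.mem_sup] at hr1
  obtain ⟨v, hv, w, hw, hvw⟩ := hr1
  obtain ⟨a, rfl⟩ := Submodule.mem_span_singleton.mp hw
  have ha : a ≠ 0 := by
    rintro rfl
    rw [zero_smul, add_zero] at hvw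
    exact hr2 (hvw ▸ hv)
  have hdr : d r = a⁻¹ • (c 0 - v) := by
    rw [← hvw, add_sub_cancel_left, smul_smul, inv_mul_cancel₀ ha, one_smul]
  have hrjump : IsJump K d r := by
    rw [isJump_iff]
    intro h
    exact hr2 (hvw ▸ (W K d r).add_mem hv ((W K d r).smul_mem a h))
  have hrpos : 1 ≤ r := by
    by_contra h0
    have h0' : r = 0 := by omega
    -- then `c 0 ∈ span {d 0}` and `d 0 ∈ span {c 0}`
    refine absurd hj1 ?_
    rw [isJump_iff, not_not, hWc 0, W_zero, sup_bot_eq]
    have h1 : c 1 = d 0 := rfl
    have hd0r : d 0 = a⁻¹ • (c 0 - v) := by rw [← hdr, h0']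
    rw [h0', W_zero, Submodule.mem_bot] at hv
    rw [h1, hd0r, hv, sub_zero]
    exact Submodule.smul_mem _ _ (Submodule.mem_span_singleton_self _)
  obtain ⟨m, hm⟩ := (hrange r).mpr ⟨hrpos, hrjump⟩
  refine ⟨m, fun j => ?_⟩
  have hcj : c (j + 1) = d j := rfl
  rcases Nat.eq_zero_or_pos j with h0 | h0
  · subst h0
    exact ⟨fun _ => Or.inl rfl, fun _ => hj1⟩
  · have key : IsJump K c (j + 1) ↔ (IsJump K d j ∧ j ≠ r) := by
      rw [isJump_iff, hWc j, hcj]
      rcases lt_trichotomy j r with hlt | heq | hgt
      · constructor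
        · intro h
          exact ⟨fun h' => h (Submodule.mem_sup_right h'), by omega⟩
        · rintro ⟨h, -⟩ hmem
          rw [Submodule.mem_sup] at hmem
          obtain ⟨x, hx, y, hy, hxy⟩ := hmem
          obtain ⟨b, rfl⟩ := Submodule.mem_span_singleton.mp hx
          by_cases hb : b = 0
          · rw [hb, zero_smul, zero_add] at hxy
            exact h (hxy ▸ hy)
          · apply hr2
            have h1 : c 0 = b⁻¹ • (d j - y) := by
              rw [← hxy, add_sub_cancel_right, smul_smul, inv_mul_cancel₀ hb, one_smul]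
            rw [h1]
            apply Submodule.smul_mem
            apply Submodule.sub_mem
            · exact W_mono d (by omega : j + 1 ≤ r) (mem_W d (Nat.lt_succ_self j))
            · exact W_mono d (by omega : j ≤ r) hy
      · subst heq
        constructor
        · intro h
          exfalso
          apply h
          rw [hdr]
          apply Submodule.smul_mem
          apply Submodule.sub_mem
          · exact Submodule.mem_sup_left (Submodule.mem_span_singleton_self _)
          · exact Submodule.mem_sup_right hv
        · rintro ⟨-, h⟩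
          exact absurd rfl h
      · have hc0 : c 0 ∈ W K d j := by
          have : c 0 ∈ W K d (r + 1) := Nat.find_spec hex
          exact W_mono d (by omega : r + 1 ≤ j) this
        have hsup : Submodule.span K {c 0} ⊔ W K d j = W K d j := by
          apply le_antisymm
          · exact sup_le ((Submodule.span_singleton_le_iff_mem _ _).mpr hc0) le_rfl
          · exact le_sup_right
        rw [hsup]
        constructor
        · intro h; exact ⟨h, by omega⟩
        · rintro ⟨h, -⟩; exact h
    rw [key]
    constructor
    · rintro ⟨h1, h2⟩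
      right
      obtain ⟨l, hl⟩ := (hrange j).mpr ⟨h0, h1⟩
      refine ⟨l, ?_, hl⟩
      rintro rfl
      exact h2 (by rw [← hl, hm])
    · rintro (h | ⟨l, hl1, hl2⟩)
      · omega
      · refine ⟨((hrange j).mp ⟨l, hl2⟩).2, ?_⟩
        intro hjr
        apply hl1
        apply hJm.injective
        rw [hl2, hm, hjr]

end Groth.Agent.Lib.helper16.Jmp
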