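import Mathlib

/-! Helper library (helper16): Bezout dimension count for two plane curves (S10824). -/

set_option autoImplicit false

namespace Groth.Agent.Lib.helper16.PBz

open MvPolynomial

variable {k : Type*} [Field k]

/-- the dimension of the space of ternary forms of degree `e` -/
theorem finrank_homogeneousSubmodule (e : ℕ) :
    Module.finrank k (homogeneousSubmodule (Fin 3) k e) = (e + 2).choose 2 := by
  classical
  rw [homogeneousSubmodule_eq_finsupp_supported]
  have e1 := AddMonoidAlgebra.supportedEquivFinsupp (R := k) (S := k)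
    ({d : Fin 3 →₀ ℕ | d.degree = e})
  rw [e1.finrank_eq]
  have hset : {d : Fin 3 →₀ ℕ | d.degree = e} =
      ((Finset.univ : Finset (Fin 3)).finsuppAntidiag e : Set (Fin 3 →₀ ℕ)) := by
    ext d
    simp [Finsupp.degree_eq_sum]
  haveI : Fintype ↥{d : Fin 3 →₀ ℕ | d.degree = e} := by
    rw [hset]
    exact Finset.fintypeCoeSort _
  rw [Module.finrank_finsupp_self]
  have hcard : Fintype.card ↥{d : Fin 3 →₀ ℕ | d.degree = e} =
      ((Finset.univ : Finset (Fin 3)).finsuppAntidiag e).card := by
    rw [← Set.toFinset_card]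
    congr 1
    ext d
    simp [Finsupp.degree_eq_sum]
  rw [hcard, Finset.card_finsuppAntidiag_nat_eq_choose]
  simp only [Finset.card_univ, Fintype.card_fin]
  have : 3 + e - 1 = e + 2 := by omega
  rw [this, Nat.choose_symm_of_eq_add (by omega : e + 2 = 2 + e)]
  
/-- the degree-`d` component of a multiple of a form -/
theorem homogeneousComponent_mul_of_isHomogeneous {f : MvPolynomial (Fin 3) k} {n : ℕ}
    (hf : f.IsHomogeneous n) (a : MvPolynomial (Fin 3) k) (e : ℕ) :
    homogeneousComponent (e + n) (a * f) = homogeneousComponent e a * f := by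
  classical
  conv_lhs => rw [← sum_homogeneousComponent a, Finset.sum_mul, map_sum]
  have h1 : ∀ i ∈ Finset.range (a.totalDegree + 1),
      homogeneousComponent (e + n) (homogeneousComponent i a * f) =
        if i = e then homogeneousComponent i a * f else 0 := by
    intro i _
    have hmem : homogeneousComponent i a * f ∈ homogeneousSubmodule (Fin 3) k (i + n) :=
      (homogeneousComponent_isHomogeneous i a).mul hf
    rw [homogeneousComponent_of_mem hmem]
    by_cases hie : i = e
    · rw [if_pos (by rw [hie]), if_pos hie]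
    · rw [if_neg (by omega), if_neg hie]
  rw [Finset.sum_congr rfl h1, Finset.sum_ite_eq' (Finset.range (a.totalDegree + 1)) e]
  by_cases he : e ∈ Finset.range (a.totalDegree + 1)
  · rw [if_pos he]
  · rw [if_neg he]
    rw [Finset.mem_range, not_lt] at he
    rw [homogeneousComponent_eq_zero e a (by omega), zero_mul]

theorem homogeneousComponent_mul_of_lt {f : MvPolynomial (Fin 3) k} {n : ℕ}
    (hf : f.IsHomogeneous n) (a : MvPolynomial (Fin 3) k) {e : ℕ} (he : e < n) :
    homogeneousComponent e (a * f) = 0 := by
  classical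
  conv_lhs => rw [← sum_homogeneousComponent a, Finset.sum_mul, map_sum]
  apply Finset.sum_eq_zero
  intro i _
  have hmem : homogeneousComponent i a * f ∈ homogeneousSubmodule (Fin 3) k (i + n) :=
    (homogeneousComponent_isHomogeneous i a).mul hf
  rw [homogeneousComponent_of_mem hmem, if_neg (by omega)]

/-- a homogeneous multiple of a nonzero form has a homogeneous cofactor -/
theorem isHomogeneous_of_mul_isHomogeneous {g c : MvPolynomial (Fin 3) k} {m e : ℕ}
    (hg : g.IsHomogeneous m) (hg0 : g ≠ 0) (h : (c * g).IsHomogeneous (e + m)) :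
    c.IsHomogeneous e := by
  have h1 := homogeneousComponent_mul_of_isHomogeneous hg c e
  rw [homogeneousComponent_of_mem (p := c * g) (n := e + m) h, if_pos rfl] at h1
  have h2 : (c - homogeneousComponent e c) * g = 0 := by rw [sub_mul, ← h1, sub_self]
  have h3 := (mul_eq_zero.mp h2).resolve_right hg0
  rw [sub_eq_zero] at h3
  rw [h3]
  exact homogeneousComponent_isHomogeneous e c

theorem choose_identity (n m t : ℕ) :
    (n + m + t + 2).choose 2 + (t + 2).choose 2 =
      n * m + (m + t + 2).choose 2 + (n + t + 2).choose 2 := by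
  have h : (((n + m + t + 2).choose 2 + (t + 2).choose 2 : ℕ) : ℚ) =
      ((n * m + (m + t + 2).choose 2 + (n + t + 2).choose 2 : ℕ) : ℚ) := by
    push_cast [Nat.cast_choose_two]
    ring
  exact_mod_cast h

theorem mulRight_inj' {f : MvPolynomial (Fin 3) k} (hf0 : f ≠ 0) :
    Function.Injective (LinearMap.mulRight k f) := by
  intro x y h
  have h' : x * f = y * f := by simpa using h
  exact mul_left_injective₀ hf0 h'

theorem main (n m d : ℕ)
    (f g : MvPolynomial (Fin 3) k) (hf : f.IsHomogeneous n) (hg : g.IsHomogeneous m)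
    (hf0 : f ≠ 0) (hg0 : g ≠ 0) (hfg : IsRelPrime f g) (hd : n + m ≤ d) :
    Module.finrank k
        (↥(homogeneousSubmodule (Fin 3) k d) ⧸
          Submodule.comap (homogeneousSubmodule (Fin 3) k d).subtype
            ((Ideal.span ({f, g} : Set (MvPolynomial (Fin 3) k))).restrictScalars k)) = n * m := by
  classical
  obtain ⟨t, rfl⟩ := Nat.exists_eq_add_of_le hd
  haveI hSfin : ∀ e, Module.Finite k (homogeneousSubmodule (Fin 3) k e) := fun e =>
    Module.finite_of_finrank_pos (by
      rw [finrank_homogeneousSubmodule]; exact Nat.choose_pos (by omega))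
  have hfg0 : f * g ≠ 0 := mul_ne_zero hf0 hg0
  let A : Submodule k (MvPolynomial (Fin 3) k) :=
    (homogeneousSubmodule (Fin 3) k (m + t)).map (LinearMap.mulRight k f)
  let B : Submodule k (MvPolynomial (Fin 3) k) :=
    (homogeneousSubmodule (Fin 3) k (n + t)).map (LinearMap.mulRight k g)
  let C : Submodule k (MvPolynomial (Fin 3) k) :=
    (homogeneousSubmodule (Fin 3) k t).map (LinearMap.mulRight k (f * g))
  have hA : Module.finrank k A = (m + t + 2).choose 2 := by
    rw [← finrank_homogeneousSubmodule (k := k) (m + t)]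
    exact (Submodule.equivMapOfInjective _ (mulRight_inj' hf0) _).finrank_eq.symm
  have hB : Module.finrank k B = (n + t + 2).choose 2 := by
    rw [← finrank_homogeneousSubmodule (k := k) (n + t)]
    exact (Submodule.equivMapOfInjective _ (mulRight_inj' hg0) _).finrank_eq.symm
  have hC : Module.finrank k C = (t + 2).choose 2 := by
    rw [← finrank_homogeneousSubmodule (k := k) t]
    exact (Submodule.equivMapOfInjective _ (mulRight_inj' hfg0) _).finrank_eq.symm
  have memA : ∀ x, x ∈ A ↔ ∃ a, a.IsHomogeneous (m + t) ∧ a * f = x := by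
    intro x
    simp only [A, Submodule.mem_map, mem_homogeneousSubmodule, LinearMap.mulRight_apply]
  have memB : ∀ x, x ∈ B ↔ ∃ b, b.IsHomogeneous (n + t) ∧ b * g = x := by
    intro x
    simp only [B, Submodule.mem_map, mem_homogeneousSubmodule, LinearMap.mulRight_apply]
  have memC : ∀ x, x ∈ C ↔ ∃ c, c.IsHomogeneous t ∧ c * (f * g) = x := by
    intro x
    simp only [C, Submodule.mem_map, mem_homogeneousSubmodule, LinearMap.mulRight_apply]
  have hinf : A ⊓ B = C := by
    apply le_antisymm
    · intro x hx
      obtain ⟨hxA, hxB⟩ := Submodule.mem_inf.mp hx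
      obtain ⟨a, ha, rfl⟩ := (memA x).mp hxA
      obtain ⟨b, hb, hbx⟩ := (memB _).mp hxB
      have hdvd : g ∣ f * a := ⟨b, by rw [mul_comm f a, ← hbx, mul_comm]⟩
      have hga : g ∣ a := hfg.symm.dvd_of_dvd_mul_left hdvd
      obtain ⟨c, rfl⟩ := hga
      have hc : c.IsHomogeneous t := by
        apply isHomogeneous_of_mul_isHomogeneous hg hg0
        rw [mul_comm c g, add_comm t m]
        exact ha
      exact (memC _).mpr ⟨c, hc, by ring⟩
    · intro x hx
      obtain ⟨c, hc, rfl⟩ := (memC x).mp hx
      refine Submodule.mem_inf.mpr ⟨(memA _).mpr ⟨c * g, ?_, by ring⟩,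
        (memB _).mpr ⟨c * f, ?_, by ring⟩⟩
      · rw [add_comm m t]; exact hc.mul hg
      · rw [add_comm n t]; exact hc.mul hf
  have hle : A ⊔ B ≤ homogeneousSubmodule (Fin 3) k (n + m + t) := by
    apply sup_le
    · intro x hx
      obtain ⟨a, ha, rfl⟩ := (memA x).mp hx
      rw [mem_homogeneousSubmodule]
      have := ha.mul hf
      rwa [show m + t + n = n + m + t by ring] at this
    · intro x hx
      obtain ⟨b, hb, rfl⟩ := (memB x).mp hx
      rw [mem_homogeneousSubmodule]
      have := hb.mul hg
      rwa [show n + t + m = n + m + t by ring] at this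
  have hsup : Submodule.comap (homogeneousSubmodule (Fin 3) k (n + m + t)).subtype
        ((Ideal.span ({f, g} : Set (MvPolynomial (Fin 3) k))).restrictScalars k) =
      Submodule.comap (homogeneousSubmodule (Fin 3) k (n + m + t)).subtype (A ⊔ B) := by
    ext ⟨x, hx⟩
    simp only [Submodule.mem_comap, Submodule.subtype_apply, Submodule.restrictScalars_mem]
    constructor
    · intro hxI
      obtain ⟨a, b, hab⟩ := Ideal.mem_span_pair.mp hxI
      have hx1 : homogeneousComponent (n + m + t) x = x := by
        rw [homogeneousComponent_of_mem hx, if_pos rfl]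
      rw [← hx1, ← hab, map_add]
      apply Submodule.add_mem_sup
      · rw [show n + m + t = (m + t) + n by ring, homogeneousComponent_mul_of_isHomogeneous hf]
        exact (memA _).mpr ⟨_, homogeneousComponent_isHomogeneous _ _, rfl⟩
      · rw [show n + m + t = (n + t) + m by ring, homogeneousComponent_mul_of_isHomogeneous hg]
        exact (memB _).mpr ⟨_, homogeneousComponent_isHomogeneous _ _, rfl⟩
    · intro hxAB
      obtain ⟨y, hy, z, hz, rfl⟩ := Submodule.mem_sup.mp hxAB
      obtain ⟨a, ha, rfl⟩ := (memA y).mp hy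
      obtain ⟨b, hb, rfl⟩ := (memB z).mp hz
      exact Ideal.mem_span_pair.mpr ⟨a, b, rfl⟩
  have h1 := Submodule.finrank_sup_add_finrank_inf_eq A B
  rw [hinf, hA, hB, hC] at h1
  have h2 := Submodule.finrank_quotient_add_finrank
    (Submodule.comap (homogeneousSubmodule (Fin 3) k (n + m + t)).subtype
        ((Ideal.span ({f, g} : Set (MvPolynomial (Fin 3) k))).restrictScalars k))
  have h3 : Module.finrank k (Submodule.comap (homogeneousSubmodule (Fin 3) k (n + m + t)).subtype
        ((Ideal.span ({f, g} : Set (MvPolynomial (Fin 3) k))).restrictScalars k)) =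
      Module.finrank k ↥(A ⊔ B) := by
    rw [hsup]
    exact (Submodule.comapSubtypeEquivOfLe hle).finrank_eq
  rw [h3, finrank_homogeneousSubmodule] at h2
  have key := choose_identity n m t
  generalize n * m = p at key ⊢
  omega

end Groth.Agent.Lib.helper16.PBz
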