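import Groth.Agent.Lib.helper16.PlaneBezout

/-! Helper library (helper16): the affine Bezout count `dim k[X,Y]/(f(X,Y,1), g(X,Y,1)) = n·m`
when the two curves do not meet on the line `T = 0` (S10827). -/

set_option autoImplicit false

namespace Groth.Agent.Lib.helper16.PBz

open MvPolynomial

/-- homogeneous polynomials scale -/
theorem aeval_mul_of_isHomogeneous {R A σ : Type*} [CommSemiring R] [CommSemiring A] [Algebra R A]
    [Fintype σ] {f : MvPolynomial σ R} {n : ℕ} (hf : f.IsHomogeneous n) (c : A) (g : σ → A) :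
    aeval (fun i => c * g i) f = c ^ n * aeval g f := by
  rw [aeval_def, aeval_def, eval₂_eq', eval₂_eq', Finset.mul_sum]
  apply Finset.sum_congr rfl
  intro d hd
  have h1 : ∏ i, (c * g i) ^ d i = c ^ n * ∏ i, g i ^ d i := by
    simp_rw [mul_pow]
    rw [Finset.prod_mul_distrib, Finset.prod_pow_eq_pow_sum]
    congr 2
    rw [hf.degree_eq_sum_deg_support hd]
    exact (Finset.sum_subset (Finset.subset_univ _) (fun i _ hi => by simpa using hi)).symm
  rw [h1]
  ring

variable {k : Type*} [Field k]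

/-- the evaluation point `(X, Y, c)` -/
noncomputable def pt (c : MvPolynomial (Fin 2) k) : Fin 3 → MvPolynomial (Fin 2) k :=
  Fin.cons (X 0) (Fin.cons (X 1) (Fin.cons c Fin.elim0))

theorem pt_zero (c : MvPolynomial (Fin 2) k) : pt c 0 = X 0 := rfl
theorem pt_one (c : MvPolynomial (Fin 2) k) : pt c 1 = X 1 := rfl
theorem pt_two (c : MvPolynomial (Fin 2) k) : pt c 2 = c := rfl

theorem fin3_cases (i : Fin 3) : i = 0 ∨ i = 1 ∨ i = 2 := by
  fin_cases i <;> simp

theorem pt_castSucc (c : MvPolynomial (Fin 2) k) (i : Fin 2) : pt c (Fin.castSucc i) = X i := by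
  fin_cases i <;> rfl

/-- substitution `T ↦ c` -/
noncomputable def phi (c : MvPolynomial (Fin 2) k) :
    MvPolynomial (Fin 3) k →ₐ[k] MvPolynomial (Fin 2) k := aeval (pt c)

/-- inclusion `k[X,Y] → k[X,Y,T]` -/
noncomputable def iota : MvPolynomial (Fin 2) k →ₐ[k] MvPolynomial (Fin 3) k :=
  aeval (fun i : Fin 2 => (X (Fin.castSucc i) : MvPolynomial (Fin 3) k))

theorem phi_X (c : MvPolynomial (Fin 2) k) (i : Fin 3) : phi c (X i) = pt c i := by
  unfold phi; rw [aeval_X]

theorem iota_X (i : Fin 2) : iota (X i : MvPolynomial (Fin 2) k) = X (Fin.castSucc i) := by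
  unfold iota; rw [aeval_X]

theorem phi_iota (c : MvPolynomial (Fin 2) k) (a : MvPolynomial (Fin 2) k) :
    phi c (iota a) = a := by
  unfold phi iota
  rw [comp_aeval_apply]
  have : (fun i : Fin 2 => aeval (pt c) (X (Fin.castSucc i) : MvPolynomial (Fin 3) k)) = X := by
    funext i
    rw [aeval_X, pt_castSucc]
  rw [this, aeval_X_left_apply]

/-- every polynomial is its restriction to `T = 0` plus a multiple of `T` -/
theorem exists_decomp0 (p : MvPolynomial (Fin 3) k) :
    ∃ q, p = iota (phi 0 p) + X 2 * q := by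
  induction p using MvPolynomial.induction_on with
  | C c =>
    refine ⟨0, ?_⟩
    unfold phi iota
    rw [aeval_C, mul_zero, add_zero]
    show C c = aeval _ (C c)
    rw [aeval_C]
    rfl
  | add p q hp hq =>
    obtain ⟨a, ha⟩ := hp
    obtain ⟨b, hb⟩ := hq
    exact ⟨a + b, by rw [map_add, map_add]; linear_combination ha + hb⟩
  | mul_X p i hp =>
    obtain ⟨a, ha⟩ := hp
    rw [map_mul, phi_X, map_mul]
    obtain rfl | rfl | rfl := fin3_cases i
    · refine ⟨a * X 0, ?_⟩
      rw [pt_zero, iota_X]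
      show p * X 0 = iota (phi 0 p) * X 0 + X 2 * (a * X 0)
      linear_combination X 0 * ha
    · refine ⟨a * X 1, ?_⟩
      rw [pt_one, iota_X]
      show p * X 1 = iota (phi 0 p) * X 1 + X 2 * (a * X 1)
      linear_combination X 1 * ha
    · refine ⟨p, ?_⟩
      rw [pt_two, map_zero, mul_zero, zero_add, mul_comm]

theorem rel_cancel {R : Type*} [CommRing R] [IsDomain R] [DecompositionMonoid R] {p q a b : R} (hpq : IsRelPrime p q)
    (hp : p ≠ 0) (h : a * p + b * q = 0) : ∃ c, b = c * p ∧ a = -(c * q) := by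
  have h1 : p ∣ b * q := ⟨-a, by linear_combination h⟩
  obtain ⟨c, hc⟩ := hpq.dvd_of_dvd_mul_right h1
  refine ⟨c, by rw [hc, mul_comm], ?_⟩
  have h2 : p * (a + c * q) = 0 := by rw [hc] at h; linear_combination h
  have h3 := (mul_eq_zero.mp h2).resolve_left hp
  linear_combination h3

section main

variable {n m : ℕ} {f g : MvPolynomial (Fin 3) k}

/-- multiplication by `T` is injective modulo `(f, g)` -/
theorem T_inj (hT : IsRelPrime (phi 0 f) (phi 0 g)) {h : MvPolynomial (Fin 3) k}
    (hh : X 2 * h ∈ Ideal.span ({f, g} : Set (MvPolynomial (Fin 3) k))) :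
    h ∈ Ideal.span ({f, g} : Set (MvPolynomial (Fin 3) k)) := by
  obtain ⟨a, b, hab⟩ := Ideal.mem_span_pair.mp hh
  have h0 : phi 0 a * phi 0 f + phi 0 b * phi 0 g = 0 := by
    have := congrArg (phi 0) hab
    rw [map_add, map_mul, map_mul, map_mul, phi_X, pt_two, zero_mul] at this
    exact this
  have hc : ∃ c, phi 0 b = c * phi 0 f ∧ phi 0 a = -(c * phi 0 g) := by
    by_cases hf0 : phi 0 f = 0
    · have hg0 : phi 0 g ≠ 0 := by
        intro hg0
        have := hT (dvd_refl (phi 0 f)) (by rw [hg0, hf0])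
        rw [hf0] at this
        exact not_isUnit_zero this
      have h0' : phi 0 b * phi 0 g + phi 0 a * phi 0 f = 0 := by rw [add_comm]; exact h0
      obtain ⟨c', h1, h2⟩ := rel_cancel hT.symm hg0 h0'
      exact ⟨-c', by rw [h2]; ring, by rw [h1]; ring⟩
    · exact rel_cancel hT hf0 h0
  obtain ⟨c, hcb, hca⟩ := hc
  obtain ⟨a'', ha''⟩ := exists_decomp0 (a + iota c * g)
  obtain ⟨b'', hb''⟩ := exists_decomp0 (b - iota c * f)
  have e1 : phi 0 (a + iota c * g) = 0 := by
    rw [map_add, map_mul, phi_iota, hca]; ring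
  have e2 : phi 0 (b - iota c * f) = 0 := by
    rw [map_sub, map_mul, phi_iota, hcb]; ring
  rw [e1, map_zero, zero_add] at ha''
  rw [e2, map_zero, zero_add] at hb''
  have h3 : X 2 * h = X 2 * (a'' * f + b'' * g) := by
    rw [← hab]
    linear_combination f * ha'' + g * hb''
  have h4 := mul_left_cancel₀ (X_ne_zero (2 : Fin 3)) h3
  rw [h4]
  exact Ideal.mem_span_pair.mpr ⟨a'', b'', rfl⟩

theorem T_pow_inj (hT : IsRelPrime (phi 0 f) (phi 0 g)) (r : ℕ) {h : MvPolynomial (Fin 3) k}
    (hh : X 2 ^ r * h ∈ Ideal.span ({f, g} : Set (MvPolynomial (Fin 3) k))) :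
    h ∈ Ideal.span ({f, g} : Set (MvPolynomial (Fin 3) k)) := by
  induction r with
  | zero => simpa using hh
  | succ r ih =>
    apply ih
    apply T_inj hT
    rw [← mul_assoc, ← pow_succ']
    exact hh

/-- dehomogenisation is injective on forms of a given degree -/
theorem eq_zero_of_phi_one_eq_zero {H : MvPolynomial (Fin 3) k} {N : ℕ} (hH : H.IsHomogeneous N)
    (h0 : phi 1 H = 0) : H = 0 := by
  let K := FractionRing (MvPolynomial (Fin 3) k)
  let T : K := algebraMap (MvPolynomial (Fin 3) k) K (X 2)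
  have hinj := IsFractionRing.injective (MvPolynomial (Fin 3) k) K
  have hT : T ≠ 0 := by
    intro h
    exact X_ne_zero (2 : Fin 3) (hinj (by rw [map_zero]; exact h))
  let μ : MvPolynomial (Fin 2) k →ₐ[k] K :=
    aeval (fun i : Fin 2 => T⁻¹ * algebraMap (MvPolynomial (Fin 3) k) K (X (Fin.castSucc i)))
  have h1 : μ (phi 1 H) =
      aeval (fun j : Fin 3 => T⁻¹ * algebraMap (MvPolynomial (Fin 3) k) K (X j)) H := by
    show μ (aeval (pt 1) H) = _
    rw [comp_aeval_apply]
    congr 2
    funext j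
    obtain rfl | rfl | rfl := fin3_cases j
    · show μ (X 0) = _
      simp only [μ, aeval_X]
      rfl
    · show μ (X 1) = _
      simp only [μ, aeval_X]
      rfl
    · show μ 1 = _
      rw [map_one]
      exact (inv_mul_cancel₀ hT).symm
  rw [aeval_mul_of_isHomogeneous hH] at h1
  have h2 : aeval (fun j : Fin 3 => algebraMap (MvPolynomial (Fin 3) k) K (X j)) H =
      algebraMap (MvPolynomial (Fin 3) k) K H := by
    have := aeval_algebraMap_apply (R := k) (A := MvPolynomial (Fin 3) k) (B := K) X H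
    rw [aeval_X_left_apply] at this
    exact this
  rw [h0, map_zero, h2] at h1
  have h3 : algebraMap (MvPolynomial (Fin 3) k) K H = 0 := by
    rcases mul_eq_zero.mp h1.symm with h | h
    · exact absurd h (pow_ne_zero _ (inv_ne_zero hT))
    · exact h
  exact hinj (by rw [h3, map_zero])

/-- every polynomial in `X, Y` is the dehomogenisation of forms of all large degrees -/
theorem exists_hom (a : MvPolynomial (Fin 2) k) :
    ∃ N0, ∀ N, N0 ≤ N → ∃ A : MvPolynomial (Fin 3) k, A.IsHomogeneous N ∧ phi 1 A = a := by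
  induction a using MvPolynomial.induction_on with
  | C c =>
    refine ⟨0, fun N _ => ⟨C c * X 2 ^ N, ?_, ?_⟩⟩
    · have := (isHomogeneous_C (Fin 3) c).mul (isHomogeneous_X_pow (R := k) (2 : Fin 3) N)
      rwa [zero_add] at this
    · rw [map_mul, map_pow, phi_X, pt_two, one_pow, mul_one]
      unfold phi
      rw [aeval_C]
      rfl
  | add p q hp hq =>
    obtain ⟨N1, h1⟩ := hp
    obtain ⟨N2, h2⟩ := hq
    refine ⟨max N1 N2, fun N hN => ?_⟩
    obtain ⟨A1, hA1, e1⟩ := h1 N (le_trans (le_max_left _ _) hN)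
    obtain ⟨A2, hA2, e2⟩ := h2 N (le_trans (le_max_right _ _) hN)
    exact ⟨A1 + A2, hA1.add hA2, by rw [map_add, e1, e2]⟩
  | mul_X p i hp =>
    obtain ⟨N1, h1⟩ := hp
    refine ⟨N1 + 1, fun N hN => ?_⟩
    obtain ⟨N', rfl⟩ : ∃ N', N = N' + 1 := ⟨N - 1, by omega⟩
    obtain ⟨A1, hA1, e1⟩ := h1 N' (by omega)
    exact ⟨A1 * X (Fin.castSucc i), hA1.mul (isHomogeneous_X k _),
      by rw [map_mul, e1, phi_X, pt_castSucc]⟩

theorem finite_homogeneousSubmodule (e : ℕ) :
    Module.Finite k (homogeneousSubmodule (Fin 3) k e) :=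
  Module.finite_of_finrank_pos (by
    rw [finrank_homogeneousSubmodule]; exact Nat.choose_pos (by omega))

/-- multiplication by `T` is onto in degrees `≥ n + m` modulo `(f, g)` -/
theorem exists_T_decomp (hf : f.IsHomogeneous n) (hg : g.IsHomogeneous m)
    (hf0 : f ≠ 0) (hg0 : g ≠ 0) (hfg : IsRelPrime f g)
    (hT : IsRelPrime (phi 0 f) (phi 0 g)) (e : ℕ) (he : n + m ≤ e)
    {H : MvPolynomial (Fin 3) k} (hH : H.IsHomogeneous (e + 1)) :
    ∃ H', H'.IsHomogeneous e ∧
      H - X 2 * H' ∈ Ideal.span ({f, g} : Set (MvPolynomial (Fin 3) k)) := by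
  classical
  haveI := finite_homogeneousSubmodule (k := k) e
  haveI := finite_homogeneousSubmodule (k := k) (e + 1)
  let I' : Submodule k (MvPolynomial (Fin 3) k) :=
    (Ideal.span ({f, g} : Set (MvPolynomial (Fin 3) k))).restrictScalars k
  let τ : ↥(homogeneousSubmodule (Fin 3) k e) →ₗ[k] ↥(homogeneousSubmodule (Fin 3) k (e + 1)) :=
    LinearMap.codRestrict (homogeneousSubmodule (Fin 3) k (e + 1))
      ((LinearMap.mulLeft k (X 2 : MvPolynomial (Fin 3) k)).comp
        (homogeneousSubmodule (Fin 3) k e).subtype)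
      (fun x => by
        show X 2 * x.1 ∈ homogeneousSubmodule (Fin 3) k (e + 1)
        rw [mem_homogeneousSubmodule, add_comm e 1]
        exact (isHomogeneous_X k 2).mul x.2)
  have hτ : ∀ x, (τ x).1 = X 2 * x.1 := fun x => rfl
  have hpq : Submodule.comap (homogeneousSubmodule (Fin 3) k e).subtype I' ≤
      Submodule.comap τ (Submodule.comap (homogeneousSubmodule (Fin 3) k (e + 1)).subtype I') := by
    intro x hx
    show X 2 * x.1 ∈ Ideal.span ({f, g} : Set (MvPolynomial (Fin 3) k))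
    exact Ideal.mul_mem_left _ _ hx
  let τq := Submodule.mapQ (Submodule.comap (homogeneousSubmodule (Fin 3) k e).subtype I')
    (Submodule.comap (homogeneousSubmodule (Fin 3) k (e + 1)).subtype I') τ hpq
  have hinj : Function.Injective τq := by
    rw [injective_iff_map_eq_zero]
    intro x hx
    obtain ⟨x, rfl⟩ := Submodule.Quotient.mk_surjective _ x
    rw [Submodule.mapQ_apply, Submodule.Quotient.mk_eq_zero] at hx
    rw [Submodule.Quotient.mk_eq_zero]
    exact T_inj hT hx
  have hdim : Module.finrank k (↥(homogeneousSubmodule (Fin 3) k e) ⧸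
        Submodule.comap (homogeneousSubmodule (Fin 3) k e).subtype I') =
      Module.finrank k (↥(homogeneousSubmodule (Fin 3) k (e + 1)) ⧸
        Submodule.comap (homogeneousSubmodule (Fin 3) k (e + 1)).subtype I') := by
    rw [main n m e f g hf hg hf0 hg0 hfg he, main n m (e + 1) f g hf hg hf0 hg0 hfg (by omega)]
  have hsurj : Function.Surjective τq :=
    (LinearMap.injective_iff_surjective_of_finrank_eq_finrank hdim).mp hinj
  obtain ⟨y, hy⟩ := hsurj (Submodule.Quotient.mk ⟨H, hH⟩)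
  obtain ⟨y, rfl⟩ := Submodule.Quotient.mk_surjective _ y
  rw [Submodule.mapQ_apply, Submodule.Quotient.eq] at hy
  refine ⟨y.1, y.2, ?_⟩
  have h1 : X 2 * y.1 - H ∈ Ideal.span ({f, g} : Set (MvPolynomial (Fin 3) k)) := hy
  have h2 := Ideal.neg_mem_iff _ |>.mpr h1
  rwa [neg_sub] at h2

theorem exists_T_pow_decomp (hf : f.IsHomogeneous n) (hg : g.IsHomogeneous m)
    (hf0 : f ≠ 0) (hg0 : g ≠ 0) (hfg : IsRelPrime f g)
    (hT : IsRelPrime (phi 0 f) (phi 0 g)) (r : ℕ)
    {H : MvPolynomial (Fin 3) k} (hH : H.IsHomogeneous (n + m + r)) :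
    ∃ H', H'.IsHomogeneous (n + m) ∧
      H - X 2 ^ r * H' ∈ Ideal.span ({f, g} : Set (MvPolynomial (Fin 3) k)) := by
  induction r generalizing H with
  | zero => exact ⟨H, hH, by simp⟩
  | succ r ih =>
    obtain ⟨H1, hH1, h1⟩ := exists_T_decomp hf hg hf0 hg0 hfg hT (n + m + r) (by omega) hH
    obtain ⟨H', hH', h2⟩ := ih hH1
    refine ⟨H', hH', ?_⟩
    have h3 := Ideal.add_mem _ h1 (Ideal.mul_mem_left _ (X 2) h2)
    have e : H - X 2 ^ (r + 1) * H' = H - X 2 * H1 + X 2 * (H1 - X 2 ^ r * H') := by ring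
    rw [e]
    exact h3

/-- the affine Bezout count -/
theorem main2 (hf : f.IsHomogeneous n) (hg : g.IsHomogeneous m)
    (hf0 : f ≠ 0) (hg0 : g ≠ 0) (hfg : IsRelPrime f g)
    (hT : IsRelPrime (phi 0 f) (phi 0 g)) :
    Module.finrank k (MvPolynomial (Fin 2) k ⧸
      Ideal.span ({phi 1 f, phi 1 g} : Set (MvPolynomial (Fin 2) k))) = n * m := by
  classical
  let J : Ideal (MvPolynomial (Fin 2) k) :=
    Ideal.span ({phi 1 f, phi 1 g} : Set (MvPolynomial (Fin 2) k))
  let I' : Submodule k (MvPolynomial (Fin 3) k) :=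
    (Ideal.span ({f, g} : Set (MvPolynomial (Fin 3) k))).restrictScalars k
  have hIJ : ∀ x, x ∈ Ideal.span ({f, g} : Set (MvPolynomial (Fin 3) k)) → phi 1 x ∈ J := by
    intro x hx
    obtain ⟨a, b, rfl⟩ := Ideal.mem_span_pair.mp hx
    rw [map_add, map_mul, map_mul]
    exact Ideal.mem_span_pair.mpr ⟨_, _, rfl⟩
  let ψ : ↥(homogeneousSubmodule (Fin 3) k (n + m)) →ₗ[k] (MvPolynomial (Fin 2) k ⧸ J) :=
    ((Ideal.Quotient.mkₐ k J).toLinearMap.comp (phi 1).toLinearMap).comp
      (homogeneousSubmodule (Fin 3) k (n + m)).subtype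
  have hψ : ∀ x, ψ x = Ideal.Quotient.mk J (phi 1 x.1) := fun x => rfl
  have hker : LinearMap.ker ψ =
      Submodule.comap (homogeneousSubmodule (Fin 3) k (n + m)).subtype I' := by
    ext ⟨x, hx⟩
    rw [LinearMap.mem_ker, hψ, Ideal.Quotient.eq_zero_iff_mem]
    show phi 1 x ∈ J ↔ x ∈ Ideal.span ({f, g} : Set (MvPolynomial (Fin 3) k))
    constructor
    · intro hxJ
      obtain ⟨a, b, hab⟩ := Ideal.mem_span_pair.mp hxJ
      obtain ⟨Na, hNa⟩ := exists_hom a
      obtain ⟨Nb, hNb⟩ := exists_hom b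
      obtain ⟨A, hA, rfl⟩ := hNa (Na + Nb + m) (by omega)
      obtain ⟨B, hB, rfl⟩ := hNb (Na + Nb + n) (by omega)
      -- total degree N = Na + Nb + n + m
      have hhom1 : (A * f + B * g).IsHomogeneous (n + m + (Na + Nb)) := by
        have h1 := hA.mul hf
        have h2 := hB.mul hg
        rw [show Na + Nb + m + n = n + m + (Na + Nb) by ring] at h1
        rw [show Na + Nb + n + m = n + m + (Na + Nb) by ring] at h2
        exact h1.add h2
      have hhom2 : (X 2 ^ (Na + Nb) * x).IsHomogeneous (n + m + (Na + Nb)) := by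
        have := (isHomogeneous_X_pow (R := k) (2 : Fin 3) (Na + Nb)).mul
          ((mem_homogeneousSubmodule _ _).mp hx)
        rw [show Na + Nb + (n + m) = n + m + (Na + Nb) by ring] at this
        exact this
      have hz : X 2 ^ (Na + Nb) * x - (A * f + B * g) = 0 := by
        apply eq_zero_of_phi_one_eq_zero (hhom2.sub hhom1)
        rw [map_sub, map_mul, map_pow, phi_X, pt_two, one_pow, one_mul, map_add, map_mul,
          map_mul, hab, sub_self]
      apply T_pow_inj hT (Na + Nb)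
      rw [sub_eq_zero.mp hz]
      exact Ideal.mem_span_pair.mpr ⟨A, B, rfl⟩
    · exact hIJ x
  have hsurj : Function.Surjective ψ := by
    intro y
    obtain ⟨r, rfl⟩ := Ideal.Quotient.mk_surjective y
    obtain ⟨N0, hN0⟩ := exists_hom r
    obtain ⟨H, hH, rfl⟩ := hN0 (n + m + N0) (by omega)
    obtain ⟨H', hH', h1⟩ := exists_T_pow_decomp hf hg hf0 hg0 hfg hT N0 hH
    refine ⟨⟨H', hH'⟩, ?_⟩
    rw [hψ]
    symm
    rw [Ideal.Quotient.eq]
    have h2 := hIJ _ h1
    rw [map_sub, map_mul, map_pow, phi_X, pt_two, one_pow, one_mul] at h2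
    exact h2
  have e1 := (ψ.quotKerEquivOfSurjective hsurj).finrank_eq
  have e2 := (Submodule.quotEquivOfEq _ _ hker).finrank_eq
  rw [← e1, e2]
  exact main n m (n + m) f g hf hg hf0 hg0 hfg le_rfl

end main

end Groth.Agent.Lib.helper16.PBz
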